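import Groth.Prelude.Def_FlatCA

set_option autoImplicit false
universe u

namespace Groth.Agent.Flat2A.Fiber

open TensorProduct

section

variable {R S : Type u} [CommRing R] [CommRing S] [Algebra R S] (p : Ideal R) [p.IsPrime]

/-- An element of the fibre ring: up to a unit of the residue field it is the image of an element of `S`. -/
theorem exists_smul_eq (x : p.Fiber S) : ∃ (c : p.ResidueField) (s : S), c ≠ 0 ∧
    c • x = (1 : p.ResidueField) ⊗ₜ[R] s := by
  obtain ⟨r, hr, s, h⟩ := Ideal.Fiber.exists_smul_eq_one_tmul p x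
  refine ⟨algebraMap R p.ResidueField r, s, ?_, ?_⟩
  · intro h0
    exact hr (by simpa using h0)
  · rw [← h, algebraMap_smul]

/-- Every ideal of the fibre ring is extended from its contraction. -/
theorem fiberIdeal_comap (Q : Ideal (p.Fiber S)) :
    FlatCA.fiberIdeal p (Q.comap (Algebra.TensorProduct.includeRight (R := R) (A := p.ResidueField) (B := S)).toRingHom) = Q := by
  apply le_antisymm
  · exact Ideal.map_comap_le
  · intro x hx
    obtain ⟨c, s, hc, h⟩ := exists_smul_eq p x
    have h1 : x = algebraMap p.ResidueField (p.Fiber S) c⁻¹ * ((1 : p.ResidueField) ⊗ₜ[R] s) := by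
      rw [← Algebra.smul_def, ← h, smul_smul, inv_mul_cancel₀ hc, one_smul]
    rw [h1]
    apply Ideal.mul_mem_left
    apply Ideal.mem_map_of_mem
    rw [Ideal.mem_comap]
    have h2 : c • x ∈ Q := by
      rw [Algebra.smul_def]
      exact Ideal.mul_mem_left _ _ hx
    rw [h] at h2
    exact h2

variable (q : Ideal S) [q.IsPrime] [hq : q.LiesOver p]

/-- the prime of the fibre ring corresponding to a prime over `p` -/
theorem exists_fiber_prime : ∃ Q : Ideal (p.Fiber S), Q.IsPrime ∧
    Q.comap (Algebra.TensorProduct.includeRight (R := R) (A := p.ResidueField) (B := S)).toRingHom = q := by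
  let Q := PrimeSpectrum.primesOverOrderIsoFiber R S p ⟨q, ‹_›, hq⟩
  refine ⟨Q.asIdeal, Q.2, ?_⟩
  have h := PrimeSpectrum.coe_primesOverOrderIsoFiber_symm_apply p Q
  have h' : (PrimeSpectrum.primesOverOrderIsoFiber R S p).symm Q = ⟨q, ‹_›, hq⟩ := by
    simp [Q]
  rw [h'] at h
  exact h.symm

theorem comap_fiberIdeal :
    (FlatCA.fiberIdeal p q).comap (Algebra.TensorProduct.includeRight (R := R) (A := p.ResidueField) (B := S)).toRingHom = q := by
  obtain ⟨Q, hQ, hQ'⟩ := exists_fiber_prime p q
  have h := fiberIdeal_comap p Q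
  rw [hQ'] at h
  rw [h]
  exact hQ'

theorem fiberIdeal_isPrime : (FlatCA.fiberIdeal p q).IsPrime := by
  obtain ⟨Q, hQ, hQ'⟩ := exists_fiber_prime p q
  have h := fiberIdeal_comap p Q
  rw [hQ'] at h
  rw [h]
  exact hQ

theorem one_tmul_mem_fiberIdeal_iff (s : S) :
    (1 : p.ResidueField) ⊗ₜ[R] s ∈ FlatCA.fiberIdeal p q ↔ s ∈ q := by
  conv_rhs => rw [← comap_fiberIdeal p q]
  rfl

end

theorem fiber_isNoetherianRing {R S : Type u} [CommRing R] [CommRing S] [Algebra R S]
    [Algebra.FiniteType R S] (p : Ideal R) [p.IsPrime] : IsNoetherianRing (p.Fiber S) := by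
  have : Algebra.FiniteType p.ResidueField (p.Fiber S) := inferInstance
  exact Algebra.FiniteType.isNoetherianRing p.ResidueField (p.Fiber S)

theorem fiberMod_finite {R S : Type u} [CommRing R] [CommRing S] [Algebra R S]
    (N : Type u) [AddCommGroup N] [Module S N] [Module R N] [IsScalarTower R S N] [Module.Finite S N]
    (p : Ideal R) [p.IsPrime] : Module.Finite (p.Fiber S) (FlatCA.fiberMod p S N) := by
  let _ : Algebra S (p.Fiber S) := Algebra.TensorProduct.rightAlgebra
  exact inferInstanceAs (Module.Finite (p.Fiber S) ((p.Fiber S) ⊗[S] N))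

end Groth.Agent.Flat2A.Fiber
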