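import Mathlib.RingTheory.Flat.Equalizer
import Mathlib.RingTheory.AdicCompletion.Functoriality
import Mathlib.RingTheory.AdicCompletion.Exactness
import Mathlib.RingTheory.TensorProduct.Quotient
import Mathlib.RingTheory.Flat.Basic

/-!
# Lifting maps out of a flat module which is projective modulo an ideal

If `M` is a flat `R`-module with `M/IM` projective over `R/I`, then maps from `M` lift along surjections
whose kernel is killed by `I`.
-/

set_option autoImplicit false
universe u

namespace Groth.Agent.Flat2A.LiftNilp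

open TensorProduct

variable {R : Type u} [CommRing R]

/-- Factor a linear map through a surjection. -/
theorem exists_factor {F M X : Type*} [AddCommGroup F] [Module R F] [AddCommGroup M] [Module R M]
    [AddCommGroup X] [Module R X] (π : F →ₗ[R] M) (hπ : Function.Surjective π) (h : F →ₗ[R] X)
    (hk : LinearMap.ker π ≤ LinearMap.ker h) : ∃ f : M →ₗ[R] X, f ∘ₗ π = h := by
  refine ⟨(LinearMap.ker π).liftQ h hk ∘ₗ (π.quotKerEquivOfSurjective hπ).symm.toLinearMap, ?_⟩
  ext x
  have : (π.quotKerEquivOfSurjective hπ).symm (π x) = (LinearMap.ker π).mkQ x := by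
    rw [LinearEquiv.symm_apply_eq]
    rfl
  simp only [LinearMap.comp_apply, LinearEquiv.coe_coe, this]
  rfl

theorem mem_smul_ker_of_mem_smul (I : Ideal R) {F M : Type u} [AddCommGroup F] [Module R F] [AddCommGroup M] [Module R M]
    [Module.Flat R M] (π : F →ₗ[R] M) (hπ : Function.Surjective π) (x : LinearMap.ker π)
    (hx : (x : F) ∈ (I • ⊤ : Submodule R F)) : x ∈ (I • ⊤ : Submodule R (LinearMap.ker π)) := by
  have hinj := LinearMap.lTensor_injective_of_exact_of_flat π hπ (LinearMap.ker π).subtype
    (LinearMap.ker π).injective_subtype (LinearMap.exact_subtype_ker_map π) (R ⧸ I)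
  have h1 : (1 : R ⧸ I) ⊗ₜ[R] (x : F) = 0 := by
    apply (TensorProduct.quotTensorEquivQuotSMul F I).injective
    rw [map_zero]
    have : (TensorProduct.quotTensorEquivQuotSMul F I) (Ideal.Quotient.mk I 1 ⊗ₜ[R] (x : F)) = Submodule.Quotient.mk ((1 : R) • (x : F)) :=
      TensorProduct.quotTensorEquivQuotSMul_mk_tmul I 1 _
    rw [map_one] at this
    rw [this, one_smul, Submodule.Quotient.mk_eq_zero]
    exact hx
  have h2 : (1 : R ⧸ I) ⊗ₜ[R] x = 0 := by
    apply hinj
    rw [LinearMap.lTensor_tmul, map_zero]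
    exact h1
  have h3 := congrArg (TensorProduct.quotTensorEquivQuotSMul (LinearMap.ker π) I) h2
  have : (TensorProduct.quotTensorEquivQuotSMul (LinearMap.ker π) I) (Ideal.Quotient.mk I 1 ⊗ₜ[R] x) = Submodule.Quotient.mk ((1 : R) • x) :=
    TensorProduct.quotTensorEquivQuotSMul_mk_tmul I 1 _
  rw [map_one] at this
  rw [this, map_zero, one_smul, Submodule.Quotient.mk_eq_zero] at h3
  exact h3

/-- Maps out of a flat module `M` with `M/IM` projective lift along surjections with kernel killed by `I`. -/
theorem exists_lift (I : Ideal R) {M X Y : Type u} [AddCommGroup M] [Module R M] [AddCommGroup X] [Module R X]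
    [AddCommGroup Y] [Module R Y] [Module.Flat R M] [Module.Projective (R ⧸ I) (M ⧸ (I • ⊤ : Submodule R M))]
    (g : X →ₗ[R] Y) (hg : Function.Surjective g) (hI : ∀ r ∈ I, ∀ x : X, g x = 0 → r • x = 0) (f : M →ₗ[R] Y) :
    ∃ f' : M →ₗ[R] X, g ∘ₗ f' = f := by
  set π : (M →₀ R) →ₗ[R] M := Finsupp.linearCombination R id with hπdef
  have hπ : Function.Surjective π := Finsupp.linearCombination_id_surjective R M
  obtain ⟨h, hh⟩ := Module.projective_lifting_property g (f ∘ₗ π) hg
  -- the reduction of `π`
  set πb := LinearMap.reduceModIdeal I π with hπb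
  have hπb_surj : Function.Surjective πb := by
    intro y
    obtain ⟨y, rfl⟩ := Submodule.Quotient.mk_surjective _ y
    obtain ⟨x, rfl⟩ := hπ y
    exact ⟨Submodule.Quotient.mk x, rfl⟩
  obtain ⟨s, hs⟩ := Module.projective_lifting_property πb (LinearMap.id) hπb_surj
  -- the inclusion of the kernel followed by reduction
  let j : LinearMap.ker π →ₗ[R] ((M →₀ R) ⧸ (I • ⊤ : Submodule R (M →₀ R))) :=
    (Submodule.mkQ _) ∘ₗ (LinearMap.ker π).subtype
  have hker : LinearMap.ker j ≤ LinearMap.ker (h ∘ₗ (LinearMap.ker π).subtype) := by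
    intro x hx
    have h1 : (x : M →₀ R) ∈ (I • ⊤ : Submodule R (M →₀ R)) := by
      rw [LinearMap.mem_ker] at hx
      exact (Submodule.Quotient.mk_eq_zero _).1 hx
    have h2 := mem_smul_ker_of_mem_smul I π hπ x h1
    refine Submodule.smul_induction_on h2 ?_ ?_
    · intro r hr y _
      rw [LinearMap.mem_ker, map_smul]
      apply hI r hr
      have := LinearMap.congr_fun hh (y : M →₀ R)
      simp only [LinearMap.comp_apply] at this
      simp only [LinearMap.comp_apply, Submodule.subtype_apply]
      rw [this, LinearMap.mem_ker.1 y.2, map_zero]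
    · intro y z hy hz
      exact Submodule.add_mem _ hy hz
  obtain ⟨v, hv⟩ := exists_factor (F := LinearMap.ker π) (M := LinearMap.range j) (X := X)
    j.rangeRestrict j.surjective_rangeRestrict (h ∘ₗ (LinearMap.ker π).subtype)
    (by rw [LinearMap.ker_rangeRestrict]; exact hker)
  -- the projection onto the range of `j`
  let w' : (M →₀ R) →ₗ[R] ((M →₀ R) ⧸ (I • ⊤ : Submodule R (M →₀ R))) :=
    Submodule.mkQ _ - (s.restrictScalars R) ∘ₗ (πb.restrictScalars R) ∘ₗ Submodule.mkQ _
  have hw' : ∀ x, w' x ∈ LinearMap.range j := by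
    intro x
    have h1 : πb (w' x) = 0 := by
      have := LinearMap.congr_fun hs (πb (Submodule.Quotient.mk x))
      simp only [LinearMap.comp_apply, LinearMap.id_apply] at this
      simp only [w', LinearMap.sub_apply, LinearMap.comp_apply, LinearMap.restrictScalars_apply, Submodule.mkQ_apply, map_sub]
      rw [this, sub_self]
    obtain ⟨y, hy⟩ := Submodule.Quotient.mk_surjective _ (w' x)
    rw [← hy] at h1 ⊢
    have h2 : π y ∈ (I • ⊤ : Submodule R M) := by
      rw [hπb, LinearMap.reduceModIdeal_apply, Submodule.Quotient.mk_eq_zero] at h1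
      exact h1
    have h3 : π y ∈ Submodule.map π (I • ⊤ : Submodule R (M →₀ R)) := by
      rw [Submodule.map_smul'', Submodule.map_top, LinearMap.range_eq_top.2 hπ]
      exact h2
    obtain ⟨z, hz, hzy⟩ := h3
    refine ⟨⟨y - z, by rw [LinearMap.mem_ker, map_sub, hzy, sub_self]⟩, ?_⟩
    show Submodule.Quotient.mk (y - z) = _
    rw [Submodule.Quotient.eq]
    simpa using hz
  let w : (M →₀ R) →ₗ[R] LinearMap.range j := w'.codRestrict _ hw'
  obtain ⟨f', hf'⟩ := exists_factor π hπ (h - v ∘ₗ w) (by
    intro x hx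
    have h1 : w x = j.rangeRestrict ⟨x, hx⟩ := by
      apply Subtype.ext
      show w' x = Submodule.Quotient.mk x
      have : πb (Submodule.Quotient.mk x) = 0 := by
        rw [hπb, LinearMap.reduceModIdeal_apply, LinearMap.mem_ker.1 hx]; rfl
      simp only [w', LinearMap.sub_apply, LinearMap.comp_apply, LinearMap.restrictScalars_apply, Submodule.mkQ_apply]
      rw [this, map_zero, sub_zero]
    rw [LinearMap.mem_ker, LinearMap.sub_apply, LinearMap.comp_apply, h1]
    have := LinearMap.congr_fun hv ⟨x, hx⟩
    rw [LinearMap.comp_apply] at this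
    rw [this]
    simp)
  refine ⟨f', ?_⟩
  apply LinearMap.ext
  intro m
  obtain ⟨x, rfl⟩ := hπ m
  have h1 := LinearMap.congr_fun hf' x
  rw [LinearMap.comp_apply] at h1
  rw [LinearMap.comp_apply, h1, LinearMap.sub_apply, map_sub]
  have h2 := LinearMap.congr_fun hh x
  rw [LinearMap.comp_apply] at h2
  rw [h2]
  have h3 : g (v (w x)) = 0 := by
    obtain ⟨y, hy⟩ := j.surjective_rangeRestrict (w x)
    rw [← hy]
    have h4 := LinearMap.congr_fun hv y
    rw [LinearMap.comp_apply] at h4
    rw [h4]
    have h5 := LinearMap.congr_fun hh (y : M →₀ R)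
    simp only [LinearMap.comp_apply] at h5
    simp only [LinearMap.comp_apply, Submodule.subtype_apply]
    rw [h5, LinearMap.mem_ker.1 y.2, map_zero]
  rw [LinearMap.comp_apply, LinearMap.comp_apply, h3, sub_zero]

end Groth.Agent.Flat2A.LiftNilp
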