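import Groth.Agent.Flat2A.Fiber
import Mathlib.RingTheory.Ideal.AssociatedPrime.Finiteness

set_option autoImplicit false
universe u

namespace Groth.Agent.Flat2A.FiberAss

open TensorProduct Flat2A.Fiber

variable {R S : Type u} [CommRing R] [CommRing S] [Algebra R S]

/-- the ring map from `S` to the fibre ring -/
noncomputable abbrev toFiber (p : Ideal R) [p.IsPrime] (S : Type u) [CommRing S] [Algebra R S] : S →+* p.Fiber S :=
  (Algebra.TensorProduct.includeRight (R := R) (A := p.ResidueField) (B := S)).toRingHom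

section

variable (p : Ideal R) [p.IsPrime]
  (N : Type u) [AddCommGroup N] [Module S N] [Module R N] [IsScalarTower R S N]

/-- the two actions of `S` on the fibre module agree -/
theorem smul_fiberMod (s : S) (y : FlatCA.fiberMod p S N) :
    s • y = (toFiber p S s) • y := by
  let _ : Algebra S (p.Fiber S) := Algebra.TensorProduct.rightAlgebra
  change (s • (show (p.Fiber S) ⊗[S] N from y) : (p.Fiber S) ⊗[S] N) =
    ((toFiber p S s) • (show (p.Fiber S) ⊗[S] N from y) : (p.Fiber S) ⊗[S] N)
  exact (algebraMap_smul (p.Fiber S) s (show (p.Fiber S) ⊗[S] N from y)).symm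

theorem colon_comap (y : FlatCA.fiberMod p S N) :
    (⊥ : Submodule S (FlatCA.fiberMod p S N)).colon {y} =
      ((⊥ : Submodule (p.Fiber S) (FlatCA.fiberMod p S N)).colon {y}).comap (toFiber p S) := by
  ext s
  rw [Submodule.mem_colon_singleton, Ideal.mem_comap, Submodule.mem_colon_singleton, smul_fiberMod p N s y]
  simp

theorem liesOver_of_comap (Q : Ideal (p.Fiber S)) (hQ : Q ≠ ⊤) :
    (Q.comap (toFiber p S)).LiesOver p := by
  constructor
  ext r
  have h1 : (toFiber p S) (algebraMap R S r) = algebraMap p.ResidueField (p.Fiber S) (algebraMap R p.ResidueField r) := by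
    rw [← IsScalarTower.algebraMap_apply]
    exact (Algebra.TensorProduct.includeRight (R := R) (A := p.ResidueField) (B := S)).commutes r
  rw [Ideal.mem_comap, Ideal.mem_comap, h1]
  constructor
  · intro hr
    have : algebraMap R p.ResidueField r = 0 := by simpa using hr
    rw [this, map_zero]
    exact Q.zero_mem
  · intro hr
    by_contra hr'
    apply hQ
    apply Ideal.eq_top_of_isUnit_mem _ hr
    apply IsUnit.map
    apply IsUnit.mk0
    intro h0
    exact hr' (by simpa using h0)

theorem mem_associatedPrimes_fiberMod_iff (q : Ideal S) :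
    q ∈ associatedPrimes S (FlatCA.fiberMod p S N) ↔ q.IsPrime ∧ q.LiesOver p ∧
      FlatCA.fiberIdeal p q ∈ associatedPrimes (p.Fiber S) (FlatCA.fiberMod p S N) := by
  constructor
  · rintro ⟨hq, y, hy⟩
    rw [colon_comap p N y, ← Ideal.comap_radical] at hy
    have hne : ((⊥ : Submodule (p.Fiber S) (FlatCA.fiberMod p S N)).colon {y}).radical ≠ ⊤ := by
      intro h
      rw [h, Ideal.comap_top] at hy
      exact hq.ne_top hy
    have hover : q.LiesOver p := by
      rw [hy]
      exact liesOver_of_comap p _ hne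
    refine ⟨hq, hover, ?_⟩
    have h2 : FlatCA.fiberIdeal p q = ((⊥ : Submodule (p.Fiber S) (FlatCA.fiberMod p S N)).colon {y}).radical := by
      conv_lhs => rw [hy]
      exact fiberIdeal_comap p _
    exact ⟨fiberIdeal_isPrime p q, y, h2⟩
  · rintro ⟨hq, hover, hQ, y, hy⟩
    refine ⟨hq, y, ?_⟩
    rw [colon_comap p N y, ← Ideal.comap_radical, ← hy]
    exact (comap_fiberIdeal p q).symm

theorem associatedPrimes_fiberMod_finite [IsNoetherianRing (p.Fiber S)]
    [Module.Finite (p.Fiber S) (FlatCA.fiberMod p S N)] :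
    (associatedPrimes S (FlatCA.fiberMod p S N)).Finite := by
  have hfin : (associatedPrimes (p.Fiber S) (FlatCA.fiberMod p S N)).Finite := associatedPrimes.finite _ _
  apply (hfin.image (fun Q => Q.comap (toFiber p S))).subset
  intro q hq
  obtain ⟨hq1, hq2, hq3⟩ := (mem_associatedPrimes_fiberMod_iff p N q).mp hq
  exact ⟨_, hq3, comap_fiberIdeal p q⟩

/-- zero divisors on the fibre module form the union of its associated primes -/
theorem zeroDivisors_fiberMod [IsNoetherianRing (p.Fiber S)] (s : S) :
    s ∈ nonZeroSMulDivisors S (FlatCA.fiberMod p S N) ↔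
      ∀ q ∈ associatedPrimes S (FlatCA.fiberMod p S N), s ∉ q := by
  constructor
  · intro hs q hq hsq
    obtain ⟨hq1, hq2, hq3⟩ := (mem_associatedPrimes_fiberMod_iff p N q).mp hq
    have h1 := biUnion_associatedPrimes_eq_zero_divisors (p.Fiber S) (FlatCA.fiberMod p S N)
    have h2 : toFiber p S s ∈ ⋃ Q ∈ associatedPrimes (p.Fiber S) (FlatCA.fiberMod p S N), (Q : Set (p.Fiber S)) := by
      simp only [Set.mem_iUnion]
      exact ⟨_, hq3, (one_tmul_mem_fiberIdeal_iff p q s).mpr hsq⟩
    rw [h1] at h2
    obtain ⟨x, hx, hx'⟩ := h2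
    rw [← smul_fiberMod p N s x] at hx'
    exact hx (hs x hx')
  · intro h x hx
    by_contra hx0
    have h1 := biUnion_associatedPrimes_eq_zero_divisors (p.Fiber S) (FlatCA.fiberMod p S N)
    have h2 : toFiber p S s ∈ { r : p.Fiber S | ∃ x : FlatCA.fiberMod p S N, x ≠ 0 ∧ r • x = 0 } := by
      refine ⟨x, hx0, ?_⟩
      rw [← smul_fiberMod p N s x]
      exact hx
    rw [← h1] at h2
    simp only [Set.mem_iUnion] at h2
    obtain ⟨Q, hQ, hQ'⟩ := h2
    have hprime : Q.IsPrime := hQ.1
    have hover := liesOver_of_comap p Q hprime.ne_top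
    refine h (Q.comap (toFiber p S)) ?_ hQ'
    rw [mem_associatedPrimes_fiberMod_iff]
    refine ⟨inferInstance, hover, ?_⟩
    have := fiberIdeal_comap p Q
    rw [this]
    exact hQ

end

end Groth.Agent.Flat2A.FiberAss
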