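import Groth.Prelude.Def_FlatCA
import Groth.Agent.Flat2A.FiberAss

/-!
# The fibre module as a tensor product over the base
-/

set_option autoImplicit false

universe u v w

namespace Groth.Agent.Flat2A.FiberEquiv

open TensorProduct Flat2A.Fiber Flat2A.FiberAss

section

variable {R : Type u} (S : Type u) [CommRing R] [CommRing S] [Algebra R S] (p : Ideal R) [p.IsPrime]
  (N : Type u) [AddCommGroup N] [Module S N] [Module R N] [IsScalarTower R S N]

attribute [local instance] Algebra.TensorProduct.rightAlgebra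

/-- The fibre ring, as an `S`-module, is `S ⊗ κ(p)`. -/
noncomputable def fiberCommEquiv : p.Fiber S ≃ₗ[S] S ⊗[R] p.ResidueField :=
  { (TensorProduct.comm R p.ResidueField S) with
    map_smul' := by
      intro s x
      simp only [AddHom.toFun_eq_coe, LinearMap.coe_toAddHom, LinearEquiv.coe_coe,
        RingHom.id_apply]
      induction x using TensorProduct.induction_on with
      | zero => simp
      | tmul a b =>
        have h : s • (a ⊗ₜ[R] b : p.ResidueField ⊗[R] S) = a ⊗ₜ[R] (s • b) := by
          rw [Algebra.smul_def, Algebra.TensorProduct.right_algebraMap_apply,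
            Algebra.TensorProduct.tmul_mul_tmul, one_mul, smul_eq_mul]
        rw [h, TensorProduct.comm_tmul, TensorProduct.comm_tmul, TensorProduct.smul_tmul']
      | add x y hx hy => rw [smul_add, map_add, hx, hy, map_add, smul_add] }

/-- The fibre module is `N ⊗_R κ(p)` as an `S`-module. -/
noncomputable def fiberModEquiv : FlatCA.fiberMod p S N ≃ₗ[S] N ⊗[R] p.ResidueField :=
  (TensorProduct.comm S (p.Fiber S) N) ≪≫ₗ
    (TensorProduct.congr (LinearEquiv.refl S N) (fiberCommEquiv S p)) ≪≫ₗ
    (TensorProduct.AlgebraTensorModule.cancelBaseChange R S S N p.ResidueField)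

/-- On the image of an element of the module. -/
theorem fiberModEquiv_toFiberMod (n : N) :
    fiberModEquiv S p N (FlatCA.toFiberMod p S N n) = n ⊗ₜ[R] 1 := by
  change (TensorProduct.AlgebraTensorModule.cancelBaseChange R S S N p.ResidueField)
    ((TensorProduct.congr (LinearEquiv.refl S N) (fiberCommEquiv S p))
      ((TensorProduct.comm S (p.Fiber S) N) (1 ⊗ₜ[S] n))) = _
  rw [TensorProduct.comm_tmul, TensorProduct.congr_tmul]
  change (TensorProduct.AlgebraTensorModule.cancelBaseChange R S S N p.ResidueField)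
    (n ⊗ₜ[S] (1 ⊗ₜ[R] 1)) = _
  rw [TensorProduct.AlgebraTensorModule.cancelBaseChange_tmul, one_smul]

variable {S}

/-- If the extension of `q` to the fibre ring is an associated prime of the fibre module, then `q` is
the radical of the annihilator of an element of `N ⊗_R κ(p)`. -/
theorem exists_radical_annihilator (q : Ideal S) [q.IsPrime] [q.LiesOver p]
    (h : FlatCA.fiberIdeal p q ∈ associatedPrimes (p.Fiber S) (FlatCA.fiberMod p S N)) :
    ∃ z : N ⊗[R] p.ResidueField, ∀ s : S, s ∈ q ↔ ∃ n : ℕ, s ^ n • z = 0 := by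
  obtain ⟨-, y, hy⟩ := (mem_associatedPrimes_fiberMod_iff p N q).mpr ⟨‹_›, ‹_›, h⟩
  refine ⟨fiberModEquiv S p N y, fun s => ?_⟩
  rw [hy]
  constructor
  · rintro ⟨n, hn⟩
    refine ⟨n, ?_⟩
    rw [Submodule.mem_colon_singleton, Submodule.mem_bot] at hn
    rw [← map_smul, hn, map_zero]
  · rintro ⟨n, hn⟩
    refine ⟨n, ?_⟩
    rw [← map_smul, LinearEquiv.map_eq_zero_iff] at hn
    rw [Submodule.mem_colon_singleton, Submodule.mem_bot]
    exact hn

/-- In the Noetherian situation `q` is the annihilator of an element of `N ⊗_R κ(p)`. -/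
theorem exists_annihilator [IsNoetherianRing (p.Fiber S)] (q : Ideal S) [q.IsPrime] [q.LiesOver p]
    (h : FlatCA.fiberIdeal p q ∈ associatedPrimes (p.Fiber S) (FlatCA.fiberMod p S N)) :
    ∃ z : N ⊗[R] p.ResidueField, ∀ s : S, s ∈ q ↔ s • z = 0 := by
  obtain ⟨hp, y, hy⟩ := isAssociatedPrime_iff.mp h
  refine ⟨fiberModEquiv S p N y, fun s => ?_⟩
  rw [← map_smul, LinearEquiv.map_eq_zero_iff, smul_fiberMod p N s y,
    ← one_tmul_mem_fiberIdeal_iff p q, hy, Submodule.mem_colon_singleton, Submodule.mem_bot]
  rfl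

end

end Groth.Agent.Flat2A.FiberEquiv
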