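import Groth.Agent.Flat2A.FiberAss

set_option autoImplicit false
universe u

namespace Groth.Agent.Flat2A.Impurity

open TensorProduct Flat2A.Fiber Flat2A.FiberAss

section basic

variable {A B : Type u} [CommRing A] [CommRing B] [Algebra A B]

/-- An element of `B` annihilating `N` lies in every associated prime of a fibre module of a base change of `N`. -/
theorem annihilator_le_of_fiberIdeal_mem (t : Ideal A) [t.IsPrime]
    (N : Type u) [AddCommGroup N] [Module B N] [Module A N] [IsScalarTower A B N]
    (P : Ideal B) [P.IsPrime] [P.LiesOver t]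
    (h : FlatCA.fiberIdeal t P ∈ associatedPrimes (t.Fiber B) (FlatCA.fiberMod t B N)) :
    Module.annihilator B N ≤ P := by
  intro b hb
  rw [← one_tmul_mem_fiberIdeal_iff t P]
  obtain ⟨hP, y, hy⟩ := h
  rw [hy]
  apply Ideal.le_radical
  rw [Submodule.mem_colon_singleton]
  let _ : Algebra B (t.Fiber B) := Algebra.TensorProduct.rightAlgebra
  have key : ∀ z : (t.Fiber B) ⊗[B] N, (algebraMap B (t.Fiber B) b) • z = 0 := by
    intro z
    induction z with
    | zero => simp
    | add x y hx hy => rw [smul_add, hx, hy, add_zero]
    | tmul x n =>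
      rw [algebraMap_smul, ← TensorProduct.tmul_smul, Module.mem_annihilator.mp hb n, TensorProduct.tmul_zero]
  have := key y
  exact this ▸ Submodule.zero_mem _

end basic

section

variable {A B : Type u} [CommRing A] [CommRing B] [Algebra A B] (N : Type u) [AddCommGroup N]
  [Module B N]

/-- A base change of a module is annihilated by the annihilator of the module. -/
theorem annihilator_map_le {B' : Type u} [CommRing B'] [Algebra B B'] {N' : Type u}
    [AddCommGroup N'] [Module B' N'] [Module B N'] [IsScalarTower B B' N'] (f : N →ₗ[B] N')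
    (hf : IsBaseChange B' f) {b : B} (hb : b ∈ Module.annihilator B N) :
    algebraMap B B' b ∈ Module.annihilator B' N' := by
  rw [Module.mem_annihilator]
  intro x
  induction x using hf.inductionOn with
  | zero => simp
  | tmul m => rw [algebraMap_smul, ← map_smul, Module.mem_annihilator.mp hb, map_zero]
  | smul r m h => rw [smul_comm, h, smul_zero]
  | add x y hx hy => rw [smul_add, hx, hy, add_zero]

/-- Universally pure modules are pure. -/
theorem isPureAlong_of_isUnivPureAlong {p : Ideal A} [p.IsPrime] (h : FlatCA.IsUnivPureAlong A B N p) :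
    FlatCA.IsPureAlong A B N p := by
  intro A' B' N' _ _ _ _ _ _ _ _ _ _ _ _ _ _ f t' t _ _ P _ _
  exact h A' B' N' f t' t P

theorem isPure_of_isUnivPure (h : FlatCA.IsUnivPure A B N) : FlatCA.IsPure A B N :=
  fun p _ => isPureAlong_of_isUnivPureAlong N (h p)

end

end Groth.Agent.Flat2A.Impurity
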