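import Groth.Agent.Flat2A.AssBaseChange
import Groth.Agent.Flat2A.Impurity

set_option autoImplicit false
universe u

/-!
# Impurities under change of the base ring

`impurity_transfer`: an associated prime of a fibre module witnessing an impurity transfers along any
change of base rings, in any models of the base changes.
-/

namespace Groth.Agent.Flat2A.ImpurityBC

open TensorProduct Flat2A.Fiber Flat2A.FiberAss Flat2A.AssBaseChange

theorem bijective_of_isPushout {R S R' S' : Type u} [CommRing R] [CommRing S] [CommRing R'] [CommRing S']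
    [Algebra R S] [Algebra R R'] [Algebra R S'] [Algebra S S'] [Algebra R' S'] [IsScalarTower R R' S'] [IsScalarTower R S S']
    (H : Algebra.IsPushout R S R' S') (h : Function.Bijective (algebraMap R R')) :
    Function.Bijective (algebraMap S S') := by
  let e₁ : R ≃ₐ[R] R' := AlgEquiv.ofBijective (Algebra.ofId R R') h
  let e : S ≃ₐ[S] S' := (Algebra.TensorProduct.rid R S S).symm.trans
    ((Algebra.TensorProduct.congr AlgEquiv.refl e₁).trans (Algebra.IsPushout.equiv R S R' S'))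
  have : ⇑(algebraMap S S') = ⇑e := by
    ext x
    exact (e.commutes x).symm
  rw [this]
  exact e.bijective

section transfer

variable {A A' A₁ A₂ B B' B₁ B₂ : Type u} [CommRing A] [CommRing A'] [CommRing A₁] [CommRing A₂]
  [CommRing B] [CommRing B'] [CommRing B₁] [CommRing B₂] [Algebra A B]
  [Algebra A A'] [Algebra A B'] [Algebra A' B'] [Algebra B B'] [IsScalarTower A A' B'] [IsScalarTower A B B']
  [Algebra A A₁] [Algebra A B₁] [Algebra A₁ B₁] [Algebra B B₁] [IsScalarTower A A₁ B₁] [IsScalarTower A B B₁]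
  [Algebra A' A₂] [Algebra A' B₂] [Algebra A₂ B₂] [Algebra B' B₂] [IsScalarTower A' A₂ B₂] [IsScalarTower A' B' B₂]
  [Algebra A A₂] [IsScalarTower A A' A₂] [Algebra A₁ A₂] [IsScalarTower A A₁ A₂]
  {N N' N₁ N₂ : Type u} [AddCommGroup N] [AddCommGroup N'] [AddCommGroup N₁] [AddCommGroup N₂]
  [Module B N] [Module B' N'] [Module B N'] [IsScalarTower B B' N']
  [Module B₁ N₁] [Module B N₁] [IsScalarTower B B₁ N₁] [Module A₁ N₁] [IsScalarTower A₁ B₁ N₁]
  [Module B₂ N₂] [Module B' N₂] [IsScalarTower B' B₂ N₂] [Module A₂ N₂] [IsScalarTower A₂ B₂ N₂]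

/-- Lifting associated primes of fibre modules between two models over different base rings. -/
theorem ass_transfer [Algebra.FiniteType A B] (h' : Algebra.IsPushout A B A' B') (h₁ : Algebra.IsPushout A B A₁ B₁)
    (h₂ : Algebra.IsPushout A' B' A₂ B₂)
    (f' : N →ₗ[B] N') (hf' : IsBaseChange B' f') (f₁ : N →ₗ[B] N₁) (hf₁ : IsBaseChange B₁ f₁)
    (f₂ : N' →ₗ[B'] N₂) (hf₂ : IsBaseChange B₂ f₂) :
    ∃ φ : B₁ →+* B₂, φ.comp (algebraMap A₁ B₁) = (algebraMap A₂ B₂).comp (algebraMap A₁ A₂) ∧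
      φ.comp (algebraMap B B₁) = (algebraMap B' B₂).comp (algebraMap B B') ∧
      (Function.Bijective (algebraMap A₁ A₂) → Function.Bijective φ) ∧
      (∀ (t₁ : Ideal A₁) (t₂ : Ideal A₂) [t₁.IsPrime] [t₂.IsPrime] [t₂.LiesOver t₁],
        ∀ P₁ ∈ associatedPrimes B₁ (FlatCA.fiberMod t₁ B₁ N₁),
          ∃ P₂ ∈ associatedPrimes B₂ (FlatCA.fiberMod t₂ B₂ N₂), P₂.comap φ = P₁) ∧
      (∀ (t₁ : Ideal A₁) (t₂ : Ideal A₂) [t₁.IsPrime] [t₂.IsPrime] [t₂.LiesOver t₁],
        ∀ P₂ ∈ associatedPrimes B₂ (FlatCA.fiberMod t₂ B₂ N₂),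
          P₂.comap φ ∈ associatedPrimes B₁ (FlatCA.fiberMod t₁ B₁ N₁)) := by
  let iAB₂ : Algebra A B₂ := ((algebraMap A' B₂).comp (algebraMap A A')).toAlgebra
  let iBB₂ : Algebra B B₂ := ((algebraMap B' B₂).comp (algebraMap B B')).toAlgebra
  let iA₁B₂ : Algebra A₁ B₂ := ((algebraMap A₂ B₂).comp (algebraMap A₁ A₂)).toAlgebra
  have s1 : IsScalarTower A A' B₂ := IsScalarTower.of_algebraMap_eq' rfl
  have s2 : IsScalarTower B B' B₂ := IsScalarTower.of_algebraMap_eq' rfl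
  have s3 : IsScalarTower A₁ A₂ B₂ := IsScalarTower.of_algebraMap_eq' rfl
  have s4 : IsScalarTower A B' B₂ := by
    refine IsScalarTower.of_algebraMap_eq' ?_
    rw [IsScalarTower.algebraMap_eq A A' B₂, IsScalarTower.algebraMap_eq A' B' B₂, RingHom.comp_assoc,
      ← IsScalarTower.algebraMap_eq A A' B']
  have s5 : IsScalarTower A B B₂ := by
    refine IsScalarTower.of_algebraMap_eq' ?_
    rw [IsScalarTower.algebraMap_eq A B' B₂, IsScalarTower.algebraMap_eq B B' B₂, RingHom.comp_assoc,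
      ← IsScalarTower.algebraMap_eq A B B']
  have s6 : IsScalarTower A A₂ B₂ := by
    refine IsScalarTower.of_algebraMap_eq' ?_
    rw [IsScalarTower.algebraMap_eq A A' B₂, IsScalarTower.algebraMap_eq A' A₂ B₂, RingHom.comp_assoc,
      ← IsScalarTower.algebraMap_eq A A' A₂]
  have s7 : IsScalarTower A A₁ B₂ := by
    refine IsScalarTower.of_algebraMap_eq' ?_
    rw [IsScalarTower.algebraMap_eq A A₂ B₂, IsScalarTower.algebraMap_eq A₁ A₂ B₂, RingHom.comp_assoc,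
      ← IsScalarTower.algebraMap_eq A A₁ A₂]
  -- the universal property
  have hcomm : ∀ (x : B) (y : A₁), IsScalarTower.toAlgHom A B B₂ x * IsScalarTower.toAlgHom A A₁ B₂ y =
      IsScalarTower.toAlgHom A A₁ B₂ y * IsScalarTower.toAlgHom A B B₂ x := fun _ _ => mul_comm _ _
  let φ : B₁ →ₐ[A] B₂ := Algebra.pushoutDesc B₁ (IsScalarTower.toAlgHom A B B₂) (IsScalarTower.toAlgHom A A₁ B₂) hcomm
  let iB₁B₂ : Algebra B₁ B₂ := φ.toRingHom.toAlgebra
  have e1 : φ.toRingHom.comp (algebraMap A₁ B₁) = algebraMap A₁ B₂ := by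
    ext x
    exact Algebra.pushoutDesc_right B₁ _ _ hcomm x
  have e2 : φ.toRingHom.comp (algebraMap B B₁) = algebraMap B B₂ := by
    ext x
    exact Algebra.pushoutDesc_left B₁ _ _ hcomm x
  have s8 : IsScalarTower A₁ B₁ B₂ := IsScalarTower.of_algebraMap_eq' e1.symm
  have s9 : IsScalarTower B B₁ B₂ := IsScalarTower.of_algebraMap_eq' e2.symm
  have s10 : IsScalarTower A B₁ B₂ := by
    refine IsScalarTower.of_algebraMap_eq' ?_
    rw [IsScalarTower.algebraMap_eq A A₁ B₂, IsScalarTower.algebraMap_eq A₁ B₁ B₂, RingHom.comp_assoc,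
      ← IsScalarTower.algebraMap_eq A A₁ B₁]
  have hrect : Algebra.IsPushout A A₂ B B₂ := by
    have := h'.symm
    rw [Algebra.IsPushout.comp_iff A A' B (S' := B')]
    exact h₂.symm
  have hr : Algebra.IsPushout A₁ A₂ B₁ B₂ := by
    have := h₁.symm
    rw [← Algebra.IsPushout.comp_iff A A₁ B (S' := B₁)]
    exact hrect
  have hr' : Algebra.IsPushout A₁ B₁ A₂ B₂ := hr.symm
  -- modules
  let iBN₂ : Module B N₂ := Module.compHom N₂ (algebraMap B B')
  have m1 : IsScalarTower B B' N₂ := IsScalarTower.of_compHom _ _ _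
  have m2 : IsScalarTower B B₂ N₂ := by
    refine IsScalarTower.of_algebraMap_smul ?_
    intro r x
    rw [IsScalarTower.algebraMap_apply B B' B₂, algebraMap_smul, algebraMap_smul]
  let iB₁N₂ : Module B₁ N₂ := Module.compHom N₂ (algebraMap B₁ B₂)
  have m3 : IsScalarTower B₁ B₂ N₂ := IsScalarTower.of_compHom _ _ _
  have m4 : IsScalarTower B B₁ N₂ := by
    refine IsScalarTower.of_algebraMap_smul ?_
    intro r x
    rw [← algebraMap_smul B₂ (algebraMap B B₁ r) x, ← IsScalarTower.algebraMap_apply B B₁ B₂, algebraMap_smul]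
  have hc : IsBaseChange B₂ ((f₂.restrictScalars B) ∘ₗ f') := IsBaseChange.comp hf' hf₂
  let g : N₁ →ₗ[B₁] N₂ := hf₁.lift ((f₂.restrictScalars B) ∘ₗ f')
  have hg : IsBaseChange B₂ g := by
    rw [← hf₁.comp_iff, IsBaseChange.lift_comp]
    exact hc
  have hft₁ : Algebra.FiniteType A₁ B₁ := by
    have := Algebra.FiniteType.baseChange (R := A) (A := B) A₁
    exact Algebra.FiniteType.equiv this (Algebra.IsPushout.equiv A A₁ B B₁ (h := h₁.symm))
  have hft₂ : Algebra.FiniteType A₂ B₂ := by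
    have := Algebra.FiniteType.baseChange (R := A) (A := B) A₂
    exact Algebra.FiniteType.equiv this (Algebra.IsPushout.equiv A A₂ B B₂)
  refine ⟨φ.toRingHom, e1, e2, fun hb => bijective_of_isPushout hr' hb, ?_, ?_⟩
  · intro t₁ t₂ _ _ _ P₁ hP₁
    have := fiber_isNoetherianRing (S := B₁) t₁
    have := fiber_isNoetherianRing (S := B₂) t₂
    exact exists_mem_ass_fiberMod t₁ t₂ g hg P₁ hP₁
  · intro t₁ t₂ _ _ _ P₂ hP₂
    have := fiber_isNoetherianRing (S := B₁) t₁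
    have := fiber_isNoetherianRing (S := B₂) t₂
    exact comap_mem_ass_fiberMod t₁ t₂ g hg P₂ hP₂

end transfer


section Imp

attribute [local instance] Algebra.TensorProduct.rightAlgebra

/-- `N` has an impurity over `Spec A₂` at the specialization `t' ≤ t` of primes of `A₂` (canonical models). -/
def Imp (A B : Type u) [CommRing A] [CommRing B] [Algebra A B] (N : Type u) [AddCommGroup N] [Module B N]
    (A₂ : Type u) [CommRing A₂] [Algebra A A₂] (t' t : Ideal A₂) [t'.IsPrime] [t.IsPrime] : Prop :=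
  t' ≤ t ∧ ∃ P ∈ associatedPrimes (A₂ ⊗[A] B) (FlatCA.fiberMod t' (A₂ ⊗[A] B) ((A₂ ⊗[A] B) ⊗[B] N)),
    ∀ (P' : Ideal (A₂ ⊗[A] B)) [P'.IsPrime], P ≤ P' → ¬ P'.LiesOver t

variable {A B : Type u} [CommRing A] [CommRing B] [Algebra A B] [Algebra.FiniteType A B]
  {N : Type u} [AddCommGroup N] [Module B N]

/-- Model independence of `Imp`, and change of the base ring: `A → A' → A₂`, `(B', N')` a model of the base
change of `(B, N)` to `A'` and `(B₂, N₂)` a model of the base change of `(B', N')` to `A₂`. -/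
theorem imp_iff_of_models {A' B' N' A₂ B₂ N₂ : Type u} [CommRing A'] [CommRing B'] [CommRing A₂] [CommRing B₂]
    [AddCommGroup N'] [AddCommGroup N₂]
    [Algebra A A'] [Algebra A B'] [Algebra A' B'] [Algebra B B'] [IsScalarTower A A' B'] [IsScalarTower A B B']
    [Algebra A' A₂] [Algebra A' B₂] [Algebra A₂ B₂] [Algebra B' B₂] [IsScalarTower A' A₂ B₂] [IsScalarTower A' B' B₂]
    [Algebra A A₂] [IsScalarTower A A' A₂]
    [Module B' N'] [Module B N'] [IsScalarTower B B' N']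
    [Module B₂ N₂] [Module B' N₂] [IsScalarTower B' B₂ N₂] [Module A₂ N₂] [IsScalarTower A₂ B₂ N₂]
    (h' : Algebra.IsPushout A B A' B') (h₂ : Algebra.IsPushout A' B' A₂ B₂)
    (f' : N →ₗ[B] N') (hf' : IsBaseChange B' f')
    (f₂ : N' →ₗ[B'] N₂) (hf₂ : IsBaseChange B₂ f₂) (t' t : Ideal A₂) [t'.IsPrime] [t.IsPrime] :
    Imp A B N A₂ t' t ↔ t' ≤ t ∧ ∃ P ∈ associatedPrimes B₂ (FlatCA.fiberMod t' B₂ N₂),
      ∀ (P' : Ideal B₂) [P'.IsPrime], P ≤ P' → ¬ P'.LiesOver t := by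
  have hover : t.LiesOver t := ⟨rfl⟩
  have hover' : t'.LiesOver t' := ⟨rfl⟩
  obtain ⟨φ, e1, e2, hb, h3, h4⟩ := ass_transfer (A := A) (B := B) (A₁ := A₂) (A₂ := A₂) (B₁ := A₂ ⊗[A] B) h'
    (by infer_instance) h₂ f' hf' (TensorProduct.mk B (A₂ ⊗[A] B) N 1) (TensorProduct.isBaseChange _ _ _) f₂ hf₂
  have hbij := hb Function.bijective_id
  have e1' : φ.comp (algebraMap A₂ (A₂ ⊗[A] B)) = algebraMap A₂ B₂ := e1
  constructor
  · rintro ⟨hle, P, hP, hno⟩
    obtain ⟨P₂, hP₂, hc⟩ := h3 t' t' P hP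
    refine ⟨hle, P₂, hP₂, fun P' _ hP' hov => hno (P'.comap φ) ?_ ?_⟩
    · rw [← hc]
      exact Ideal.comap_mono hP'
    · constructor
      rw [hov.over, Ideal.under_def, Ideal.under_def, Ideal.comap_comap, e1']
  · rintro ⟨hle, P₂, hP₂, hno⟩
    refine ⟨hle, P₂.comap φ, h4 t' t' P₂ hP₂, fun P' _ hP' hov => ?_⟩
    have hker : RingHom.ker φ ≤ P' := by
      rw [(RingHom.injective_iff_ker_eq_bot φ).mp hbij.1]
      exact bot_le
    have hcm : (P'.map φ).comap φ = P' := by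
      rw [Ideal.comap_map_of_surjective φ hbij.2, ← RingHom.ker_eq_comap_bot]
      exact sup_eq_left.mpr hker
    have hp : (P'.map φ).IsPrime := Ideal.map_isPrime_of_surjective hbij.2 hker
    refine hno (P'.map φ) ?_ ?_
    · rw [← Ideal.map_comap_of_surjective φ hbij.2 P₂]
      exact Ideal.map_mono hP'
    · constructor
      rw [Ideal.under_def, ← e1', ← Ideal.comap_comap, hcm]
      exact hov.over

/-- `Imp` for a model of the base change to `A₂` of `(B, N)`. -/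
theorem imp_iff_of_model {A₂ B₂ N₂ : Type u} [CommRing A₂] [CommRing B₂] [AddCommGroup N₂]
    [Algebra A A₂] [Algebra A B₂] [Algebra A₂ B₂] [Algebra B B₂] [IsScalarTower A A₂ B₂] [IsScalarTower A B B₂]
    [Module B₂ N₂] [Module B N₂] [IsScalarTower B B₂ N₂] [Module A₂ N₂] [IsScalarTower A₂ B₂ N₂]
    (h₂ : Algebra.IsPushout A B A₂ B₂) (f₂ : N →ₗ[B] N₂) (hf₂ : IsBaseChange B₂ f₂) (t' t : Ideal A₂)
    [t'.IsPrime] [t.IsPrime] :
    Imp A B N A₂ t' t ↔ t' ≤ t ∧ ∃ P ∈ associatedPrimes B₂ (FlatCA.fiberMod t' B₂ N₂),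
      ∀ (P' : Ideal B₂) [P'.IsPrime], P ≤ P' → ¬ P'.LiesOver t :=
  imp_iff_of_models (A := A) (B := B) (A' := A) (B' := B) (N' := N) (Algebra.IsPushout.symm inferInstance)
    h₂ LinearMap.id (IsBaseChange.ofEquiv (LinearEquiv.refl B N)) f₂ hf₂ t' t

/-- Change of the base ring. -/
theorem imp_baseChange_iff {A' B' N' A₂ : Type u} [CommRing A'] [CommRing B'] [CommRing A₂]
    [AddCommGroup N']
    [Algebra A A'] [Algebra A B'] [Algebra A' B'] [Algebra B B'] [IsScalarTower A A' B'] [IsScalarTower A B B']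
    [Algebra A' A₂] [Algebra A A₂] [IsScalarTower A A' A₂]
    [Module B' N'] [Module B N'] [IsScalarTower B B' N']
    (h' : Algebra.IsPushout A B A' B') (f' : N →ₗ[B] N') (hf' : IsBaseChange B' f')
    (t' t : Ideal A₂) [t'.IsPrime] [t.IsPrime] :
    Imp A' B' N' A₂ t' t ↔ Imp A B N A₂ t' t := by
  rw [imp_iff_of_models (A := A) (B := B) (A' := A') (B' := B') (N' := N') (B₂ := A₂ ⊗[A'] B')
    (N₂ := (A₂ ⊗[A'] B') ⊗[B'] N') h' inferInstance f' hf' (TensorProduct.mk B' (A₂ ⊗[A'] B') N' 1)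
    (TensorProduct.isBaseChange _ _ _) t' t]
  rfl

/-- Lifting of impurities along a map `A₁ → A₂`. -/
theorem Imp.lift {A₁ A₂ : Type u} [CommRing A₁] [CommRing A₂] [Algebra A A₁] [Algebra A A₂] [Algebra A₁ A₂]
    [IsScalarTower A A₁ A₂] {t₁' t₁ : Ideal A₁} {t₂' t₂ : Ideal A₂} [t₁'.IsPrime] [t₁.IsPrime] [t₂'.IsPrime]
    [t₂.IsPrime] [t₂'.LiesOver t₁'] [ht : t₂.LiesOver t₁] (hle : t₂' ≤ t₂) (h : Imp A B N A₁ t₁' t₁) :
    Imp A B N A₂ t₂' t₂ := by
  obtain ⟨φ, e1, e2, hb, h3, h4⟩ := ass_transfer (A := A) (A' := A) (B := B) (B' := B) (N' := N) (A₁ := A₁) (A₂ := A₂)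
    (B₁ := A₁ ⊗[A] B) (B₂ := A₂ ⊗[A] B) (Algebra.IsPushout.symm inferInstance) inferInstance inferInstance
    LinearMap.id (IsBaseChange.ofEquiv (LinearEquiv.refl B N)) (TensorProduct.mk B (A₁ ⊗[A] B) N 1)
    (TensorProduct.isBaseChange _ _ _) (TensorProduct.mk B (A₂ ⊗[A] B) N 1)
    (TensorProduct.isBaseChange _ _ _)
  obtain ⟨-, P, hP, hno⟩ := h
  obtain ⟨P₂, hP₂, hc⟩ := h3 t₁' t₂' P hP
  refine ⟨hle, P₂, hP₂, fun P' _ hP' hov => hno (P'.comap φ) ?_ ?_⟩
  · rw [← hc]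
    exact Ideal.comap_mono hP'
  · constructor
    have h5 : P'.comap (algebraMap A₂ (A₂ ⊗[A] B)) = t₂ := hov.over.symm
    rw [Ideal.under_def, Ideal.comap_comap, e1, ← Ideal.comap_comap, h5]
    exact ht.over

/-- Purity in terms of `Imp`. -/
theorem isPureAlong_iff (p : Ideal A) [p.IsPrime] : FlatCA.IsPureAlong A B N p ↔
    ∀ (A₂ : Type u) [CommRing A₂] [Algebra A A₂] (t' t : Ideal A₂) [t'.IsPrime] [t.IsPrime],
      FlatCA.IsEtaleNhd A A₂ p t → ¬ Imp A B N A₂ t' t := by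
  constructor
  · intro h A₂ _ _ t' t _ _ het himp
    obtain ⟨hle, P, hP, hno⟩ := himp
    obtain ⟨hP1, hP2, hP3⟩ := (mem_associatedPrimes_fiberMod_iff _ _ _).mp hP
    exact h A₂ (A₂ ⊗[A] B) ((A₂ ⊗[A] B) ⊗[B] N) (TensorProduct.mk B (A₂ ⊗[A] B) N 1) t' t P het
      ⟨inferInstance, TensorProduct.isBaseChange _ _ _, hle, het.2.1, hP2, hP3, hno⟩
  · intro h A' B' N' _ _ _ _ _ _ _ _ _ _ _ _ _ _ f t' t _ _ P _ het ⟨h1, h2, h3, h4, h5, h6, h7⟩
    refine h A' t' t het ?_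
    rw [imp_iff_of_model h1 f h2]
    exact ⟨h3, P, (mem_associatedPrimes_fiberMod_iff _ _ _).mpr ⟨inferInstance, h5, h6⟩, h7⟩

/-- Universal purity in terms of `Imp`. -/
theorem isUnivPureAlong_iff (p : Ideal A) [p.IsPrime] : FlatCA.IsUnivPureAlong A B N p ↔
    ∀ (A₂ : Type u) [CommRing A₂] [Algebra A A₂] (t' t : Ideal A₂) [t'.IsPrime] [t.IsPrime],
      t.LiesOver p → ¬ Imp A B N A₂ t' t := by
  constructor
  · intro h A₂ _ _ t' t _ _ het himp
    obtain ⟨hle, P, hP, hno⟩ := himp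
    obtain ⟨hP1, hP2, hP3⟩ := (mem_associatedPrimes_fiberMod_iff _ _ _).mp hP
    exact h A₂ (A₂ ⊗[A] B) ((A₂ ⊗[A] B) ⊗[B] N) (TensorProduct.mk B (A₂ ⊗[A] B) N 1) t' t P
      ⟨inferInstance, TensorProduct.isBaseChange _ _ _, hle, het, hP2, hP3, hno⟩
  · intro h A' B' N' _ _ _ _ _ _ _ _ _ _ _ _ _ _ f t' t _ _ P _ ⟨h1, h2, h3, h4, h5, h6, h7⟩
    refine h A' t' t h4 ?_
    rw [imp_iff_of_model h1 f h2]
    exact ⟨h3, P, (mem_associatedPrimes_fiberMod_iff _ _ _).mpr ⟨inferInstance, h5, h6⟩, h7⟩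

/-- Existence of impurities in terms of `Imp`. -/
theorem hasImpurity_iff (p : Ideal A) [p.IsPrime] (Q : ∀ (A' : Type u) [CommRing A'] [Algebra A A'], Ideal A' → Prop) :
    FlatCA.HasImpurity A B N p Q ↔ ∃ (A₂ : Type u) (_ : CommRing A₂) (_ : Algebra A A₂) (t' t : Ideal A₂)
      (_ : t'.IsPrime) (_ : t.IsPrime), t.LiesOver p ∧ Q A₂ t ∧ Imp A B N A₂ t' t := by
  constructor
  · rintro ⟨A', B', N', _, _, _, _, _, _, _, _, _, _, _, _, _, _, f, t', t, _, _, P, _, ⟨h1, h2, h3, h4, h5, h6, h7⟩, hQ⟩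
    refine ⟨A', inferInstance, inferInstance, t', t, inferInstance, inferInstance, h4, hQ, ?_⟩
    rw [imp_iff_of_model h1 f h2]
    exact ⟨h3, P, (mem_associatedPrimes_fiberMod_iff _ _ _).mpr ⟨inferInstance, h5, h6⟩, h7⟩
  · rintro ⟨A₂, _, _, t', t, _, _, h4, hQ, hle, P, hP, hno⟩
    obtain ⟨hP1, hP2, hP3⟩ := (mem_associatedPrimes_fiberMod_iff _ _ _).mp hP
    exact ⟨A₂, A₂ ⊗[A] B, (A₂ ⊗[A] B) ⊗[B] N, inferInstance, inferInstance, inferInstance, inferInstance,
      inferInstance, inferInstance, inferInstance, inferInstance, inferInstance, inferInstance, inferInstance,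
      inferInstance, inferInstance, inferInstance, TensorProduct.mk B (A₂ ⊗[A] B) N 1, t', t, inferInstance,
      inferInstance, P, hP1, ⟨inferInstance, TensorProduct.isBaseChange _ _ _, hle, h4, hP2, hP3, hno⟩, hQ⟩

end Imp

end Groth.Agent.Flat2A.ImpurityBC
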