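import Groth.Prelude.Def_FlatCA
import Mathlib.LinearAlgebra.TensorProduct.Basic
import Mathlib.LinearAlgebra.TensorProduct.RightExactness
import Mathlib.LinearAlgebra.Matrix.Charpoly.LinearMap
import Mathlib.Algebra.Polynomial.Div
import Mathlib.Algebra.Module.Projective
import Mathlib.RingTheory.Ideal.Maximal

/-!
# Determinant trick for modules which are locally summands of finite modules, at a prime of a
non-local ring (Stacks 05IU, 05FV)
-/

set_option autoImplicit false

universe u v w

namespace Groth.Agent.Flat2A.LocalSummand2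

open TensorProduct

/-- Cayley-Hamilton: for an endomorphism `φ` of a finite module with `s p - φ p ∈ I P`, there are an
element `s'` congruent to a power of `s` modulo `I`, and an endomorphism `ψ`,
with `ψ ∘ φ = s'`. -/
theorem exists_comp_eq_smul {R : Type u} [CommRing R] (I : Ideal R) {P : Type v} [AddCommGroup P]
    [Module R P] [Module.Finite R P] (s : R) (φ : P →ₗ[R] P)
    (h : ∀ p : P, s • p - φ p ∈ (I • ⊤ : Submodule R P)) :
    ∃ (n : ℕ) (s' : R) (ψ : P →ₗ[R] P), s' - s ^ n ∈ I ∧ ψ ∘ₗ φ = s' • LinearMap.id := by
  rcases subsingleton_or_nontrivial R with hR | hR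
  · have : Subsingleton P := Module.subsingleton R P
    exact ⟨0, 0, 0, by rw [Subsingleton.elim ((0 : R) - s ^ 0) 0]; exact I.zero_mem,
      LinearMap.ext fun x => Subsingleton.elim _ _⟩
  let χ : Module.End R P := s • LinearMap.id - φ
  obtain ⟨p, hp, -, hcoeff, hp0⟩ :=
    LinearMap.exists_monic_and_natDegree_eq_and_coeff_mem_pow_and_aeval_eq_zero R χ I (by
      rintro _ ⟨x, rfl⟩
      exact h x)
  obtain ⟨q, hq⟩ : ∃ q : Polynomial R, p = Polynomial.C (p.eval s) +
      (Polynomial.X - Polynomial.C s) * q := by
    have := Polynomial.X_sub_C_dvd_sub_C_eval (a := s) (p := p)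
    obtain ⟨q, hq⟩ := this
    exact ⟨q, by rw [← hq]; ring⟩
  refine ⟨p.natDegree, p.eval s, Polynomial.aeval χ q, ?_, ?_⟩
  · rw [Polynomial.eval_eq_sum_range, Finset.sum_range_succ, hp.coeff_natDegree, one_mul,
      add_sub_cancel_right]
    refine Ideal.sum_mem _ fun k hk => ?_
    refine Ideal.mul_mem_right _ _ ?_
    rw [Finset.mem_range] at hk
    exact Ideal.pow_le_self (by lia) (hcoeff k)
  · have h1 : Polynomial.aeval χ p = 0 := hp0
    rw [hq, mul_comm, map_add, map_mul, map_sub, Polynomial.aeval_C, Polynomial.aeval_X,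
      Polynomial.aeval_C] at h1
    have h2 : χ - (algebraMap R (Module.End R P)) s = -φ := by
      ext x
      simp [χ, Module.algebraMap_end_apply]
    rw [h2, mul_neg, ← sub_eq_add_neg, sub_eq_zero] at h1
    rw [Module.End.mul_eq_comp] at h1
    rw [← h1]
    ext x
    simp [Module.algebraMap_end_apply]

/-- The key lemma. `N` a module over `R` with an action of an `R`-algebra `S`,
`z ∈ N ⊗ M` an element which is fixed by a map `i ∘ e` factoring through a finite module.
If `f ∈ S` kills `z` and `s - f ∈ I S` for an element `s` of `R`, then `s' z = 0` for some `s' ∈ R`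
congruent to a power of `s` modulo `I`. -/
theorem exists_smul_eq_zero {R : Type u} [CommRing R] (I : Ideal R) {S : Type v} [CommRing S]
    [Algebra R S]
    {N : Type w} [AddCommGroup N] [Module S N] [Module R N] [IsScalarTower R S N]
    {M : Type*} [AddCommGroup M] [Module R M]
    {P : Type*} [AddCommGroup P] [Module R P] [Module.Finite R P]
    (i : P →ₗ[R] N) (e : N →ₗ[R] P) (z : N ⊗[R] M)
    (hz : (i ∘ₗ e).rTensor M z = z) (f : S) (s : R)
    (hf : algebraMap R S s - f ∈ I.map (algebraMap R S)) (hfz : f • z = 0) :
    ∃ (n : ℕ) (s' : R), s' - s ^ n ∈ I ∧ s' • z = 0 := by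
  -- the endomorphism
  let F : N →ₗ[R] N := (LinearMap.lsmul S N f).restrictScalars R
  have hFz : F.rTensor M z = 0 := by
    have : ∀ y : N ⊗[R] M, F.rTensor M y = f • y := by
      intro y
      induction y using TensorProduct.induction_on with
      | zero => simp
      | tmul n m => simp [F, TensorProduct.smul_tmul']
      | add a b ha hb => rw [map_add, ha, hb, smul_add]
    rw [this, hfz]
  let φ : P →ₗ[R] P := (s • LinearMap.id - s • (e ∘ₗ i)) + e ∘ₗ F ∘ₗ i
  have key : ∀ n : N, s • n - F n ∈ (I • ⊤ : Submodule R N) := by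
    intro n
    have h1 : s • n - F n = (algebraMap R S s - f) • n := by simp [F, sub_smul]
    rw [h1]
    have h2 : ∀ a ∈ I.map (algebraMap R S), a • n ∈ (I • ⊤ : Submodule R N) := by
      intro a ha
      refine Submodule.span_induction (p := fun a _ => a • n ∈
        (I • ⊤ : Submodule R N)) ?_ ?_ ?_ ?_ ha
      · rintro _ ⟨r, hr, rfl⟩
        rw [algebraMap_smul]
        exact Submodule.smul_mem_smul hr trivial
      · simp
      · intro x y _ _ hx hy
        rw [add_smul]
        exact Submodule.add_mem _ hx hy
      · intro a x _ hx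
        rw [smul_eq_mul, mul_smul]
        have : (I • ⊤ : Submodule R N) ≤
            (I • ⊤ : Submodule R N).comap
              ((LinearMap.lsmul S N a).restrictScalars R) := by
          rw [Submodule.smul_le]
          intro r hr y _
          simp only [Submodule.mem_comap, LinearMap.coe_restrictScalars, LinearMap.lsmul_apply]
          rw [smul_comm]
          exact Submodule.smul_mem_smul hr trivial
        exact this hx
    exact h2 _ hf
  obtain ⟨n, s', ψ, hs', hψ⟩ := exists_comp_eq_smul I s φ (by
    intro p
    have h1 : s • p - φ p = e (s • i p - F (i p)) := by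
      simp only [φ, LinearMap.add_apply, LinearMap.sub_apply, LinearMap.id_apply,
        LinearMap.comp_apply, map_sub, LinearMap.smul_apply, map_smul]
      abel
    rw [h1]
    have : (I • ⊤ : Submodule R N) ≤
        (I • ⊤ : Submodule R P).comap e := by
      rw [Submodule.smul_le]
      intro r hr y _
      simp only [Submodule.mem_comap, map_smul]
      exact Submodule.smul_mem_smul hr trivial
    exact this (key _))
  refine ⟨n, s', hs', ?_⟩
  have hz' : φ.rTensor M (e.rTensor M z) = 0 := by
    have h1 : φ.rTensor M (e.rTensor M z) =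
        (s • e.rTensor M z - s • e.rTensor M ((i ∘ₗ e).rTensor M z)) +
          e.rTensor M (F.rTensor M ((i ∘ₗ e).rTensor M z)) := by
      have : φ ∘ₗ e = (s • e - s • (e ∘ₗ (i ∘ₗ e))) + e ∘ₗ F ∘ₗ (i ∘ₗ e) := by
        ext n
        simp [φ]
      rw [← LinearMap.comp_apply, ← LinearMap.rTensor_comp, this, LinearMap.rTensor_add,
        LinearMap.rTensor_sub, LinearMap.rTensor_smul, LinearMap.rTensor_smul]
      simp only [LinearMap.rTensor_comp, LinearMap.add_apply, LinearMap.sub_apply,
        LinearMap.comp_apply, LinearMap.smul_apply]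
    rw [h1, hz, hFz]
    simp
  have h0 : s' • e.rTensor M z = 0 := by
    have h1 : ψ.rTensor M (φ.rTensor M (e.rTensor M z)) = s' • e.rTensor M z := by
      rw [← LinearMap.comp_apply, ← LinearMap.rTensor_comp, hψ, LinearMap.rTensor_smul,
        LinearMap.rTensor_id]
      simp
    rw [← h1, hz', map_zero]
  rw [← hz, ← map_smul, LinearMap.rTensor_comp, LinearMap.comp_apply, map_smul, h0, map_zero]

/-- In a projective module every element of `N ⊗ M` is fixed by an endomorphism of `N` factoring
through a finite free module. -/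
theorem exists_fixed_of_projective {R : Type u} [CommRing R] {N : Type v} [AddCommGroup N]
    [Module R N] [Module.Projective R N] {M : Type w} [AddCommGroup M] [Module R M]
    (z : N ⊗[R] M) :
    ∃ (T : Finset N) (i : (T → R) →ₗ[R] N) (e : N →ₗ[R] (T → R)),
      (i ∘ₗ e).rTensor M z = z := by
  classical
  obtain ⟨σ, hσ⟩ := Module.projective_def'.mp (inferInstance : Module.Projective R N)
  -- the endomorphism attached to a finite set
  let π : Finset N → (N →ₗ[R] N) := fun T =>
    (∑ x : T, (LinearMap.toSpanSingleton R N (x : N)) ∘ₗ (LinearMap.proj x : (T → R) →ₗ[R] R)) ∘ₗ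
      (LinearMap.pi fun x : T => Finsupp.lapply (x : N) ∘ₗ σ)
  have hπ : ∀ (T : Finset N) (n : N), π T n = ∑ x ∈ T, (σ n x) • x := by
    intro T n
    simp only [π, LinearMap.comp_apply, LinearMap.sum_apply, LinearMap.proj_apply,
      LinearMap.pi_apply, Finsupp.lapply_apply, LinearMap.toSpanSingleton_apply]
    exact Finset.sum_coe_sort T (fun x => (σ n x) • x)
  have key : ∃ T : Finset N, ∀ T', T ⊆ T' → (π T').rTensor M z = z := by
    induction z using TensorProduct.induction_on with
    | zero => exact ⟨∅, fun _ _ => map_zero _⟩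
    | tmul n m =>
      refine ⟨(σ n).support, fun T' hT' => ?_⟩
      rw [LinearMap.rTensor_tmul, hπ]
      congr 1
      have h1 : n = Finsupp.linearCombination R id (σ n) := by
        rw [← LinearMap.comp_apply, hσ, LinearMap.id_apply]
      conv_rhs => rw [h1]
      rw [Finsupp.linearCombination_apply, Finsupp.sum]
      symm
      refine Finset.sum_subset hT' fun x _ hx => ?_
      rw [Finsupp.notMem_support_iff] at hx
      simp [hx]
    | add x y hx hy =>
      obtain ⟨T, hT⟩ := hx
      obtain ⟨T', hT'⟩ := hy
      refine ⟨T ∪ T', fun U hU => ?_⟩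
      rw [map_add, hT U (Finset.subset_union_left.trans hU),
        hT' U (Finset.subset_union_right.trans hU)]
  obtain ⟨T, hT⟩ := key
  exact ⟨T, _, _, hT T subset_rfl⟩

end Groth.Agent.Flat2A.LocalSummand2
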