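import Groth.Agent.Flat2A.FiberEquiv
import Groth.Agent.Flat2A.LocalSummand2

/-!
# Modules embedding universally into projective modules have no impurities (Stacks 05FV, 05L5)
-/

set_option autoImplicit false
set_option linter.style.haveILetI false

universe u v w

namespace Groth.Agent.Flat2A.ProjPure

open TensorProduct Flat2A.Fiber Flat2A.FiberAss Flat2A.FiberEquiv

variable {A B : Type u} [CommRing A] [CommRing B] [Algebra A B]

/-- The core statement: the annihilator of an element of `N ⊗ M` with `N` projective over `A` and
`M` without torsion with respect to the complement of the prime `t`. -/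
theorem disjoint_of_projective (t : Ideal A) [t.IsPrime]
    (N : Type u) [AddCommGroup N] [Module B N] [Module A N] [IsScalarTower A B N]
    [Module.Projective A N] (M : Type u) [AddCommGroup M] [Module A M]
    (hM : ∀ s : A, s ∉ t → Function.Injective (fun x : N ⊗[A] M => s • x))
    (z : N ⊗[A] M) (hz : z ≠ 0) (f : B) (hf : f • z = 0) (s : A) (hs : s ∉ t) :
    algebraMap A B s - f ∉ t.map (algebraMap A B) := by
  intro hmem
  obtain ⟨T, i, e, hie⟩ := LocalSummand2.exists_fixed_of_projective z
  obtain ⟨n, s', hs', h0⟩ := LocalSummand2.exists_smul_eq_zero t i e z hie f s hmem hf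
  have hs't : s' ∉ t := by
    intro h
    have h1 : s ^ n ∈ t := by
      have := t.sub_mem h hs'
      simpa using this
    exact hs (Ideal.IsPrime.mem_of_pow_mem ‹_› n h1)
  exact hz (hM s' hs't (by simpa using h0))

/-- Elements outside `t'` act injectively on `N ⊗ κ(t')`. -/
theorem smul_injective_residueField (t' : Ideal A) [t'.IsPrime]
    (N : Type u) [AddCommGroup N] [Module A N] (s : A) (hs : s ∉ t') :
    Function.Injective (fun x : N ⊗[A] t'.ResidueField => s • x) := by
  have hs0 : algebraMap A t'.ResidueField s ≠ 0 := by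
    intro h
    exact hs (by simpa using h)
  let L : N ⊗[A] t'.ResidueField →ₗ[A] N ⊗[A] t'.ResidueField :=
    ((LinearMap.mulLeft A ((algebraMap A t'.ResidueField s)⁻¹)).lTensor N)
  have hL : ∀ x : N ⊗[A] t'.ResidueField, L (s • x) = x := by
    intro x
    induction x using TensorProduct.induction_on with
    | zero => simp
    | tmul n c =>
      rw [← TensorProduct.tmul_smul, LinearMap.lTensor_tmul, LinearMap.mulLeft_apply,
        Algebra.smul_def, ← mul_assoc, inv_mul_cancel₀ hs0, one_mul]
    | add x y hx hy => rw [smul_add, map_add, hx, hy]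
  intro x y hxy
  have := congrArg L hxy
  simpa [hL] using this

/-- Let `φ : N → N'` be a `B`-linear map which stays injective after tensoring with `κ(t')`, `N'`
projective over `A`. If `P` over `t'` is a relative associated prime of `N`, then for every prime
`t ⊇ t'` there is a prime `P' ⊇ P` of `B` over `t`. -/
theorem exists_prime_over {N N' : Type u} [AddCommGroup N] [Module B N] [Module A N]
    [IsScalarTower A B N] [AddCommGroup N'] [Module B N'] [Module A N']
    [IsScalarTower A B N'] [Module.Projective A N'] (φ : N →ₗ[B] N')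
    (t' t : Ideal A) [t'.IsPrime] [t.IsPrime] (htt : t' ≤ t)
    (hφ : Function.Injective ((φ.restrictScalars A).rTensor t'.ResidueField))
    (P : Ideal B) [P.IsPrime] [P.LiesOver t']
    (h : FlatCA.fiberIdeal t' P ∈ associatedPrimes (t'.Fiber B) (FlatCA.fiberMod t' B N)) :
    ∃ P' : Ideal B, P'.IsPrime ∧ P ≤ P' ∧ P'.LiesOver t := by
  obtain ⟨z, hz⟩ := exists_radical_annihilator t' N P h
  set φ' := (φ.restrictScalars A).rTensor t'.ResidueField with hφ'
  have hlin : ∀ (b : B) (x : N ⊗[A] t'.ResidueField), φ' (b • x) = b • φ' x := by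
    intro b x
    induction x using TensorProduct.induction_on with
    | zero => simp
    | tmul n c => simp [hφ', TensorProduct.smul_tmul']
    | add x y hx hy => rw [smul_add, map_add, hx, hy, map_add, smul_add]
  have hz0 : z ≠ 0 := by
    intro h0
    apply (inferInstance : P.IsPrime).ne_top
    rw [Ideal.eq_top_iff_one, hz]
    exact ⟨0, by simp [h0]⟩
  have hφz0 : φ' z ≠ 0 := by
    intro h0
    exact hz0 (hφ (by rw [h0, map_zero]))
  -- the ideal `P + tB` does not meet the image of the complement of `t`
  have hdisj : Disjoint ((P ⊔ t.map (algebraMap A B) : Ideal B) : Set B)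
      (Algebra.algebraMapSubmonoid B t.primeCompl : Set B) := by
    rw [Set.disjoint_left]
    rintro _ hx ⟨s, hs, rfl⟩
    obtain ⟨f, hf, g, hg, hfg⟩ := Submodule.mem_sup.mp hx
    obtain ⟨n, hn⟩ := (hz f).mp hf
    have hs' : s ^ n ∉ t := fun h => hs (Ideal.IsPrime.mem_of_pow_mem ‹_› n h)
    refine disjoint_of_projective t N' t'.ResidueField
      (fun s hs => smul_injective_residueField t' N' s (fun h => hs (htt h)))
      (φ' z) hφz0 (f ^ n) ?_ (s ^ n) hs' ?_
    · rw [← hlin, hn, map_zero]
    · have h1 : algebraMap A B s - f ∣ algebraMap A B s ^ n - f ^ n :=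
        sub_dvd_pow_sub_pow _ _ n
      rw [map_pow]
      refine Ideal.mem_of_dvd _ h1 ?_
      have h2 : (algebraMap A B s : B) = f + g := hfg.symm
      rw [h2, add_sub_cancel_left]
      exact hg
  obtain ⟨P', hP', hle, hd⟩ := Ideal.exists_le_prime_disjoint _ _ hdisj
  refine ⟨P', hP', le_sup_left.trans hle, ⟨?_⟩⟩
  apply le_antisymm
  · intro a ha
    exact hle (le_sup_right (α := Ideal B) (Ideal.mem_map_of_mem _ ha))
  · intro a ha
    by_contra hat
    have ha' : algebraMap A B a ∈ (P' : Set B) := ha
    exact Set.disjoint_left.mp hd ha' ⟨a, hat, rfl⟩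

/-- Base change of modules along a pushout square of rings. -/
theorem isBaseChange_of_isPushout {A' B' : Type u} [CommRing A'] [CommRing B'] [Algebra A A']
    [Algebra B B'] [Algebra A' B'] [Algebra A B'] [IsScalarTower A B B'] [IsScalarTower A A' B']
    (hpush : Algebra.IsPushout A B A' B')
    {N N' : Type u} [AddCommGroup N] [Module B N] [Module A N] [IsScalarTower A B N]
    [AddCommGroup N'] [Module B' N'] [Module B N'] [IsScalarTower B B' N'] [Module A' N']
    [IsScalarTower A' B' N'] [Module A N'] [IsScalarTower A A' N'] [IsScalarTower A B N']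
    (f : N →ₗ[B] N') (hf : IsBaseChange B' f) :
    IsBaseChange A' (f.restrictScalars A) := by
  have : Algebra.IsPushout A A' B B' := hpush.symm
  let e : TensorProduct A A' N ≃ₗ[A'] N' :=
    (Algebra.IsPushout.cancelBaseChange A A' B B' N).symm ≪≫ₗ hf.equiv.restrictScalars A'
  refine IsBaseChange.of_equiv e fun x => ?_
  simp only [e, LinearEquiv.trans_apply, Algebra.IsPushout.cancelBaseChange_symm_tmul, map_one,
    LinearEquiv.restrictScalars_apply, IsBaseChange.equiv_tmul, one_smul,
    LinearMap.coe_restrictScalars]

/-- A `B`-module which is projective over `A` has no impurities. -/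
theorem isUnivPureAlong_of_projective (N : Type u) [AddCommGroup N] [Module B N] [Module A N]
    [IsScalarTower A B N] [Module.Projective A N] (p : Ideal A) [p.IsPrime] :
    FlatCA.IsUnivPureAlong A B N p := by
  intro A' B' N' _ _ _ _ _ _ _ _ _ _ _ _ _ _ f t' t _ _ P _ ⟨hpush, hf, htt, hover, hPover, hass, hno⟩
  -- `N'` is the base change of `N` along `A → A'`
  letI : Module A N' := Module.compHom N' (algebraMap A A')
  haveI : IsScalarTower A A' N' := ⟨fun a b n => by
    rw [Algebra.smul_def, mul_smul]; rfl⟩
  haveI hABN' : IsScalarTower A B N' := ⟨fun a b n => by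
    rw [Algebra.smul_def, mul_smul]
    change algebraMap A B a • b • n = algebraMap A A' a • b • n
    rw [← algebraMap_smul B' (algebraMap A B a), ← algebraMap_smul B' (algebraMap A A' a),
      ← IsScalarTower.algebraMap_apply, ← IsScalarTower.algebraMap_apply]⟩
  have hbc : IsBaseChange A' (f.restrictScalars A) := isBaseChange_of_isPushout hpush f hf
  haveI : Module.Projective A' N' := by
    exact Module.Projective.of_equiv hbc.equiv
  obtain ⟨P', hP', hle, hover'⟩ := exists_prime_over (LinearMap.id (R := B') (M := N')) t' t htt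
    (by
      have : (LinearMap.id (R := B') (M := N')).restrictScalars A' = LinearMap.id := rfl
      rw [this, LinearMap.rTensor_id]
      exact Function.injective_id) P hass
  exact hno P' hle hover'

end Groth.Agent.Flat2A.ProjPure
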