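import Groth.Agent.Flat2A.FiberAss
import Mathlib.RingTheory.Flat.Basic
import Mathlib.RingTheory.IsTensorProduct
import Mathlib.RingTheory.TensorProduct.Quotient
import Mathlib.RingTheory.Ideal.AssociatedPrime.Localization
import Mathlib.RingTheory.Flat.FaithfullyFlat.Algebra

set_option autoImplicit false
universe u

namespace Groth.Agent.Flat2A.AssBaseChange

open TensorProduct Flat2A.Fiber Flat2A.FiberAss

/-- Associated primes lift along flat base change. -/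
theorem exists_ass_of_flat {F₁ F₂ : Type u} [CommRing F₁] [CommRing F₂] [Algebra F₁ F₂] [Module.Flat F₁ F₂]
    [IsNoetherianRing F₁] [IsNoetherianRing F₂] {G₁ G₂ : Type u} [AddCommGroup G₁] [Module F₁ G₁]
    [AddCommGroup G₂] [Module F₂ G₂] [Module F₁ G₂] [IsScalarTower F₁ F₂ G₂] (g : G₁ →ₗ[F₁] G₂)
    (hg : IsBaseChange F₂ g) (Q₁ : Ideal F₁) (h : Q₁ ∈ associatedPrimes F₁ G₁)
    (hne : Q₁.map (algebraMap F₁ F₂) ≠ ⊤) :
    ∃ Q₂ ∈ associatedPrimes F₂ G₂, Q₂.comap (algebraMap F₁ F₂) = Q₁ := by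
  obtain ⟨hQ1, φ, hφ⟩ := (isAssociatedPrime_iff_exists_injective_linearMap Q₁ G₁).mp h
  -- the base change of `φ`
  let ψ : F₂ ⊗[F₁] (F₁ ⧸ Q₁) →ₗ[F₂] G₂ := hg.equiv.toLinearMap ∘ₗ φ.baseChange F₂
  have hψ : Function.Injective ψ := by
    apply hg.equiv.injective.comp
    exact Module.Flat.lTensor_preserves_injective_linearMap φ hφ
  have hnt : Nontrivial (F₂ ⊗[F₁] (F₁ ⧸ Q₁)) := by
    have e := Algebra.TensorProduct.quotIdealMapEquivTensorQuot F₂ Q₁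
    have : Nontrivial (F₂ ⧸ Q₁.map (algebraMap F₁ F₂)) := Ideal.Quotient.nontrivial_iff.mpr hne
    exact e.symm.toEquiv.nontrivial
  obtain ⟨Q₂, hQ₂⟩ := associatedPrimes.nonempty F₂ (F₂ ⊗[F₁] (F₁ ⧸ Q₁))
  refine ⟨Q₂, associatedPrimes.subset_of_injective hψ hQ₂, ?_⟩
  obtain ⟨hQ2p, z, hz⟩ := isAssociatedPrime_iff.mp hQ₂
  have key : ∀ (a : F₁) (w : F₂ ⊗[F₁] (F₁ ⧸ Q₁)), algebraMap F₁ F₂ a • w =
      LinearMap.lTensor F₂ (LinearMap.lsmul F₁ (F₁ ⧸ Q₁) a) w := by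
    intro a w
    induction w with
    | zero => simp
    | add x y hx hy => rw [smul_add, hx, hy, map_add]
    | tmul x y =>
      rw [LinearMap.lTensor_tmul, LinearMap.lsmul_apply, TensorProduct.smul_tmul', TensorProduct.tmul_smul,
        TensorProduct.smul_tmul', algebraMap_smul]
  apply le_antisymm
  · intro a ha
    by_contra ha'
    rw [Ideal.mem_comap, hz, Submodule.mem_colon_singleton, Submodule.mem_bot, key] at ha
    have hinj : Function.Injective (LinearMap.lsmul F₁ (F₁ ⧸ Q₁) a) := by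
      rw [← LinearMap.ker_eq_bot, LinearMap.ker_eq_bot']
      intro m hm
      obtain ⟨m, rfl⟩ := Ideal.Quotient.mk_surjective m
      rw [LinearMap.lsmul_apply, Algebra.smul_def, Ideal.Quotient.algebraMap_eq, ← map_mul,
        Ideal.Quotient.eq_zero_iff_mem] at hm
      rw [Ideal.Quotient.eq_zero_iff_mem]
      exact (hQ1.mem_or_mem hm).resolve_left ha'
    have h0 := Module.Flat.lTensor_preserves_injective_linearMap (M := F₂) _ hinj
    have hz0 : z = 0 := h0 (by rw [ha, map_zero])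
    apply hQ2p.ne_top
    rw [hz, hz0, Ideal.eq_top_iff_one, Submodule.mem_colon_singleton]
    simp
  · intro a ha
    rw [Ideal.mem_comap, hz, Submodule.mem_colon_singleton, Submodule.mem_bot, key]
    have : LinearMap.lsmul F₁ (F₁ ⧸ Q₁) a = 0 := by
      apply LinearMap.ext
      intro m
      obtain ⟨m, rfl⟩ := Ideal.Quotient.mk_surjective m
      rw [LinearMap.lsmul_apply, Algebra.smul_def, Ideal.Quotient.algebraMap_eq, ← map_mul,
        LinearMap.zero_apply, Ideal.Quotient.eq_zero_iff_mem]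
      exact Q₁.mul_mem_right _ ha
    rw [this]
    simp


/-- Associated primes contract along flat base change. -/
theorem comap_mem_ass_of_flat {F₁ F₂ : Type u} [CommRing F₁] [CommRing F₂] [Algebra F₁ F₂] [Module.Flat F₁ F₂]
    [IsNoetherianRing F₁] [IsNoetherianRing F₂] {G₁ G₂ : Type u} [AddCommGroup G₁] [Module F₁ G₁]
    [AddCommGroup G₂] [Module F₂ G₂] [Module F₁ G₂] [IsScalarTower F₁ F₂ G₂] (g : G₁ →ₗ[F₁] G₂)
    (hg : IsBaseChange F₂ g) (Q₂ : Ideal F₂) (h : Q₂ ∈ associatedPrimes F₂ G₂) :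
    Q₂.comap (algebraMap F₁ F₂) ∈ associatedPrimes F₁ G₁ := by
  obtain ⟨hQ2p, z, hz⟩ := isAssociatedPrime_iff.mp h
  -- `z` comes from a finitely generated submodule
  obtain ⟨K, hK, z', hz'⟩ : ∃ (K : Submodule F₁ G₁), K.FG ∧ ∃ z' : F₂ ⊗[F₁] K,
      (K.subtype.baseChange F₂ z') = hg.equiv.symm z := by
    generalize hg.equiv.symm z = w
    induction w with
    | zero => exact ⟨⊥, Submodule.fg_bot, 0, by simp⟩
    | tmul x y =>
      refine ⟨Submodule.span F₁ {y}, Submodule.fg_span_singleton y, x ⊗ₜ ⟨y, Submodule.mem_span_singleton_self y⟩, ?_⟩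
      simp
    | add x y hx hy =>
      obtain ⟨K, hK, z, hz⟩ := hx
      obtain ⟨L, hL, w, hw⟩ := hy
      refine ⟨K ⊔ L, hK.sup hL, (Submodule.inclusion le_sup_left).baseChange F₂ z +
        (Submodule.inclusion le_sup_right).baseChange F₂ w, ?_⟩
      rw [map_add, ← LinearMap.comp_apply, ← LinearMap.comp_apply, ← LinearMap.baseChange_comp, ← LinearMap.baseChange_comp,
        Submodule.subtype_comp_inclusion, Submodule.subtype_comp_inclusion, hz, hw]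
  have hfin : Module.Finite F₁ K := Module.Finite.iff_fg.mpr hK
  by_contra hcon
  set Q₁ := Q₂.comap (algebraMap F₁ F₂) with hQ₁
  have hQ1p : Q₁.IsPrime := inferInstance
  have hconK : Q₁ ∉ associatedPrimes F₁ K := fun h' =>
    hcon (associatedPrimes.subset_of_injective K.injective_subtype h')
  -- prime avoidance
  have hAssfin : (associatedPrimes F₁ K).Finite := associatedPrimes.finite F₁ K
  obtain ⟨a, ha, ha'⟩ : ∃ a ∈ Q₁, ∀ p ∈ associatedPrimes F₁ K, p ≤ Q₁ → a ∉ p := by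
    by_contra hall
    push Not at hall
    classical
    have hsub : (Q₁ : Set F₁) ⊆ ⋃ p ∈ (hAssfin.toFinset.filter (fun p => p ≤ Q₁)), (p : Set F₁) := by
      intro a ha
      obtain ⟨p, hp, hpQ, hap⟩ := hall a ha
      simp only [Set.mem_iUnion, Finset.mem_filter, Set.Finite.mem_toFinset]
      exact ⟨p, ⟨hp, hpQ⟩, hap⟩
    have hprime : ∀ p ∈ (hAssfin.toFinset.filter (fun p => p ≤ Q₁)), p ≠ ⊥ → p ≠ ⊥ → p.IsPrime := by
      intro p hp _ _
      simp only [Finset.mem_filter, Set.Finite.mem_toFinset] at hp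
      exact hp.1.1
    obtain ⟨p, hp, hle⟩ := (Ideal.subset_union_prime (s := hAssfin.toFinset.filter (fun p => p ≤ Q₁))
      (f := fun p => p) ⊥ ⊥ hprime).mp hsub
    · simp only [Finset.mem_filter, Set.Finite.mem_toFinset] at hp
      have : p = Q₁ := le_antisymm hp.2 hle
      exact hconK (this ▸ hp.1)
  -- kernel of multiplication by `a`
  let μ : K →ₗ[F₁] K := LinearMap.lsmul F₁ K a
  let L : Submodule F₁ K := LinearMap.ker μ
  have hLann : ¬ Module.annihilator F₁ L ≤ Q₁ := by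
    intro hle
    obtain ⟨p, hp, hpQ⟩ := Ideal.exists_minimalPrimes_le hle
    have hpass : p ∈ associatedPrimes F₁ L := Module.associatedPrimes.minimalPrimes_annihilator_subset_associatedPrimes F₁ L hp
    have hpK : p ∈ associatedPrimes F₁ K := associatedPrimes.subset_of_injective L.injective_subtype hpass
    refine ha' p hpK hpQ ?_
    apply hp.1.2
    rw [Module.mem_annihilator]
    intro m
    exact Subtype.ext m.2
  obtain ⟨s, hs, hsQ⟩ := Set.not_subset.mp hLann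
  have hinj : Function.Injective (hg.equiv.toLinearMap ∘ₗ K.subtype.baseChange F₂) := by
    apply hg.equiv.injective.comp
    exact Module.Flat.lTensor_preserves_injective_linearMap K.subtype K.injective_subtype
  have haz : algebraMap F₁ F₂ a • z = 0 := by
    have : algebraMap F₁ F₂ a ∈ Q₂ := ha
    rw [hz, Submodule.mem_colon_singleton, Submodule.mem_bot] at this
    exact this
  have hzz : (hg.equiv.toLinearMap ∘ₗ K.subtype.baseChange F₂) z' = z := by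
    rw [LinearMap.comp_apply, hz']
    exact hg.equiv.apply_symm_apply z
  have key : ∀ (b : F₁) (w : F₂ ⊗[F₁] K), algebraMap F₁ F₂ b • w =
      LinearMap.lTensor F₂ (LinearMap.lsmul F₁ K b) w := by
    intro b w
    induction w with
    | zero => simp
    | add x y hx hy => rw [smul_add, hx, hy, map_add]
    | tmul x y =>
      rw [LinearMap.lTensor_tmul, LinearMap.lsmul_apply, TensorProduct.smul_tmul', TensorProduct.tmul_smul,
        TensorProduct.smul_tmul', algebraMap_smul]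
  have haz' : LinearMap.lTensor F₂ μ z' = 0 := by
    rw [← key]
    apply hinj
    rw [map_smul, hzz, haz, map_zero]
  have hex : Function.Exact (LinearMap.lTensor F₂ L.subtype) (LinearMap.lTensor F₂ μ) :=
    Module.Flat.lTensor_exact F₂ (LinearMap.exact_subtype_ker_map μ)
  obtain ⟨y, hy⟩ := (hex z').mp haz'
  have hsz : algebraMap F₁ F₂ s • z = 0 := by
    rw [← hzz, ← map_smul, key, ← hy, ← LinearMap.comp_apply, ← LinearMap.lTensor_comp]
    have : LinearMap.lsmul F₁ K s ∘ₗ L.subtype = 0 := by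
      apply LinearMap.ext
      intro m
      have := Module.mem_annihilator.mp hs m
      exact congrArg (L.subtype) this
    rw [this]
    simp
  apply hsQ
  change algebraMap F₁ F₂ s ∈ Q₂
  rw [hz, Submodule.mem_colon_singleton, Submodule.mem_bot]
  exact hsz


section abstr

variable {B₁ B₂ F₁ F₂ : Type u} [CommRing B₁] [CommRing B₂] [CommRing F₁] [CommRing F₂]
  [Algebra B₁ B₂] [Algebra B₁ F₁] [Algebra F₁ F₂] [Algebra B₂ F₂] [Algebra B₁ F₂]
  [IsScalarTower B₁ B₂ F₂] [IsScalarTower B₁ F₁ F₂]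
  {N₁ N₂ G₁ G₂ : Type u} [AddCommGroup N₁] [AddCommGroup N₂] [AddCommGroup G₁] [AddCommGroup G₂]
  [Module B₁ N₁] [Module B₁ N₂] [Module B₂ N₂] [IsScalarTower B₁ B₂ N₂]
  [Module B₁ G₁] [Module F₁ G₁] [IsScalarTower B₁ F₁ G₁]
  [Module B₁ G₂] [Module F₁ G₂] [Module B₂ G₂] [Module F₂ G₂]
  [IsScalarTower B₁ B₂ G₂] [IsScalarTower B₁ F₁ G₂] [IsScalarTower B₂ F₂ G₂] [IsScalarTower F₁ F₂ G₂]
  [IsScalarTower B₁ F₂ G₂]
  {f : N₁ →ₗ[B₁] N₂} (hf : IsBaseChange B₂ f) {u₁ : N₁ →ₗ[B₁] G₁} (hu₁ : IsBaseChange F₁ u₁)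
  {u₂ : N₂ →ₗ[B₂] G₂} (hu₂ : IsBaseChange F₂ u₂)

include hf hu₁ hu₂

theorem exists_isBaseChange_square : ∃ g : G₁ →ₗ[F₁] G₂, IsBaseChange F₂ g := by
  have hc : IsBaseChange F₂ ((u₂.restrictScalars B₁) ∘ₗ f) := IsBaseChange.comp hf hu₂
  let g : G₁ →ₗ[F₁] G₂ := hu₁.lift ((u₂.restrictScalars B₁) ∘ₗ f)
  refine ⟨g, ?_⟩
  rw [← hu₁.comp_iff, IsBaseChange.lift_comp]
  exact hc

theorem ass_lift_abstract [Module.FaithfullyFlat F₁ F₂] [IsNoetherianRing F₁] [IsNoetherianRing F₂]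
    (Q₁ : Ideal F₁) (h : Q₁ ∈ associatedPrimes F₁ G₁) :
    ∃ Q₂ ∈ associatedPrimes F₂ G₂, Q₂.comap (algebraMap F₁ F₂) = Q₁ := by
  obtain ⟨g, hg⟩ := exists_isBaseChange_square hf hu₁ hu₂
  refine exists_ass_of_flat g hg Q₁ h ?_
  intro htop
  apply h.1.ne_top
  rw [← Ideal.comap_map_eq_self_of_faithfullyFlat (B := F₂) Q₁, htop, Ideal.comap_top]

theorem ass_comap_abstract [Module.Flat F₁ F₂] [IsNoetherianRing F₁] [IsNoetherianRing F₂]
    (Q₂ : Ideal F₂) (h : Q₂ ∈ associatedPrimes F₂ G₂) :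
    Q₂.comap (algebraMap F₁ F₂) ∈ associatedPrimes F₁ G₁ := by
  obtain ⟨g, hg⟩ := exists_isBaseChange_square hf hu₁ hu₂
  exact comap_mem_ass_of_flat g hg Q₂ h

end abstr

section fiber

variable {A₁ A₂ : Type u} (B₁ B₂ : Type u) [CommRing A₁] [CommRing A₂] [CommRing B₁] [CommRing B₂]
  [Algebra A₁ A₂] [Algebra A₁ B₁] [Algebra A₂ B₂] [Algebra B₁ B₂] [Algebra A₁ B₂]
  [IsScalarTower A₁ A₂ B₂] [IsScalarTower A₁ B₁ B₂]
  (t₁ : Ideal A₁) (t₂ : Ideal A₂) [t₁.IsPrime] [t₂.IsPrime] [ht : t₂.LiesOver t₁]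

/-- the map of fibre rings attached to a commutative square of rings -/
noncomputable def fiberMap : t₁.Fiber B₁ →ₐ[A₁] t₂.Fiber B₂ :=
  Algebra.TensorProduct.lift
    ((IsScalarTower.toAlgHom A₁ t₂.ResidueField (t₂.Fiber B₂)).comp
      (Ideal.ResidueField.mapₐ t₁ t₂ (Algebra.ofId A₁ A₂) ht.over))
    (((Algebra.TensorProduct.includeRight (R := A₂) (A := t₂.ResidueField) (B := B₂)).restrictScalars A₁).comp
      (IsScalarTower.toAlgHom A₁ B₁ B₂)) (fun _ _ => Commute.all _ _)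


theorem fiberMap_one_tmul (b : B₁) : fiberMap B₁ B₂ t₁ t₂ ((1 : t₁.ResidueField) ⊗ₜ[A₁] b) =
    (1 : t₂.ResidueField) ⊗ₜ[A₂] algebraMap B₁ B₂ b := by
  simp [fiberMap]

theorem fiberMap_comp_toFiber : ((fiberMap B₁ B₂ t₁ t₂).toRingHom).comp (toFiber t₁ B₁) =
    (toFiber t₂ B₂).comp (algebraMap B₁ B₂) := by
  ext b
  exact fiberMap_one_tmul B₁ B₂ t₁ t₂ b

theorem fiberMap_smul (k : t₁.ResidueField) (x : t₁.Fiber B₁) : fiberMap B₁ B₂ t₁ t₂ (k • x) =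
    (Ideal.ResidueField.mapₐ t₁ t₂ (Algebra.ofId A₁ A₂) ht.over k) • fiberMap B₁ B₂ t₁ t₂ x := by
  rw [Algebra.smul_def, map_mul, Algebra.smul_def]
  congr 1
  simp [fiberMap]

attribute [local instance] Algebra.TensorProduct.rightAlgebra in
theorem fiberMap_faithfullyFlat [Algebra.IsPushout A₁ B₁ A₂ B₂] :
    (fiberMap B₁ B₂ t₁ t₂).toRingHom.FaithfullyFlat := by
  letI : Algebra (t₁.Fiber B₁) (t₂.Fiber B₂) := (fiberMap B₁ B₂ t₁ t₂).toRingHom.toAlgebra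
  letI : Algebra t₁.ResidueField t₂.ResidueField :=
    (Ideal.ResidueField.mapₐ t₁ t₂ (Algebra.ofId A₁ A₂) ht.over).toRingHom.toAlgebra
  letI : Algebra B₁ (t₂.Fiber B₂) := Algebra.compHom _ (algebraMap B₁ B₂)
  haveI : IsScalarTower A₁ t₁.ResidueField t₂.ResidueField := IsScalarTower.of_algebraMap_eq' (by
    exact ((Ideal.ResidueField.mapₐ t₁ t₂ (Algebra.ofId A₁ A₂) ht.over).comp_algebraMap).symm)
  haveI : IsScalarTower t₁.ResidueField t₂.ResidueField (t₂.Fiber B₂) := inferInstance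
  haveI : IsScalarTower B₁ B₂ (t₂.Fiber B₂) := IsScalarTower.of_algebraMap_eq' rfl
  haveI : IsScalarTower B₁ (t₁.Fiber B₁) (t₂.Fiber B₂) := IsScalarTower.of_algebraMap_eq' (by
    exact (fiberMap_comp_toFiber B₁ B₂ t₁ t₂).symm)
  haveI : IsScalarTower t₁.ResidueField (t₁.Fiber B₁) (t₂.Fiber B₂) := by
    constructor
    intro k x z
    rw [Algebra.smul_def (R := t₁.Fiber B₁) (A := t₂.Fiber B₂) (k • x), Algebra.smul_def (R := t₁.Fiber B₁) (A := t₂.Fiber B₂) x, ← smul_mul_assoc]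
    congr 1
    have := fiberMap_smul B₁ B₂ t₁ t₂ k x
    refine this.trans ?_
    change (algebraMap t₁.ResidueField t₂.ResidueField k) • (fiberMap B₁ B₂ t₁ t₂ x) = _
    rw [algebraMap_smul]
    rfl
  haveI : IsScalarTower A₁ t₂.ResidueField (t₂.Fiber B₂) := inferInstance
  haveI : IsScalarTower A₁ B₂ (t₂.Fiber B₂) := by
    refine IsScalarTower.of_algebraMap_eq' ?_
    rw [IsScalarTower.algebraMap_eq A₁ A₂ B₂, ← RingHom.comp_assoc, ← IsScalarTower.algebraMap_eq A₂ B₂ (t₂.Fiber B₂),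
      ← IsScalarTower.algebraMap_eq]
  haveI : IsScalarTower A₁ B₁ (t₂.Fiber B₂) := by
    refine IsScalarTower.of_algebraMap_eq' ?_
    rw [IsScalarTower.algebraMap_eq A₁ B₂ (t₂.Fiber B₂), IsScalarTower.algebraMap_eq A₁ B₁ B₂, ← RingHom.comp_assoc]
    rfl
  haveI : IsScalarTower A₁ (t₁.Fiber B₁) (t₂.Fiber B₂) := by
    constructor
    intro a x z
    change fiberMap B₁ B₂ t₁ t₂ (a • x) * z = a • (fiberMap B₁ B₂ t₁ t₂ x * z)
    rw [map_smul, smul_mul_assoc]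
  -- the big rectangle
  have hrect : Algebra.IsPushout A₁ t₂.ResidueField B₁ (t₂.Fiber B₂) := by
    have hl : Algebra.IsPushout A₁ A₂ B₁ B₂ := Algebra.IsPushout.symm inferInstance
    rw [Algebra.IsPushout.comp_iff A₁ A₂ B₁ (S' := B₂) (T := t₂.ResidueField) (T' := t₂.Fiber B₂)]
    infer_instance
  have hr : Algebra.IsPushout t₁.ResidueField t₂.ResidueField (t₁.Fiber B₁) (t₂.Fiber B₂) := by
    rw [← Algebra.IsPushout.comp_iff A₁ t₁.ResidueField B₁ (S' := t₁.Fiber B₁) (T := t₂.ResidueField) (T' := t₂.Fiber B₂)]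
    exact hrect
  have hr' : IsBaseChange (t₁.Fiber B₁) (IsScalarTower.toAlgHom t₁.ResidueField t₂.ResidueField (t₂.Fiber B₂)).toLinearMap :=
    (Algebra.IsPushout.symm hr).out
  have : Module.FaithfullyFlat (t₁.Fiber B₁) (t₂.Fiber B₂) := Module.FaithfullyFlat.of_linearEquiv _ _ hr'.equiv.symm
  exact this


variable {B₁ B₂} {N₁ N₂ : Type u} [AddCommGroup N₁] [AddCommGroup N₂] [Module B₁ N₁] [Module A₁ N₁] [IsScalarTower A₁ B₁ N₁]
  [Module B₂ N₂] [Module A₂ N₂] [IsScalarTower A₂ B₂ N₂] [Module B₁ N₂] [IsScalarTower B₁ B₂ N₂]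
  [Algebra.IsPushout A₁ B₁ A₂ B₂] [IsNoetherianRing (t₁.Fiber B₁)] [IsNoetherianRing (t₂.Fiber B₂)]
  (f : N₁ →ₗ[B₁] N₂) (hf : IsBaseChange B₂ f)

include hf

attribute [local instance] Algebra.TensorProduct.rightAlgebra in
theorem ass_fiber_lift (Q₁ : Ideal (t₁.Fiber B₁)) (h : Q₁ ∈ associatedPrimes (t₁.Fiber B₁) (FlatCA.fiberMod t₁ B₁ N₁)) :
    ∃ Q₂ ∈ associatedPrimes (t₂.Fiber B₂) (FlatCA.fiberMod t₂ B₂ N₂),
      Q₂.comap (fiberMap B₁ B₂ t₁ t₂).toRingHom = Q₁ := by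
  let G₁ : Type u := (t₁.Fiber B₁) ⊗[B₁] N₁
  let G₂ : Type u := (t₂.Fiber B₂) ⊗[B₂] N₂
  let u₁ : N₁ →ₗ[B₁] G₁ := TensorProduct.mk B₁ (t₁.Fiber B₁) N₁ 1
  let u₂ : N₂ →ₗ[B₂] G₂ := TensorProduct.mk B₂ (t₂.Fiber B₂) N₂ 1
  have hu₁ : IsBaseChange (t₁.Fiber B₁) u₁ := TensorProduct.isBaseChange _ _ _
  have hu₂ : IsBaseChange (t₂.Fiber B₂) u₂ := TensorProduct.isBaseChange _ _ _
  let _ : Algebra (t₁.Fiber B₁) (t₂.Fiber B₂) := (fiberMap B₁ B₂ t₁ t₂).toRingHom.toAlgebra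
  let _ : Algebra B₁ (t₂.Fiber B₂) := Algebra.compHom _ (algebraMap B₁ B₂)
  have : IsScalarTower B₁ B₂ (t₂.Fiber B₂) := IsScalarTower.of_algebraMap_eq' rfl
  have : IsScalarTower B₁ (t₁.Fiber B₁) (t₂.Fiber B₂) := IsScalarTower.of_algebraMap_eq' (by
    exact (fiberMap_comp_toFiber B₁ B₂ t₁ t₂).symm)
  have : IsScalarTower B₁ B₂ G₂ := inferInstance
  have : IsScalarTower (t₁.Fiber B₁) (t₂.Fiber B₂) G₂ := inferInstance
  have : IsScalarTower B₁ (t₂.Fiber B₂) G₂ := inferInstance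
  have : IsScalarTower B₁ (t₁.Fiber B₁) G₂ := inferInstance
  have : Module.FaithfullyFlat (t₁.Fiber B₁) (t₂.Fiber B₂) := fiberMap_faithfullyFlat B₁ B₂ t₁ t₂
  exact ass_lift_abstract hf hu₁ hu₂ Q₁ h

attribute [local instance] Algebra.TensorProduct.rightAlgebra in
theorem ass_fiber_comap (Q₂ : Ideal (t₂.Fiber B₂)) (h : Q₂ ∈ associatedPrimes (t₂.Fiber B₂) (FlatCA.fiberMod t₂ B₂ N₂)) :
    Q₂.comap (fiberMap B₁ B₂ t₁ t₂).toRingHom ∈ associatedPrimes (t₁.Fiber B₁) (FlatCA.fiberMod t₁ B₁ N₁) := by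
  let G₁ : Type u := (t₁.Fiber B₁) ⊗[B₁] N₁
  let G₂ : Type u := (t₂.Fiber B₂) ⊗[B₂] N₂
  let u₁ : N₁ →ₗ[B₁] G₁ := TensorProduct.mk B₁ (t₁.Fiber B₁) N₁ 1
  let u₂ : N₂ →ₗ[B₂] G₂ := TensorProduct.mk B₂ (t₂.Fiber B₂) N₂ 1
  have hu₁ : IsBaseChange (t₁.Fiber B₁) u₁ := TensorProduct.isBaseChange _ _ _
  have hu₂ : IsBaseChange (t₂.Fiber B₂) u₂ := TensorProduct.isBaseChange _ _ _
  let _ : Algebra (t₁.Fiber B₁) (t₂.Fiber B₂) := (fiberMap B₁ B₂ t₁ t₂).toRingHom.toAlgebra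
  let _ : Algebra B₁ (t₂.Fiber B₂) := Algebra.compHom _ (algebraMap B₁ B₂)
  have : IsScalarTower B₁ B₂ (t₂.Fiber B₂) := IsScalarTower.of_algebraMap_eq' rfl
  have : IsScalarTower B₁ (t₁.Fiber B₁) (t₂.Fiber B₂) := IsScalarTower.of_algebraMap_eq' (by
    exact (fiberMap_comp_toFiber B₁ B₂ t₁ t₂).symm)
  have : IsScalarTower B₁ B₂ G₂ := inferInstance
  have : IsScalarTower (t₁.Fiber B₁) (t₂.Fiber B₂) G₂ := inferInstance
  have : IsScalarTower B₁ (t₂.Fiber B₂) G₂ := inferInstance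
  have : IsScalarTower B₁ (t₁.Fiber B₁) G₂ := inferInstance
  have : Module.FaithfullyFlat (t₁.Fiber B₁) (t₂.Fiber B₂) := fiberMap_faithfullyFlat B₁ B₂ t₁ t₂
  exact ass_comap_abstract hf hu₁ hu₂ Q₂ h

/-- Associated primes of fibre modules lift along base change. -/
theorem exists_mem_ass_fiberMod (P₁ : Ideal B₁) (h : P₁ ∈ associatedPrimes B₁ (FlatCA.fiberMod t₁ B₁ N₁)) :
    ∃ P₂ ∈ associatedPrimes B₂ (FlatCA.fiberMod t₂ B₂ N₂), P₂.comap (algebraMap B₁ B₂) = P₁ := by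
  obtain ⟨hP, hover, hQ⟩ := (mem_associatedPrimes_fiberMod_iff t₁ N₁ P₁).mp h
  obtain ⟨Q₂, hQ₂, hQ₂'⟩ := ass_fiber_lift t₁ t₂ f hf _ hQ
  have hprime : Q₂.IsPrime := hQ₂.1
  refine ⟨Q₂.comap (toFiber t₂ B₂), ?_, ?_⟩
  · rw [mem_associatedPrimes_fiberMod_iff]
    refine ⟨inferInstance, liesOver_of_comap t₂ Q₂ hprime.ne_top, ?_⟩
    have := fiberIdeal_comap t₂ Q₂
    rw [this]
    exact hQ₂
  · rw [Ideal.comap_comap, ← fiberMap_comp_toFiber B₁ B₂ t₁ t₂, ← Ideal.comap_comap, hQ₂']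
    exact comap_fiberIdeal t₁ P₁

/-- Associated primes of fibre modules contract along base change. -/
theorem comap_mem_ass_fiberMod (P₂ : Ideal B₂) (h : P₂ ∈ associatedPrimes B₂ (FlatCA.fiberMod t₂ B₂ N₂)) :
    P₂.comap (algebraMap B₁ B₂) ∈ associatedPrimes B₁ (FlatCA.fiberMod t₁ B₁ N₁) := by
  obtain ⟨hP, hover, hQ⟩ := (mem_associatedPrimes_fiberMod_iff t₂ N₂ P₂).mp h
  have h1 := ass_fiber_comap t₁ t₂ f hf _ hQ
  have hprime := h1.1
  have h2 : (P₂.comap (algebraMap B₁ B₂)) =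
      ((FlatCA.fiberIdeal t₂ P₂).comap (fiberMap B₁ B₂ t₁ t₂).toRingHom).comap (toFiber t₁ B₁) := by
    rw [Ideal.comap_comap, fiberMap_comp_toFiber B₁ B₂ t₁ t₂, ← Ideal.comap_comap]
    congr 1
    exact (comap_fiberIdeal t₂ P₂).symm
  rw [h2, mem_associatedPrimes_fiberMod_iff]
  refine ⟨inferInstance, liesOver_of_comap t₁ _ hprime.ne_top, ?_⟩
  have := fiberIdeal_comap t₁ ((FlatCA.fiberIdeal t₂ P₂).comap (fiberMap B₁ B₂ t₁ t₂).toRingHom)
  rw [this]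
  exact h1

end fiber

end Groth.Agent.Flat2A.AssBaseChange
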