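import Groth.Agent.Flat2A.FiberEquiv
import Mathlib.RingTheory.Ideal.AssociatedPrime.Finiteness
import Mathlib.RingTheory.Flat.Basic

/-!
# Associated primes of `N ⊗_R Q` for `N` flat over a Noetherian ring `R` (Stacks 0312)
-/

set_option autoImplicit false
universe u

namespace Groth.Agent.Flat2A.AssFlat

open TensorProduct

variable {R S : Type u} [CommRing R] [CommRing S] [Algebra R S]
  (N : Type u) [AddCommGroup N] [Module S N] [Module R N] [IsScalarTower R S N]

/-- An associated prime of `N ⊗_R Q`, `N` flat over `R` Noetherian and `Q` a finite `R`-module, is an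
associated prime of some fibre module of `N`. -/
theorem exists_mem_fiberMod [IsNoetherianRing R] [Module.Flat R N]
    (Q : Type u) [AddCommGroup Q] [Module R Q] (hQ : Module.Finite R Q) (q : Ideal S)
    (hq : q ∈ associatedPrimes S (N ⊗[R] Q)) :
    ∃ (p : Ideal R) (_ : p.IsPrime), q ∈ associatedPrimes S (FlatCA.fiberMod p S N) := by
  revert q
  induction hQ using IsNoetherianRing.induction_on_isQuotientEquivQuotientPrime R with
  | subsingleton Q =>
    intro q hq
    have : Subsingleton (N ⊗[R] Q) := inferInstance
    rw [associatedPrimes.eq_empty_of_subsingleton] at hq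
    exact absurd hq (Set.notMem_empty q)
  | quotient Q p e =>
    intro q hq
    have hp : p.1.IsPrime := p.2
    refine ⟨p.1, p.2, ?_⟩
    let g : (R ⧸ p.1) →ₗ[R] p.1.ResidueField :=
      (IsScalarTower.toAlgHom R (R ⧸ p.1) p.1.ResidueField).toLinearMap
    have hg : Function.Injective g := Ideal.injective_algebraMap_quotient_residueField p.1
    have h1 : Function.Injective (TensorProduct.AlgebraTensorModule.lTensor S N
        (g ∘ₗ e.toLinearMap)) :=
      Module.Flat.lTensor_preserves_injective_linearMap (M := N) (g ∘ₗ e.toLinearMap)
        (hg.comp e.injective)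
    have h2 := associatedPrimes.subset_of_injective h1 hq
    rwa [LinearEquiv.AssociatedPrimes.eq (FiberEquiv.fiberModEquiv S p.1 N)]
  | exact Q₁ Q₂ Q₃ f g hf _ hfg h₁ h₃ =>
    intro q hq
    have h1 : Function.Injective (TensorProduct.AlgebraTensorModule.lTensor S N f) :=
      Module.Flat.lTensor_preserves_injective_linearMap (M := N) f hf
    have h2 : Function.Exact (TensorProduct.AlgebraTensorModule.lTensor S N f)
        (TensorProduct.AlgebraTensorModule.lTensor S N g) :=
      Module.Flat.lTensor_exact N hfg
    rcases associatedPrimes.subset_union_of_exact h1 h2 hq with h | h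
    · exact h₁ q h
    · exact h₃ q h

end Groth.Agent.Flat2A.AssFlat
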