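import Groth.Agent.Flat2A.FiberEquiv
import Mathlib.RingTheory.Ideal.AssociatedPrime.Finiteness
import Mathlib.RingTheory.TensorProduct.DirectLimitFG

/-!
# Associated primes of `N ⊗ Q` for `N` flat over a Noetherian ring

If `N` is an `S`-module flat over the Noetherian ring `R` and `Q` is an `R`-module, then every associated prime `q` of the
`S`-module `N ⊗ Q` is an associated prime of the fibre module of `N` over `q ∩ R`.
-/

set_option autoImplicit false

universe u

namespace Groth.Agent.Flat2A.AssTensorNoeth

open TensorProduct Flat2A.Fiber Flat2A.FiberAss Flat2A.FiberEquiv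

variable {R S : Type u} [CommRing R] [CommRing S] [Algebra R S]
  (N : Type u) [AddCommGroup N] [Module S N] [Module R N] [IsScalarTower R S N]

/-- The associated primes of `N ⊗ κ(p)`. -/
theorem mem_ass_tensor_residueField (p : Ideal R) [p.IsPrime] (q : Ideal S)
    (hq : q ∈ associatedPrimes S (N ⊗[R] p.ResidueField)) :
    q.IsPrime ∧ q.LiesOver p ∧ FlatCA.fiberIdeal p q ∈ associatedPrimes (p.Fiber S) (FlatCA.fiberMod p S N) := by
  rw [← mem_associatedPrimes_fiberMod_iff p N q]
  exact associatedPrimes.subset_of_injective (fiberModEquiv S p N).symm.injective hq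

theorem mem_ass_tensor_quotient [Module.Flat R N] (p : Ideal R) [p.IsPrime] (q : Ideal S)
    (hq : q ∈ associatedPrimes S (N ⊗[R] (R ⧸ p))) :
    q.IsPrime ∧ q.LiesOver p ∧ FlatCA.fiberIdeal p q ∈ associatedPrimes (p.Fiber S) (FlatCA.fiberMod p S N) := by
  let j : (R ⧸ p) →ₗ[R] p.ResidueField := (IsScalarTower.toAlgHom R (R ⧸ p) p.ResidueField).toLinearMap
  have hj : Function.Injective j := p.injective_algebraMap_quotient_residueField
  have hj' : Function.Injective (TensorProduct.AlgebraTensorModule.lTensor S N j) :=
    Module.Flat.lTensor_preserves_injective_linearMap (M := N) j hj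
  exact mem_ass_tensor_residueField N p q (associatedPrimes.subset_of_injective hj' hq)

/-- For `N` flat over a Noetherian ring and `Q` finite, the associated primes of `N ⊗ Q` are associated primes
of fibres. -/
theorem mem_ass_tensor_of_finite [IsNoetherianRing R] [Module.Flat R N] (Q : Type u) [AddCommGroup Q] [Module R Q]
    (hQ : Module.Finite R Q) (q : Ideal S) (hq : q ∈ associatedPrimes S (N ⊗[R] Q)) :
    ∃ (p : Ideal R) (_ : p.IsPrime) (_ : q.IsPrime) (_ : q.LiesOver p),
      FlatCA.fiberIdeal p q ∈ associatedPrimes (p.Fiber S) (FlatCA.fiberMod p S N) := by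
  revert hq
  induction hQ using IsNoetherianRing.induction_on_isQuotientEquivQuotientPrime R with
  | subsingleton Q =>
    intro hq
    have : Subsingleton (N ⊗[R] Q) := by
      refine ⟨fun x y => ?_⟩
      have h0 : ∀ z : N ⊗[R] Q, z = 0 := by
        intro z
        induction z using TensorProduct.induction_on with
        | zero => rfl
        | tmul n q => rw [Subsingleton.elim q 0, tmul_zero]
        | add x y hx hy => rw [hx, hy, add_zero]
      rw [h0 x, h0 y]
    rw [associatedPrimes.eq_empty_of_subsingleton] at hq
    exact hq.elim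
  | quotient Q p e =>
    intro hq
    have h1 : q ∈ associatedPrimes S (N ⊗[R] (R ⧸ p.asIdeal)) := by
      refine associatedPrimes.subset_of_injective (f := TensorProduct.AlgebraTensorModule.lTensor S N e.toLinearMap) ?_ hq
      exact (LinearEquiv.lTensor N e).injective
    obtain ⟨h2, h3, h4⟩ := mem_ass_tensor_quotient N p.asIdeal q h1
    exact ⟨p.asIdeal, p.isPrime, h2, h3, h4⟩
  | exact Q₁ Q₂ Q₃ f g hf hg hfg h1 h3 =>
    intro hq
    have hinj : Function.Injective (TensorProduct.AlgebraTensorModule.lTensor S N f) :=
      Module.Flat.lTensor_preserves_injective_linearMap (M := N) f hf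
    have hex : Function.Exact (TensorProduct.AlgebraTensorModule.lTensor S N f)
        (TensorProduct.AlgebraTensorModule.lTensor S N g) := lTensor_exact N hfg hg
    rcases associatedPrimes.subset_union_of_exact hinj hex hq with h | h
    · exact h1 h
    · exact h3 h

end Groth.Agent.Flat2A.AssTensorNoeth
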