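import Groth.Prelude.Def_FlatCA
import Mathlib.RingTheory.Localization.BaseChange
import Mathlib.RingTheory.Flat.Localization

/-!
# `R_p → S_q` is essentially of finite presentation and local
-/

set_option autoImplicit false
universe u

namespace Groth.Agent.Flat2A.AtPrimeEssFP

open TensorProduct

variable {R S : Type u} [CommRing R] [CommRing S] [Algebra R S] (p : Ideal R) [p.IsPrime]
  (q : Ideal S) [q.IsPrime] [q.LiesOver p]
  [Algebra (Localization.AtPrime p) (Localization.AtPrime q)]
  [Localization.AtPrime.IsLiesOverAlgebra p q]

theorem isLocalHom : IsLocalHom (algebraMap (Localization.AtPrime p) (Localization.AtPrime q)) := by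
  rw [Localization.AtPrime.IsLiesOverAlgebra.algebraMap_eq]
  exact Localization.isLocalHom_localRingHom p q _ _

theorem essFinitePresentation [Algebra.FinitePresentation R S] :
    FlatCA.EssFinitePresentation (Localization.AtPrime p) (Localization.AtPrime q) := by
  let A := Localization.AtPrime p
  let B := Localization.AtPrime q
  let S₀ := A ⊗[R] S
  let φ : S₀ →ₐ[A] B := Algebra.TensorProduct.lift (Algebra.ofId A B) (IsScalarTower.toAlgHom R S B)
    (fun _ _ => Commute.all _ _)
  letI : Algebra S₀ B := φ.toRingHom.toAlgebra
  have htow : IsScalarTower A S₀ B := IsScalarTower.of_algebraMap_eq' (φ.comp_algebraMap).symm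
  letI : Algebra S S₀ := Algebra.TensorProduct.rightAlgebra
  have htow2 : IsScalarTower S S₀ B := by
    refine IsScalarTower.of_algebraMap_eq ?_
    intro s
    change algebraMap S B s = φ ((1 : A) ⊗ₜ[R] s)
    refine Eq.trans ?_ (Algebra.TensorProduct.lift_tmul _ _ _ _ _).symm
    rw [map_one, one_mul]
    rfl
  have hle : Algebra.algebraMapSubmonoid S p.primeCompl ≤ q.primeCompl := by
    rintro _ ⟨r, hr, rfl⟩
    intro h
    apply hr
    have h1 : r ∈ q.under R := h
    rwa [← Ideal.LiesOver.over (p := p) (P := q)] at h1
  have hloc : IsLocalization (Algebra.algebraMapSubmonoid S p.primeCompl) S₀ :=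
    IsLocalization.tensorRight A p.primeCompl
  exact ⟨S₀, inferInstance, inferInstance, inferInstance, htow, _, inferInstance,
    IsLocalization.isLocalization_of_submonoid_le S₀ B _ _ hle⟩

end Groth.Agent.Flat2A.AtPrimeEssFP
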