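import Groth.Agent.Flat2A.CDevStep
import Groth.Agent.Flat2B.SmoothGeom
import Mathlib.RingTheory.Etale.Basic
import Mathlib.RingTheory.Unramified.LocalStructure
import Mathlib.AlgebraicGeometry.Morphisms.Etale

/-!
# Base change and localization of complete dévissages at a point
-/

set_option autoImplicit false
universe u

open TensorProduct

namespace Groth.Agent.Flat2A.CDevBC

open Groth.Agent.Flat2B.EtaleNhd CDevStep

section

open CategoryTheory AlgebraicGeometry

theorem smoothRelDim_baseChange {R B R' B' : Type u} [CommRing R] [CommRing B] [CommRing R'] [CommRing B']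
    [Algebra R B] [Algebra R R'] [Algebra B B'] [Algebra R' B'] [Algebra R B'] [IsScalarTower R B B']
    [IsScalarTower R R' B'] [Algebra.IsPushout R B R' B'] {n : ℕ} (h : FlatCA.SmoothRelDim n R B) :
    FlatCA.SmoothRelDim n R' B' :=
  (smoothOfRelativeDimension_isStableUnderBaseChange n).of_isPullback
    (GeomInt.isPullback_spec_of_isPushout R B R' B') h

theorem smoothRelDim_etale {R B B' : Type u} [CommRing R] [CommRing B] [CommRing B']
    [Algebra R B] [Algebra B B'] [Algebra R B'] [IsScalarTower R B B'] [Algebra.Etale B B'] {n : ℕ}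
    (h : FlatCA.SmoothRelDim n R B) : FlatCA.SmoothRelDim n R B' := by
  have h0 : Etale (Spec.map (CommRingCat.ofHom (algebraMap B B'))) := by
    rw [HasRingHomProperty.Spec_iff (P := @Etale)]
    exact RingHom.etale_algebraMap.2 inferInstance
  have h2 : SmoothOfRelativeDimension (0 + n) (Spec.map (CommRingCat.ofHom (algebraMap B B')) ≫
    Spec.map (CommRingCat.ofHom (algebraMap R B))) := inferInstance
  rw [zero_add, ← Spec.map_comp, ← CommRingCat.ofHom_comp, ← IsScalarTower.algebraMap_eq] at h2
  exact h2

end

theorem exists_model (R A R' : Type u) [CommRing R] [CommRing A] [CommRing R'] [Algebra R A]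
    [Algebra R R'] : ∃ (A' : Type u) (_ : CommRing A') (_ : Algebra R A') (_ : Algebra A A')
      (_ : Algebra R' A') (_ : IsScalarTower R A A') (_ : IsScalarTower R R' A'),
      Algebra.IsPushout R A R' A' :=
  letI := Algebra.TensorProduct.rightAlgebra (R := R) (A := A) (B := R')
  ⟨A ⊗[R] R', inferInstance, inferInstance, inferInstance, inferInstance, inferInstance, inferInstance,
    inferInstance⟩

theorem exists_algebra_of_isPushout {R B R' B' A' : Type u} [CommRing R] [CommRing B] [CommRing R']
    [CommRing B'] [CommRing A'] [Algebra R B] [Algebra R R'] [Algebra B B'] [Algebra R' B'] [Algebra R B']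
    [IsScalarTower R B B'] [IsScalarTower R R' B'] [Algebra.IsPushout R B R' B'] [Algebra R' A']
    [Algebra B A'] [Algebra R A'] [IsScalarTower R R' A'] [IsScalarTower R B A'] :
    ∃ (_ : Algebra B' A'), IsScalarTower R' B' A' ∧ IsScalarTower B B' A' ∧ IsScalarTower R B' A' := by
  let f : B' →ₐ[R] A' := Algebra.pushoutDesc B' (IsScalarTower.toAlgHom R B A')
    (IsScalarTower.toAlgHom R R' A') (fun _ _ => mul_comm _ _)
  refine ⟨f.toRingHom.toAlgebra, ?_, ?_, ?_⟩
  · let _ : Algebra B' A' := f.toRingHom.toAlgebra
    apply IsScalarTower.of_algebraMap_eq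
    intro r
    exact (Algebra.pushoutDesc_right B' (IsScalarTower.toAlgHom R B A')
      (IsScalarTower.toAlgHom R R' A') (fun _ _ => mul_comm _ _) r).symm
  · let _ : Algebra B' A' := f.toRingHom.toAlgebra
    apply IsScalarTower.of_algebraMap_eq
    intro r
    exact (Algebra.pushoutDesc_left B' (IsScalarTower.toAlgHom R B A')
      (IsScalarTower.toAlgHom R R' A') (fun _ _ => mul_comm _ _) r).symm
  · let _ : Algebra B' A' := f.toRingHom.toAlgebra
    apply IsScalarTower.of_algebraMap_eq
    intro r
    exact (f.commutes r).symm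

theorem smooth_of_isPushout {R B R' B' : Type u} [CommRing R] [CommRing B] [CommRing R'] [CommRing B']
    [Algebra R B] [Algebra R R'] [Algebra B B'] [Algebra R' B'] [Algebra R B'] [IsScalarTower R B B']
    [IsScalarTower R R' B'] [H : Algebra.IsPushout R B R' B'] [Algebra.Smooth R B] : Algebra.Smooth R' B' := by
  have : Algebra.IsPushout R R' B B' := H.symm
  exact Algebra.Smooth.of_equiv (Algebra.IsPushout.equiv R R' B B')

/-- Complete dévissages at a point are compatible with elementary étale base change. -/
theorem CD.baseChange (n : ℕ) : ∀ {R S : Type u} [CommRing R] [CommRing S] [Algebra R S] {N : Type u}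
    [AddCommGroup N] [Module S N] {p : Ideal R} {q : Ideal S} [p.IsPrime] [q.IsPrime]
    (_ : CD n R S N p q) {R' S' N' : Type u} [CommRing R'] [CommRing S'] [AddCommGroup N'] [Algebra R R']
    [Algebra R' S'] [Algebra S S'] [Algebra R S'] [IsScalarTower R S S'] [IsScalarTower R R' S']
    [Algebra.IsPushout R S R' S'] [Module S' N'] [Module S N'] [IsScalarTower S S' N']
    (f : N →ₗ[S] N') (_ : IsBaseChange S' f) (p' : Ideal R') [p'.IsPrime] (q' : Ideal S') [q'.IsPrime]
    [q'.LiesOver q] [q'.LiesOver p'] (_ : FlatCA.IsEtaleNhd R R' p p'), CD n R' S' N' p' q' := by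
  induction n with
  | zero =>
    intro R S _ _ _ N _ _ p q _ _ h
    exact h.not_zero.elim
  | succ n ih =>
    intro R S _ _ _ N _ _ p q _ _ h R' S' N' _ _ _ _ _ _ _ _ _ _ _ _ _ f hf p' _ q' _ hq1 hq2 hR
    obtain ⟨s, hs⟩ := h
    have hpp := liesOver hR
    have hRe := etale hR
    obtain ⟨A', _, _, _, _, _, _, hA⟩ := exists_model R s.A R'
    obtain ⟨B', _, _, _, _, _, _, hB⟩ := exists_model R s.B R'
    let i1 : Algebra s.B A' := ((algebraMap s.A A').comp (algebraMap s.B s.A)).toAlgebra
    have t1 : IsScalarTower s.B s.A A' := IsScalarTower.of_algebraMap_eq' rfl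
    have t2 : IsScalarTower R s.B A' := IsScalarTower.of_algebraMap_eq fun r => by
      rw [IsScalarTower.algebraMap_apply R s.A A', IsScalarTower.algebraMap_apply R s.B s.A,
        ← IsScalarTower.algebraMap_apply s.B s.A A']
    let i2 : Algebra S A' := ((algebraMap s.A A').comp (algebraMap S s.A)).toAlgebra
    have t3 : IsScalarTower S s.A A' := IsScalarTower.of_algebraMap_eq' rfl
    have t4 : IsScalarTower R S A' := IsScalarTower.of_algebraMap_eq fun r => by
      rw [IsScalarTower.algebraMap_apply R s.A A', IsScalarTower.algebraMap_apply R S s.A,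
        ← IsScalarTower.algebraMap_apply S s.A A']
    obtain ⟨_, u1, u2, u3⟩ := exists_algebra_of_isPushout (R := R) (B := s.B) (R' := R') (B' := B') (A' := A')
    obtain ⟨_, v1, v2, v3⟩ := exists_algebra_of_isPushout (R := R) (B := S) (R' := R') (B' := S') (A' := A')
    have hP1 : Algebra.IsPushout s.B s.A B' A' := (Algebra.IsPushout.comp_iff R s.B R' B').mp hA
    have hP2 : Algebra.IsPushout S s.A S' A' := (Algebra.IsPushout.comp_iff R S R' S').mp hA
    have hP1' : Algebra.IsPushout s.B B' s.A A' := hP1.symm
    have hP2' : Algebra.IsPushout S S' s.A A' := hP2.symm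
    obtain ⟨y', hy0, hy1, hy2, hy3, -⟩ := exists_isEtaleNhd_pushout (R := R) (R' := R') (S := s.B)
      (S' := B') (p := p) (p' := p') (q := s.qB) hR s.overB
    have hBe := etale hy3
    have hsm := s.smooth
    refine CD.succ_of s n (A' := A') (B' := B') f hf p' q' y' (resTriv hR) (resTriv hy3)
      (smooth_of_isPushout (R := R) (B := s.B)) (smoothRelDim_baseChange (R := R) (B := s.B) s.relDim)
      (GeomInt.baseChange s.geomInt R' B') ?_ ?_
    · intro z' hz hz1 hz2
      have l1 : (z'.comap (algebraMap S' A')).LiesOver q := by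
        constructor
        rw [Ideal.under_def, Ideal.comap_comap, ← IsScalarTower.algebraMap_eq S S' A',
          IsScalarTower.algebraMap_eq S s.A A', ← Ideal.comap_comap]
        have e1 : z'.comap (algebraMap s.A A') = s.qA := hz2.over.symm
        rw [e1, s.q0]
      have l2 : (z'.comap (algebraMap S' A')).LiesOver p' := by
        constructor
        rw [Ideal.under_def, Ideal.comap_comap, ← IsScalarTower.algebraMap_eq R' S' A',
          IsScalarTower.algebraMap_eq R' B' A', ← Ideal.comap_comap]
        have e1 : z'.comap (algebraMap B' A') = y' := hz1.over.symm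
        rw [e1]
        exact hy2.over
      have lqp : q.LiesOver p := by
        constructor
        have h1 : s.qA.comap (algebraMap R s.A) = p := by
          rw [IsScalarTower.algebraMap_eq R s.B s.A, ← Ideal.comap_comap]
          have e1 : s.qA.comap (algebraMap s.B s.A) = s.qB := s.overA.over.symm
          rw [e1]
          exact s.overB.over.symm
        rw [← h1, IsScalarTower.algebraMap_eq R S s.A, ← Ideal.comap_comap, s.q0]
      exact (resTriv hR).pushout_unique (R := R) (S := S) (R' := R') (S' := S') (q := q)
    · rcases hs with hs | hs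
      · exact Or.inl hs
      · right
        intro K' _ _ _ _ k hk
        exact ih hs k hk p' y' hR

end Groth.Agent.Flat2A.CDevBC
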