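import Groth.Prelude.Def_FlatCA
import Mathlib.AlgebraicGeometry.Pullbacks

/-!
# Geometrically integral fibres in ring form

* `isDomain_of_isPushout` : base change of an algebra with geometrically integral fibres to a field is a domain
  (any model of the pushout).
* `isDomain_tensor`, `isDomain_tensor'`, `isDomain_fiber` : special models.
* `iff_isDomain` : `GeomIntegralFibres A B ↔ ∀ K field, IsDomain (K ⊗[A] B)`.
* `baseChange` : stability under base change.
-/

set_option autoImplicit false
universe u

open CategoryTheory AlgebraicGeometry TensorProduct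

namespace Groth.Agent.Flat2A.GeomInt

theorem isPullback_spec_of_isPushout (A B A' B' : Type u) [CommRing A] [CommRing B] [CommRing A']
    [CommRing B'] [Algebra A B] [Algebra A A'] [Algebra B B'] [Algebra A' B'] [Algebra A B']
    [IsScalarTower A B B'] [IsScalarTower A A' B'] [Algebra.IsPushout A B A' B'] :
    IsPullback (Spec.map (CommRingCat.ofHom (algebraMap B B')))
      (Spec.map (CommRingCat.ofHom (algebraMap A' B')))
      (Spec.map (CommRingCat.ofHom (algebraMap A B)))
      (Spec.map (CommRingCat.ofHom (algebraMap A A'))) :=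
  isPullback_SpecMap_of_isPushout _ _ _ _ (CommRingCat.isPushout_of_isPushout A B A' B')

/-- Base change of an algebra with geometrically integral fibres to a field is a domain. -/
theorem isDomain_of_isPushout {A B : Type u} [CommRing A] [CommRing B] [Algebra A B]
    (h : FlatCA.GeomIntegralFibres A B) (K B' : Type u) [Field K] [CommRing B'] [Algebra A K]
    [Algebra B B'] [Algebra K B'] [Algebra A B'] [IsScalarTower A B B'] [IsScalarTower A K B']
    [Algebra.IsPushout A B K B'] : IsDomain B' := by
  have h1 : IsIntegral (Spec (CommRingCat.of B')) :=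
    h.geometrically_isIntegral (K := K) _ _ _ (isPullback_spec_of_isPushout A B K B')
  exact (affine_isIntegral_iff (CommRingCat.of B')).mp h1

theorem isDomain_tensor {A B : Type u} [CommRing A] [CommRing B] [Algebra A B]
    (h : FlatCA.GeomIntegralFibres A B) (K : Type u) [Field K] [Algebra A K] :
    IsDomain (B ⊗[A] K) := by
  let _ : Algebra K (B ⊗[A] K) := Algebra.TensorProduct.rightAlgebra
  exact isDomain_of_isPushout h K (B ⊗[A] K)

theorem isDomain_tensor' {A B : Type u} [CommRing A] [CommRing B] [Algebra A B]
    (h : FlatCA.GeomIntegralFibres A B) (K : Type u) [Field K] [Algebra A K] :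
    IsDomain (K ⊗[A] B) :=
  have := isDomain_tensor h K
  (Algebra.TensorProduct.comm A K B).toRingEquiv.toMulEquiv.isDomain (B ⊗[A] K)

theorem isDomain_fiber {A B : Type u} [CommRing A] [CommRing B] [Algebra A B]
    (h : FlatCA.GeomIntegralFibres A B) (p : Ideal A) [p.IsPrime] : IsDomain (p.Fiber B) :=
  isDomain_tensor' h p.ResidueField

theorem of_isDomain {A B : Type u} [CommRing A] [CommRing B] [Algebra A B]
    (h : ∀ (K : Type u) [Field K] [Algebra A K], IsDomain (K ⊗[A] B)) :
    FlatCA.GeomIntegralFibres A B := by
  refine ⟨(geometrically_iff_of_commRing (R := A)).mpr ?_⟩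
  intro K _ _ Y fst snd hY
  have h0 : IsPullback (Spec.map (CommRingCat.ofHom (algebraMap B (B ⊗[A] K))))
      (Spec.map (CommRingCat.ofHom
        (Algebra.TensorProduct.includeRight (R := A) (A := B) (B := K)).toRingHom))
      (Spec.map (CommRingCat.ofHom (algebraMap A B)))
      (Spec.map (CommRingCat.ofHom (algebraMap A K))) := by
    exact isPullback_SpecMap_of_isPushout _ _ _ _ (CommRingCat.isPushout_tensorProduct A B K)
  have := h K
  have : IsDomain (B ⊗[A] K) :=
    (Algebra.TensorProduct.comm A B K).toRingEquiv.toMulEquiv.isDomain (K ⊗[A] B)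
  have : IsIntegral (Spec (CommRingCat.of (B ⊗[A] K))) := inferInstance
  have : Nonempty Y := ⟨(h0.isoIsPullback _ _ hY).hom (Classical.arbitrary _)⟩
  exact isIntegral_of_isOpenImmersion (h0.isoIsPullback _ _ hY).inv

theorem iff_isDomain {A B : Type u} [CommRing A] [CommRing B] [Algebra A B] :
    FlatCA.GeomIntegralFibres A B ↔
      ∀ (K : Type u) [Field K] [Algebra A K], IsDomain (K ⊗[A] B) :=
  ⟨fun h K _ _ => isDomain_tensor' h K, of_isDomain⟩

/-- Geometrically integral fibres are stable under base change. -/
theorem baseChange {A B : Type u} [CommRing A] [CommRing B] [Algebra A B]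
    (h : FlatCA.GeomIntegralFibres A B) (A' B' : Type u) [CommRing A'] [CommRing B'] [Algebra A A']
    [Algebra B B'] [Algebra A' B'] [Algebra A B'] [IsScalarTower A B B'] [IsScalarTower A A' B']
    [Algebra.IsPushout A B A' B'] : FlatCA.GeomIntegralFibres A' B' :=
  MorphismProperty.of_isPullback (P := @GeometricallyIntegral)
    (isPullback_spec_of_isPushout A B A' B') h

end Groth.Agent.Flat2A.GeomInt
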