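import Groth.Prelude.Def_FlatCA
import Groth.Agent.UnramA.SmoothFibreDim
import Groth.Agent.Flat2B.SmoothGeom
import Groth.Agent.Flat2A.GeomInt
import Groth.Agent.Flat2C.SupportBaseChange
import Mathlib.RingTheory.RingHom.StandardSmooth

/-!
# Local dimension of the support of the fibre of a module over a smooth algebra

* `smooth_fiber`: the fibres of an algebra smooth of relative dimension `n` are smooth of relative dimension `n`.
* `localDim_fiber`: the spectrum of the fibre ring has local dimension `n` everywhere.
* `locDim_full`: if moreover the extension of `p` is prime and the finite module `M` has nonzero fibre at that prime, the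
  support of the fibre module is everything, hence has local dimension `n` everywhere.
-/

set_option autoImplicit false
universe u

namespace Groth.Agent.Flat2A.DimSmooth

open TensorProduct

/-- The fibre of a morphism of rings smooth of relative dimension `n` is smooth of relative dimension `n`. -/
theorem smooth_fiber {R D : Type u} [CommRing R] [CommRing D] [Algebra R D] (n : ℕ)
    (hs : FlatCA.SmoothRelDim n R D) (p : Ideal R) [p.IsPrime] :
    FlatCA.SmoothRelDim n p.ResidueField (p.Fiber D) := by
  have h : AlgebraicGeometry.SmoothOfRelativeDimension n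
      (AlgebraicGeometry.Spec.map (CommRingCat.ofHom (algebraMap R D))) := hs
  show AlgebraicGeometry.SmoothOfRelativeDimension n
      (AlgebraicGeometry.Spec.map (CommRingCat.ofHom (algebraMap p.ResidueField (p.Fiber D))))
  rw [AlgebraicGeometry.HasRingHomProperty.Spec_iff
    (P := @AlgebraicGeometry.SmoothOfRelativeDimension n)] at h ⊢
  let _ : Algebra D (p.Fiber D) := Algebra.TensorProduct.rightAlgebra
  exact RingHom.locally_isStableUnderBaseChange
    RingHom.isStandardSmoothOfRelativeDimension_respectsIso
    (RingHom.isStandardSmoothOfRelativeDimension_isStableUnderBaseChange n) R D p.ResidueField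
      (p.Fiber D) h

/-- The fibre ring of an algebra smooth of relative dimension `n` has local dimension `n` everywhere. -/
theorem localDim_fiber {R D : Type u} [CommRing R] [CommRing D] [Algebra R D] (n : ℕ)
    (hs : FlatCA.SmoothRelDim n R D) (p : Ideal R) [p.IsPrime] (x : PrimeSpectrum (p.Fiber D)) :
    FlatMor.localDim (PrimeSpectrum (p.Fiber D)) x = n := by
  have h : AlgebraicGeometry.SmoothOfRelativeDimension n
      (AlgebraicGeometry.Spec.map (CommRingCat.ofHom (algebraMap p.ResidueField (p.Fiber D)))) :=
    smooth_fiber n hs p
  exact UnramA.SmoothFibreDim.localDim_eq n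
    (AlgebraicGeometry.Spec.map (CommRingCat.ofHom (algebraMap p.ResidueField (p.Fiber D)))) x

/-- The local dimension of a subset which is everything. -/
theorem localDim_univ {X : Type*} [TopologicalSpace X] (S : Set X) (hS : S = Set.univ) (x : S) :
    FlatMor.localDim S x = FlatMor.localDim X x := by
  subst hS
  exact VarietyB.DimTop.localDim_eq_of_homeomorph (Homeomorph.Set.univ X) x

theorem support_fiber_eq_univ {R D : Type u} [CommRing R] [CommRing D] [Algebra R D]
    (p : Ideal R) [p.IsPrime] [(p.map (algebraMap R D)).IsPrime]
    (M : Type u) [AddCommGroup M] [Module D M] [Module R M] [IsScalarTower R D M] [Module.Finite D M]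
    (hM : Nontrivial ((p.map (algebraMap R D)).ResidueField ⊗[D] M)) :
    Module.support (p.Fiber D) (FlatCA.fiberMod p D M) = Set.univ := by
  rw [Set.eq_univ_iff_forall]
  intro x
  let _ : Algebra D (p.Fiber D) := Algebra.TensorProduct.rightAlgebra
  have key : x ∈ Module.support (p.Fiber D) ((p.Fiber D) ⊗[D] M) := by
    rw [Flat2C.SupportBaseChange.mem_support_baseChange_iff]
    have h1 : (⟨p.map (algebraMap R D), inferInstance⟩ : PrimeSpectrum D) ∈ Module.support D M := by
      rw [Module.mem_support_iff_nontrivial_residueField_tensorProduct]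
      exact hM
    refine Module.mem_support_mono ?_ h1
    show p.map (algebraMap R D) ≤ x.asIdeal.comap (algebraMap D (p.Fiber D))
    rw [Ideal.map_le_iff_le_comap, Ideal.comap_comap]
    intro r hr
    rw [Ideal.mem_comap]
    have h2 : ((algebraMap D (p.Fiber D)).comp (algebraMap R D)) r = 0 := by
      have : ((algebraMap D (p.Fiber D)).comp (algebraMap R D)) r = (1 : p.ResidueField) ⊗ₜ[R] (algebraMap R D r) := rfl
      rw [this, Algebra.algebraMap_eq_smul_one, ← TensorProduct.smul_tmul, Algebra.smul_def, mul_one]
      have h3 : algebraMap R p.ResidueField r = 0 := by simpa using hr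
      rw [h3, TensorProduct.zero_tmul]
    rw [h2]
    exact x.asIdeal.zero_mem
  exact key

/-- For `D` flat over `R` with integral fibre over `p`, the ideal `pD` is prime. -/
theorem map_isPrime_of_flat {R D : Type u} [CommRing R] [CommRing D] [Algebra R D] [Module.Flat R D]
    (p : Ideal R) [p.IsPrime] [IsDomain (p.Fiber D)] : (p.map (algebraMap R D)).IsPrime := by
  let φ : D →+* p.Fiber D := (Algebra.TensorProduct.includeRight (R := R) (A := p.ResidueField) (B := D)).toRingHom
  have hker : p.map (algebraMap R D) = (⊥ : Ideal (p.Fiber D)).comap φ := by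
    apply le_antisymm
    · rw [Ideal.map_le_iff_le_comap]
      intro r hr
      rw [Ideal.mem_comap, Ideal.mem_comap, Ideal.mem_bot]
      have : φ (algebraMap R D r) = (1 : p.ResidueField) ⊗ₜ[R] (algebraMap R D r) := rfl
      rw [this, Algebra.algebraMap_eq_smul_one, ← TensorProduct.smul_tmul, Algebra.smul_def, mul_one]
      have h3 : algebraMap R p.ResidueField r = 0 := by simpa using hr
      rw [h3, TensorProduct.zero_tmul]
    · intro d hd
      rw [Ideal.mem_comap, Ideal.mem_bot] at hd
      have h0 : (1 : p.ResidueField) ⊗ₜ[R] d = 0 := hd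
      let j : (R ⧸ p) →ₗ[R] p.ResidueField := (IsScalarTower.toAlgHom R (R ⧸ p) p.ResidueField).toLinearMap
      have hj : Function.Injective j := p.injective_algebraMap_quotient_residueField
      have hj' : Function.Injective (j.rTensor D) := Module.Flat.rTensor_preserves_injective_linearMap j hj
      have h1 : (1 : R ⧸ p) ⊗ₜ[R] d = 0 := by
        apply hj'
        rw [LinearMap.rTensor_tmul, map_zero, ← h0]
        congr 1
        exact map_one (IsScalarTower.toAlgHom R (R ⧸ p) p.ResidueField)
      have h2 := congrArg (TensorProduct.quotTensorEquivQuotSMul D p) h1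
      have h3 : (TensorProduct.quotTensorEquivQuotSMul D p) (Ideal.Quotient.mk p 1 ⊗ₜ[R] d) = Submodule.Quotient.mk ((1 : R) • d) :=
        TensorProduct.quotTensorEquivQuotSMul_mk_tmul p 1 _
      rw [map_one] at h3
      rw [h3, map_zero, one_smul, Submodule.Quotient.mk_eq_zero, Ideal.smul_top_eq_map] at h2
      exact h2
  rw [hker]
  exact Ideal.comap_isPrime φ ⊥

/-- A smooth algebra of relative dimension `n` is smooth. -/
theorem smooth_of_smoothRelDim {R D : Type u} [CommRing R] [CommRing D] [Algebra R D] (n : ℕ)
    (hs : FlatCA.SmoothRelDim n R D) : Algebra.Smooth R D := by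
  have h : AlgebraicGeometry.SmoothOfRelativeDimension n
      (AlgebraicGeometry.Spec.map (CommRingCat.ofHom (algebraMap R D))) := hs
  have h2 : AlgebraicGeometry.Smooth (AlgebraicGeometry.Spec.map (CommRingCat.ofHom (algebraMap R D))) :=
    AlgebraicGeometry.SmoothOfRelativeDimension.smooth n _
  rw [AlgebraicGeometry.HasRingHomProperty.Spec_iff (P := @AlgebraicGeometry.Smooth)] at h2
  exact RingHom.smooth_algebraMap.1 h2

/-- Smooth with geometrically irreducible fibres implies geometrically integral fibres. -/
theorem geomIntegral_of_smooth {R D : Type u} [CommRing R] [CommRing D] [Algebra R D] [Algebra.Smooth R D]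
    (hg : FlatCA.GeomIrredFibres R D) : FlatCA.GeomIntegralFibres R D := by
  have h1 : AlgebraicGeometry.GeometricallyIrreducible
    (AlgebraicGeometry.Spec.map (CommRingCat.ofHom (algebraMap R D))) := hg
  have := Flat2B.SmoothGeom.smooth_specMap R D
  exact Flat2B.SmoothGeom.geometricallyIntegral_of_smooth _

/-- For a smooth algebra with geometrically irreducible fibres, the extension of a prime ideal is prime. -/
theorem map_isPrime_of_smooth {R D : Type u} [CommRing R] [CommRing D] [Algebra R D] [Algebra.Smooth R D]
    (hg : FlatCA.GeomIrredFibres R D) (p : Ideal R) [p.IsPrime] : (p.map (algebraMap R D)).IsPrime := by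
  have := Flat2A.GeomInt.isDomain_fiber (geomIntegral_of_smooth hg) p
  exact map_isPrime_of_flat p

/-- The fibre of a finite module with nonzero generic fibre over a smooth algebra of relative dimension `n`:
its support is everything, and of local dimension `n` everywhere. -/
theorem locDim_full {R D : Type u} [CommRing R] [CommRing D] [Algebra R D] (n : ℕ)
    (hs : FlatCA.SmoothRelDim n R D)
    (p : Ideal R) [p.IsPrime] [(p.map (algebraMap R D)).IsPrime]
    (M : Type u) [AddCommGroup M] [Module D M] [Module R M] [IsScalarTower R D M] [Module.Finite D M]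
    (hM : Nontrivial ((p.map (algebraMap R D)).ResidueField ⊗[D] M)) (x : PrimeSpectrum (p.Fiber D)) :
    ∃ hx : x ∈ Module.support (p.Fiber D) (FlatCA.fiberMod p D M),
      FlatMor.localDim (Module.support (p.Fiber D) (FlatCA.fiberMod p D M)) ⟨x, hx⟩ = n := by
  have h1 := support_fiber_eq_univ p M hM
  refine ⟨by rw [h1]; trivial, ?_⟩
  rw [localDim_univ _ h1]
  exact localDim_fiber n hs p x

end Groth.Agent.Flat2A.DimSmooth
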