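import Groth.Agent.Flat2A.CDevStep
import Groth.Agent.Flat2A.DimSmooth
import Groth.Agent.Flat2B.DevissageRec
import Groth.Agent.Flat2B.FibreBC

/-!
# The recursive form of complete dévissages at a point implies the official one

`CD.hasCompleteDevissageAt : CD n R S N p q → FlatCA.HasCompleteDevissageAt R S N p q`.
-/

set_option autoImplicit false
universe u

open TensorProduct

namespace Groth.Agent.Flat2A.CDevConv

open Groth.Agent.Flat2B

section

variable {R S : Type u} [CommRing R] [CommRing S] [Algebra R S] {N : Type u} [AddCommGroup N]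
  [Module S N] {p : Ideal R} [p.IsPrime] {q : Ideal S} [q.IsPrime]

/-- the step of a complete dévissage over `p` given by a `CDevStep.Step` -/
noncomputable def toStep (s : CDevStep.Step R S N p q) : DevissageRec.Step R S N p :=
  letI : Module R s.M := Module.compHom s.M (algebraMap R s.B)
  haveI : IsScalarTower R s.B s.M := ⟨fun r b m => by
    rw [Algebra.smul_def, mul_smul]; rfl⟩
  { A := s.A
    B := s.B
    M := s.M
    r := s.r
    α := s.α
    surjSA := s.surjSA
    fpSA := s.fpSA
    finiteBA := s.finiteBA
    smooth := s.smooth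
    geomIrred := by
      have h : AlgebraicGeometry.GeometricallyIntegral
        (AlgebraicGeometry.Spec.map (CommRingCat.ofHom (algebraMap R s.B))) := s.geomInt
      show AlgebraicGeometry.GeometricallyIrreducible
        (AlgebraicGeometry.Spec.map (CommRingCat.ofHom (algebraMap R s.B)))
      infer_instance
    finiteM := s.finiteM
    isoN := s.isoN
    fibreIso := s.fibreIso }

theorem nontrivial_of_step (s : CDevStep.Step R S N p q) :
    Nontrivial ((p.map (algebraMap R s.B)).ResidueField ⊗[s.B] s.M) := by
  have hr := s.rpos
  have h1 : Nontrivial ((p.map (algebraMap R s.B)).ResidueField ⊗[s.B] (Fin s.r → s.B)) := by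
    have : Nonempty (Fin s.r) := ⟨⟨0, hr⟩⟩
    exact (TensorProduct.piScalarRight s.B (p.map (algebraMap R s.B)).ResidueField
      (p.map (algebraMap R s.B)).ResidueField (Fin s.r)).toEquiv.nontrivial
  exact (LinearEquiv.ofBijective _ s.fibreIso).symm.toEquiv.nontrivial

/-- the data at a point of a step -/
noncomputable def toStepAt (s : CDevStep.Step R S N p q) :
    DevissageRec.StepAt R S N p (toStep s) q :=
  { qB := s.qB
    qA := s.qA
    hqB := s.hqB
    hqA := s.hqA
    overB := s.overB
    overA := s.overA
    pureTrans := s.pureTrans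
    uniq := s.uniq
    q0 := s.q0
    d := s.d
    relDim := s.relDim
    locDim := by
      letI : Module R s.M := Module.compHom s.M (algebraMap R s.B)
      haveI : IsScalarTower R s.B s.M := ⟨fun r b m => by
        rw [Algebra.smul_def, mul_smul]; rfl⟩
      have hfin : Module.Finite s.B s.M := by
        have := s.finiteBA
        have := s.finiteM
        exact Module.Finite.trans s.A s.M
      have hprime := FibreBC.fiberIdeal_isPrime p s.qB
      obtain ⟨hx, hd⟩ := DimSmooth.locDim_full s.d s.relDim p s.M (nontrivial_of_step s)
        ⟨FlatCA.fiberIdeal p s.qB, hprime⟩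
      exact ⟨_, hx, rfl, hd⟩ }

end

/-- The recursive form of a complete dévissage at a point gives a complete dévissage at that point. -/
theorem hasCompleteDevissageAt {R : Type u} [CommRing R] (p : Ideal R) [p.IsPrime] (n : ℕ) :
    ∀ {S : Type u} [CommRing S] [Algebra R S] {N : Type u} [AddCommGroup N] [Module S N]
      {q : Ideal S} [q.IsPrime], CDevStep.CD n R S N p q → FlatCA.HasCompleteDevissageAt R S N p q := by
  induction n with
  | zero =>
    intro S _ _ N _ _ q _ h
    exact h.not_zero.elim
  | succ n ih =>
    intro S _ _ N _ _ q _ h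
    obtain ⟨s, hs | hs⟩ := h
    · exact ⟨DevissageRec.single (toStep s) hs, ⟨DevissageRec.singleAt (toStep s) hs q (toStepAt s)⟩⟩
    · obtain ⟨D, ⟨E⟩⟩ := ih hs
      exact ⟨DevissageRec.cons (toStep s) D, ⟨DevissageRec.consAt (toStep s) D q (toStepAt s) E⟩⟩

end Groth.Agent.Flat2A.CDevConv
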