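import Groth.Agent.Flat2A.GeomInt
import Mathlib.RingTheory.Spectrum.Prime.Chevalley
import Mathlib.RingTheory.Flat.FaithfullyFlat.Algebra
import Mathlib.RingTheory.Localization.BaseChange
import Mathlib.RingTheory.Smooth.Flat

/-!
# Geometrically integral fibres and localization

* `exists_notMem_forall` : for `R → B` flat of finite presentation, `y` a prime of `B` over `p` and `b ∉ y`, there is
  `h ∉ p` such that every prime of `R` not containing `h` is the contraction of a prime of `B` not containing `b`.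
* `exists_geomIntegral_away` : if moreover the fibres of `R → B` are geometrically integral, then so are those of
  `R_h' → B_(h'b)` for every multiple `h' ∉ p` of `h`.
-/

set_option autoImplicit false
universe u

open TensorProduct

namespace Groth.Agent.Flat2A.GILoc

theorem exists_notMem_forall {R B : Type u} [CommRing R] [CommRing B] [Algebra R B] [Module.Flat R B]
    [Algebra.FinitePresentation R B] (p : Ideal R) [p.IsPrime] (y : Ideal B) [y.IsPrime] [y.LiesOver p]
    (b : B) (hb : b ∉ y) :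
    ∃ h : R, h ∉ p ∧ ∀ (t : Ideal R) [t.IsPrime], h ∉ t →
      ∃ y' : Ideal B, y'.IsPrime ∧ y'.LiesOver t ∧ b ∉ y' := by
  have hopen := PrimeSpectrum.isOpenMap_comap_of_hasGoingDown_of_finitePresentation (R := R) (S := B)
    (PrimeSpectrum.basicOpen b : Set (PrimeSpectrum B)) (PrimeSpectrum.basicOpen b).2
  have hmem : (⟨p, inferInstance⟩ : PrimeSpectrum R) ∈
      PrimeSpectrum.comap (algebraMap R B) '' (PrimeSpectrum.basicOpen b : Set (PrimeSpectrum B)) :=
    ⟨⟨y, inferInstance⟩, hb, PrimeSpectrum.ext (Ideal.over_def y p).symm⟩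
  obtain ⟨_, ⟨h, rfl⟩, hph, hsub⟩ :=
    PrimeSpectrum.isTopologicalBasis_basic_opens.exists_subset_of_mem_open hmem hopen
  refine ⟨h, hph, fun t _ ht => ?_⟩
  obtain ⟨y', hy', he⟩ := hsub (show (⟨t, inferInstance⟩ : PrimeSpectrum R) ∈ _ from ht)
  exact ⟨y'.asIdeal, y'.2, ⟨(congrArg PrimeSpectrum.asIdeal he).symm⟩, hy'⟩

/-- An element outside a prime over `ker (R → K)` is nonzero in `B ⊗ K`. -/
theorem tmul_one_ne_zero {R B K : Type u} [CommRing R] [CommRing B] [Algebra R B] [Field K]
    [Algebra R K] (y : Ideal B) [y.IsPrime] [hy : y.LiesOver (RingHom.ker (algebraMap R K))]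
    (b : B) (hb : b ∉ y) : (b ⊗ₜ[R] (1 : K)) ≠ 0 := by
  set t : Ideal R := RingHom.ker (algebraMap R K) with ht
  have : t.IsPrime := RingHom.ker_isPrime _
  let ψ : t.ResidueField →+* K := Ideal.ResidueField.lift t (algebraMap R K) le_rfl (by
    intro x hx
    rw [Submonoid.mem_comap, IsUnit.mem_submonoid_iff, isUnit_iff_ne_zero]
    exact fun h0 => hx h0)
  let _ : Algebra t.ResidueField K := ψ.toAlgebra
  have tow : IsScalarTower R t.ResidueField K := IsScalarTower.of_algebraMap_eq (fun r => by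
    rw [RingHom.algebraMap_toAlgebra]
    exact (Ideal.ResidueField.lift_algebraMap _ _ _ _ r).symm)
  let _ : Algebra t.ResidueField y.ResidueField :=
    (Ideal.ResidueField.map t y (algebraMap R B) hy.over).toAlgebra
  have tow2 : IsScalarTower R t.ResidueField y.ResidueField := IsScalarTower.of_algebraMap_eq (fun r => by
    rw [RingHom.algebraMap_toAlgebra, Ideal.ResidueField.map_algebraMap,
      ← IsScalarTower.algebraMap_apply R B y.ResidueField])
  let f : B →ₐ[R] (y.ResidueField ⊗[t.ResidueField] K) :=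
    (Algebra.TensorProduct.includeLeft (R := t.ResidueField) (S := R)
      (A := y.ResidueField) (B := K)).comp (IsScalarTower.toAlgHom R B y.ResidueField)
  let g : K →ₐ[R] (y.ResidueField ⊗[t.ResidueField] K) :=
    (Algebra.TensorProduct.includeRight (R := t.ResidueField)
      (A := y.ResidueField) (B := K)).restrictScalars R
  let φ : B ⊗[R] K →ₐ[R] (y.ResidueField ⊗[t.ResidueField] K) :=
    Algebra.TensorProduct.lift f g (fun _ _ => Commute.all _ _)
  intro h0
  have h1 : φ (b ⊗ₜ[R] (1 : K)) = 0 := by rw [h0, map_zero]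
  have h2 : φ (b ⊗ₜ[R] (1 : K)) = (algebraMap B y.ResidueField b) ⊗ₜ (1 : K) := by
    simp [φ, f, g]
  rw [h2] at h1
  have hne : algebraMap B y.ResidueField b ≠ 0 := by
    rw [Ne, Ideal.algebraMap_residueField_eq_zero]
    exact hb
  have hu : IsUnit ((algebraMap B y.ResidueField b) ⊗ₜ[t.ResidueField] (1 : K)) :=
    (isUnit_iff_ne_zero.mpr hne).map
      (Algebra.TensorProduct.includeLeft (R := t.ResidueField) (S := t.ResidueField)
        (A := y.ResidueField) (B := K))
  exact hu.ne_zero h1

theorem exists_geomIntegral_away {R B : Type u} [CommRing R] [CommRing B] [Algebra R B]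
    [Algebra.Smooth R B] (hgi : FlatCA.GeomIntegralFibres R B) (p : Ideal R) [p.IsPrime]
    (y : Ideal B) [y.IsPrime] [y.LiesOver p] (b : B) (hb : b ∉ y) :
    ∃ h : R, h ∉ p ∧ ∀ h' : R, h ∣ h' → h' ∉ p →
      ∀ (Rh Bh : Type u) [CommRing Rh] [CommRing Bh] [Algebra R Rh] [Algebra B Bh] [Algebra Rh Bh]
        [Algebra R Bh] [IsScalarTower R Rh Bh] [IsScalarTower R B Bh] [IsLocalization.Away h' Rh]
        [IsLocalization.Away (algebraMap R B h' * b) Bh], FlatCA.GeomIntegralFibres Rh Bh := by
  obtain ⟨h, hp, H⟩ := exists_notMem_forall p y b hb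
  refine ⟨h, hp, fun h' hdvd _ Rh Bh => ?_⟩
  intro _ _ _ _ _ _ _ _ _ _
  refine GeomInt.of_isDomain (fun K _ _ => ?_)
  let _ : Algebra R K := ((algebraMap Rh K).comp (algebraMap R Rh)).toAlgebra
  have tow : IsScalarTower R Rh K := IsScalarTower.of_algebraMap_eq' rfl
  have hu : IsUnit (algebraMap R K h') := by
    rw [IsScalarTower.algebraMap_apply R Rh K]
    exact (IsLocalization.Away.algebraMap_isUnit (S := Rh) h').map _
  have : (RingHom.ker (algebraMap R K)).IsPrime := RingHom.ker_isPrime _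
  have hk : h ∉ RingHom.ker (algebraMap R K) := fun hk => by
    obtain ⟨c, rfl⟩ := hdvd
    rw [map_mul, (RingHom.mem_ker.mp hk), zero_mul] at hu
    exact not_isUnit_zero hu
  obtain ⟨y', hy', hyo, hby⟩ := H _ hk
  have hdom : IsDomain (B ⊗[R] K) := GeomInt.isDomain_tensor hgi K
  have hne : algebraMap B (B ⊗[R] K) (algebraMap R B h' * b) ≠ 0 := by
    rw [map_mul]
    refine mul_ne_zero ?_ ?_
    · have : algebraMap B (B ⊗[R] K) (algebraMap R B h') =
          (Algebra.TensorProduct.includeRight (R := R) (A := B) (B := K)) (algebraMap R K h') := by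
        rw [Algebra.TensorProduct.includeRight_apply, Algebra.TensorProduct.algebraMap_apply,
          Algebra.algebraMap_self, RingHom.id_apply, Algebra.algebraMap_eq_smul_one,
          Algebra.algebraMap_eq_smul_one, TensorProduct.smul_tmul]
      rw [this]
      exact (hu.map _).ne_zero
    · exact tmul_one_ne_zero y' b hby
  have hL : IsDomain (Bh ⊗[B] (B ⊗[R] K)) := by
    let _ : Algebra (B ⊗[R] K) (Bh ⊗[B] (B ⊗[R] K)) := Algebra.TensorProduct.rightAlgebra
    have : IsLocalization (Submonoid.powers (algebraMap B (B ⊗[R] K) (algebraMap R B h' * b)))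
        (Bh ⊗[B] (B ⊗[R] K)) :=
      IsLocalization.Away.tensorRight (R := B) (S := B ⊗[R] K) (algebraMap R B h' * b) Bh
    exact IsLocalization.isDomain_of_le_nonZeroDivisors (Bh ⊗[B] (B ⊗[R] K))
      (M := Submonoid.powers (algebraMap B (B ⊗[R] K) (algebraMap R B h' * b)))
      (powers_le_nonZeroDivisors_of_noZeroDivisors hne)
  let e1 : Bh ⊗[B] (B ⊗[R] K) ≃+* Bh ⊗[R] K :=
    (Algebra.TensorProduct.cancelBaseChange R B B Bh K).toRingEquiv
  let e2 : Bh ⊗[R] K ≃+* Bh ⊗[Rh] K :=
    (IsLocalization.algebraTensorEquiv (Submonoid.powers h') Rh Bh K).symm.toRingEquiv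
  let e3 : Bh ⊗[Rh] K ≃+* K ⊗[Rh] Bh := (Algebra.TensorProduct.comm Rh Bh K).toRingEquiv
  exact ((e1.trans e2).trans e3).symm.toMulEquiv.isDomain _

end Groth.Agent.Flat2A.GILoc
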