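import Groth.Agent.Flat2A.CDevBC
import Groth.Agent.Flat2A.GILoc
import Mathlib.RingTheory.Localization.BaseChange
import Mathlib.RingTheory.Localization.Ideal
import Mathlib.RingTheory.Ideal.GoingUp

/-!
# Restriction of complete dévissages at a point to basic open subsets
-/

set_option autoImplicit false
universe u

open TensorProduct

namespace Groth.Agent.Flat2A.CDevLoc

open Groth.Agent.Flat2B.EtaleNhd CDevStep CDevBC

theorem exists_dvd {A B : Type u} [CommRing A] [CommRing B] [Algebra B A] [Module.Finite B A]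
    (qB : Ideal B) [qB.IsPrime] (qA : Ideal A) (uniq : ∀ (Q : Ideal A) [Q.IsPrime], Q.LiesOver qB → Q = qA)
    (g : A) (hg : g ∉ qA) : ∃ b : B, b ∉ qB ∧ g ∣ algebraMap B A b := by
  by_contra hcon
  push Not at hcon
  have h1 : (Ideal.span {g}).comap (algebraMap B A) ≤ qB := by
    intro b hb
    by_contra hb'
    exact hcon b hb' (Ideal.mem_span_singleton.mp hb)
  obtain ⟨Q, hQ1, hQ2, hQ3⟩ := Ideal.exists_ideal_over_prime_of_isIntegral qB (Ideal.span {g}) h1
  have := uniq Q ⟨hQ3.symm⟩
  exact hg (this ▸ hQ1 (Ideal.mem_span_singleton_self g))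

theorem eq_of_comap_eq {R R' : Type u} [CommRing R] [CommRing R'] [Algebra R R'] (M : Submonoid R)
    [IsLocalization M R'] {P Q : Ideal R'} (h : P.comap (algebraMap R R') = Q.comap (algebraMap R R')) :
    P = Q :=
  (IsLocalization.orderEmbedding M R').injective h

theorem away_of_dvd {A A' : Type u} [CommRing A] [CommRing A'] [Algebra A A'] (x g : A)
    [IsLocalization.Away x A'] (h : g ∣ x) : IsLocalization.Away (x * g) A' := by
  have h1 : IsUnit (algebraMap A A' g) :=
    isUnit_of_dvd_unit (map_dvd (algebraMap A A') h) (IsLocalization.Away.algebraMap_isUnit x)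
  have : IsLocalization.Away (algebraMap A A' g) A' :=
    IsLocalization.away_of_isUnit_of_bijective _ h1 Function.bijective_id
  exact IsLocalization.Away.mul' A' A' x g

theorem isPushout_away {R T A B : Type u} [CommRing R] [CommRing T] [CommRing A] [CommRing B] [Algebra R T]
    [Algebra T B] [Algebra R B] [Algebra R A] [Algebra A B] [IsScalarTower R T B] [IsScalarTower R A B] (x : R)
    [IsLocalization.Away x A] [IsLocalization.Away (algebraMap R T x) B] : Algebra.IsPushout R T A B := by
  have : IsLocalization (Algebra.algebraMapSubmonoid T (Submonoid.powers x)) B := by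
    rw [Algebra.algebraMapSubmonoid_powers]
    infer_instance
  exact Algebra.isPushout_of_isLocalization (Submonoid.powers x) A T B

theorem away_of_isPushout {R T A B : Type u} [CommRing R] [CommRing T] [CommRing A] [CommRing B] [Algebra R T]
    [Algebra T B] [Algebra R B] [Algebra R A] [Algebra A B] [IsScalarTower R T B] [IsScalarTower R A B] (x : R)
    [IsLocalization.Away x A] [Algebra.IsPushout R T A B] : IsLocalization.Away (algebraMap R T x) B := by
  have := (Algebra.isLocalization_iff_isPushout (T := T) (B := B) (Submonoid.powers x) A).mpr inferInstance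
  rwa [Algebra.algebraMapSubmonoid_powers] at this

/-- Complete dévissages at a point restrict to small basic open neighbourhoods. -/
theorem CD.restrict (n : ℕ) : ∀ {R S : Type u} [CommRing R] [CommRing S] [Algebra R S] {N : Type u}
    [AddCommGroup N] [Module S N] {p : Ideal R} {q : Ideal S} [p.IsPrime] [q.IsPrime]
    (_ : CD n R S N p q) (g : S) (_ : g ∉ q), ∃ c : S, c ∉ q ∧ g ∣ c ∧ ∃ h : R, h ∉ p ∧
    ∀ h' : R, h ∣ h' → h' ∉ p → ∀ {Rh Sh Nh : Type u} [CommRing Rh] [CommRing Sh] [AddCommGroup Nh]
    [Algebra R Rh] [Algebra Rh Sh] [Algebra S Sh] [Algebra R Sh] [IsScalarTower R S Sh]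
    [IsScalarTower R Rh Sh] [IsLocalization.Away h' Rh] [IsLocalization.Away (algebraMap R S h' * c) Sh]
    [Module Sh Nh] [Module S Nh] [IsScalarTower S Sh Nh]
    (f : N →ₗ[S] Nh) (_ : IsBaseChange Sh f) (ph : Ideal Rh) [ph.IsPrime] (qh : Ideal Sh) [qh.IsPrime]
    [ph.LiesOver p] [qh.LiesOver q], CD n Rh Sh Nh ph qh := by
  induction n with
  | zero =>
    intro R S _ _ _ N _ _ p q _ _ h
    exact h.not_zero.elim
  | succ n ih =>
    intro R S _ _ _ N _ _ p q _ _ h g hg
    obtain ⟨s, hs⟩ := h
    have hgA : algebraMap S s.A g ∉ s.qA := fun h => hg (s.q0 ▸ h)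
    have := s.finiteBA
    have hsm := s.smooth
    obtain ⟨b, hb, hgb⟩ := exists_dvd s.qB s.qA s.uniq _ hgA
    have key : ∃ c : s.B, c ∉ s.qB ∧ b ∣ c ∧ ∃ h : R, h ∉ p ∧ (Function.Surjective s.α ∨
        ∀ h' : R, h ∣ h' → h' ∉ p → ∀ {Rh Sh Nh : Type u} [CommRing Rh] [CommRing Sh] [AddCommGroup Nh]
        [Algebra R Rh] [Algebra Rh Sh] [Algebra s.B Sh] [Algebra R Sh] [IsScalarTower R s.B Sh]
        [IsScalarTower R Rh Sh] [IsLocalization.Away h' Rh] [IsLocalization.Away (algebraMap R s.B h' * c) Sh]
        [Module Sh Nh] [Module s.B Nh] [IsScalarTower s.B Sh Nh]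
        (f : (s.M ⧸ LinearMap.range s.α) →ₗ[s.B] Nh) (_ : IsBaseChange Sh f) (ph : Ideal Rh) [ph.IsPrime]
        (qh : Ideal Sh) [qh.IsPrime] [ph.LiesOver p] [qh.LiesOver s.qB], CD n Rh Sh Nh ph qh) := by
      rcases hs with hs | hs
      · exact ⟨b, hb, dvd_rfl, 1, Ideal.one_notMem p, Or.inl hs⟩
      · obtain ⟨c, hc1, hc2, h, hh, H⟩ := ih hs b hb
        exact ⟨c, hc1, hc2, h, hh, Or.inr H⟩
    obtain ⟨cB, hcB, hbc, h0, hh0, H⟩ := key
    obtain ⟨h2, hh2, G⟩ := GILoc.exists_geomIntegral_away s.geomInt p s.qB cB hcB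
    obtain ⟨c', hc'⟩ := s.surjSA (algebraMap s.B s.A cB)
    have hc'q : c' ∉ q := by
      intro h
      rw [← s.q0, Ideal.mem_comap, hc'] at h
      apply hcB
      rw [s.overA.over]
      exact h
    refine ⟨g * c', fun h => (Ideal.IsPrime.mem_or_mem inferInstance h).elim hg hc'q, dvd_mul_right _ _,
      h0 * h2, fun h => (Ideal.IsPrime.mem_or_mem inferInstance h).elim hh0 hh2, ?_⟩
    intro h' hdvd hh' Rh Sh Nh _ _ _ _ _ _ _ _ _ _ _ _ _ _ f hf ph _ qh _ _ _
    have hd0 : h0 ∣ h' := (dvd_mul_right h0 h2).trans hdvd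
    have hd2 : h2 ∣ h' := (dvd_mul_left h2 h0).trans hdvd
    -- the ring B'
    obtain ⟨B'', _, _, _, _, _, _, hB⟩ := exists_model R s.B Rh
    have hB''l : IsLocalization.Away (algebraMap R s.B h') B'' := away_of_isPushout (A := Rh) h'
    obtain ⟨B', _, _, _, _, _, hB'l0⟩ : ∃ (B' : Type u) (_ : CommRing B') (_ : Algebra B'' B')
        (_ : Algebra s.B B') (_ : Algebra Rh B') (_ : IsScalarTower s.B B'' B' ∧ IsScalarTower Rh B'' B'),
        IsLocalization.Away (algebraMap s.B B'' cB) B' :=
      ⟨Localization.Away (algebraMap s.B B'' cB), inferInstance, inferInstance, inferInstance,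
        inferInstance, ⟨inferInstance, inferInstance⟩, inferInstance⟩
    rename_i tB'
    obtain ⟨tB1, tB2⟩ := tB'
    let iRB' : Algebra R B' := ((algebraMap s.B B').comp (algebraMap R s.B)).toAlgebra
    have tB3 : IsScalarTower R s.B B' := IsScalarTower.of_algebraMap_eq' rfl
    have tB4 : IsScalarTower R Rh B' := IsScalarTower.of_algebraMap_eq fun r => by
      rw [IsScalarTower.algebraMap_apply R s.B B', IsScalarTower.algebraMap_apply s.B B'' B',
        IsScalarTower.algebraMap_apply Rh B'' B', ← IsScalarTower.algebraMap_apply R Rh B'',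
        ← IsScalarTower.algebraMap_apply R s.B B'']
    have hB'l : IsLocalization.Away (algebraMap R s.B h' * cB) B' :=
      IsLocalization.Away.mul' B'' B' _ _
    have hE1 : Algebra.Etale B'' B' := Algebra.Etale.of_isLocalizationAway (algebraMap s.B B'' cB)
    have hS1 : Algebra.Smooth Rh B'' := smooth_of_isPushout (R := R) (B := s.B)
    have hsm' : Algebra.Smooth Rh B' := Algebra.Smooth.comp Rh B'' B'
    have hrel' : FlatCA.SmoothRelDim s.d Rh B' :=
      smoothRelDim_etale (B := B'') (smoothRelDim_baseChange (R := R) (B := s.B) s.relDim)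
    have hgi' : FlatCA.GeomIntegralFibres Rh B' := G h' hd2 hh' Rh B'
    -- the ring A'
    let x : s.A := algebraMap s.B s.A (algebraMap R s.B h' * cB)
    obtain ⟨A', _, _, hA'l⟩ : ∃ (A' : Type u) (_ : CommRing A') (_ : Algebra s.A A'),
        IsLocalization.Away x A' := ⟨Localization.Away x, inferInstance, inferInstance, inferInstance⟩
    have hxg : algebraMap S s.A g ∣ x :=
      hgb.trans (map_dvd (algebraMap s.B s.A) (hbc.trans (dvd_mul_left _ _)))
    have hA'l2 : IsLocalization.Away (algebraMap S s.A (algebraMap R S h' * (g * c'))) A' := by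
      have e : algebraMap S s.A (algebraMap R S h' * (g * c')) = x * algebraMap S s.A g := by
        simp only [x, map_mul, hc', ← IsScalarTower.algebraMap_apply]
        ring
      rw [e]
      exact away_of_dvd x _ hxg
    let jB : Algebra s.B A' := ((algebraMap s.A A').comp (algebraMap s.B s.A)).toAlgebra
    have tA1 : IsScalarTower s.B s.A A' := IsScalarTower.of_algebraMap_eq' rfl
    let jS : Algebra S A' := ((algebraMap s.A A').comp (algebraMap S s.A)).toAlgebra
    have tA2 : IsScalarTower S s.A A' := IsScalarTower.of_algebraMap_eq' rfl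
    have hu1 : IsUnit (algebraMap s.B A' (algebraMap R s.B h' * cB)) := by
      rw [IsScalarTower.algebraMap_apply s.B s.A A']
      exact IsLocalization.Away.algebraMap_isUnit x
    have hu2 : IsUnit (algebraMap S A' (algebraMap R S h' * (g * c'))) := by
      rw [IsScalarTower.algebraMap_apply S s.A A']
      exact IsLocalization.Away.algebraMap_isUnit _
    let jB' : Algebra B' A' := (IsLocalization.Away.lift (algebraMap R s.B h' * cB) hu1).toAlgebra
    have tA3 : IsScalarTower s.B B' A' := IsScalarTower.of_algebraMap_eq fun r =>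
      (IsLocalization.Away.lift_eq (algebraMap R s.B h' * cB) hu1 r).symm
    let jSh : Algebra Sh A' := (IsLocalization.Away.lift (algebraMap R S h' * (g * c')) hu2).toAlgebra
    have tA4 : IsScalarTower S Sh A' := IsScalarTower.of_algebraMap_eq fun r =>
      (IsLocalization.Away.lift_eq (algebraMap R S h' * (g * c')) hu2 r).symm
    let jRh : Algebra Rh A' := ((algebraMap B' A').comp (algebraMap Rh B')).toAlgebra
    have tA5 : IsScalarTower Rh B' A' := IsScalarTower.of_algebraMap_eq' rfl
    have tA6 : IsScalarTower Rh Sh A' := by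
      apply IsScalarTower.of_algebraMap_eq'
      apply IsLocalization.ringHom_ext (Submonoid.powers h')
      ext r
      simp only [RingHom.comp_apply]
      rw [IsScalarTower.algebraMap_apply Rh B' A', ← IsScalarTower.algebraMap_apply R Rh B',
        ← IsScalarTower.algebraMap_apply R Rh Sh, IsScalarTower.algebraMap_apply R s.B B',
        IsScalarTower.algebraMap_apply R S Sh, ← IsScalarTower.algebraMap_apply s.B B' A',
        ← IsScalarTower.algebraMap_apply S Sh A', IsScalarTower.algebraMap_apply s.B s.A A',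
        IsScalarTower.algebraMap_apply S s.A A', ← IsScalarTower.algebraMap_apply R S s.A,
        ← IsScalarTower.algebraMap_apply R s.B s.A]
    have hP1 : Algebra.IsPushout s.B s.A B' A' :=
      isPushout_away (algebraMap R s.B h' * cB)
    have hP2 : Algebra.IsPushout S s.A Sh A' :=
      isPushout_away (algebraMap R S h' * (g * c'))
    have hP1' : Algebra.IsPushout s.B B' s.A A' := hP1.symm
    have hP2' : Algebra.IsPushout S Sh s.A A' := hP2.symm
    -- the points
    have hhB : algebraMap R s.B h' * cB ∉ s.qB := by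
      intro h
      rcases Ideal.IsPrime.mem_or_mem inferInstance h with h | h
      · apply hh'
        rw [s.overB.over]
        exact h
      · exact hcB h
    obtain ⟨hy1, hy2⟩ := liesOver_map_away (R' := B') (p := s.qB) _ hhB
    have hM : ∀ m ∈ Submonoid.powers h', m ∉ p := by
      rintro _ ⟨k, rfl⟩ h
      exact hh' (Ideal.IsPrime.mem_of_pow_mem inferInstance k h)
    have hE2 : Algebra.Etale R Rh := Algebra.Etale.of_isLocalizationAway h'
    have hM' : ∀ m ∈ Submonoid.powers (algebraMap R s.B h' * cB), m ∉ s.qB := by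
      rintro _ ⟨k, rfl⟩ h
      exact hhB (Ideal.IsPrime.mem_of_pow_mem inferInstance k h)
    have hE3 : Algebra.Etale s.B B' := Algebra.Etale.of_isLocalizationAway (algebraMap R s.B h' * cB)
    have hy3 : (s.qB.map (algebraMap s.B B')).LiesOver ph := by
      constructor
      apply eq_of_comap_eq (Submonoid.powers h')
      have e1 : ph.comap (algebraMap R Rh) = p := by
        have : ph.LiesOver p := inferInstance
        exact this.over.symm
      rw [e1, Ideal.under_def, Ideal.comap_comap, ← IsScalarTower.algebraMap_eq R Rh B',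
        IsScalarTower.algebraMap_eq R s.B B', ← Ideal.comap_comap]
      have e2 : (s.qB.map (algebraMap s.B B')).comap (algebraMap s.B B') = s.qB := hy2.over.symm
      rw [e2]
      exact s.overB.over
    refine CD.succ_of s n (A' := A') (B' := B') f hf ph qh (s.qB.map (algebraMap s.B B'))
      (resTriv_of_isLocalization (Submonoid.powers h') p hM ph)
      (resTriv_of_isLocalization (Submonoid.powers (algebraMap R s.B h' * cB)) s.qB hM' _)
      hsm' hrel' hgi' ?_ ?_
    · intro z' hz hz1 hz2
      apply eq_of_comap_eq (Submonoid.powers (algebraMap R S h' * (g * c')))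
      rw [Ideal.comap_comap, ← IsScalarTower.algebraMap_eq S Sh A',
        IsScalarTower.algebraMap_eq S s.A A', ← Ideal.comap_comap]
      have e1 : z'.comap (algebraMap s.A A') = s.qA := hz2.over.symm
      have e2 : qh.comap (algebraMap S Sh) = q := by
        have : qh.LiesOver q := inferInstance
        exact this.over.symm
      rw [e1, e2, s.q0]
    · rcases H with H | H
      · exact Or.inl H
      · right
        intro K' _ _ _ _ k hk
        exact H h' hd0 hh' k hk ph _

end Groth.Agent.Flat2A.CDevLoc
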