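import Groth.Agent.Flat2A.CDevBC
import Groth.Agent.Proet.EtaleLift

/-!
# The top step of a complete dévissage

`assemble` : given a step of a dévissage `s` over `(R, S, p, q)` and compatible elementary étale maps `R → R'`,
`s.B → B'` such that the cokernel of the step is zero or has a complete dévissage over `B'`, there is an elementary
étale `S → S'` such that the base change of the module to `S'` has a complete dévissage over `R'`.
-/

set_option autoImplicit false
universe u

open TensorProduct

namespace Groth.Agent.Flat2A.CDevTop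

open Groth.Agent.Flat2B.EtaleNhd CDevStep CDevBC

section

variable {R S : Type u} [CommRing R] [CommRing S] [Algebra R S] {N : Type u}
    [AddCommGroup N] [Module S N] {p : Ideal R} {q : Ideal S} [p.IsPrime] [q.IsPrime]

/-- Base change / étale localization of a step of a complete dévissage, where the cokernel may become zero. -/
theorem CD.succ_of' (s : Step R S N p q) (n : ℕ)
    {R' S' N' A' B' : Type u} [CommRing R'] [CommRing S'] [CommRing A'] [CommRing B'] [AddCommGroup N']
    [Algebra R R'] [Algebra R' S'] [Algebra R' A'] [Algebra R' B'] [Algebra S S'] [Algebra S' A']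
    [Algebra S A'] [Algebra s.A A'] [Algebra s.B A'] [Algebra s.B B'] [Algebra B' A'] [Algebra R B']
    [IsScalarTower R' S' A'] [IsScalarTower R' B' A'] [IsScalarTower S S' A'] [IsScalarTower S s.A A']
    [IsScalarTower s.B s.A A'] [IsScalarTower s.B B' A'] [IsScalarTower R s.B B'] [IsScalarTower R R' B']
    [Algebra.IsPushout S S' s.A A'] [Algebra.IsPushout s.B B' s.A A']
    [Module S' N'] [Module S N'] [IsScalarTower S S' N'] (f : N →ₗ[S] N') (hf : IsBaseChange S' f)
    (p' : Ideal R') [p'.IsPrime] (q' : Ideal S') [q'.IsPrime] (y' : Ideal B') [y'.IsPrime]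
    [hpp : p'.LiesOver p] [hyy : y'.LiesOver s.qB] [hyp : y'.LiesOver p']
    (hR : ResTriv R R' p p') (hB : ResTriv s.B B' s.qB y')
    [Module.Flat s.B B'] [Algebra.QuasiFinite R R']
    (hsm : Algebra.Smooth R' B') (hrel : FlatCA.SmoothRelDim s.d R' B')
    (hgi : FlatCA.GeomIntegralFibres R' B')
    (hq' : ∀ z' : Ideal A', z'.IsPrime → z'.LiesOver y' → z'.LiesOver s.qA →
      z'.comap (algebraMap S' A') = q')
    (hnext : ∀ (K' : Type u) [AddCommGroup K'] [Module s.B K'] [Module B' K']
      [IsScalarTower s.B B' K'] (k : (s.M ⧸ LinearMap.range s.α) →ₗ[s.B] K'), IsBaseChange B' k →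
      Subsingleton K' ∨ CD n R' B' K' p' y') : CD (n + 1) R' S' N' p' q' := by
  -- the module
  let M' : Type u := A' ⊗[s.A] s.M
  let g : s.M →ₗ[s.A] M' := TensorProduct.mk s.A A' s.M 1
  have hg : IsBaseChange A' g := TensorProduct.isBaseChange s.A s.M A'
  have tSS : IsScalarTower S S' M' := inferInstance
  have tSA : IsScalarTower S s.A M' := inferInstance
  have hgS : IsBaseChange S' (g.restrictScalars S) := isBaseChange_of_isPushout g hg
  have tBB : IsScalarTower s.B B' M' := inferInstance
  have tBA : IsScalarTower s.B s.A M' := inferInstance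
  have hgB : IsBaseChange B' (g.restrictScalars s.B) := isBaseChange_of_isPushout g hg
  obtain ⟨F, α', hF, hα⟩ := CDevMap.exists_free (B' := B') (g.restrictScalars s.B) s.α
  -- the primes
  have hp' : (p'.map (algebraMap R' B')).IsPrime := by
    have := hsm
    exact CDevPrime.isPrime_map hgi p'
  have hpl : (p'.map (algebraMap R' B')).LiesOver (p.map (algebraMap R s.B)) :=
    CDevPrime.map_liesOver_map p p' y'
  have hPO : Algebra.IsPushout s.B s.A B' A' := Algebra.IsPushout.symm inferInstance
  obtain ⟨z', hz1, hz2, hz3⟩ := exists_prime_of_isPushout (R := s.B) (S := s.A) (R' := B') (S' := A')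
    s.qB s.qA y'
  have hfp : Algebra.FinitePresentation S' A' := by
    have := s.fpSA
    have h1 : Algebra.FinitePresentation S' (S' ⊗[S] s.A) := inferInstance
    exact h1.equiv (Algebra.IsPushout.equiv S S' s.A A')
  have hfin : Module.Finite B' A' := by
    have := s.finiteBA
    have h1 : Module.Finite B' (B' ⊗[s.B] s.A) := inferInstance
    exact Module.Finite.equiv (Algebra.IsPushout.equiv s.B B' s.A A').toLinearEquiv
  have hfinM : Module.Finite A' M' := by
    have := s.finiteM
    infer_instance
  have hfN : IsBaseChange S' ((g.restrictScalars S) ∘ₗ s.isoN.toLinearMap) :=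
    IsBaseChange.comp_equiv s.isoN _ hgS
  let s' : Step R' S' N' p' q' :=
    { A := A'
      B := B'
      M := M'
      r := s.r
      α := α'
      surjSA := surjective_of_isPushout s.surjSA
      fpSA := hfp
      finiteBA := hfin
      smooth := hsm
      geomInt := hgi
      finiteM := hfinM
      isoN := hf.equiv.symm ≪≫ₗ hfN.equiv
      hp := hp'
      fibreIso := CDevMap.bijective_residueField hF hgB s.α α' hα _ _ s.fibreIso
      rpos := s.rpos
      qB := y'
      qA := z'
      hqB := inferInstance
      hqA := hz1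
      overB := hyp
      overA := hz3
      pureTrans := CDevPure.transport hR hB s.pureTrans
      uniq := by
        intro Q hQ hQy
        have h1 : (Q.comap (algebraMap s.A A')).LiesOver s.qB := by
          constructor
          rw [Ideal.under_def, Ideal.comap_comap, ← IsScalarTower.algebraMap_eq s.B s.A A',
            IsScalarTower.algebraMap_eq s.B B' A', ← Ideal.comap_comap]
          have e1 : Q.comap (algebraMap B' A') = y' := hQy.over.symm
          rw [e1]
          exact hyy.over
        have h2 := s.uniq _ h1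
        have h3 : Q.LiesOver s.qA := ⟨h2.symm⟩
        exact hB.pushout_unique (R := s.B) (S := s.A) (R' := B') (S' := A') (q := s.qA)
      q0 := hq' z' hz1 hz3 hz2
      d := s.d
      relDim := hrel }
  refine ⟨s', ?_⟩
  obtain ⟨k, hk, -⟩ := CDevMap.exists_coker hF hgB s.α α' hα
  rcases hnext _ k hk with h | h
  · left
    have h1 : LinearMap.range α' = ⊤ := Submodule.Quotient.subsingleton_iff.mp h
    exact LinearMap.range_eq_top.mp h1
  · right
    exact h


end

theorem exists_lift_pushout (A R S : Type u) [CommRing A] [CommRing R] [Algebra A R]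
    (h : Function.Surjective (algebraMap A R)) [CommRing S] [Algebra R S] [Algebra A S]
    [IsScalarTower A R S] [Algebra.Etale R S] :
    ∃ (B : Type u) (_ : CommRing B) (_ : Algebra A B) (_ : Algebra B S) (_ : IsScalarTower A B S),
      Algebra.Etale A B ∧ Algebra.IsPushout A B R S := by
  obtain ⟨B, _, _, h1, ⟨e⟩⟩ := Groth.Agent.Proet.EtaleLift.exists_etale_lift A R S h
  let i : Algebra B S := ((e.toRingEquiv.toRingHom).comp
    (Algebra.TensorProduct.includeRight : B →ₐ[A] R ⊗[A] B).toRingHom).toAlgebra
  have t : IsScalarTower A B S := IsScalarTower.of_algebraMap_eq fun a => by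
    change algebraMap A S a = e ((Algebra.TensorProduct.includeRight : B →ₐ[A] R ⊗[A] B) (algebraMap A B a))
    rw [AlgHom.commutes, IsScalarTower.algebraMap_apply A R (R ⊗[A] B), AlgEquiv.commutes,
      ← IsScalarTower.algebraMap_apply A R S]
  have h2 : Algebra.IsPushout A R B S :=
    ⟨IsBaseChange.of_equiv e.toLinearEquiv (fun x => rfl)⟩
  exact ⟨B, inferInstance, inferInstance, i, t, h1, h2.symm⟩

theorem assemble {R S : Type u} [CommRing R] [CommRing S] [Algebra R S] {N : Type u} [AddCommGroup N]
    [Module S N] {p : Ideal R} {q : Ideal S} [p.IsPrime] [q.IsPrime] (s : Step R S N p q) (n : ℕ)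
    {R' B' : Type u} [CommRing R'] [CommRing B'] [Algebra R R'] [Algebra s.B B'] [Algebra R' B']
    [Algebra R B'] [IsScalarTower R s.B B'] [IsScalarTower R R' B']
    (p' : Ideal R') (y' : Ideal B') [p'.IsPrime] [y'.IsPrime] [y'.LiesOver p']
    (hR : FlatCA.IsEtaleNhd R R' p p') (hB : FlatCA.IsEtaleNhd s.B B' s.qB y')
    (hgi : FlatCA.GeomIntegralFibres R' B')
    (hnext : ∀ (K' : Type u) [AddCommGroup K'] [Module s.B K'] [Module B' K'] [IsScalarTower s.B B' K']
      (k : (s.M ⧸ LinearMap.range s.α) →ₗ[s.B] K'), IsBaseChange B' k →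
      Subsingleton K' ∨ CD n R' B' K' p' y') :
    ∃ (S' : Type u) (_ : CommRing S') (_ : Algebra S S') (_ : Algebra R' S') (_ : Algebra R S')
      (_ : IsScalarTower R R' S') (_ : IsScalarTower R S S') (q' : Ideal S') (_ : q'.IsPrime),
      FlatCA.IsEtaleNhd S S' q q' ∧ q'.LiesOver p' ∧
      ∀ (N' : Type u) [AddCommGroup N'] [Module S' N'] [Module S N'] [IsScalarTower S S' N']
        (f : N →ₗ[S] N'), IsBaseChange S' f → CD (n + 1) R' S' N' p' q' := by
  have hpp := liesOver hR
  have hRe := etale hR
  have hyy := liesOver hB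
  have hBe := etale hB
  have hsm := s.smooth
  have hqq := s.liesOver_q
  -- B'' = B ⊗ R'
  obtain ⟨B'', _, _, _, _, _, _, hPB⟩ := exists_model R s.B R'
  obtain ⟨_, b1, b2, b3⟩ := exists_algebra_of_isPushout (R := R) (B := s.B) (R' := R') (B' := B'') (A' := B')
  have hEB1 : Algebra.Etale s.B B'' := by
    have := Algebra.Etale.baseChange R R' s.B
    exact Algebra.Etale.of_equiv (Algebra.IsPushout.equiv R s.B R' B'')
  have hEB2 : Algebra.Etale B'' B' := Algebra.Etale.of_restrictScalars s.B B'' B'
  have hS1 : Algebra.Smooth R' B'' := smooth_of_isPushout (R := R) (B := s.B)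
  have hsm' : Algebra.Smooth R' B' := Algebra.Smooth.comp R' B'' B'
  have hrel' : FlatCA.SmoothRelDim s.d R' B' :=
    smoothRelDim_etale (B := B'') (smoothRelDim_baseChange (R := R) (B := s.B) s.relDim)
  -- A'' = A ⊗ R', A' = A ⊗_B B'
  obtain ⟨A'', _, _, _, _, _, _, hPA⟩ := exists_model R s.A R'
  obtain ⟨A', _, _, _, _, _, _, hPA'⟩ := exists_model s.B s.A B'
  let jR' : Algebra R' A' := ((algebraMap B' A').comp (algebraMap R' B')).toAlgebra
  have t1 : IsScalarTower R' B' A' := IsScalarTower.of_algebraMap_eq' rfl
  let jR : Algebra R A' := ((algebraMap R' A').comp (algebraMap R R')).toAlgebra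
  have t2 : IsScalarTower R R' A' := IsScalarTower.of_algebraMap_eq' rfl
  have t3 : IsScalarTower R s.A A' := IsScalarTower.of_algebraMap_eq fun r => by
    rw [IsScalarTower.algebraMap_apply R R' A', IsScalarTower.algebraMap_apply R' B' A',
      ← IsScalarTower.algebraMap_apply R R' B', IsScalarTower.algebraMap_apply R s.B B',
      ← IsScalarTower.algebraMap_apply s.B B' A', IsScalarTower.algebraMap_apply s.B s.A A',
      ← IsScalarTower.algebraMap_apply R s.B s.A]
  obtain ⟨_, a1, a2, a3⟩ := exists_algebra_of_isPushout (R := R) (B := s.A) (R' := R') (B' := A'') (A' := A')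
  have hEA1 : Algebra.Etale s.A A'' := by
    have := Algebra.Etale.baseChange R R' s.A
    exact Algebra.Etale.of_equiv (Algebra.IsPushout.equiv R s.A R' A'')
  have hEA2 : Algebra.Etale s.A A' := by
    have := Algebra.Etale.baseChange s.B B' s.A
    exact Algebra.Etale.of_equiv (Algebra.IsPushout.equiv s.B s.A B' A')
  have hEA3 : Algebra.Etale A'' A' := Algebra.Etale.of_restrictScalars s.A A'' A'
  -- S'' = S ⊗ R'
  obtain ⟨S'', _, _, _, _, _, _, hPS⟩ := exists_model R S R'
  let jSA'' : Algebra S A'' := ((algebraMap s.A A'').comp (algebraMap S s.A)).toAlgebra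
  have t4 : IsScalarTower S s.A A'' := IsScalarTower.of_algebraMap_eq' rfl
  have t5 : IsScalarTower R S A'' := IsScalarTower.of_algebraMap_eq fun r => by
    rw [IsScalarTower.algebraMap_apply S s.A A'', ← IsScalarTower.algebraMap_apply R S s.A,
      ← IsScalarTower.algebraMap_apply R s.A A'']
  obtain ⟨_, c1, c2, c3⟩ := exists_algebra_of_isPushout (R := R) (B := S) (R' := R') (B' := S'') (A' := A'')
  have hPSA : Algebra.IsPushout S s.A S'' A'' := (Algebra.IsPushout.comp_iff R S R' S'').mp hPA
  have hPSA' : Algebra.IsPushout S S'' s.A A'' := hPSA.symm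
  have hsurj : Function.Surjective (algebraMap S'' A'') :=
    surjective_of_isPushout (S := S) (A := s.A) s.surjSA
  have hES : Algebra.Etale S S'' := by
    have := Algebra.Etale.baseChange R R' S
    exact Algebra.Etale.of_equiv (Algebra.IsPushout.equiv R S R' S'')
  let jS''A' : Algebra S'' A' := ((algebraMap A'' A').comp (algebraMap S'' A'')).toAlgebra
  have t6 : IsScalarTower S'' A'' A' := IsScalarTower.of_algebraMap_eq' rfl
  obtain ⟨S', _, _, _, _, hES', hPS'⟩ := exists_lift_pushout S'' A'' A' hsurj
  let jSS' : Algebra S S' := ((algebraMap S'' S').comp (algebraMap S S'')).toAlgebra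
  have t7 : IsScalarTower S S'' S' := IsScalarTower.of_algebraMap_eq' rfl
  let jR'S' : Algebra R' S' := ((algebraMap S'' S').comp (algebraMap R' S'')).toAlgebra
  have t8 : IsScalarTower R' S'' S' := IsScalarTower.of_algebraMap_eq' rfl
  let jRS' : Algebra R S' := ((algebraMap R' S').comp (algebraMap R R')).toAlgebra
  have t9 : IsScalarTower R R' S' := IsScalarTower.of_algebraMap_eq' rfl
  have t10 : IsScalarTower R S S' := IsScalarTower.of_algebraMap_eq fun r => by
    rw [IsScalarTower.algebraMap_apply R R' S', IsScalarTower.algebraMap_apply R' S'' S',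
      ← IsScalarTower.algebraMap_apply R R' S'', IsScalarTower.algebraMap_apply R S S'',
      ← IsScalarTower.algebraMap_apply S S'' S']
  let jSA' : Algebra S A' := ((algebraMap s.A A').comp (algebraMap S s.A)).toAlgebra
  have t11 : IsScalarTower S s.A A' := IsScalarTower.of_algebraMap_eq' rfl
  have t12 : IsScalarTower S S' A' := IsScalarTower.of_algebraMap_eq fun r => by
    rw [IsScalarTower.algebraMap_apply S S'' S', ← IsScalarTower.algebraMap_apply S'' S' A',
      IsScalarTower.algebraMap_apply S'' A'' A', ← IsScalarTower.algebraMap_apply S S'' A'',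
      IsScalarTower.algebraMap_apply S s.A A', IsScalarTower.algebraMap_apply S s.A A'',
      ← IsScalarTower.algebraMap_apply s.A A'' A']
  have t13 : IsScalarTower S S'' A' := IsScalarTower.of_algebraMap_eq fun r => by
    rw [IsScalarTower.algebraMap_apply S S' A', IsScalarTower.algebraMap_apply S S'' S',
      ← IsScalarTower.algebraMap_apply S'' S' A']
  have t14 : IsScalarTower R' S' A' := IsScalarTower.of_algebraMap_eq fun r => by
    rw [IsScalarTower.algebraMap_apply R' S'' S', ← IsScalarTower.algebraMap_apply S'' S' A',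
      IsScalarTower.algebraMap_apply S'' A'' A', ← IsScalarTower.algebraMap_apply R' S'' A'',
      ← IsScalarTower.algebraMap_apply R' A'' A']
  have t15 : IsScalarTower S A'' A' := IsScalarTower.of_algebraMap_eq fun r => by
    rw [IsScalarTower.algebraMap_apply S s.A A', IsScalarTower.algebraMap_apply S s.A A'',
      ← IsScalarTower.algebraMap_apply s.A A'' A']
  have hP : Algebra.IsPushout S S' s.A A' := (Algebra.IsPushout.comp_iff S S'' s.A A'').mpr hPS'
  have hPA'' : Algebra.IsPushout s.B B' s.A A' := hPA'.symm
  -- the points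
  obtain ⟨z', hz1, hz2, hz3⟩ := exists_prime_of_isPushout (R := s.B) (S := s.A) (R' := B') (S' := A')
    s.qB s.qA y'
  have hzq : (z'.comap (algebraMap S' A')).LiesOver q := by
    constructor
    rw [Ideal.under_def, Ideal.comap_comap, ← IsScalarTower.algebraMap_eq S S' A',
      IsScalarTower.algebraMap_eq S s.A A', ← Ideal.comap_comap]
    have e1 : z'.comap (algebraMap s.A A') = s.qA := hz2.over.symm
    rw [e1, s.q0]
  have hzp : (z'.comap (algebraMap S' A')).LiesOver p' := by
    constructor
    rw [Ideal.under_def, Ideal.comap_comap, ← IsScalarTower.algebraMap_eq R' S' A',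
      IsScalarTower.algebraMap_eq R' B' A', ← Ideal.comap_comap]
    have e1 : z'.comap (algebraMap B' A') = y' := hz3.over.symm
    rw [e1]
    have : y'.LiesOver p' := inferInstance
    exact this.over
  have hzz : z'.LiesOver (z'.comap (algebraMap S' A')) := ⟨rfl⟩
  have hrA : ResTriv s.A A' s.qA z' := (resTriv hB).pushout (R := s.B) (S := s.A) (R' := B') (S' := A') z'
  have hrS : ResTriv S A' q z' :=
    (resTriv_of_surjective s.surjSA q (Ideal.IsPrime.ne_top inferInstance) s.qA).trans hrA
  have hEt : Algebra.Etale S S' := Algebra.Etale.comp S S'' S'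
  have hnhd : FlatCA.IsEtaleNhd S S' q (z'.comap (algebraMap S' A')) :=
    isEtaleNhd_of (hrS.of_comp_left (r := z'))
  refine ⟨S', inferInstance, inferInstance, inferInstance, inferInstance, inferInstance, inferInstance,
    z'.comap (algebraMap S' A'), inferInstance, hnhd, hzp, ?_⟩
  intro N' _ _ _ _ f hf
  refine CD.succ_of' s n (A' := A') (B' := B') f hf p' _ y' (resTriv hR) (resTriv hB) hsm' hrel' hgi ?_ hnext
  intro z'' hz'' h1 h2
  have : z'' = z' := (resTriv hB).pushout_unique (R := s.B) (S := s.A) (R' := B') (S' := A') (q := s.qA)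
  rw [this]

end Groth.Agent.Flat2A.CDevTop
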