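import Groth.Agent.Flat2A.CDevLoc
import Groth.Agent.Flat2A.CDevTop
import Groth.Agent.Flat2A.DimSmooth
import Groth.Agent.Flat2B.DimFibre
import Groth.Agent.Flat2B.DimFibre3
import Groth.Agent.Flat2B.GIN
import Groth.Agent.S1249
import Groth.Agent.Ega43.FibreDimFinite

/-!
# Existence of complete dévissages at a point after étale localization
-/

set_option autoImplicit false
universe u

open TensorProduct

namespace Groth.Agent.Flat2A.CDevMain

open Groth.Agent.Flat2B.EtaleNhd CDevStep CDevBC CDevLoc CDevTop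

/-- GIN in terms of models. -/
theorem gin {R D : Type u} [CommRing R] [CommRing D] [Algebra R D] [Algebra.Smooth R D]
    (p : Ideal R) [p.IsPrime] (y : Ideal D) [y.IsPrime] [y.LiesOver p] (h : FlatCA.PurelyTranscendental p y) :
    ∃ (R' D' : Type u) (_ : CommRing R') (_ : CommRing D') (_ : Algebra R R') (_ : Algebra R' D')
      (_ : Algebra D D') (_ : Algebra R D') (_ : IsScalarTower R R' D') (_ : IsScalarTower R D D')
      (_ : Algebra.IsPushout R D R' D') (p' : Ideal R') (_ : p'.IsPrime)
      (y' : Ideal D') (_ : y'.IsPrime) (b : D'),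
      FlatCA.IsEtaleNhd R R' p p' ∧ y'.LiesOver p' ∧ y'.LiesOver y ∧ b ∉ y' ∧
      ∀ c : D', c ∉ y' → b ∣ c → ∃ h : R', h ∉ p' ∧ ∀ h' : R', h ∣ h' → h' ∉ p' →
        ∀ (Rh Dh : Type u) [CommRing Rh] [CommRing Dh] [Algebra R' Rh] [Algebra D' Dh] [Algebra Rh Dh]
          [Algebra R' Dh] [IsScalarTower R' Rh Dh] [IsScalarTower R' D' Dh]
          [IsLocalization.Away h' Rh] [IsLocalization.Away (algebraMap R' D' h' * c) Dh],
          FlatCA.GeomIntegralFibres Rh Dh := by
  obtain ⟨R', _, _, p', _, y', _, b, h1, h2, h3, h4, h5⟩ := Flat2B.GIN.exists_geomIntegral p y h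
  let _ : Algebra D (R' ⊗[R] D) := Algebra.TensorProduct.rightAlgebra
  refine ⟨R', R' ⊗[R] D, inferInstance, inferInstance, inferInstance, inferInstance, inferInstance,
    inferInstance, inferInstance, inferInstance, ?_, p', inferInstance, y', inferInstance, b, h1, h2,
    ⟨h3.symm⟩, h4, ?_⟩
  · exact Algebra.IsPushout.symm inferInstance
  · intro c hc hbc
    obtain ⟨h, hh, H⟩ := h5 c hc hbc
    refine ⟨h, hh, ?_⟩
    intro h' hd hh' Rh Dh _ _ _ _ _ _ _ _ _ _
    exact H h' hd hh' Rh Dh

theorem exists_factor {R S T : Type u} [CommRing R] [CommRing S] [CommRing T] [Algebra R S] [Algebra S T]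
    [Algebra R T] [IsScalarTower R S T] {M N P : Type u} [AddCommGroup M] [Module R M] [AddCommGroup N]
    [Module S N] [Module R N] [IsScalarTower R S N] [AddCommGroup P] [Module T P] [Module R P]
    [IsScalarTower R T P] [Module S P] [IsScalarTower S T P] [IsScalarTower R S P] (g : M →ₗ[R] N)
    (hg : IsBaseChange S g) (f : M →ₗ[R] P) (hf : IsBaseChange T f) :
    ∃ h : N →ₗ[S] P, IsBaseChange T h := by
  refine ⟨hg.lift f, IsBaseChange.of_comp hg ?_⟩
  rw [hg.lift_comp f]
  exact hf

theorem exists_away (R : Type u) [CommRing R] (x : R) : ∃ (R' : Type u) (_ : CommRing R') (_ : Algebra R R'),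
    IsLocalization.Away x R' := ⟨Localization.Away x, inferInstance, inferInstance, inferInstance⟩

theorem exists_away_algebra {R D Rh Dh : Type u} [CommRing R] [CommRing D] [CommRing Rh] [CommRing Dh]
    [Algebra R D] [Algebra R Rh] [Algebra D Dh] (h : R) (c : D) [IsLocalization.Away h Rh]
    [IsLocalization.Away (algebraMap R D h * c) Dh] : ∃ (_ : Algebra Rh Dh) (_ : Algebra R Dh),
    IsScalarTower R Rh Dh ∧ IsScalarTower R D Dh := by
  let i : Algebra R Dh := ((algebraMap D Dh).comp (algebraMap R D)).toAlgebra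
  have t : IsScalarTower R D Dh := IsScalarTower.of_algebraMap_eq' rfl
  have hu : IsUnit (algebraMap R Dh h) := by
    rw [IsScalarTower.algebraMap_apply R D Dh]
    refine isUnit_of_dvd_unit (map_dvd (algebraMap D Dh) (dvd_mul_right _ c)) ?_
    exact IsLocalization.Away.algebraMap_isUnit _
  refine ⟨(IsLocalization.Away.lift h hu).toAlgebra, i, ?_, t⟩
  let j : Algebra Rh Dh := (IsLocalization.Away.lift h hu).toAlgebra
  exact IsScalarTower.of_algebraMap_eq fun r => (IsLocalization.Away.lift_eq h hu r).symm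

theorem liesOver_away {R D Rh Dh : Type u} [CommRing R] [CommRing D] [CommRing Rh] [CommRing Dh]
    [Algebra R D] [Algebra R Rh] [Algebra D Dh] [Algebra Rh Dh] [Algebra R Dh] [IsScalarTower R Rh Dh]
    [IsScalarTower R D Dh] (M : Submonoid R) [IsLocalization M Rh] (p : Ideal R) (y : Ideal D)
    (p' : Ideal Rh) (y' : Ideal Dh) [y.LiesOver p] [hp : p'.LiesOver p] [y'.LiesOver y] : y'.LiesOver p' := by
  constructor
  apply eq_of_comap_eq M
  have e1 : p'.comap (algebraMap R Rh) = p := hp.over.symm
  rw [e1, Ideal.under_def, Ideal.comap_comap, ← IsScalarTower.algebraMap_eq R Rh Dh,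
    IsScalarTower.algebraMap_eq R D Dh, ← Ideal.comap_comap]
  have e2 : y'.comap (algebraMap D Dh) = y := (Ideal.LiesOver.over (p := y) (P := y')).symm
  rw [e2]
  exact Ideal.LiesOver.over (p := p) (P := y)

theorem shrink1 {R D : Type u} [CommRing R] [CommRing D] [Algebra R D] [Algebra.Smooth R D]
    {K : Type u} [AddCommGroup K] [Module D K]
    (p : Ideal R) [p.IsPrime] (y : Ideal D) [y.IsPrime] [y.LiesOver p]
    (h : FlatCA.PurelyTranscendental p y) (n : ℕ) (hCD : CD n R D K p y) :
    ∃ (R' D' : Type u) (_ : CommRing R') (_ : CommRing D') (_ : Algebra R R') (_ : Algebra R' D')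
      (_ : Algebra D D') (_ : Algebra R D') (_ : IsScalarTower R R' D') (_ : IsScalarTower R D D')
      (p' : Ideal R') (_ : p'.IsPrime) (y' : Ideal D') (_ : y'.IsPrime),
      FlatCA.IsEtaleNhd R R' p p' ∧ FlatCA.IsEtaleNhd D D' y y' ∧ y'.LiesOver p' ∧
      FlatCA.GeomIntegralFibres R' D' ∧
      ∀ (K' : Type u) [AddCommGroup K'] [Module D' K'] [Module D K'] [IsScalarTower D D' K']
        (f : K →ₗ[D] K'), IsBaseChange D' f → CD n R' D' K' p' y' := by
  obtain ⟨R3, D3, _, _, _, _, _, _, _, _, _, p3, _, y3, _, b, hn3, hy3p, hy3y, hb, G⟩ := gin p y h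
  have hCD3 : CD n R3 D3 (D3 ⊗[D] K) p3 y3 :=
    CD.baseChange n hCD (TensorProduct.mk D D3 K 1) (TensorProduct.isBaseChange D K D3) p3 y3 hn3
  obtain ⟨c, hc, hbc, h1, hh1, H1⟩ := CD.restrict n hCD3 b hb
  obtain ⟨h2, hh2, H2⟩ := G c hc hbc
  have hh : h1 * h2 ∉ p3 := fun h => (Ideal.IsPrime.mem_or_mem inferInstance h).elim hh1 hh2
  obtain ⟨R4, _, _, hR4⟩ := exists_away R3 (h1 * h2)
  obtain ⟨D4, _, _, hD4⟩ := exists_away D3 (algebraMap R3 D3 (h1 * h2) * c)
  obtain ⟨_, _, t1, t2⟩ := exists_away_algebra (R := R3) (D := D3) (Rh := R4) (Dh := D4) (h1 * h2) c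
  have hc4 : algebraMap R3 D3 (h1 * h2) * c ∉ y3 := by
    intro h
    rcases Ideal.IsPrime.mem_or_mem inferInstance h with h | h
    · apply hh
      rw [hy3p.over]
      exact h
    · exact hc h
  obtain ⟨hp4, hp4'⟩ := liesOver_map_away (R' := R4) (p := p3) _ hh
  obtain ⟨hy4, hy4'⟩ := liesOver_map_away (R' := D4) (p := y3) _ hc4
  have hyp : (y3.map (algebraMap D3 D4)).LiesOver (p3.map (algebraMap R3 R4)) :=
    liesOver_away (Submonoid.powers (h1 * h2)) p3 y3 _ _
  have hn4 : FlatCA.IsEtaleNhd R3 R4 p3 (p3.map (algebraMap R3 R4)) :=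
    isEtaleNhd_of_isLocalization_away _ hh
  have hn4' : FlatCA.IsEtaleNhd D3 D4 y3 (y3.map (algebraMap D3 D4)) :=
    isEtaleNhd_of_isLocalization_away _ hc4
  have hn3' : FlatCA.IsEtaleNhd D D3 y y3 :=
    isEtaleNhd_pushout (R := R) (R' := R3) (S := D) (S' := D3) (p := p) hn3 inferInstance y3 hy3y hy3p
  let i1 : Algebra R R4 := ((algebraMap R3 R4).comp (algebraMap R R3)).toAlgebra
  have t3 : IsScalarTower R R3 R4 := IsScalarTower.of_algebraMap_eq' rfl
  let i2 : Algebra D D4 := ((algebraMap D3 D4).comp (algebraMap D D3)).toAlgebra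
  have t4 : IsScalarTower D D3 D4 := IsScalarTower.of_algebraMap_eq' rfl
  let i3 : Algebra R D4 := ((algebraMap R4 D4).comp (algebraMap R R4)).toAlgebra
  have t5 : IsScalarTower R R4 D4 := IsScalarTower.of_algebraMap_eq' rfl
  have t6 : IsScalarTower R D D4 := IsScalarTower.of_algebraMap_eq fun r => by
    rw [IsScalarTower.algebraMap_apply R R4 D4, IsScalarTower.algebraMap_apply R R3 R4,
      ← IsScalarTower.algebraMap_apply R3 R4 D4, IsScalarTower.algebraMap_apply R3 D3 D4,
      ← IsScalarTower.algebraMap_apply R R3 D3, IsScalarTower.algebraMap_apply R D D3,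
      ← IsScalarTower.algebraMap_apply D D3 D4]
  refine ⟨R4, D4, inferInstance, inferInstance, i1, inferInstance, i2, i3, t5, t6,
    p3.map (algebraMap R3 R4), hp4, y3.map (algebraMap D3 D4), hy4, isEtaleNhd_trans hn3 hn4,
    isEtaleNhd_trans hn3' hn4', hyp, H2 _ (dvd_mul_left _ _) hh R4 D4, ?_⟩
  intro K' _ _ _ _ f hf
  let j1 : Module D3 K' := Module.compHom K' (algebraMap D3 D4)
  have s1 : IsScalarTower D3 D4 K' := IsScalarTower.of_algebraMap_smul fun r x => rfl
  have s2 : IsScalarTower D D3 K' := IsScalarTower.of_algebraMap_smul fun r x => by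
    rw [← algebraMap_smul D4 (algebraMap D D3 r) x, ← IsScalarTower.algebraMap_apply D D3 D4,
      algebraMap_smul]
  obtain ⟨g, hg⟩ := exists_factor (TensorProduct.mk D D3 K 1) (TensorProduct.isBaseChange D K D3) f hf
  exact H1 (h1 * h2) (dvd_mul_right _ _) hh g hg _ _

theorem exists_alpha {D : Type u} [CommRing D] (P : Ideal D) [P.IsPrime] (G : Type u) [AddCommGroup G]
    [Module D G] [Module.Finite D G] : ∃ (r : ℕ) (α : (Fin r → D) →ₗ[D] G),
      Function.Bijective (α.baseChange P.ResidueField) := by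
  let κ := P.ResidueField
  let s : Set (κ ⊗[D] G) := Set.range (fun g : G => (1 : κ) ⊗ₜ[D] g)
  have hs : Submodule.span κ s = ⊤ := by
    rw [eq_top_iff]
    rintro x -
    induction x using TensorProduct.induction_on with
    | zero => exact zero_mem _
    | tmul a g =>
      have : a ⊗ₜ[D] g = a • ((1 : κ) ⊗ₜ[D] g) := by rw [TensorProduct.smul_tmul', smul_eq_mul, mul_one]
      rw [this]
      exact Submodule.smul_mem _ _ (Submodule.subset_span ⟨g, rfl⟩)
    | add x y hx hy => exact add_mem hx hy
  obtain ⟨b, hb1, hb2, hb3⟩ := exists_linearIndependent κ s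
  have hfin : Finite b := hb3.setFinite
  obtain ⟨r, ⟨e⟩⟩ := Finite.exists_equiv_fin b
  let B : Module.Basis b κ (κ ⊗[D] G) := Module.Basis.mk hb3 (by
    rw [Subtype.range_coe, hb2, hs])
  let B' : Module.Basis (Fin r) κ (κ ⊗[D] G) := B.reindex e
  have hB' : ∀ i, ∃ g : G, B' i = (1 : κ) ⊗ₜ[D] g := by
    intro i
    obtain ⟨g, hg⟩ := hb1 (e.symm i).2
    refine ⟨g, ?_⟩
    rw [Module.Basis.reindex_apply, Module.Basis.mk_apply]
    exact hg.symm
  choose g hg using hB'
  refine ⟨r, (Pi.basisFun D (Fin r)).constr D g, ?_⟩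
  have key : ((Pi.basisFun D (Fin r)).constr D g).baseChange κ =
      ((Algebra.TensorProduct.basis κ (Pi.basisFun D (Fin r))).equiv B' (Equiv.refl _)).toLinearMap := by
    apply (Algebra.TensorProduct.basis κ (Pi.basisFun D (Fin r))).ext
    intro i
    rw [LinearEquiv.coe_coe, Module.Basis.equiv_apply, Algebra.TensorProduct.basis_apply,
      LinearMap.baseChange_tmul, Module.Basis.constr_basis, Equiv.refl_apply, hg]
  change Function.Bijective (((Pi.basisFun D (Fin r)).constr D g).baseChange κ)
  rw [key]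
  exact LinearEquiv.bijective _

/-- An elementary dévissage is a step of a dévissage. -/
theorem exists_step {R S : Type u} [CommRing R] [CommRing S] [Algebra R S] {N : Type u} [AddCommGroup N]
    [Module S N] {p : Ideal R} {q : Ideal S} [p.IsPrime] [q.IsPrime] {n : ℕ}
    (E : FlatCA.ElemDevissage R S N p q n) [hp : (E.p'.map (algebraMap E.R' E.D)).IsPrime]
    (hnt : Nontrivial ((E.p'.map (algebraMap E.R' E.D)).ResidueField ⊗[E.D] E.G)) :
    ∃ s : Step E.R' E.S' E.N' E.p' E.q', s.d = n := by
  have h1 := E.finiteDC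
  have h2 := E.finiteG
  have hfin : Module.Finite E.D E.G := Module.Finite.trans E.C E.G
  obtain ⟨r, α, hα⟩ := exists_alpha (E.p'.map (algebraMap E.R' E.D)) E.G
  have hr : 0 < r := by
    rw [Nat.pos_iff_ne_zero]
    rintro rfl
    have h3 : Subsingleton ((E.p'.map (algebraMap E.R' E.D)).ResidueField ⊗[E.D] (Fin 0 → E.D)) :=
      inferInstance
    have h4 : Subsingleton ((E.p'.map (algebraMap E.R' E.D)).ResidueField ⊗[E.D] E.G) :=
      hα.2.subsingleton
    exact not_nontrivial_iff_subsingleton.mpr h4 hnt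
  exact ⟨{ A := E.C
           B := E.D
           M := E.G
           r := r
           α := α
           surjSA := E.surjC
           fpSA := E.fpC
           finiteBA := E.finiteDC
           smooth := DimSmooth.smooth_of_smoothRelDim n E.smooth
           geomInt := E.geomInt
           finiteM := E.finiteG
           isoN := E.iso
           hp := hp
           fibreIso := hα
           rpos := hr
           qB := E.y
           qA := E.z
           pureTrans := E.pureTrans
           uniq := E.uniq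
           q0 := E.zOver.over.symm
           d := n
           relDim := E.smooth }, rfl⟩

/-- After passing to elementary étale neighbourhoods there is a complete dévissage at the point. -/
def Concl (R S : Type u) [CommRing R] [CommRing S] [Algebra R S] (N : Type u) [AddCommGroup N] [Module S N]
    (p : Ideal R) (q : Ideal S) [p.IsPrime] [q.IsPrime] : Prop :=
  ∃ (R' S' : Type u) (_ : CommRing R') (_ : CommRing S') (_ : Algebra R R') (_ : Algebra S S')
    (_ : Algebra R' S') (_ : Algebra R S') (_ : IsScalarTower R R' S') (_ : IsScalarTower R S S')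
    (p' : Ideal R') (q' : Ideal S') (_ : p'.IsPrime) (_ : q'.IsPrime),
    FlatCA.IsEtaleNhd R R' p p' ∧ FlatCA.IsEtaleNhd S S' q q' ∧ q'.LiesOver p' ∧
    ∃ n, ∀ (N' : Type u) [AddCommGroup N'] [Module S' N'] [Module S N'] [IsScalarTower S S' N']
      (f : N →ₗ[S] N'), IsBaseChange S' f → CD n R' S' N' p' q'

theorem concl_of_step {R S : Type u} [CommRing R] [CommRing S] [Algebra R S] {N : Type u} [AddCommGroup N]
    [Module S N] {p : Ideal R} {q : Ideal S} [p.IsPrime] [q.IsPrime] (s : Step R S N p q)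
    (ih : (⟨s.qB, inferInstance⟩ : PrimeSpectrum s.B) ∈ Module.support s.B (s.M ⧸ LinearMap.range s.α) →
      Concl R s.B (s.M ⧸ LinearMap.range s.α) p s.qB) : Concl R S N p q := by
  have hsm := s.smooth
  have hqp := s.overB
  by_cases hK : (⟨s.qB, inferInstance⟩ : PrimeSpectrum s.B) ∈ Module.support s.B (s.M ⧸ LinearMap.range s.α)
  · obtain ⟨R2, D2, _, _, _, _, _, _, t1, t2, p2, y2, _, _, hn2, hn2', hyp2, n, H⟩ := ih hK
    have hp2 := liesOver hn2
    have hy2 := liesOver hn2'
    have he2 := etale hn2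
    have he2' := etale hn2'
    have hsm1 : Algebra.Smooth R D2 := Algebra.Smooth.comp R s.B D2
    have hsm2 : Algebra.Smooth R2 D2 :=
      { formallySmooth := Algebra.FormallySmooth.of_restrictScalars R R2 D2
        finitePresentation := Algebra.FinitePresentation.of_restrict_scalars_finitePresentation R R2 D2 }
    have hpt : FlatCA.PurelyTranscendental p2 y2 :=
      CDevPure.transport (resTriv hn2) (resTriv hn2') s.pureTrans
    obtain ⟨R4, D4, _, _, _, _, _, _, t3, t4, p4, _, y4, _, hn4, hn4', hyp4, hgi, H4⟩ :=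
      shrink1 p2 y2 hpt n (H _ (TensorProduct.mk s.B D2 (s.M ⧸ LinearMap.range s.α) 1)
        (TensorProduct.isBaseChange s.B _ D2))
    let i1 : Algebra R R4 := ((algebraMap R2 R4).comp (algebraMap R R2)).toAlgebra
    have u1 : IsScalarTower R R2 R4 := IsScalarTower.of_algebraMap_eq' rfl
    let i2 : Algebra s.B D4 := ((algebraMap D2 D4).comp (algebraMap s.B D2)).toAlgebra
    have u2 : IsScalarTower s.B D2 D4 := IsScalarTower.of_algebraMap_eq' rfl
    let i3 : Algebra R D4 := ((algebraMap R4 D4).comp (algebraMap R R4)).toAlgebra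
    have u3 : IsScalarTower R R4 D4 := IsScalarTower.of_algebraMap_eq' rfl
    have u4 : IsScalarTower R s.B D4 := IsScalarTower.of_algebraMap_eq fun r => by
      rw [IsScalarTower.algebraMap_apply R R4 D4, IsScalarTower.algebraMap_apply R R2 R4,
        ← IsScalarTower.algebraMap_apply R2 R4 D4, IsScalarTower.algebraMap_apply R2 D2 D4,
        ← IsScalarTower.algebraMap_apply R R2 D2, IsScalarTower.algebraMap_apply R s.B D2,
        ← IsScalarTower.algebraMap_apply s.B D2 D4]
    have hnR : FlatCA.IsEtaleNhd R R4 p p4 := isEtaleNhd_trans hn2 hn4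
    obtain ⟨S', _, _, _, _, v1, v2, q', _, w1, w2, w3⟩ := assemble s n p4 y4 hnR
      (isEtaleNhd_trans hn2' hn4') hgi (by
        intro K' _ _ _ _ k hk
        right
        let j1 : Module D2 K' := Module.compHom K' (algebraMap D2 D4)
        have s1 : IsScalarTower D2 D4 K' := IsScalarTower.of_algebraMap_smul fun r x => rfl
        have s2 : IsScalarTower s.B D2 K' := IsScalarTower.of_algebraMap_smul fun r x => by
          rw [← algebraMap_smul D4 (algebraMap s.B D2 r) x, ← IsScalarTower.algebraMap_apply s.B D2 D4,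
            algebraMap_smul]
        obtain ⟨g, hg⟩ := exists_factor (TensorProduct.mk s.B D2 (s.M ⧸ LinearMap.range s.α) 1)
          (TensorProduct.isBaseChange s.B _ D2) k hk
        exact H4 K' g hg)
    exact ⟨R4, S', inferInstance, inferInstance, inferInstance, inferInstance, inferInstance,
      inferInstance, v1, v2, p4, q', inferInstance, inferInstance, hnR, w1, w2, n + 1, w3⟩
  · have h1 := s.finiteBA
    have h2 := s.finiteM
    have hfin : Module.Finite s.B s.M := Module.Finite.trans s.A s.M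
    rw [Module.support_eq_zeroLocus, PrimeSpectrum.mem_zeroLocus, SetLike.coe_subset_coe,
      SetLike.not_le_iff_exists] at hK
    obtain ⟨g, hg1, hg2⟩ := hK
    obtain ⟨h, hh, H⟩ := GILoc.exists_geomIntegral_away s.geomInt p s.qB g hg2
    obtain ⟨R4, _, _, hR4⟩ := exists_away R h
    obtain ⟨D4, _, _, hD4⟩ := exists_away s.B (algebraMap R s.B h * g)
    obtain ⟨_, _, t1, t2⟩ := exists_away_algebra (R := R) (D := s.B) (Rh := R4) (Dh := D4) h g
    have hc4 : algebraMap R s.B h * g ∉ s.qB := by
      intro h'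
      rcases Ideal.IsPrime.mem_or_mem inferInstance h' with h' | h'
      · apply hh
        rw [hqp.over]
        exact h'
      · exact hg2 h'
    obtain ⟨hp4, hp4'⟩ := liesOver_map_away (R' := R4) (p := p) _ hh
    obtain ⟨hy4, hy4'⟩ := liesOver_map_away (R' := D4) (p := s.qB) _ hc4
    have hyp : (s.qB.map (algebraMap s.B D4)).LiesOver (p.map (algebraMap R R4)) :=
      liesOver_away (Submonoid.powers h) p s.qB _ _
    have hn4 : FlatCA.IsEtaleNhd R R4 p (p.map (algebraMap R R4)) :=
      isEtaleNhd_of_isLocalization_away _ hh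
    have hn4' : FlatCA.IsEtaleNhd s.B D4 s.qB (s.qB.map (algebraMap s.B D4)) :=
      isEtaleNhd_of_isLocalization_away _ hc4
    obtain ⟨S', _, _, _, _, v1, v2, q', _, w1, w2, w3⟩ := assemble s 0 _ _ hn4 hn4'
      (H h dvd_rfl hh R4 D4) (by
        intro K' _ _ _ _ k hk
        left
        have hu : IsUnit (algebraMap s.B D4 g) := by
          refine isUnit_of_dvd_unit (map_dvd (algebraMap s.B D4) (dvd_mul_left g (algebraMap R s.B h))) ?_
          exact IsLocalization.Away.algebraMap_isUnit _
        have hz : ∀ x : K', algebraMap s.B D4 g • x = 0 := by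
          intro x
          induction x using hk.inductionOn with
          | zero => rw [smul_zero]
          | tmul m =>
            rw [algebraMap_smul, ← map_smul, Module.mem_annihilator.mp hg1 m, map_zero]
          | smul a m hm => rw [smul_comm, hm, smul_zero]
          | add m n hm hn => rw [smul_add, hm, hn, add_zero]
        refine ⟨fun a b => ?_⟩
        have e1 : ∀ x : K', x = 0 := fun x => hu.smul_eq_zero.mp (hz x)
        rw [e1 a, e1 b])
    exact ⟨R4, S', inferInstance, inferInstance, inferInstance, inferInstance, inferInstance,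
      inferInstance, v1, v2, _, q', inferInstance, inferInstance, hn4, w1, w2, 1, w3⟩

theorem Concl.trans {R S R1 S1 : Type u} [CommRing R] [CommRing S] [CommRing R1] [CommRing S1] [Algebra R S]
    [Algebra R R1] [Algebra S S1] [Algebra R1 S1] [Algebra R S1] [IsScalarTower R R1 S1]
    [IsScalarTower R S S1] {N N1 : Type u} [AddCommGroup N] [Module S N] [AddCommGroup N1] [Module S1 N1]
    [Module S N1] [IsScalarTower S S1 N1] (f : N →ₗ[S] N1) (hf : IsBaseChange S1 f)
    {p : Ideal R} {q : Ideal S} {p1 : Ideal R1} {q1 : Ideal S1} [p.IsPrime] [q.IsPrime] [p1.IsPrime]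
    [q1.IsPrime] (hn : FlatCA.IsEtaleNhd R R1 p p1) (hn' : FlatCA.IsEtaleNhd S S1 q q1)
    (h : Concl R1 S1 N1 p1 q1) : Concl R S N p q := by
  obtain ⟨R2, S2, _, _, _, _, _, _, t1, t2, p2, q2, _, _, hn2, hn2', hpq, n, H⟩ := h
  let i1 : Algebra R R2 := ((algebraMap R1 R2).comp (algebraMap R R1)).toAlgebra
  have u1 : IsScalarTower R R1 R2 := IsScalarTower.of_algebraMap_eq' rfl
  let i2 : Algebra S S2 := ((algebraMap S1 S2).comp (algebraMap S S1)).toAlgebra
  have u2 : IsScalarTower S S1 S2 := IsScalarTower.of_algebraMap_eq' rfl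
  let i3 : Algebra R S2 := ((algebraMap R2 S2).comp (algebraMap R R2)).toAlgebra
  have u3 : IsScalarTower R R2 S2 := IsScalarTower.of_algebraMap_eq' rfl
  have u4 : IsScalarTower R S S2 := IsScalarTower.of_algebraMap_eq fun r => by
    rw [IsScalarTower.algebraMap_apply R R2 S2, IsScalarTower.algebraMap_apply R R1 R2,
      ← IsScalarTower.algebraMap_apply R1 R2 S2, IsScalarTower.algebraMap_apply R1 S1 S2,
      ← IsScalarTower.algebraMap_apply R R1 S1, IsScalarTower.algebraMap_apply R S S1,
      ← IsScalarTower.algebraMap_apply S S1 S2]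
  refine ⟨R2, S2, inferInstance, inferInstance, inferInstance, inferInstance, inferInstance, inferInstance,
    u3, u4, p2, q2, inferInstance, inferInstance, isEtaleNhd_trans hn hn2, isEtaleNhd_trans hn' hn2', hpq,
    n, ?_⟩
  intro K' _ _ _ _ k hk
  let j1 : Module S1 K' := Module.compHom K' (algebraMap S1 S2)
  have s1 : IsScalarTower S1 S2 K' := IsScalarTower.of_algebraMap_smul fun r x => rfl
  have s2 : IsScalarTower S S1 K' := IsScalarTower.of_algebraMap_smul fun r x => by
    rw [← algebraMap_smul S2 (algebraMap S S1 r) x, ← IsScalarTower.algebraMap_apply S S1 S2,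
      algebraMap_smul]
  obtain ⟨g, hg⟩ := exists_factor f hf k hk
  exact H K' g hg

theorem subsingleton_coker {D κ F M : Type u} [CommRing D] [CommRing κ] [Algebra D κ] [AddCommGroup F]
    [Module D F] [AddCommGroup M] [Module D M] (α : F →ₗ[D] M)
    (h : Function.Surjective (α.baseChange κ)) : Subsingleton (κ ⊗[D] (M ⧸ LinearMap.range α)) := by
  have h1 : Function.Surjective ((LinearMap.range α).mkQ.baseChange κ) :=
    LinearMap.lTensor_surjective κ (Submodule.mkQ_surjective _)
  have h2 : ((LinearMap.range α).mkQ.baseChange κ) ∘ₗ (α.baseChange κ) = 0 := by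
    rw [← LinearMap.baseChange_comp, LinearMap.range_mkQ_comp, LinearMap.baseChange_zero]
  refine ⟨fun a b => ?_⟩
  have h3 : ∀ a : κ ⊗[D] (M ⧸ LinearMap.range α), a = 0 := by
    intro a
    obtain ⟨b, rfl⟩ := h1 a
    obtain ⟨c, rfl⟩ := h b
    exact LinearMap.congr_fun h2 c
  rw [h3 a, h3 b]

theorem main (d : ℕ) : ∀ {R S : Type u} [CommRing R] [CommRing S] [Algebra R S] [Algebra.FiniteType R S]
    (N : Type u) [AddCommGroup N] [Module S N] [Module.Finite S N]
    (p : Ideal R) [p.IsPrime] (q : Ideal S) [q.IsPrime] [q.LiesOver p]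
    (x : PrimeSpectrum (p.Fiber S)) (_ : x.asIdeal = FlatCA.fiberIdeal p q)
    (hx : x ∈ Module.support (p.Fiber S) (FlatCA.fiberMod p S N))
    (_ : FlatMor.localDim (Module.support (p.Fiber S) (FlatCA.fiberMod p S N)) ⟨x, hx⟩ = d),
    Concl R S N p q := by
  induction d using Nat.strong_induction_on with
  | _ d ih =>
    intro R S _ _ _ _ N _ _ _ p _ q _ _ x hxq hx hd
    let _ : Module R N := Module.compHom N (algebraMap R S)
    have : IsScalarTower R S N := IsScalarTower.of_algebraMap_smul fun r x => rfl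
    obtain ⟨E⟩ := S1249.result N p q d x hxq hx hd
    obtain ⟨hp, hnt, -⟩ := Flat2B.DimFibre3.dim2 N p q d x hxq hx hd E
    obtain ⟨s, hs⟩ := exists_step E hnt
    refine Concl.trans E.f E.isBaseChange E.etaleR E.etaleS (concl_of_step s ?_)
    intro hsupp
    have h1 := s.finiteBA
    have h2 := s.finiteM
    have hfin : Module.Finite s.B s.M := Module.Finite.trans s.A s.M
    have hsm := s.smooth
    have hover := s.overB
    have hprime := s.hp
    let x' : PrimeSpectrum (E.p'.Fiber s.B) := Flat2B.DimFibre.pt E.p' s.qB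
    have hx' : x' ∈ Module.support (E.p'.Fiber s.B)
        (FlatCA.fiberMod E.p' s.B (s.M ⧸ LinearMap.range s.α)) := by
      rw [Flat2B.DimFibre.mem_support_fiberMod_iff, Flat2B.DimFibre.comap_pt]
      exact hsupp
    have hsub : Subsingleton ((E.p'.map (algebraMap E.R' s.B)).ResidueField ⊗[s.B]
        (s.M ⧸ LinearMap.range s.α)) := subsingleton_coker s.α s.fibreIso.2
    have hlt := Flat2B.DimFibre.locDim_lt s.d s.relDim E.p' (s.M ⧸ LinearMap.range s.α) hsub ⟨x', hx'⟩
    obtain ⟨m, hm⟩ := Ega43.FibreDimFinite.exists_nat_of_le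
      (Ega43.FibreDimFinite.localDim_nonneg (⟨x', hx'⟩ : Module.support (E.p'.Fiber s.B)
        (FlatCA.fiberMod E.p' s.B (s.M ⧸ LinearMap.range s.α)))) hlt.le
    rw [hm, hs] at hlt
    have hmd : m < d := by exact_mod_cast hlt
    exact ih m hmd _ E.p' s.qB x' (Flat2B.DimFibre3.pt_asIdeal E.p' s.qB) hx' hm

end Groth.Agent.Flat2A.CDevMain
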