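import Mathlib.RingTheory.TensorProduct.IsBaseChangePi
import Mathlib.RingTheory.TensorProduct.IsBaseChangeRightExact
import Mathlib.RingTheory.LocalRing.ResidueField.Ideal
import Mathlib.RingTheory.Ideal.Over

/-!
# Base change of linear maps between modules, in terms of `IsBaseChange`
-/

set_option autoImplicit false
universe u

open TensorProduct

namespace Groth.Agent.Flat2A.CDevMap

section

variable {B K : Type u} [CommRing B] [CommRing K] [Algebra B K]
  {F M : Type u} [AddCommGroup F] [Module B F] [AddCommGroup M] [Module B M]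

/-- `α ⊗ κ` bijective implies `α ⊗ κ'` bijective for `B → κ → κ'`. -/
theorem bijective_baseChange_tower (α : F →ₗ[B] M) (K' : Type u) [CommRing K'] [Algebra B K']
    [Algebra K K'] [IsScalarTower B K K'] (h : Function.Bijective (α.baseChange K)) :
    Function.Bijective (α.baseChange K') := by
  let e : K ⊗[B] F ≃ₗ[K] K ⊗[B] M := LinearEquiv.ofBijective (α.baseChange K) h
  let e' : K' ⊗[K] (K ⊗[B] F) ≃ₗ[K'] K' ⊗[K] (K ⊗[B] M) := e.baseChange K K' _ _
  let cF := TensorProduct.AlgebraTensorModule.cancelBaseChange B K K' K' F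
  let cM := TensorProduct.AlgebraTensorModule.cancelBaseChange B K K' K' M
  have : α.baseChange K' = (cF.symm.trans (e'.trans cM)).toLinearMap := by
    apply TensorProduct.AlgebraTensorModule.ext
    intro k x
    simp only [LinearMap.baseChange_tmul, LinearEquiv.coe_coe, LinearEquiv.trans_apply]
    rw [TensorProduct.AlgebraTensorModule.cancelBaseChange_symm_tmul]
    change _ = cM (k ⊗ₜ[K] (α.baseChange K ((1 : K) ⊗ₜ[B] x)))
    rw [LinearMap.baseChange_tmul, TensorProduct.AlgebraTensorModule.cancelBaseChange_tmul, one_smul]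
  rw [this]
  exact (cF.symm.trans (e'.trans cM)).bijective

end

section

variable {B B' : Type u} [CommRing B] [CommRing B'] [Algebra B B']
  {F M F' M' : Type u} [AddCommGroup F] [Module B F] [AddCommGroup M] [Module B M]
  [AddCommGroup F'] [Module B F'] [Module B' F'] [IsScalarTower B B' F']
  [AddCommGroup M'] [Module B M'] [Module B' M'] [IsScalarTower B B' M']

/-- `α' ⊗_{B'} K` is `α ⊗_B K` when `α'` is the base change of `α` to `B'`. -/
theorem bijective_baseChange_iff {f : F →ₗ[B] F'} (hf : IsBaseChange B' f) {g : M →ₗ[B] M'}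
    (hg : IsBaseChange B' g) (α : F →ₗ[B] M) (α' : F' →ₗ[B'] M') (hα : ∀ x, α' (f x) = g (α x))
    (K : Type u) [CommRing K] [Algebra B K] [Algebra B' K] [IsScalarTower B B' K] :
    Function.Bijective (α'.baseChange K) ↔ Function.Bijective (α.baseChange K) := by
  have h1 : IsBaseChange K ((TensorProduct.mk B' K F' 1).restrictScalars B ∘ₗ f) :=
    hf.comp (TensorProduct.isBaseChange B' F' K)
  have h2 : IsBaseChange K ((TensorProduct.mk B' K M' 1).restrictScalars B ∘ₗ g) :=
    hg.comp (TensorProduct.isBaseChange B' M' K)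
  have key : (α'.baseChange K) ∘ₗ h1.equiv.toLinearMap = h2.equiv.toLinearMap ∘ₗ (α.baseChange K) := by
    apply TensorProduct.AlgebraTensorModule.ext
    intro k x
    simp only [LinearMap.comp_apply, LinearEquiv.coe_coe, LinearMap.baseChange_tmul]
    rw [h1.equiv_tmul, h2.equiv_tmul]
    simp [hα]
  have key2 : (α'.baseChange K : _ → _) ∘ h1.equiv = h2.equiv ∘ (α.baseChange K) := by
    ext x
    exact congr($key x)
  constructor
  · intro h
    have : Function.Bijective (h2.equiv ∘ (α.baseChange K)) := by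
      rw [← key2]
      exact h.comp h1.equiv.bijective
    exact (Function.Bijective.of_comp_iff' h2.equiv.bijective _).mp this
  · intro h
    have : Function.Bijective ((α'.baseChange K : _ → _) ∘ h1.equiv) := by
      rw [key2]
      exact h2.equiv.bijective.comp h
    exact (Function.Bijective.of_comp_iff _ h1.equiv.bijective).mp this

/-- The residue field form. -/
theorem bijective_residueField {f : F →ₗ[B] F'} (hf : IsBaseChange B' f) {g : M →ₗ[B] M'}
    (hg : IsBaseChange B' g) (α : F →ₗ[B] M) (α' : F' →ₗ[B'] M') (hα : ∀ x, α' (f x) = g (α x))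
    (P : Ideal B) [P.IsPrime] (P' : Ideal B') [P'.IsPrime] [hP : P'.LiesOver P]
    (h : Function.Bijective (α.baseChange P.ResidueField)) :
    Function.Bijective (α'.baseChange P'.ResidueField) := by
  let a1 : Algebra P.ResidueField P'.ResidueField :=
    (Ideal.ResidueField.mapₐ P P' (Algebra.ofId B B') hP.over).toRingHom.toAlgebra
  have t1 : IsScalarTower B P.ResidueField P'.ResidueField := by
    apply IsScalarTower.of_algebraMap_eq
    intro b
    change _ = Ideal.ResidueField.mapₐ P P' (Algebra.ofId B B') hP.over (algebraMap B _ b)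
    rw [Ideal.ResidueField.mapₐ_apply, Ideal.ResidueField.map_algebraMap]
    exact IsScalarTower.algebraMap_apply B B' P'.ResidueField b
  rw [bijective_baseChange_iff hf hg α α' hα P'.ResidueField]
  exact bijective_baseChange_tower (K := P.ResidueField) α P'.ResidueField h

/-- The cokernel commutes with base change. -/
theorem exists_coker {f : F →ₗ[B] F'} (hf : IsBaseChange B' f) {g : M →ₗ[B] M'}
    (hg : IsBaseChange B' g) (α : F →ₗ[B] M) (α' : F' →ₗ[B'] M') (hα : ∀ x, α' (f x) = g (α x)) :
    ∃ h : (M ⧸ LinearMap.range α) →ₗ[B] (M' ⧸ LinearMap.range α'), IsBaseChange B' h ∧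
      ∀ m, h (Submodule.Quotient.mk m) = Submodule.Quotient.mk (g m) := by
  let h : (M ⧸ LinearMap.range α) →ₗ[B] (M' ⧸ LinearMap.range α') :=
    (LinearMap.range α).liftQ (((LinearMap.range α').mkQ.restrictScalars B) ∘ₗ g) (by
      rintro _ ⟨x, rfl⟩
      rw [LinearMap.mem_ker, LinearMap.comp_apply, ← hα]
      change Submodule.Quotient.mk (α' (f x)) = 0
      rw [Submodule.Quotient.mk_eq_zero]
      exact ⟨_, rfl⟩)
  refine ⟨h, ?_, fun m => rfl⟩
  refine IsBaseChange.of_right_exact B' f g h (f := α) (g := (LinearMap.range α).mkQ) (f' := α')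
    (g' := (LinearMap.range α').mkQ) ?_ ?_ hf hg ?_ ?_ ?_ ?_
  · ext x; exact (hα x).symm
  · ext x; rfl
  · exact LinearMap.exact_map_mkQ_range α
  · exact Submodule.mkQ_surjective _
  · exact LinearMap.exact_map_mkQ_range α'
  · exact Submodule.mkQ_surjective _

/-- surjectivity is preserved -/
theorem surjective_of {f : F →ₗ[B] F'} {g : M →ₗ[B] M'}
    (hg : IsBaseChange B' g) (α : F →ₗ[B] M) (α' : F' →ₗ[B'] M') (hα : ∀ x, α' (f x) = g (α x))
    (h : Function.Surjective α) : Function.Surjective α' := by
  intro m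
  induction m using hg.inductionOn with
  | zero => exact ⟨0, map_zero _⟩
  | tmul m =>
    obtain ⟨x, rfl⟩ := h m
    exact ⟨f x, hα x⟩
  | smul s m hm =>
    obtain ⟨x, rfl⟩ := hm
    exact ⟨s • x, map_smul _ _ _⟩
  | add m n hm hn =>
    obtain ⟨x, rfl⟩ := hm
    obtain ⟨y, rfl⟩ := hn
    exact ⟨x + y, map_add _ _ _⟩

end

/-- the canonical base change of a map out of a finite free module -/
theorem exists_free {B B' : Type u} [CommRing B] [CommRing B'] [Algebra B B']
    {M M' : Type u} [AddCommGroup M] [Module B M]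
    [AddCommGroup M'] [Module B M'] [Module B' M'] [IsScalarTower B B' M'] (g : M →ₗ[B] M')
    {r : ℕ} (α : (Fin r → B) →ₗ[B] M) :
    ∃ (f : (Fin r → B) →ₗ[B] (Fin r → B')) (α' : (Fin r → B') →ₗ[B'] M'),
      IsBaseChange B' f ∧ ∀ x, α' (f x) = g (α x) := by
  let f : (Fin r → B) →ₗ[B] (Fin r → B') := (Algebra.linearMap B B').compLeft (Fin r)
  have hf : IsBaseChange B' f := IsBaseChange.finitePow (Fin r) (IsBaseChange.linearMap B B')
  exact ⟨f, hf.lift (g ∘ₗ α), hf, fun x => hf.lift_eq _ x⟩

end Groth.Agent.Flat2A.CDevMap
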