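import Groth.Agent.Flat2A.GeomInt
import Groth.Agent.Flat2B.EtaleNhd
import Mathlib.RingTheory.Ideal.GoingDown
import Mathlib.RingTheory.QuasiFinite.Basic

/-!
# The prime `pB` of a flat algebra with geometrically integral fibres
-/

set_option autoImplicit false
universe u

open TensorProduct

namespace Groth.Agent.Flat2A.CDevPrime

open Groth.Agent.Flat2B.EtaleNhd

/-- the kernel of `B → κ(p) ⊗ B` is `pB` when `B` is flat -/
theorem ker_includeRight_of_flat {R B : Type u} [CommRing R] [CommRing B] [Algebra R B] [Module.Flat R B]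
    (p : Ideal R) [p.IsPrime] :
    RingHom.ker (Algebra.TensorProduct.includeRight (R := R) (A := p.ResidueField) (B := B)).toRingHom =
      p.map (algebraMap R B) := by
  apply le_antisymm
  · intro b hb
    have hb' : (1 : p.ResidueField) ⊗ₜ[R] b = 0 := hb
    let f : (R ⧸ p) →ₗ[R] p.ResidueField := (IsScalarTower.toAlgHom R (R ⧸ p) p.ResidueField).toLinearMap
    have hf : Function.Injective f := Ideal.injective_algebraMap_quotient_residueField p
    have h1 := Module.Flat.rTensor_preserves_injective_linearMap (M := B) f hf
    have h2 : ((1 : R ⧸ p) ⊗ₜ[R] b : (R ⧸ p) ⊗[R] B) = 0 := by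
      apply h1
      rw [map_zero, LinearMap.rTensor_tmul]
      have : f 1 = 1 := map_one (IsScalarTower.toAlgHom R (R ⧸ p) p.ResidueField)
      rw [this, hb']
    have h3 := congr(TensorProduct.quotTensorEquivQuotSMul B p $h2)
    rw [map_zero] at h3
    have h4 : TensorProduct.quotTensorEquivQuotSMul B p ((1 : R ⧸ p) ⊗ₜ[R] b) =
        Submodule.Quotient.mk b := by
      have := TensorProduct.quotTensorEquivQuotSMul_mk_tmul (M := B) p 1 b
      rw [one_smul] at this
      exact this
    rw [h4, Submodule.Quotient.mk_eq_zero, Ideal.smul_top_eq_map] at h3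
    exact h3
  · rw [Ideal.map_le_iff_le_comap]
    intro r hr
    change (1 : p.ResidueField) ⊗ₜ[R] algebraMap R B r = 0
    rw [Algebra.algebraMap_eq_smul_one]
    have : (1 : p.ResidueField) ⊗ₜ[R] (r • (1 : B)) = (r • (1 : p.ResidueField)) ⊗ₜ[R] (1 : B) := by
      rw [TensorProduct.smul_tmul]
    rw [this, ← Algebra.algebraMap_eq_smul_one]
    have h0 : algebraMap R p.ResidueField r = 0 := by simpa using hr
    rw [h0, TensorProduct.zero_tmul]

theorem isPrime_map {R B : Type u} [CommRing R] [CommRing B] [Algebra R B] [Module.Flat R B]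
    (h : FlatCA.GeomIntegralFibres R B) (p : Ideal R) [p.IsPrime] :
    (p.map (algebraMap R B)).IsPrime := by
  rw [← ker_includeRight_of_flat]
  have := GeomInt.isDomain_fiber h p
  exact RingHom.ker_isPrime _

theorem liesOver_map {R B : Type u} [CommRing R] [CommRing B] [Algebra R B]
    (p : Ideal R) [p.IsPrime] (y : Ideal B) [y.IsPrime] [hy : y.LiesOver p] :
    (p.map (algebraMap R B)).LiesOver p := by
  constructor
  apply le_antisymm
  · exact Ideal.le_comap_map
  · have h1 : p.map (algebraMap R B) ≤ y := Ideal.map_le_iff_le_comap.mpr hy.over.le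
    have h2 : (p.map (algebraMap R B)).under R ≤ y.under R := Ideal.comap_mono h1
    rwa [← hy.over] at h2

/-- In a flat square `R → R'`, `B → B'` with `R → R'` quasi-finite, `p'B'` contracts to `pB`. -/
theorem map_liesOver_map {R B R' B' : Type u} [CommRing R] [CommRing B] [CommRing R'] [CommRing B']
    [Algebra R B] [Algebra R R'] [Algebra B B'] [Algebra R' B'] [Algebra R B'] [IsScalarTower R B B']
    [IsScalarTower R R' B'] [Module.Flat B B'] [Algebra.QuasiFinite R R']
    (p : Ideal R) [p.IsPrime] (p' : Ideal R') [p'.IsPrime] [hp : p'.LiesOver p]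
    [hB : (p.map (algebraMap R B)).IsPrime] [hB' : (p'.map (algebraMap R' B')).IsPrime]
    (y' : Ideal B') [y'.IsPrime] [hy : y'.LiesOver p'] :
    (p'.map (algebraMap R' B')).LiesOver (p.map (algebraMap R B)) := by
  have l1 : (p'.map (algebraMap R' B')).LiesOver p' := liesOver_map p' y'
  let Q : Ideal B := (p'.map (algebraMap R' B')).comap (algebraMap B B')
  have hQ : Q.IsPrime := inferInstance
  have lQ : (p'.map (algebraMap R' B')).LiesOver Q := ⟨rfl⟩
  have hle : p.map (algebraMap R B) ≤ Q := by
    rw [Ideal.map_le_iff_le_comap]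
    intro r hr
    change algebraMap B B' (algebraMap R B r) ∈ p'.map (algebraMap R' B')
    rw [← IsScalarTower.algebraMap_apply, IsScalarTower.algebraMap_apply R R' B']
    apply Ideal.mem_map_of_mem
    rw [hp.over] at hr
    exact hr
  obtain ⟨P, hPle, hPp, hPo⟩ := Ideal.exists_ideal_le_liesOver_of_le (p := p.map (algebraMap R B)) (q := Q)
    (p'.map (algebraMap R' B')) hle
  have h1 : P.comap (algebraMap R' B') = p' := by
    have hle' : P.comap (algebraMap R' B') ≤ p' := by
      rw [l1.over]
      exact Ideal.comap_mono hPle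
    refine Algebra.QuasiFinite.eq_of_le_of_under_eq (R := R) _ _ hle' ?_
    have e1 : (P.comap (algebraMap R' B')).under R = P.under R := by
      rw [Ideal.under_def, Ideal.under_def, Ideal.comap_comap, ← IsScalarTower.algebraMap_eq]
    have e2 : P.under R = p := by
      apply le_antisymm
      · intro r hr
        have : algebraMap R' B' (algebraMap R R' r) ∈ P := by
          rw [← IsScalarTower.algebraMap_apply]; exact hr
        have h3 : algebraMap R R' r ∈ p' := hle' this
        rw [hp.over]
        exact h3
      · intro r hr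
        have : algebraMap R B r ∈ P.under B := by
          rw [← hPo.over]
          exact Ideal.mem_map_of_mem _ hr
        change algebraMap R B' r ∈ P
        rw [IsScalarTower.algebraMap_apply R B B']
        exact this
    rw [e1, e2, hp.over]
  have h2 : p'.map (algebraMap R' B') ≤ P := by
    rw [Ideal.map_le_iff_le_comap, h1]
  have h3 : P = p'.map (algebraMap R' B') := le_antisymm hPle h2
  rw [← h3]
  exact hPo

end Groth.Agent.Flat2A.CDevPrime
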