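import Groth.Agent.Flat2B.EtaleNhd

/-!
# Transport of `FlatCA.PurelyTranscendental` along trivial residue field extensions
-/

set_option autoImplicit false
universe u

namespace Groth.Agent.Flat2A.CDevPure

open Groth.Agent.Flat2B.EtaleNhd

theorem transport_field {k K k' K' : Type u} [Field k] [Field K] [Field k'] [Field K'] [Algebra k K]
    [Algebra k' K'] (e : k ≃+* k') (f : K ≃+* K')
    (h : (algebraMap k' K').comp (e : k →+* k') = (f : K →+* K').comp (algebraMap k K))
    {ι : Type u} (x : ι → K) (hx : IsTranscendenceBasis k x)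
    (hadj : IntermediateField.adjoin k (Set.range x) = ⊤) :
    IsTranscendenceBasis k' (f ∘ x) ∧ IntermediateField.adjoin k' (Set.range (f ∘ x)) = ⊤ := by
  refine ⟨⟨(algebraicIndependent_ringHom_iff_of_comp_eq e f f.injective h).mpr hx.1, ?_⟩, ?_⟩
  · intro s hs hle
    have h1 : AlgebraicIndependent k (fun z : s => f.symm z) := by
      have h2 : (algebraMap k K).comp (e.symm : k' →+* k) =
          (f.symm : K' →+* K).comp (algebraMap k' K') := by
        ext z
        obtain ⟨y, rfl⟩ := e.surjective z
        have := congr($h y)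
        simp only [RingHom.comp_apply, RingHom.coe_coe] at this
        simp [this]
      exact (algebraicIndependent_ringHom_iff_of_comp_eq e.symm f.symm f.symm.injective h2).mpr hs
    have h3 : AlgebraicIndepOn k _root_.id (f.symm '' s) := by
      have := h1.to_subtype_range
      rwa [show Set.range (fun z : s => f.symm z) = f.symm '' s by
        ext; simp] at this
    have h4 := hx.2 _ h3 (by
      rintro _ ⟨i, rfl⟩
      exact ⟨f (x i), hle ⟨i, rfl⟩, by simp⟩)
    rw [Set.range_comp, h4, ← Set.image_comp]
    simp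
  · rw [eq_top_iff]
    intro z _
    have h1 : f.symm z ∈ IntermediateField.adjoin k (Set.range x) := by rw [hadj]; trivial
    have h2 : f.symm z ∈ Subfield.closure (Set.range (algebraMap k K) ∪ Set.range x) := h1
    have h3 : z ∈ (Subfield.closure (Set.range (algebraMap k K) ∪ Set.range x)).map (f : K →+* K') :=
      ⟨f.symm z, h2, by simp⟩
    rw [RingHom.map_field_closure] at h3
    change z ∈ Subfield.closure (Set.range (algebraMap k' K') ∪ Set.range (f ∘ x))
    refine Subfield.closure_mono ?_ h3
    rintro _ ⟨y, hy | ⟨i, rfl⟩, rfl⟩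
    · obtain ⟨a, rfl⟩ := hy
      left
      exact ⟨e a, congr($h a)⟩
    · right
      exact ⟨i, rfl⟩

theorem transport {R S R' S' : Type u} [CommRing R] [CommRing S] [CommRing R'] [CommRing S']
    [Algebra R S] [Algebra R' S'] [Algebra R R'] [Algebra S S'] [Algebra R S'] [IsScalarTower R S S']
    [IsScalarTower R R' S'] {p : Ideal R} {q : Ideal S} {p' : Ideal R'} {q' : Ideal S'}
    [p.IsPrime] [q.IsPrime] [p'.IsPrime] [q'.IsPrime] [hq : q.LiesOver p] [hq' : q'.LiesOver p']
    [hp : p'.LiesOver p] [hqq : q'.LiesOver q] (h1 : ResTriv R R' p p') (h2 : ResTriv S S' q q')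
    (h : FlatCA.PurelyTranscendental p q) : FlatCA.PurelyTranscendental p' q' := by
  let a1 : Algebra p.ResidueField q.ResidueField :=
    (Ideal.ResidueField.mapₐ p q (Algebra.ofId R S) hq.over).toRingHom.toAlgebra
  let a2 : Algebra p'.ResidueField q'.ResidueField :=
    (Ideal.ResidueField.mapₐ p' q' (Algebra.ofId R' S') hq'.over).toRingHom.toAlgebra
  obtain ⟨ι, x, hx1, hx2⟩ := h
  let e : p.ResidueField ≃+* p'.ResidueField :=
    RingEquiv.ofBijective (Ideal.ResidueField.mapₐ p p' (Algebra.ofId R R') hp.over)
      ((resTriv_iff_bijective p p').mp h1)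
  let f : q.ResidueField ≃+* q'.ResidueField :=
    RingEquiv.ofBijective (Ideal.ResidueField.mapₐ q q' (Algebra.ofId S S') hqq.over)
      ((resTriv_iff_bijective q q').mp h2)
  have key : (algebraMap p'.ResidueField q'.ResidueField).comp (e : _ →+* _) =
      (f : _ →+* _).comp (algebraMap p.ResidueField q.ResidueField) := by
    apply Ideal.ResidueField.ringHom_ext
    ext r
    change Ideal.ResidueField.mapₐ p' q' (Algebra.ofId R' S') hq'.over
      (Ideal.ResidueField.mapₐ p p' (Algebra.ofId R R') hp.over (algebraMap R _ r)) =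
      Ideal.ResidueField.mapₐ q q' (Algebra.ofId S S') hqq.over
        (Ideal.ResidueField.mapₐ p q (Algebra.ofId R S) hq.over (algebraMap R _ r))
    simp only [Ideal.ResidueField.mapₐ_apply, Ideal.ResidueField.map_algebraMap]
    congr 1
    change algebraMap R' S' (algebraMap R R' r) = algebraMap S S' (algebraMap R S r)
    rw [← IsScalarTower.algebraMap_apply, ← IsScalarTower.algebraMap_apply]
  exact ⟨ι, f ∘ x, transport_field e f key x hx1 hx2⟩

end Groth.Agent.Flat2A.CDevPure
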