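import Groth.Agent.Flat2A.CDevMap
import Groth.Agent.Flat2A.CDevPrime
import Groth.Agent.Flat2A.CDevPure

/-!
# A recursive form of complete dévissages

`Step R S N p q` is one step of a complete dévissage at a point, `CD n R S N p q` says that there is a complete
dévissage at a point with `n` steps. `CD.succ_of` is the base change / étale localization of a step.
-/

set_option autoImplicit false
universe u

open TensorProduct

namespace Groth.Agent.Flat2A.CDevStep

open Groth.Agent.Flat2B.EtaleNhd

/-- one step of a complete dévissage at a point -/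
structure Step (R S : Type u) [CommRing R] [CommRing S] [Algebra R S] (N : Type u)
    [AddCommGroup N] [Module S N] (p : Ideal R) (q : Ideal S) [p.IsPrime] [q.IsPrime] : Type (u + 1) where
  A : Type u
  B : Type u
  M : Type u
  r : ℕ
  [cA : CommRing A] [cB : CommRing B]
  [aRA : Algebra R A] [aRB : Algebra R B] [aBA : Algebra B A] [tRBA : IsScalarTower R B A]
  [aSA : Algebra S A] [tRSA : IsScalarTower R S A]
  [gM : AddCommGroup M] [mAM : Module A M] [mBM : Module B M] [tBAM : IsScalarTower B A M]
  [mSM : Module S M] [tSAM : IsScalarTower S A M]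
  α : (Fin r → B) →ₗ[B] M
  surjSA : Function.Surjective (algebraMap S A)
  fpSA : Algebra.FinitePresentation S A
  finiteBA : Module.Finite B A
  smooth : Algebra.Smooth R B
  geomInt : FlatCA.GeomIntegralFibres R B
  finiteM : Module.Finite A M
  isoN : N ≃ₗ[S] M
  [hp : (p.map (algebraMap R B)).IsPrime]
  fibreIso : Function.Bijective (α.baseChange (p.map (algebraMap R B)).ResidueField)
  rpos : 0 < r
  qB : Ideal B
  qA : Ideal A
  [hqB : qB.IsPrime] [hqA : qA.IsPrime]
  [overB : qB.LiesOver p] [overA : qA.LiesOver qB]
  pureTrans : FlatCA.PurelyTranscendental p qB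
  uniq : ∀ (Q : Ideal A) [Q.IsPrime], Q.LiesOver qB → Q = qA
  q0 : qA.comap (algebraMap S A) = q
  d : ℕ
  relDim : FlatCA.SmoothRelDim d R B

attribute [instance] Step.cA Step.cB Step.aRA Step.aRB Step.aBA Step.tRBA Step.aSA Step.tRSA Step.gM
  Step.mAM Step.mBM Step.tBAM Step.mSM Step.tSAM Step.hp Step.hqB Step.hqA Step.overB Step.overA

/-- there is a complete dévissage at a point with `n` steps -/
def CD : ∀ (_ : ℕ) (R S : Type u) [CommRing R] [CommRing S] [Algebra R S] (N : Type u)
    [AddCommGroup N] [Module S N] (p : Ideal R) (q : Ideal S) [p.IsPrime] [q.IsPrime], Prop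
  | 0 => fun _ _ _ _ _ _ _ _ _ _ _ _ => False
  | n + 1 => fun R S _ _ _ N _ _ p q _ _ =>
      ∃ s : Step R S N p q, Function.Surjective s.α ∨ CD n R s.B (s.M ⧸ LinearMap.range s.α) p s.qB

theorem CD.not_zero {R S : Type u} [CommRing R] [CommRing S] [Algebra R S] {N : Type u}
    [AddCommGroup N] [Module S N] {p : Ideal R} {q : Ideal S} [p.IsPrime] [q.IsPrime]
    (h : CD 0 R S N p q) : False := h

section

variable {R S : Type u} [CommRing R] [CommRing S] [Algebra R S] {N : Type u}
    [AddCommGroup N] [Module S N] {p : Ideal R} {q : Ideal S} [p.IsPrime] [q.IsPrime]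

/-- transport of a step along an isomorphism of modules -/
def Step.congr (s : Step R S N p q) {N' : Type u} [AddCommGroup N'] [Module S N'] (e : N' ≃ₗ[S] N) :
    Step R S N' p q :=
  { s with isoN := e.trans s.isoN }

theorem CD.congr {n : ℕ} (h : CD n R S N p q) {N' : Type u} [AddCommGroup N'] [Module S N']
    (e : N' ≃ₗ[S] N) : CD n R S N' p q := by
  cases n with
  | zero => exact h.not_zero.elim
  | succ n =>
    obtain ⟨s, hs⟩ := h
    exact ⟨s.congr e, hs⟩

theorem Step.liesOver_q (s : Step R S N p q) : s.qA.LiesOver q := ⟨s.q0.symm⟩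

end

/-- base change of a module along a pushout of rings -/
theorem isBaseChange_of_isPushout {S S' A A' : Type u} [CommRing S] [CommRing S'] [CommRing A]
    [CommRing A'] [Algebra S S'] [Algebra S A] [Algebra S A'] [Algebra S' A'] [Algebra A A']
    [IsScalarTower S S' A'] [IsScalarTower S A A'] [Algebra.IsPushout S S' A A']
    {M M' : Type u} [AddCommGroup M] [Module S M] [Module A M] [IsScalarTower S A M]
    [AddCommGroup M'] [Module A' M'] [Module A M'] [IsScalarTower A A' M'] [Module S M'] [Module S' M']
    [IsScalarTower S' A' M'] [IsScalarTower S S' M'] [IsScalarTower S A M']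
    (g : M →ₗ[A] M') (hg : IsBaseChange A' g) : IsBaseChange S' (g.restrictScalars S) := by
  refine IsBaseChange.of_equiv ((Algebra.IsPushout.cancelBaseChange S S' A A' M).symm ≪≫ₗ
    (hg.equiv.restrictScalars S')) fun x => ?_
  simp [hg.equiv_tmul]

theorem surjective_of_isPushout {S S' A A' : Type u} [CommRing S] [CommRing S'] [CommRing A]
    [CommRing A'] [Algebra S S'] [Algebra S A] [Algebra S A'] [Algebra S' A'] [Algebra A A']
    [IsScalarTower S S' A'] [IsScalarTower S A A'] [H : Algebra.IsPushout S S' A A']
    (h : Function.Surjective (algebraMap S A)) : Function.Surjective (algebraMap S' A') := by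
  have e := Algebra.IsPushout.equiv S S' A A'
  have h1 : Function.Surjective (algebraMap S' (S' ⊗[S] A)) :=
    Algebra.TensorProduct.includeLeft_surjective S S' h
  intro x
  obtain ⟨y, hy⟩ := h1 ((Algebra.IsPushout.equiv S S' A A').symm x)
  refine ⟨y, ?_⟩
  rw [← (Algebra.IsPushout.equiv S S' A A').commutes y, hy, AlgEquiv.apply_symm_apply]

section

variable {R S : Type u} [CommRing R] [CommRing S] [Algebra R S] {N : Type u}
    [AddCommGroup N] [Module S N] {p : Ideal R} {q : Ideal S} [p.IsPrime] [q.IsPrime]

/-- Base change / étale localization of a step of a complete dévissage. -/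
theorem CD.succ_of (s : Step R S N p q) (n : ℕ)
    {R' S' N' A' B' : Type u} [CommRing R'] [CommRing S'] [CommRing A'] [CommRing B'] [AddCommGroup N']
    [Algebra R R'] [Algebra R' S'] [Algebra R' A'] [Algebra R' B'] [Algebra S S'] [Algebra S' A']
    [Algebra S A'] [Algebra s.A A'] [Algebra s.B A'] [Algebra s.B B'] [Algebra B' A'] [Algebra R B']
    [IsScalarTower R' S' A'] [IsScalarTower R' B' A'] [IsScalarTower S S' A'] [IsScalarTower S s.A A']
    [IsScalarTower s.B s.A A'] [IsScalarTower s.B B' A'] [IsScalarTower R s.B B'] [IsScalarTower R R' B']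
    [Algebra.IsPushout S S' s.A A'] [Algebra.IsPushout s.B B' s.A A']
    [Module S' N'] [Module S N'] [IsScalarTower S S' N'] (f : N →ₗ[S] N') (hf : IsBaseChange S' f)
    (p' : Ideal R') [p'.IsPrime] (q' : Ideal S') [q'.IsPrime] (y' : Ideal B') [y'.IsPrime]
    [hpp : p'.LiesOver p] [hyy : y'.LiesOver s.qB] [hyp : y'.LiesOver p']
    (hR : ResTriv R R' p p') (hB : ResTriv s.B B' s.qB y')
    [Module.Flat s.B B'] [Algebra.QuasiFinite R R']
    (hsm : Algebra.Smooth R' B') (hrel : FlatCA.SmoothRelDim s.d R' B')
    (hgi : FlatCA.GeomIntegralFibres R' B')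
    (hq' : ∀ z' : Ideal A', z'.IsPrime → z'.LiesOver y' → z'.LiesOver s.qA →
      z'.comap (algebraMap S' A') = q')
    (hnext : Function.Surjective s.α ∨ ∀ (K' : Type u) [AddCommGroup K'] [Module s.B K'] [Module B' K']
      [IsScalarTower s.B B' K'] (k : (s.M ⧸ LinearMap.range s.α) →ₗ[s.B] K'), IsBaseChange B' k →
      CD n R' B' K' p' y') : CD (n + 1) R' S' N' p' q' := by
  -- the module
  let M' : Type u := A' ⊗[s.A] s.M
  let g : s.M →ₗ[s.A] M' := TensorProduct.mk s.A A' s.M 1
  have hg : IsBaseChange A' g := TensorProduct.isBaseChange s.A s.M A'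
  have tSS : IsScalarTower S S' M' := inferInstance
  have tSA : IsScalarTower S s.A M' := inferInstance
  have hgS : IsBaseChange S' (g.restrictScalars S) := isBaseChange_of_isPushout g hg
  have tBB : IsScalarTower s.B B' M' := inferInstance
  have tBA : IsScalarTower s.B s.A M' := inferInstance
  have hgB : IsBaseChange B' (g.restrictScalars s.B) := isBaseChange_of_isPushout g hg
  obtain ⟨F, α', hF, hα⟩ := CDevMap.exists_free (B' := B') (g.restrictScalars s.B) s.α
  -- the primes
  have hp' : (p'.map (algebraMap R' B')).IsPrime := by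
    have := hsm
    exact CDevPrime.isPrime_map hgi p'
  have hpl : (p'.map (algebraMap R' B')).LiesOver (p.map (algebraMap R s.B)) :=
    CDevPrime.map_liesOver_map p p' y'
  have hPO : Algebra.IsPushout s.B s.A B' A' := Algebra.IsPushout.symm inferInstance
  obtain ⟨z', hz1, hz2, hz3⟩ := exists_prime_of_isPushout (R := s.B) (S := s.A) (R' := B') (S' := A')
    s.qB s.qA y'
  have hfp : Algebra.FinitePresentation S' A' := by
    have := s.fpSA
    have h1 : Algebra.FinitePresentation S' (S' ⊗[S] s.A) := inferInstance
    exact h1.equiv (Algebra.IsPushout.equiv S S' s.A A')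
  have hfin : Module.Finite B' A' := by
    have := s.finiteBA
    have h1 : Module.Finite B' (B' ⊗[s.B] s.A) := inferInstance
    exact Module.Finite.equiv (Algebra.IsPushout.equiv s.B B' s.A A').toLinearEquiv
  have hfinM : Module.Finite A' M' := by
    have := s.finiteM
    infer_instance
  have hfN : IsBaseChange S' ((g.restrictScalars S) ∘ₗ s.isoN.toLinearMap) :=
    IsBaseChange.comp_equiv s.isoN _ hgS
  let s' : Step R' S' N' p' q' :=
    { A := A'
      B := B'
      M := M'
      r := s.r
      α := α'
      surjSA := surjective_of_isPushout s.surjSA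
      fpSA := hfp
      finiteBA := hfin
      smooth := hsm
      geomInt := hgi
      finiteM := hfinM
      isoN := hf.equiv.symm ≪≫ₗ hfN.equiv
      hp := hp'
      fibreIso := CDevMap.bijective_residueField hF hgB s.α α' hα _ _ s.fibreIso
      rpos := s.rpos
      qB := y'
      qA := z'
      hqB := inferInstance
      hqA := hz1
      overB := hyp
      overA := hz3
      pureTrans := CDevPure.transport hR hB s.pureTrans
      uniq := by
        intro Q hQ hQy
        have h1 : (Q.comap (algebraMap s.A A')).LiesOver s.qB := by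
          constructor
          rw [Ideal.under_def, Ideal.comap_comap, ← IsScalarTower.algebraMap_eq s.B s.A A',
            IsScalarTower.algebraMap_eq s.B B' A', ← Ideal.comap_comap]
          have e1 : Q.comap (algebraMap B' A') = y' := hQy.over.symm
          rw [e1]
          exact hyy.over
        have h2 := s.uniq _ h1
        have h3 : Q.LiesOver s.qA := ⟨h2.symm⟩
        exact hB.pushout_unique (R := s.B) (S := s.A) (R' := B') (S' := A') (q := s.qA)
      q0 := hq' z' hz1 hz3 hz2
      d := s.d
      relDim := hrel }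
  refine ⟨s', ?_⟩
  rcases hnext with h | h
  · left
    exact CDevMap.surjective_of hgB s.α α' hα h
  · right
    obtain ⟨k, hk, -⟩ := CDevMap.exists_coker hF hgB s.α α' hα
    exact h _ k hk

end

end Groth.Agent.Flat2A.CDevStep
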