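import Groth.Agent.Flat2A.UnivInjAss
import Mathlib.RingTheory.Flat.Equalizer

/-!
# The closed fibre module `N ⊗ κ(𝔪) = N/𝔪N`
-/

set_option autoImplicit false
universe u v w

namespace Groth.Agent.Flat2A.ClosedFiber

open TensorProduct Flat2A.Fiber Flat2A.FiberAss Flat2A.UnivInj Flat2A.UnivInjAss

section

variable {R : Type u} [CommRing R] (p : Ideal R) [p.IsMaximal] (N : Type v) [AddCommGroup N] [Module R N]

theorem tmul_one_eq_zero_iff (x : N) :
    x ⊗ₜ[R] (1 : p.ResidueField) = 0 ↔ x ∈ (p • ⊤ : Submodule R N) := by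
  let e₀ : (R ⧸ p) ≃ₗ[R] p.ResidueField :=
    LinearEquiv.ofBijective ((IsScalarTower.toAlgHom R (R ⧸ p) p.ResidueField).toLinearMap)
      p.bijective_algebraMap_quotient_residueField
  have he₀ : e₀ (Submodule.Quotient.mk 1) = 1 := by
    change (IsScalarTower.toAlgHom R (R ⧸ p) p.ResidueField) (1 : R ⧸ p) = 1
    exact map_one _
  let e : N ⊗[R] (R ⧸ p) ≃ₗ[R] N ⊗[R] p.ResidueField := TensorProduct.congr (LinearEquiv.refl R N) e₀
  have he : e (x ⊗ₜ[R] (Submodule.Quotient.mk 1)) = x ⊗ₜ[R] (1 : p.ResidueField) := by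
    rw [TensorProduct.congr_tmul, he₀]
    rfl
  rw [← he, LinearEquiv.map_eq_zero_iff, ← LinearEquiv.map_eq_zero_iff (tensorQuotEquivQuotSMul N p)]
  have h5 : (tensorQuotEquivQuotSMul N p) (x ⊗ₜ[R] (Submodule.Quotient.mk 1 : R ⧸ p)) =
      Submodule.Quotient.mk x := by
    have := tensorQuotEquivQuotSMul_tmul_mk (M := N) p x 1
    rw [one_smul] at this
    exact this
  rw [h5, Submodule.Quotient.mk_eq_zero]

theorem exists_tmul_one (y : N ⊗[R] p.ResidueField) : ∃ x : N, x ⊗ₜ[R] (1 : p.ResidueField) = y := by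
  induction y using TensorProduct.induction_on with
  | zero => exact ⟨0, by simp⟩
  | tmul n c =>
    obtain ⟨r, hr⟩ := p.algebraMap_residueField_surjective c
    refine ⟨r • n, ?_⟩
    rw [TensorProduct.smul_tmul, Algebra.smul_def, mul_one, hr]
  | add a b ha hb =>
    obtain ⟨x, hx⟩ := ha
    obtain ⟨y, hy⟩ := hb
    exact ⟨x + y, by rw [TensorProduct.add_tmul, hx, hy]⟩

end

theorem mem_map_smul_top_iff {R : Type u} [CommRing R] (N : Type v) [AddCommGroup N] [Module R N] (S : Type w) [CommRing S] [Algebra R S] [Module S N] [IsScalarTower R S N] (p : Ideal R) (x : N) :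
    x ∈ (p.map (algebraMap R S) • ⊤ : Submodule S N) ↔ x ∈ (p • ⊤ : Submodule R N) := by
  rw [← Submodule.restrictScalars_mem R, Ideal.smul_restrictScalars]
  rfl

variable {R S : Type u} [CommRing R] [CommRing S] [Algebra R S] (p : Ideal R) [p.IsMaximal]
  (N : Type u) [AddCommGroup N] [Module S N] [Module R N] [IsScalarTower R S N]

/-- `s` acts injectively on `N/𝔪N` in concrete terms. -/
theorem mem_nonZeroSMulDivisors_fiberMod_iff (s : S) :
    s ∈ nonZeroSMulDivisors S (FlatCA.fiberMod p S N) ↔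
      ∀ x : N, s • x ∈ (p.map (algebraMap R S) • ⊤ : Submodule S N) →
        x ∈ (p.map (algebraMap R S) • ⊤ : Submodule S N) := by
  have key : ∀ x : N, x ∈ (p.map (algebraMap R S) • ⊤ : Submodule S N) ↔ x ⊗ₜ[R] (1 : p.ResidueField) = 0 := by
    intro x
    rw [mem_map_smul_top_iff N S, tmul_one_eq_zero_iff]
  constructor
  · intro hs x hx
    rw [key] at hx ⊢
    have h0 : s • (x ⊗ₜ[R] (1 : p.ResidueField)) = 0 :=
      (TensorProduct.smul_tmul' (R := R) s x (1 : p.ResidueField)).trans hx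
    have h1 : s • (fiberModEquiv (S := S) p N).symm (x ⊗ₜ[R] (1 : p.ResidueField)) = 0 := by
      rw [← map_smul, h0, map_zero]
    have h2 := hs _ h1
    rwa [LinearEquiv.map_eq_zero_iff] at h2
  · intro h y hy
    obtain ⟨x, hx⟩ := exists_tmul_one p N (fiberModEquiv p N y)
    have h1 : s • (fiberModEquiv p N y) = 0 := by rw [← map_smul, hy, map_zero]
    have h0 : s • (x ⊗ₜ[R] (1 : p.ResidueField)) = (s • x) ⊗ₜ[R] (1 : p.ResidueField) :=
      TensorProduct.smul_tmul' (R := R) s x (1 : p.ResidueField)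
    rw [← hx, h0, ← key] at h1
    have h2 := h x h1
    rw [key, hx, LinearEquiv.map_eq_zero_iff] at h2
    exact h2

end Groth.Agent.Flat2A.ClosedFiber
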