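import Mathlib.RingTheory.AdicCompletion.Basic
import Mathlib.LinearAlgebra.TensorProduct.Basic

/-!
# Elements of `1 + J` act bijectively on a `J`-adically complete module
-/

set_option autoImplicit false

universe u v w

namespace Groth.Agent.Flat2A.CompleteUnit

/-- If `N` is a `J`-adically complete `S`-module and `f ∈ J`, then `1 - f` acts bijectively. -/
theorem bijective_one_sub_smul {S : Type u} [CommRing S] (J : Ideal S) {N : Type v}
    [AddCommGroup N] [Module S N] [IsAdicComplete J N] (f : S) (hf : f ∈ J) :
    Function.Bijective (fun x : N => (1 - f) • x) := by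
  have hpow : ∀ (n : ℕ) (x : N), f ^ n • x ∈ (J ^ n • ⊤ : Submodule S N) := fun n x =>
    Submodule.smul_mem_smul (Ideal.pow_mem_pow hf n) trivial
  constructor
  · refine (injective_iff_map_eq_zero (LinearMap.lsmul S N (1 - f))).mpr ?_
    intro x hx
    rw [LinearMap.lsmul_apply] at hx
    have hx1 : x = f • x := by
      rw [sub_smul, one_smul, sub_eq_zero] at hx
      exact hx
    have hxn : ∀ n : ℕ, x = f ^ n • x := by
      intro n
      induction n with
      | zero => simp
      | succ n ih => rw [pow_succ, mul_smul, ← hx1]; exact ih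
    refine IsHausdorff.haus (I := J) inferInstance x fun n => ?_
    rw [SModEq.zero, hxn n]
    exact hpow n x
  · intro y
    let s : ℕ → N := fun n => ∑ k ∈ Finset.range n, f ^ k • y
    have hs : ∀ n, (1 - f) • s n = y - f ^ n • y := by
      intro n
      simp only [s, Finset.smul_sum, smul_smul]
      rw [← Finset.sum_smul, ← Finset.mul_sum, mul_neg_geom_sum, sub_smul, one_smul]
    obtain ⟨L, hL⟩ := IsPrecomplete.prec (I := J) (M := N) inferInstance (f := s) (by
      intro m n hmn
      rw [SModEq.sub_mem]
      simp only [s]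
      rw [← Finset.sum_range_add_sum_Ico _ hmn, sub_add_cancel_left]
      refine Submodule.neg_mem _ (Submodule.sum_mem _ ?_)
      intro k hk
      rw [Finset.mem_Ico] at hk
      exact Submodule.smul_mono_left (Ideal.pow_le_pow_right hk.1) (hpow k y))
    refine ⟨L, ?_⟩
    change (1 - f) • L = y
    rw [← sub_eq_zero]
    refine IsHausdorff.haus (I := J) inferInstance _ fun n => ?_
    rw [SModEq.zero]
    have h1 : s n - L ∈ (J ^ n • ⊤ : Submodule S N) := (SModEq.sub_mem).mp (hL n)
    have h2 : (1 - f) • L - y = -((1 - f) • (s n - L)) - f ^ n • y := by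
      rw [smul_sub, hs]
      abel
    rw [h2]
    exact Submodule.sub_mem _ (Submodule.neg_mem _ (Submodule.smul_mem _ _ h1)) (hpow n y)

end Groth.Agent.Flat2A.CompleteUnit
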