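import Groth.Agent.Flat2A.CoordML

/-!
# The completion of a free module over a complete Noetherian ring

Coordinates on `AdicCompletion I (α →₀ R)` for `R` Noetherian and `I`-adically complete, and
universal injectivity of the coordinate map.
-/

set_option autoImplicit false
universe u

namespace Groth.Agent.Flat2A.CompletedFree

open TensorProduct Groth.Agent.Flat2A.CoordML

variable {R : Type u} [CommRing R] (I : Ideal R) {α : Type u}

theorem mem_smul_top_finsupp (J : Ideal R) (f : α →₀ R) :
    f ∈ (J • ⊤ : Submodule R (α →₀ R)) ↔ ∀ a, f a ∈ J := by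
  constructor
  · intro hf a
    have : (Finsupp.lapply a : (α →₀ R) →ₗ[R] R) f ∈ Submodule.map (Finsupp.lapply a) (J • ⊤ : Submodule R (α →₀ R)) :=
      Submodule.mem_map_of_mem hf
    rw [Submodule.map_smul''] at this
    have h2 : (J • Submodule.map (Finsupp.lapply a : (α →₀ R) →ₗ[R] R) ⊤ : Submodule R R) ≤ J := by
      refine Submodule.smul_le.2 ?_
      intro r hr n _
      simpa using J.mul_mem_right n hr
    exact h2 this
  · intro h
    rw [← Finsupp.sum_single f]
    refine Submodule.sum_mem _ fun a _ => ?_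
    have : Finsupp.single a (f a) = f a • Finsupp.single a (1 : R) := by simp
    rw [this]
    exact Submodule.smul_mem_smul (h a) Submodule.mem_top

theorem mem_smul_top_ring (J : Ideal R) (f : R) : f ∈ (J • ⊤ : Submodule R R) ↔ f ∈ J := by
  simp

theorem mem_smul_top_pi {n : ℕ} (J : Ideal R) (f : Fin n → R) :
    f ∈ (J • ⊤ : Submodule R (Fin n → R)) ↔ ∀ a, f a ∈ J := by
  constructor
  · intro hf a
    have : (LinearMap.proj a : (Fin n → R) →ₗ[R] R) f ∈ Submodule.map (LinearMap.proj a) (J • ⊤ : Submodule R (Fin n → R)) :=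
      Submodule.mem_map_of_mem hf
    rw [Submodule.map_smul''] at this
    have h2 : (J • Submodule.map (LinearMap.proj a : (Fin n → R) →ₗ[R] R) ⊤ : Submodule R R) ≤ J := by
      refine Submodule.smul_le.2 ?_
      intro r hr n _
      simpa using J.mul_mem_right n hr
    exact h2 this
  · intro h
    rw [pi_eq_sum_univ f]
    refine Submodule.sum_mem _ fun a _ => ?_
    exact Submodule.smul_mem_smul (h a) Submodule.mem_top

variable [IsAdicComplete I R]

/-- The coordinate functional on the completed free module. -/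
noncomputable def coord (a : α) : AdicCompletion I (α →₀ R) →ₗ[R] R :=
  (AdicCompletion.ofLinearEquiv I R).symm.toLinearMap ∘ₗ
    ((AdicCompletion.map I (Finsupp.lapply a : (α →₀ R) →ₗ[R] R)).restrictScalars R)

theorem coord_mk_sub_mem (f : AdicCompletion.AdicCauchySequence I (α →₀ R)) (a : α) (n : ℕ) :
    coord I a (AdicCompletion.mk I _ f) - f n a ∈ I ^ n := by
  have h1 : AdicCompletion.of I R (coord I a (AdicCompletion.mk I _ f)) =
      AdicCompletion.mk I _ (AdicCompletion.AdicCauchySequence.map I (Finsupp.lapply a) f) := by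
    rw [coord, LinearMap.comp_apply]
    erw [AdicCompletion.of_ofLinearEquiv_symm]
    rfl
  have h2 := congrArg (fun x => x.val n) h1
  simp only [AdicCompletion.of_apply, AdicCompletion.mk_apply_coe, Submodule.mkQ_apply] at h2
  rw [Submodule.Quotient.eq] at h2
  rw [mem_smul_top_ring] at h2
  exact h2

theorem coord_ext {x y : AdicCompletion I (α →₀ R)} (h : ∀ a, coord I a x = coord I a y) : x = y := by
  obtain ⟨f, rfl⟩ := AdicCompletion.mk_surjective I _ x
  obtain ⟨g, rfl⟩ := AdicCompletion.mk_surjective I _ y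
  ext n
  simp only [AdicCompletion.mk_apply_coe, Submodule.mkQ_apply]
  rw [Submodule.Quotient.eq, mem_smul_top_finsupp]
  intro a
  have h1 := coord_mk_sub_mem I f a n
  have h2 := coord_mk_sub_mem I g a n
  rw [h a] at h1
  have := (I ^ n).sub_mem h2 h1
  simpa using this

theorem coord_null (x : AdicCompletion I (α →₀ R)) (n : ℕ) : {a | coord I a x ∉ I ^ n}.Finite := by
  obtain ⟨f, rfl⟩ := AdicCompletion.mk_surjective I _ x
  refine (f n).support.finite_toSet.subset ?_
  intro a ha
  simp only [Finset.mem_coe, Finsupp.mem_support_iff]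
  intro h0
  have h1 := coord_mk_sub_mem I f a n
  rw [h0, sub_zero] at h1
  exact ha h1

theorem exists_coord (y : α → R) (hy : ∀ n : ℕ, {a | y a ∉ I ^ n}.Finite) :
    ∃ x : AdicCompletion I (α →₀ R), ∀ a, coord I a x = y a := by
  classical
  let f : ℕ → (α →₀ R) := fun n => Finsupp.onFinset (hy n).toFinset (fun a => if y a ∈ I ^ n then 0 else y a) (by
    intro a ha
    rw [Set.Finite.mem_toFinset]
    show y a ∉ I ^ n
    intro h
    simp [h] at ha)
  have hf : ∀ n a, f n a = if y a ∈ I ^ n then 0 else y a := fun n a => rfl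
  have hf' : ∀ n a, f n a - y a ∈ I ^ n := by
    intro n a
    rw [hf]
    split_ifs with h
    · rw [zero_sub]; exact neg_mem h
    · simp
  let F : AdicCompletion.AdicCauchySequence I (α →₀ R) := AdicCompletion.AdicCauchySequence.mk I _ f (by
    intro n
    rw [SModEq.sub_mem, mem_smul_top_finsupp]
    intro a
    have h1 := hf' n a
    have h2 := Ideal.pow_le_pow_right (Nat.le_succ n) (hf' (n+1) a)
    have := (I ^ n).sub_mem h1 h2
    simpa using this)
  refine ⟨AdicCompletion.mk I _ F, fun a => ?_⟩
  rw [IsHausdorff.eq_iff_smodEq (I := I)]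
  intro n
  rw [SModEq.sub_mem, mem_smul_top_ring]
  have h1 := coord_mk_sub_mem I F a n
  have h2 := hf' n a
  have := (I ^ n).add_mem h1 h2
  have h3 : F n a = f n a := rfl
  rw [h3] at this
  simpa using this


omit [IsAdicComplete I R] in
/-- Artin-Rees, elementwise. -/
theorem exists_coeff [IsNoetherianRing R] {n m : ℕ} (K : Submodule R (Fin n → R)) (k : Fin m → (Fin n → R))
    (hk : Submodule.span R (Set.range k) = K) [IsHausdorff I R] :
    ∃ c : ℕ, ∀ x ∈ K, ∃ y : Fin m → R, (∑ j, y j • k j = x) ∧
      ∀ N : ℕ, (∀ i, x i ∈ I ^ N) → ∀ j, y j ∈ I ^ (N - c) := by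
  obtain ⟨c, hc⟩ := Ideal.exists_pow_inf_eq_pow_smul I K
  refine ⟨c, fun x hx => ?_⟩
  -- membership in `I^N • K` gives small coefficients
  have key : ∀ N : ℕ, x ∈ (I ^ N • K : Submodule R (Fin n → R)) → ∃ y : Fin m → R, (∑ j, y j • k j = x) ∧ ∀ j, y j ∈ I ^ N := by
    intro N hxN
    rw [← hk, Submodule.mem_ideal_smul_span_iff_exists_sum] at hxN
    obtain ⟨a, ha, hsum⟩ := hxN
    refine ⟨fun j => a j, ?_, fun j => ha j⟩
    rw [← hsum, Finsupp.sum_fintype]
    intro i; simp
  have hpi : ∀ N : ℕ, (∀ i, x i ∈ I ^ N) ↔ x ∈ (I ^ N • ⊤ : Submodule R (Fin n → R)) := fun N =>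
    (mem_smul_top_pi _ _).symm
  by_cases h0 : x = 0
  · refine ⟨0, by simp [h0], fun N _ j => by simp⟩
  · -- there is a largest `N` with `x ∈ I^N`
    have hex : ∃ N, ¬ (∀ i, x i ∈ I ^ N) := by
      by_contra hcon
      push Not at hcon
      apply h0
      ext i
      apply IsHausdorff.haus (inferInstance : IsHausdorff I R)
      intro N
      rw [SModEq.zero, mem_smul_top_ring]
      exact hcon N i
    classical
    have hpos : Nat.find hex ≠ 0 := by
      intro h
      have := Nat.find_spec hex
      rw [h] at this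
      exact this (by simp)
    obtain ⟨N₀, hN₀⟩ := Nat.exists_eq_succ_of_ne_zero hpos
    have hmem : ∀ i, x i ∈ I ^ N₀ := by
      have := Nat.find_min hex (m := N₀) (by omega)
      push Not at this
      exact this
    have hmax : ∀ N, (∀ i, x i ∈ I ^ N) → N ≤ N₀ := by
      intro N hN
      by_contra hlt
      have h1 : N₀ + 1 ≤ N := by omega
      have := Nat.find_spec hex
      rw [hN₀] at this
      exact this fun i => Ideal.pow_le_pow_right h1 (hN i)
    have hx' : x ∈ (I ^ (N₀ - c) • K : Submodule R (Fin n → R)) := by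
      rcases le_total c N₀ with hle | hle
      · have h1 : x ∈ (I ^ N₀ • ⊤ ⊓ K : Submodule R (Fin n → R)) := ⟨(hpi N₀).1 hmem, hx⟩
        rw [hc N₀ hle] at h1
        exact Submodule.smul_mono le_rfl inf_le_right h1
      · rw [Nat.sub_eq_zero_of_le hle, pow_zero, Ideal.one_eq_top, Submodule.top_smul]
        exact hx
    obtain ⟨y, hy, hy'⟩ := key _ hx'
    refine ⟨y, hy, fun N hN j => Ideal.pow_le_pow_right (Nat.sub_le_sub_right (hmax N hN) c) (hy' j)⟩

omit [IsAdicComplete I R] in
theorem exists_tensor_pi {M : Type u} [AddCommGroup M] [Module R M] {n : ℕ} (w : M ⊗[R] (Fin n → R)) :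
    ∃ z : Fin n → M, w = ∑ i, z i ⊗ₜ[R] (Pi.single i (1 : R) : Fin n → R) := by
  induction w using TensorProduct.induction_on with
  | zero => exact ⟨0, by simp⟩
  | tmul m f =>
    refine ⟨fun i => f i • m, ?_⟩
    conv_lhs => rw [pi_eq_sum_univ' f, tmul_sum]
    refine Finset.sum_congr rfl fun i _ => ?_
    rw [tmul_smul, smul_tmul']
  | add x y hx hy =>
    obtain ⟨z, rfl⟩ := hx
    obtain ⟨z', rfl⟩ := hy
    exact ⟨z + z', by simp [add_tmul, Finset.sum_add_distrib]⟩

theorem phi_coord_injective_of_finite [IsNoetherianRing R] (Q : Type u) [AddCommGroup Q] [Module R Q]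
    (hQ : Module.Finite R Q) : Function.Injective (phi (coord I (α := α)) Q) := by
  obtain ⟨n, π, hπ⟩ := Module.Finite.exists_fin' R Q
  rw [injective_iff_map_eq_zero]
  intro z hz
  -- write `z` in terms of generators
  obtain ⟨w, rfl⟩ := LinearMap.lTensor_surjective (AdicCompletion I (α →₀ R)) hπ z
  obtain ⟨z, rfl⟩ := exists_tensor_pi w
  have hx : ∀ a, (fun i => coord I a (z i)) ∈ LinearMap.ker π := by
    intro a
    rw [LinearMap.mem_ker]
    have h1 := congrFun hz a
    rw [phi_lTensor, map_sum, Finset.sum_apply] at h1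
    simp only [phi_tmul, Pi.zero_apply] at h1
    convert h1 using 2
    ext j
    simp [Finset.sum_apply, Pi.single_apply]
  obtain ⟨m, k, hk⟩ : ∃ (m : ℕ) (k : Fin m → (Fin n → R)), Submodule.span R (Set.range k) = LinearMap.ker π := by
    obtain ⟨m, k, hk⟩ := Submodule.fg_iff_exists_fin_generating_family.1 (IsNoetherian.noetherian (LinearMap.ker π))
    exact ⟨m, k, hk⟩
  obtain ⟨c, hc⟩ := exists_coeff I (LinearMap.ker π) k hk
  choose y hy hy' using fun a => hc _ (hx a)
  have hnull : ∀ (j : Fin m) (N : ℕ), {a | y a j ∉ I ^ N}.Finite := by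
    intro j N
    refine (Set.finite_iUnion (fun i : Fin n => coord_null I (z i) (N + c))).subset ?_
    intro a ha
    by_contra hcon
    apply ha
    have h1 : ∀ i, coord I a (z i) ∈ I ^ (N + c) := by
      intro i
      by_contra hi
      exact hcon (Set.mem_iUnion.2 ⟨i, hi⟩)
    have := hy' a (N + c) h1 j
    rwa [Nat.add_sub_cancel] at this
  choose w hw using fun j => exists_coord I (fun a => y a j) (hnull j)
  have hz' : ∀ i, z i = ∑ j, k j i • w j := by
    intro i
    refine coord_ext I fun a => ?_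
    rw [map_sum]
    simp only [map_smul, hw]
    have := congrFun (hy a) i
    simp only [Finset.sum_apply, Pi.smul_apply, smul_eq_mul] at this
    rw [← this]
    exact Finset.sum_congr rfl fun j _ => mul_comm _ _
  have hk0 : ∀ j, ∑ i, k j i • π (Pi.single i 1) = 0 := by
    intro j
    have h1 : k j ∈ LinearMap.ker π := by rw [← hk]; exact Submodule.subset_span ⟨j, rfl⟩
    rw [LinearMap.mem_ker] at h1
    rw [← h1]
    conv_rhs => rw [pi_eq_sum_univ' (k j), map_sum]
    refine Finset.sum_congr rfl fun i _ => ?_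
    rw [map_smul]
  rw [map_sum]
  simp only [LinearMap.lTensor_tmul]
  calc ∑ i, z i ⊗ₜ[R] π (Pi.single i 1) = ∑ i, ∑ j, w j ⊗ₜ[R] (k j i • π (Pi.single i 1)) := by
        refine Finset.sum_congr rfl fun i _ => ?_
        conv_lhs => rw [hz' i, sum_tmul]
        refine Finset.sum_congr rfl fun j _ => ?_
        rw [smul_tmul]
    _ = ∑ j, w j ⊗ₜ[R] ∑ i, (k j i • π (Pi.single i 1)) := by
        rw [Finset.sum_comm]
        refine Finset.sum_congr rfl fun j _ => ?_
        rw [tmul_sum]
    _ = 0 := by simp [hk0]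

theorem phi_coord_injective [IsNoetherianRing R] (Q : Type u) [AddCommGroup Q] [Module R Q] :
    Function.Injective (phi (coord I (α := α)) Q) :=
  phi_injective_of_finite _ (fun Q _ _ hQ => phi_coord_injective_of_finite I Q hQ) Q

end Groth.Agent.Flat2A.CompletedFree
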