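import Groth.Agent.Flat2A.LiftNilp
import Groth.Agent.Flat2A.CompletedFree

/-!
# Completions of flat modules which are projective modulo `I`

If `M` is flat over `R` and `M/IM` is projective over `R/I`, then the `I`-adic completion of `M` is a retract of the
`I`-adic completion of a free module.
-/

set_option autoImplicit false
universe u

namespace Groth.Agent.Flat2A.CompletedProj

open TensorProduct Groth.Agent.Flat2A.LiftNilp

variable {R : Type u} [CommRing R] (I : Ideal R) {M : Type u} [AddCommGroup M] [Module R M]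

theorem step [Module.Flat R M] [Module.Projective (R ⧸ I) (M ⧸ (I • ⊤ : Submodule R M))]
    {F : Type u} [AddCommGroup F] [Module R F] (π : F →ₗ[R] M) (hπ : Function.Surjective π) (n : ℕ)
    (t : M →ₗ[R] F ⧸ (I ^ n • ⊤ : Submodule R F))
    (ht : (LinearMap.reduceModIdeal (I ^ n) π).restrictScalars R ∘ₗ t = Submodule.mkQ _) :
    ∃ t' : M →ₗ[R] F ⧸ (I ^ (n + 1) • ⊤ : Submodule R F),
      (LinearMap.reduceModIdeal (I ^ (n + 1)) π).restrictScalars R ∘ₗ t' = Submodule.mkQ _ ∧
      AdicCompletion.transitionMap I F (Nat.le_succ n) ∘ₗ t' = t := by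
  let Y := LinearMap.eqLocus
    ((LinearMap.reduceModIdeal (I ^ n) π).restrictScalars R ∘ₗ
      LinearMap.fst R (F ⧸ (I ^ n • ⊤ : Submodule R F)) (M ⧸ (I ^ (n + 1) • ⊤ : Submodule R M)))
    (AdicCompletion.transitionMap I M (Nat.le_succ n) ∘ₗ
      LinearMap.snd R (F ⧸ (I ^ n • ⊤ : Submodule R F)) (M ⧸ (I ^ (n + 1) • ⊤ : Submodule R M)))
  let g : (F ⧸ (I ^ (n + 1) • ⊤ : Submodule R F)) →ₗ[R] Y :=
    ((AdicCompletion.transitionMap I F (Nat.le_succ n)).prod
      ((LinearMap.reduceModIdeal (I ^ (n + 1)) π).restrictScalars R)).codRestrict Y (by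
        intro x
        obtain ⟨x, rfl⟩ := Submodule.Quotient.mk_surjective _ x
        rfl)
  have hg : Function.Surjective g := by
    rintro ⟨⟨a, b⟩, hab⟩
    obtain ⟨a, rfl⟩ := Submodule.Quotient.mk_surjective _ a
    obtain ⟨b, rfl⟩ := Submodule.Quotient.mk_surjective _ b
    have h1 : (Submodule.Quotient.mk (π a) : M ⧸ (I ^ n • ⊤ : Submodule R M)) = Submodule.Quotient.mk b := hab
    rw [Submodule.Quotient.eq] at h1
    have h3 : π a - b ∈ Submodule.map π (I ^ n • ⊤ : Submodule R F) := by
      rw [Submodule.map_smul'', Submodule.map_top, LinearMap.range_eq_top.2 hπ]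
      exact h1
    obtain ⟨z, hz, hzy⟩ := h3
    refine ⟨Submodule.Quotient.mk (a - z), ?_⟩
    apply Subtype.ext
    refine Prod.ext ?_ ?_
    · show (Submodule.Quotient.mk (a - z) : F ⧸ (I ^ n • ⊤ : Submodule R F)) = Submodule.Quotient.mk a
      rw [Submodule.Quotient.eq]
      simpa using hz
    · show (Submodule.Quotient.mk (π (a - z)) : M ⧸ (I ^ (n + 1) • ⊤ : Submodule R M)) = Submodule.Quotient.mk b
      rw [map_sub, hzy, sub_sub_cancel]
  have hI : ∀ r ∈ I, ∀ x : F ⧸ (I ^ (n + 1) • ⊤ : Submodule R F), g x = 0 → r • x = 0 := by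
    intro r hr x hx
    obtain ⟨x, rfl⟩ := Submodule.Quotient.mk_surjective _ x
    have h1 : (Submodule.Quotient.mk x : F ⧸ (I ^ n • ⊤ : Submodule R F)) = 0 := congrArg (fun y : Y => y.1.1) hx
    rw [Submodule.Quotient.mk_eq_zero] at h1
    rw [← Submodule.Quotient.mk_smul, Submodule.Quotient.mk_eq_zero, pow_succ', ← smul_eq_mul, Submodule.smul_assoc]
    exact Submodule.smul_mem_smul hr h1
  let f : M →ₗ[R] Y := (t.prod (Submodule.mkQ _)).codRestrict Y (by
    intro m
    exact LinearMap.congr_fun ht m)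
  obtain ⟨t', ht'⟩ := exists_lift I g hg hI f
  refine ⟨t', ?_, ?_⟩
  · ext m
    exact congrArg (fun y : Y => y.1.2) (LinearMap.congr_fun ht' m)
  · ext m
    exact congrArg (fun y : Y => y.1.1) (LinearMap.congr_fun ht' m)

/-- The completion of `M` is a retract of the completion of `F`. -/
theorem exists_section [Module.Flat R M] [Module.Projective (R ⧸ I) (M ⧸ (I • ⊤ : Submodule R M))]
    {F : Type u} [AddCommGroup F] [Module R F] (π : F →ₗ[R] M) (hπ : Function.Surjective π) :
    ∃ σ : AdicCompletion I M →ₗ[R] AdicCompletion I F,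
      (AdicCompletion.map I π).restrictScalars R ∘ₗ σ = LinearMap.id := by
  classical
  let T : ℕ → Type u := fun n => {t : M →ₗ[R] F ⧸ (I ^ n • ⊤ : Submodule R F) //
    (LinearMap.reduceModIdeal (I ^ n) π).restrictScalars R ∘ₗ t = Submodule.mkQ _}
  have hsub : Subsingleton (M ⧸ (I ^ 0 • ⊤ : Submodule R M)) := by
    rw [pow_zero, Ideal.one_eq_top, Submodule.top_smul]
    infer_instance
  let t0 : T 0 := ⟨0, by ext m; exact Subsingleton.elim _ _⟩
  choose st hst1 hst2 using fun (n : ℕ) (t : T n) => step I π hπ n t.1 t.2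
  let t : ∀ n, T n := fun n => Nat.rec t0 (fun n t => ⟨st n t, hst1 n t⟩) n
  have ht : ∀ n, AdicCompletion.transitionMap I F (Nat.le_succ n) ∘ₗ (t (n + 1)).1 = (t n).1 := fun n => hst2 n (t n)
  have ht0 : ∀ n, (I ^ n • ⊤ : Submodule R M) ≤ LinearMap.ker (t n).1 := by
    intro n x hx
    refine Submodule.smul_induction_on hx ?_ ?_
    · intro r hr y _
      rw [LinearMap.mem_ker, map_smul]
      obtain ⟨z, hz⟩ := Submodule.Quotient.mk_surjective _ ((t n).1 y)
      rw [← hz, ← Submodule.Quotient.mk_smul, Submodule.Quotient.mk_eq_zero]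
      exact Submodule.smul_mem_smul hr Submodule.mem_top
    · intro y z hy hz
      exact Submodule.add_mem _ hy hz
  let tb : ∀ n, (M ⧸ (I ^ n • ⊤ : Submodule R M)) →ₗ[R] (F ⧸ (I ^ n • ⊤ : Submodule R F)) := fun n =>
    (I ^ n • ⊤ : Submodule R M).liftQ (t n).1 (ht0 n)
  have htb : ∀ n m, tb n (Submodule.Quotient.mk m) = (t n).1 m := fun n m => rfl
  have hcomp : ∀ {m n : ℕ} (hle : m ≤ n) (x : M), AdicCompletion.transitionMap I F hle ((t n).1 x) = (t m).1 x := by
    intro m n hle x
    induction n, hle using Nat.le_induction with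
    | base =>
      obtain ⟨z, hz⟩ := Submodule.Quotient.mk_surjective _ ((t m).1 x)
      rw [← hz]; rfl
    | succ n hmn ih =>
      rw [← ih, ← LinearMap.congr_fun (ht n) x, LinearMap.comp_apply]
      obtain ⟨z, hz⟩ := Submodule.Quotient.mk_surjective _ ((t (n + 1)).1 x)
      rw [← hz]; rfl
  let σ : AdicCompletion I M →ₗ[R] AdicCompletion I F :=
    AdicCompletion.lift I (fun n => tb n ∘ₗ AdicCompletion.eval I M n) (by
      intro m n hle
      apply LinearMap.ext
      intro x
      simp only [LinearMap.comp_apply, AdicCompletion.eval_apply]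
      obtain ⟨y, hy⟩ := Submodule.Quotient.mk_surjective _ (x.val n)
      have h1 : x.val m = Submodule.Quotient.mk y := by
        rw [← x.property hle]
        show AdicCompletion.transitionMap I M hle (x.val n) = _
        rw [← hy]; rfl
      rw [h1, ← hy, htb, htb, hcomp])
  refine ⟨σ, ?_⟩
  apply LinearMap.ext
  intro x
  ext n
  obtain ⟨y, hy⟩ := Submodule.Quotient.mk_surjective _ (x.val n)
  rw [LinearMap.comp_apply, LinearMap.restrictScalars_apply, AdicCompletion.map_val_apply, LinearMap.id_apply]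
  have h1 : (σ x).val n = tb n (x.val n) := rfl
  rw [h1, ← hy, htb]
  exact LinearMap.congr_fun (t n).2 y

theorem flat_and_mittagLeffler [IsNoetherianRing R] [IsAdicComplete I R] [Module.Flat R M]
    [Module.Projective (R ⧸ I) (M ⧸ (I • ⊤ : Submodule R M))] :
    Module.Flat R (AdicCompletion I M) ∧ CAlg.IsMittagLeffler R (AdicCompletion I M) := by
  obtain ⟨σ, hσ⟩ := exists_section I (Finsupp.linearCombination R (id : M → M)) (Finsupp.linearCombination_id_surjective R M)
  have h := CoordML.phi_injective_of_retract (M := AdicCompletion I (M →₀ R)) (CompletedFree.coord I)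
    (fun Q _ _ => CompletedFree.phi_coord_injective I Q) σ _ hσ
  exact ⟨CoordML.flat_of_phi_injective _ h, CoordML.isMittagLeffler_of_phi_injective _ h⟩

end Groth.Agent.Flat2A.CompletedProj
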