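import Groth.Prelude.Def_Found
import Groth.Agent.Flat2B.BCTools
import Mathlib.RingTheory.AdicCompletion.Noetherian
import Mathlib.RingTheory.EssentialFiniteness
import Mathlib.RingTheory.LocalRing.ResidueField.Basic
import Mathlib.RingTheory.LocalRing.RingHom.Basic
import Mathlib.RingTheory.TensorProduct.Quotient
import Mathlib.LinearAlgebra.TensorProduct.RightExactness
import Mathlib.LinearAlgebra.Dual.Lemmas

/-!
# Content ideals

Let `A` be a local ring, `D` a local `A`-algebra essentially of finite type and `P` a finite `D`-module which is flat and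
Mittag-Leffler over `A`. Every `x : P` has a finitely generated content ideal `I`, and `I` is detected after local base
changes `A → A'` at the primes of `D ⊗ A'` above both maximal ideals.
-/

set_option autoImplicit false
universe u

namespace Groth.Agent.Flat2A.ContentIdeal

open TensorProduct IsLocalRing

/-- `x` lies in `J P` iff its class in `P ⊗ A/J` vanishes. -/
theorem tmul_one_eq_zero_iff {A P : Type u} [CommRing A] [AddCommGroup P] [Module A P] (J : Ideal A) (x : P) :
    x ⊗ₜ[A] (1 : A ⧸ J) = 0 ↔ x ∈ J • (⊤ : Submodule A P) := by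
  have h1 : (TensorProduct.tensorQuotEquivQuotSMul P J) (x ⊗ₜ[A] Ideal.Quotient.mk J 1) = Submodule.Quotient.mk ((1 : A) • x) :=
    TensorProduct.tensorQuotEquivQuotSMul_tmul_mk J x 1
  rw [map_one, one_smul] at h1
  rw [← (TensorProduct.tensorQuotEquivQuotSMul P J).map_eq_zero_iff, h1, Submodule.Quotient.mk_eq_zero]

/-- Content ideals exist for flat Mittag-Leffler modules. -/
theorem exists_min {A P : Type u} [CommRing A] [AddCommGroup P] [Module A P] [Module.Flat A P]
    (hML : CAlg.IsMittagLeffler A P) (x : P) :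
    ∃ I : Ideal A, I.FG ∧ x ∈ I • (⊤ : Submodule A P) ∧ ∀ J : Ideal A, x ∈ J • (⊤ : Submodule A P) → I ≤ J := by
  classical
  let ι : Type u := {J : Ideal A // x ∈ J • (⊤ : Submodule A P)}
  let I : Ideal A := ⨅ J : ι, J.1
  have hI : x ∈ I • (⊤ : Submodule A P) := by
    rw [← tmul_one_eq_zero_iff]
    -- the map `A/I → ∏ A/J`
    let φ : (A ⧸ I) →ₗ[A] (∀ J : ι, A ⧸ J.1) :=
      LinearMap.pi fun J => Submodule.factor (iInf_le (fun J : ι => J.1) J)
    have hφ : Function.Injective φ := by
      rw [injective_iff_map_eq_zero]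
      intro a ha
      obtain ⟨a, rfl⟩ := Submodule.Quotient.mk_surjective _ a
      rw [Submodule.Quotient.mk_eq_zero, Submodule.mem_iInf]
      intro J
      have h1 := congrFun ha J
      exact (Submodule.Quotient.mk_eq_zero _).1 h1
    have h2 : Function.Injective (φ.lTensor P) := Module.Flat.lTensor_preserves_injective_linearMap φ hφ
    apply h2
    rw [map_zero]
    apply hML ι (fun J => A ⧸ J.1)
    rw [map_zero]
    ext J
    rw [LinearMap.lTensor_tmul, TensorProduct.piRightHom_tmul]
    exact (tmul_one_eq_zero_iff J.1 x).2 J.2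
  have hmin : ∀ J : Ideal A, x ∈ J • (⊤ : Submodule A P) → I ≤ J := fun J hJ => iInf_le (fun J : ι => J.1) ⟨J, hJ⟩
  refine ⟨I, ?_, hI, hmin⟩
  -- finitely generated
  obtain ⟨J, hJI, hJfg, hxJ⟩ : ∃ J : Ideal A, J ≤ I ∧ J.FG ∧ x ∈ J • (⊤ : Submodule A P) := by
    refine Submodule.smul_induction_on (p := fun x => ∃ J : Ideal A, J ≤ I ∧ J.FG ∧ x ∈ J • (⊤ : Submodule A P)) hI ?_ ?_
    · intro r hr n _
      refine ⟨Ideal.span {r}, (Ideal.span_singleton_le_iff_mem _).2 hr, Submodule.fg_span_singleton r, ?_⟩
      exact Submodule.smul_mem_smul (Ideal.mem_span_singleton_self r) Submodule.mem_top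
    · rintro y z ⟨J, h1, h2, h3⟩ ⟨J', h1', h2', h3'⟩
      refine ⟨J ⊔ J', sup_le h1 h1', Submodule.FG.sup h2 h2', ?_⟩
      exact Submodule.add_mem _ (Submodule.smul_mono_left le_sup_left h3) (Submodule.smul_mono_left le_sup_right h3')
  have : I = J := le_antisymm (hmin J hxJ) hJI
  rw [this]
  exact hJfg

/-- For `I` the content of `x`, any nonzero functional on `I` with values in the residue field is nonzero on `x`. -/
theorem lTensor_ne_zero_of_min {A P : Type u} [CommRing A] [IsLocalRing A] [AddCommGroup P] [Module A P]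
    (I : Ideal A) (xt : P ⊗[A] I)
    (hmin : ∀ J : Ideal A, TensorProduct.rid A P ((Submodule.subtype I).lTensor P xt) ∈ J • (⊤ : Submodule A P) → I ≤ J)
    (l : I →ₗ[A] ResidueField A) (hl : l ≠ 0) : l.lTensor P xt ≠ 0 := by
  intro h0
  apply hl
  have hsurj : Function.Surjective l := by
    obtain ⟨i, hi⟩ : ∃ i, l i ≠ 0 := by
      by_contra hcon
      push Not at hcon
      exact hl (LinearMap.ext hcon)
    intro y
    obtain ⟨a, ha⟩ := IsLocalRing.residue_surjective (y * (l i)⁻¹)
    refine ⟨a • i, ?_⟩
    rw [map_smul, Algebra.smul_def]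
    show residue A a * l i = y
    rw [ha, inv_mul_cancel_right₀ hi]
  have hex := lTensor_exact P (LinearMap.exact_subtype_ker_map l) hsurj
  obtain ⟨w, rfl⟩ := (hex xt).1 h0
  have h1 := hmin ((LinearMap.ker l).map (Submodule.subtype I)) (by
    clear hmin h0
    induction w using TensorProduct.induction_on with
    | zero => simp
    | tmul p k =>
      simp only [LinearMap.lTensor_tmul, TensorProduct.rid_tmul, Submodule.subtype_apply]
      refine Submodule.smul_mem_smul ?_ Submodule.mem_top
      exact Submodule.mem_map_of_mem k.2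
    | add x y hx hy =>
      rw [map_add, map_add, map_add]
      exact Submodule.add_mem _ hx hy)
  ext i
  have h2 := h1 i.2
  obtain ⟨j, hj, hji⟩ := h2
  have : j = i := Subtype.ext hji
  rw [← this, LinearMap.mem_ker.1 hj]
  simp

/-- The restriction of the structure map to an ideal. -/
noncomputable def toMap {A A' : Type u} [CommRing A] [CommRing A'] [Algebra A A'] (I : Ideal A) :
    I →ₗ[A] (I.map (algebraMap A A')) :=
  ((Algebra.linearMap A A') ∘ₗ I.subtype).codRestrict ((I.map (algebraMap A A')).restrictScalars A) (by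
    intro x
    exact Ideal.mem_map_of_mem _ x.2)

@[simp]
theorem coe_toMap {A A' : Type u} [CommRing A] [CommRing A'] [Algebra A A'] (I : Ideal A) (i : I) :
    ((toMap (A' := A') I i : I.map (algebraMap A A')) : A') = algebraMap A A' i := rfl

theorem exists_functional {A A' : Type u} [CommRing A] [IsLocalRing A] [CommRing A'] [IsLocalRing A'] [Algebra A A']
    [IsLocalHom (algebraMap A A')] (I : Ideal A) (hI : I.FG) (h : I.map (algebraMap A A') ≠ ⊥) :
    ∃ (μ : (I.map (algebraMap A A')) →ₗ[A'] ResidueField A') (ν : ResidueField A' →ₗ[A] ResidueField A),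
      ν ∘ₗ (μ.restrictScalars A) ∘ₗ toMap I ≠ 0 := by
  set J' := I.map (algebraMap A A') with hJ'
  have hfin : Module.Finite A' J' := Module.Finite.iff_fg.2 (hI.map _)
  have hnt : Nontrivial J' := Submodule.nontrivial_iff_ne_bot.2 h
  have h1 : (maximalIdeal A' • ⊤ : Submodule A' J') ≠ ⊤ := by
    intro htop
    have h2 := Submodule.eq_bot_of_le_smul_of_le_jacobson_bot (maximalIdeal A') (⊤ : Submodule A' J')
      (Module.Finite.fg_top) (le_of_eq htop.symm) (maximalIdeal_le_jacobson _)
    exact top_ne_bot h2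
  -- a nonzero functional with values in the residue field
  obtain ⟨μ, hμ⟩ : ∃ μ : J' →ₗ[A'] ResidueField A', μ ≠ 0 := by
    let _ : Module (ResidueField A') (J' ⧸ (maximalIdeal A' • ⊤ : Submodule A' J')) :=
      inferInstanceAs (Module (A' ⧸ maximalIdeal A') (J' ⧸ (maximalIdeal A' • ⊤ : Submodule A' J')))
    have : IsScalarTower A' (ResidueField A') (J' ⧸ (maximalIdeal A' • ⊤ : Submodule A' J')) :=
      inferInstanceAs (IsScalarTower A' (A' ⧸ maximalIdeal A') (J' ⧸ (maximalIdeal A' • ⊤ : Submodule A' J')))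
    obtain ⟨j, hj⟩ : ∃ j : J', j ∉ (maximalIdeal A' • ⊤ : Submodule A' J') := by
      by_contra hcon
      push Not at hcon
      exact h1 (eq_top_iff.2 fun x _ => hcon x)
    have hj' : (Submodule.Quotient.mk j : J' ⧸ (maximalIdeal A' • ⊤ : Submodule A' J')) ≠ 0 := by
      intro h0
      exact hj ((Submodule.Quotient.mk_eq_zero _).1 h0)
    obtain ⟨f, hf⟩ : ∃ f : Module.Dual (ResidueField A') (J' ⧸ (maximalIdeal A' • ⊤ : Submodule A' J')),
        f (Submodule.Quotient.mk j) ≠ 0 := by
      by_contra hcon
      push Not at hcon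
      exact hj' ((Module.forall_dual_apply_eq_zero_iff (ResidueField A') _).1 hcon)
    refine ⟨(f.restrictScalars A') ∘ₗ Submodule.mkQ _, fun h0 => hf ?_⟩
    exact LinearMap.congr_fun h0 j
  obtain ⟨i, hi⟩ : ∃ i : I, μ (toMap I i) ≠ 0 := by
    by_contra hcon
    push Not at hcon
    apply hμ
    ext ⟨j, hj⟩
    rw [LinearMap.zero_apply]
    have hj0 := hj
    rw [hJ', Ideal.map, Submodule.mem_span] at hj0
    have h2 := hj0 ((LinearMap.ker μ).map (Submodule.subtype J')) (by
      rintro _ ⟨i, hi, rfl⟩
      exact ⟨toMap I ⟨i, hi⟩, hcon ⟨i, hi⟩, rfl⟩)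
    obtain ⟨j', hj', hjj⟩ := h2
    have : j' = ⟨j, hj⟩ := Subtype.ext hjj
    rw [← this]
    exact hj'
  obtain ⟨f, hf⟩ : ∃ f : Module.Dual (ResidueField A) (ResidueField A'), f (μ (toMap I i)) ≠ 0 := by
    by_contra hcon
    push Not at hcon
    exact hi ((Module.forall_dual_apply_eq_zero_iff (ResidueField A) _).1 hcon)
  refine ⟨μ, f.restrictScalars A, fun h0 => hf ?_⟩
  exact LinearMap.congr_fun h0 i

/-- Krull's intersection theorem for the closed fibre of a finite module over an algebra essentially of finite type. -/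
theorem krull_fiber {A D P : Type u} [CommRing A] [IsLocalRing A] [CommRing D] [IsLocalRing D] [Algebra A D]
    [IsLocalHom (algebraMap A D)] [Algebra.EssFiniteType A D] [AddCommGroup P] [Module D P] [Module A P]
    [IsScalarTower A D P] [Module.Finite D P] (y : P ⊗[A] ResidueField A)
    (hy : ∀ n : ℕ, y ∈ ((maximalIdeal D) ^ n • ⊤ : Submodule D (P ⊗[A] ResidueField A))) : y = 0 := by
  set J : Ideal D := (maximalIdeal A).map (algebraMap A D) with hJ
  have hJle : J ≤ maximalIdeal D := IsLocalRing.map_maximalIdeal_le (algebraMap A D)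
  have hkill : ∀ (a : J) (z : P ⊗[A] ResidueField A), (a : D) • z = 0 := by
    rintro ⟨a, ha⟩ z
    show a • z = 0
    have hle : J ≤ Module.annihilator D (P ⊗[A] ResidueField A) := by
      rw [hJ, Ideal.map_le_iff_le_comap]
      intro r hr
      rw [Ideal.mem_comap, Module.mem_annihilator]
      intro z
      induction z using TensorProduct.induction_on with
      | zero => simp
      | tmul p k =>
        rw [TensorProduct.smul_tmul', algebraMap_smul, TensorProduct.smul_tmul, Algebra.smul_def]
        have : algebraMap A (ResidueField A) r = 0 := by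
          rw [IsLocalRing.ResidueField.algebraMap_eq, IsLocalRing.residue_eq_zero_iff]
          exact hr
        rw [this, zero_mul, TensorProduct.tmul_zero]
      | add x y hx hy => rw [smul_add, hx, hy, add_zero]
    exact Module.mem_annihilator.1 (hle ha) z
  let _ : Module (D ⧸ J) (P ⊗[A] ResidueField A) :=
    Module.IsTorsionBySet.module (R := D) (I := J) (fun z a => hkill a z)
  have htow : IsScalarTower D (D ⧸ J) (P ⊗[A] ResidueField A) := Module.IsTorsionBySet.isScalarTower _
  have hfinD : Module.Finite D (P ⊗[A] ResidueField A) := by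
    have hk : Module.Finite A (ResidueField A) :=
      Module.Finite.of_surjective (Algebra.linearMap A (ResidueField A)) IsLocalRing.residue_surjective
    obtain ⟨n, π, hπ⟩ := Module.Finite.exists_fin' A (ResidueField A)
    refine Module.Finite.of_surjective
      ((TensorProduct.AlgebraTensorModule.lTensor D P π) ∘ₗ (TensorProduct.piScalarRight A D P (Fin n)).symm.toLinearMap) ?_
    intro x
    obtain ⟨y, rfl⟩ := LinearMap.lTensor_surjective P hπ x
    refine ⟨TensorProduct.piScalarRight A D P (Fin n) y, ?_⟩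
    rw [LinearMap.comp_apply]
    erw [LinearEquiv.symm_apply_apply]
    rfl
  have hfin : Module.Finite (D ⧸ J) (P ⊗[A] ResidueField A) :=
    Module.Finite.of_restrictScalars_finite D (D ⧸ J) _
  have hnoeth : IsNoetherianRing (D ⧸ J) := by
    let _ : Algebra (ResidueField A) (D ⧸ J) :=
      (Ideal.quotientMap J (algebraMap A D) Ideal.le_comap_map : (A ⧸ maximalIdeal A) →+* (D ⧸ J)).toAlgebra
    have : IsScalarTower A (ResidueField A) (D ⧸ J) := IsScalarTower.of_algebraMap_eq fun a => rfl
    have h1 : Algebra.EssFiniteType A (D ⧸ J) := Algebra.EssFiniteType.comp A D (D ⧸ J)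
    have h2 : Algebra.EssFiniteType (ResidueField A) (D ⧸ J) := Algebra.EssFiniteType.of_comp A (ResidueField A) (D ⧸ J)
    exact Algebra.EssFiniteType.isNoetherianRing (ResidueField A) (D ⧸ J)
  have hnt : Nontrivial (D ⧸ J) :=
    Ideal.Quotient.nontrivial_iff.2 (fun h => (maximalIdeal.isMaximal D).ne_top (top_le_iff.1 (h ▸ hJle)))
  have hloc : IsLocalRing (D ⧸ J) := IsLocalRing.of_surjective' (Ideal.Quotient.mk J) Ideal.Quotient.mk_surjective
  have hlh : IsLocalHom (algebraMap D (D ⧸ J)) := Function.Surjective.isLocalHom _ Ideal.Quotient.mk_surjective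
  have hH : IsHausdorff (maximalIdeal D) (P ⊗[A] ResidueField A) := by
    rw [← IsHausdorff.map_algebraMap_iff (S := D ⧸ J)]
    exact IsHausdorff.of_le_jacobson _ _ ((IsLocalRing.map_maximalIdeal_le (algebraMap D (D ⧸ J))).trans
      (maximalIdeal_le_jacobson _))
  refine hH.haus y fun n => ?_
  rw [SModEq.zero]
  exact hy n

section Kap

variable {A D P A' D' P' : Type u} [CommRing A] [CommRing D] [Algebra A D] [AddCommGroup P] [Module D P] [Module A P]
  [IsScalarTower A D P] [CommRing A'] [Algebra A A'] [CommRing D'] [Algebra D D'] [Algebra A' D'] [Algebra A D']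
  [IsScalarTower A D D'] [IsScalarTower A A' D'] [AddCommGroup P'] [Module D' P'] [Module D P'] [IsScalarTower D D' P']
  [Module A' P'] [IsScalarTower A' D' P'] [Module A P'] [IsScalarTower A D P'] [IsScalarTower A A' P']

variable (A D') in
/-- `p ⊗ k ↦ k • f p`. -/
noncomputable def kap (f : P →ₗ[D] P') (K : Ideal A') : P ⊗[A] K →ₗ[D] P' :=
  TensorProduct.AlgebraTensorModule.lift
    { toFun := fun p =>
        { toFun := fun k => (k : A') • f p
          map_add' := fun k k' => by rw [Submodule.coe_add, add_smul]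
          map_smul' := fun r k => by
            have : ((r • k : K) : A') = r • (k : A') := rfl
            rw [RingHom.id_apply, this, smul_assoc] }
      map_add' := fun p p' => by
        ext k
        simp
      map_smul' := fun d p => by
        ext k
        simp only [map_smul, LinearMap.coe_mk, AddHom.coe_mk, RingHom.id_apply, LinearMap.smul_apply]
        rw [← algebraMap_smul D' d (f p), ← algebraMap_smul D' (k : A') (f p), ← algebraMap_smul D' (k : A'),
          ← algebraMap_smul D' d, smul_smul, smul_smul, mul_comm] }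

omit [Algebra A D'] [IsScalarTower A D D'] [IsScalarTower A A' D'] in
@[simp]
theorem kap_tmul (f : P →ₗ[D] P') (K : Ideal A') (p : P) (k : K) : kap A D' f K (p ⊗ₜ[A] k) = (k : A') • f p := rfl

omit [Algebra A D'] [IsScalarTower A D D'] [IsScalarTower A A' D'] in
/-- `kap` is compatible with multiplication by elements of `A'`. -/
theorem smul_kap (f : P →ₗ[D] P') (K : Ideal A') (a : A') (z : P ⊗[A] K) :
    a • kap A D' f K z = kap A D' f K (TensorProduct.AlgebraTensorModule.lTensor D P ((LinearMap.lsmul A' K a).restrictScalars A) z) := by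
  induction z using TensorProduct.induction_on with
  | zero => simp
  | tmul p k => simp [mul_smul]
  | add x y hx hy => rw [map_add, smul_add, hx, hy, map_add, map_add]

variable [Algebra.IsPushout A D A' D']

/-- The image of `𝔡 • (P ⊗ K)` is stable under `D'`. -/
theorem smul_mem_map_kap (f : P →ₗ[D] P') (K : Ideal A') (𝔡 : Ideal D) (d' : D') (t : P')
    (ht : t ∈ Submodule.map (kap A D' f K) (𝔡 • ⊤ : Submodule D (P ⊗[A] K))) :
    d' • t ∈ Submodule.map (kap A D' f K) (𝔡 • ⊤ : Submodule D (P ⊗[A] K)) := by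
  have hpo : Algebra.IsPushout A A' D D' := Algebra.IsPushout.symm inferInstance
  have hA : ∀ (a : A') (t : P'), t ∈ Submodule.map (kap A D' f K) (𝔡 • ⊤ : Submodule D (P ⊗[A] K)) →
      a • t ∈ Submodule.map (kap A D' f K) (𝔡 • ⊤ : Submodule D (P ⊗[A] K)) := by
    rintro a _ ⟨z, hz, rfl⟩
    rw [smul_kap]
    refine Submodule.mem_map_of_mem ?_
    have h1 : TensorProduct.AlgebraTensorModule.lTensor D P ((LinearMap.lsmul A' K a).restrictScalars A) z ∈
        Submodule.map (TensorProduct.AlgebraTensorModule.lTensor D P ((LinearMap.lsmul A' K a).restrictScalars A))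
          (𝔡 • ⊤ : Submodule D (P ⊗[A] K)) := Submodule.mem_map_of_mem hz
    rw [Submodule.map_smul''] at h1
    exact Submodule.smul_mono le_rfl le_top h1
  refine hpo.out.inductionOn d' (fun d' => d' • t ∈ Submodule.map (kap A D' f K) (𝔡 • ⊤ : Submodule D (P ⊗[A] K))) ?_ ?_ ?_ ?_
  · rw [zero_smul]; exact Submodule.zero_mem _
  · intro d
    have : (IsScalarTower.toAlgHom A D D').toLinearMap d • t = d • t := algebraMap_smul D' d t
    rw [this]
    exact Submodule.smul_mem _ d ht
  · intro a d' h
    rw [smul_assoc]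
    exact hA a _ h
  · intro x y hx hy
    rw [add_smul]
    exact Submodule.add_mem _ hx hy

theorem mem_map_kap (f : P →ₗ[D] P') (hf : IsBaseChange D' f) (K : Ideal A') (𝔡 : Ideal D) (t : P')
    (ht : t ∈ (((K.map (algebraMap A' D')) * (𝔡.map (algebraMap D D'))) • ⊤ : Submodule D' P')) :
    t ∈ Submodule.map (kap A D' f K) (𝔡 • ⊤ : Submodule D (P ⊗[A] K)) := by
  let 𝔏 : Ideal D' :=
    { carrier := {r | ∀ p' : P', r • p' ∈ Submodule.map (kap A D' f K) (𝔡 • ⊤ : Submodule D (P ⊗[A] K))}
      add_mem' := fun {a b} ha hb p' => by rw [add_smul]; exact Submodule.add_mem _ (ha p') (hb p')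
      zero_mem' := fun p' => by rw [zero_smul]; exact Submodule.zero_mem _
      smul_mem' := fun c r hr p' => by rw [smul_assoc]; exact smul_mem_map_kap f K 𝔡 c _ (hr p') }
  have hle : (K.map (algebraMap A' D')) * (𝔡.map (algebraMap D D')) ≤ 𝔏 := by
    rw [Ideal.map, Ideal.map, Ideal.span_mul_span', Ideal.span_le]
    rintro _ ⟨_, ⟨k, hk, rfl⟩, _, ⟨d, hd, rfl⟩, rfl⟩
    intro p'
    refine hf.inductionOn p' (fun p' => (algebraMap A' D' k * algebraMap D D' d) • p' ∈
      Submodule.map (kap A D' f K) (𝔡 • ⊤ : Submodule D (P ⊗[A] K))) ?_ ?_ ?_ ?_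
    · rw [smul_zero]; exact Submodule.zero_mem _
    · intro p
      have : (algebraMap A' D' k * algebraMap D D' d) • f p = kap A D' f K (d • (p ⊗ₜ[A] ⟨k, hk⟩)) := by
        rw [map_smul, kap_tmul, mul_comm, mul_smul, algebraMap_smul, algebraMap_smul]
      rw [this]
      exact Submodule.mem_map_of_mem (Submodule.smul_mem_smul hd Submodule.mem_top)
    · intro s p' h
      rw [smul_comm]
      exact smul_mem_map_kap f K 𝔡 s _ h
    · intro x y hx hy
      rw [smul_add]
      exact Submodule.add_mem _ hx hy
  refine Submodule.smul_induction_on ht ?_ ?_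
  · intro r hr p' _
    exact hle hr p'
  · intro x y hx hy
    exact Submodule.add_mem _ hx hy

theorem kap_injective [Module.Flat A P] (f : P →ₗ[D] P') (hf : IsBaseChange D' f) (K : Ideal A') :
    Function.Injective (kap A D' f K) := by
  have h1 : IsBaseChange A' (f.restrictScalars A) :=
    Flat2B.BCTools.isBaseChange_of_isPushout (A₁ := D') (S₁ := A') f hf
  have h2 : ∀ z, kap A D' f K z = h1.equiv (TensorProduct.comm A P A' ((K.subtype.restrictScalars A).lTensor P z)) := by
    intro z
    induction z using TensorProduct.induction_on with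
    | zero => simp
    | tmul p k =>
      rw [kap_tmul, LinearMap.lTensor_tmul, TensorProduct.comm_tmul, h1.equiv_tmul]
      rfl
    | add x y hx hy => simp only [map_add, hx, hy]
  have h3 : Function.Injective ((K.subtype.restrictScalars A).lTensor P) :=
    Module.Flat.lTensor_preserves_injective_linearMap _ K.injective_subtype
  intro x y hxy
  rw [h2, h2] at hxy
  exact h3 ((TensorProduct.comm A P A').injective (h1.equiv.injective hxy))

end Kap

theorem exists_tensor_of_mem_smul {A P : Type u} [CommRing A] [AddCommGroup P] [Module A P] (I : Ideal A) (x : P)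
    (hx : x ∈ I • (⊤ : Submodule A P)) :
    ∃ xt : P ⊗[A] I, TensorProduct.rid A P ((Submodule.subtype I).lTensor P xt) = x := by
  refine Submodule.smul_induction_on (p := fun x => ∃ xt : P ⊗[A] I,
    TensorProduct.rid A P ((Submodule.subtype I).lTensor P xt) = x) hx ?_ ?_
  · intro r hr n _
    exact ⟨n ⊗ₜ[A] ⟨r, hr⟩, by simp⟩
  · rintro y z ⟨yt, rfl⟩ ⟨zt, rfl⟩
    exact ⟨yt + zt, by simp only [map_add]⟩

theorem pow_sup_le {R : Type u} [CommRing R] (I J : Ideal R) (n : ℕ) : (I ⊔ J) ^ n ≤ I ⊔ J ^ n := by
  induction n with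
  | zero => simp
  | succ n ih =>
    rw [pow_succ, pow_succ]
    calc (I ⊔ J) ^ n * (I ⊔ J) ≤ (I ⊔ J ^ n) * (I ⊔ J) := Ideal.mul_mono_left ih
      _ ≤ I ⊔ J ^ n * J := by
        rw [Ideal.sup_mul]
        refine sup_le (Ideal.mul_le_left.trans le_sup_left) ?_
        rw [Ideal.mul_sup]
        exact sup_le (Ideal.mul_le_right.trans le_sup_left) le_sup_right

theorem key {A D P : Type u} [CommRing A] [IsLocalRing A] [CommRing D] [IsLocalRing D] [Algebra A D]
    [IsLocalHom (algebraMap A D)] [Algebra.EssFiniteType A D] [AddCommGroup P] [Module D P] [Module A P]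
    [IsScalarTower A D P] [Module.Finite D P] [Module.Flat A P] (x : P) (I : Ideal A) (hIfg : I.FG)
    (hx : x ∈ I • (⊤ : Submodule A P)) (hmin : ∀ J : Ideal A, x ∈ J • (⊤ : Submodule A P) → I ≤ J)
    (A' D' P' : Type u) [CommRing A'] [IsLocalRing A'] [Algebra A A'] [IsLocalHom (algebraMap A A')]
    [CommRing D'] [Algebra D D'] [Algebra A' D'] [Algebra A D'] [IsScalarTower A D D'] [IsScalarTower A A' D']
    [Algebra.IsPushout A D A' D'] [AddCommGroup P'] [Module D' P'] [Module D P'] [IsScalarTower D D' P']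
    [Module A' P'] [IsScalarTower A' D' P'] [Module A P'] [IsScalarTower A D P'] [IsScalarTower A A' P']
    (f : P →ₗ[D] P') (hf : IsBaseChange D' f)
    (hq : ∀ (q : Ideal D') [q.IsPrime], (maximalIdeal A').map (algebraMap A' D') ⊔
      (maximalIdeal D).map (algebraMap D D') ≤ q → ∃ s ∉ q, s • f x = 0) :
    I.map (algebraMap A A') = ⊥ := by
  by_contra hne
  let J' : Ideal A' := I.map (algebraMap A A')
  obtain ⟨μ, ν, hμν⟩ : ∃ (μ : J' →ₗ[A'] ResidueField A') (ν : ResidueField A' →ₗ[A] ResidueField A),
      ν ∘ₗ (μ.restrictScalars A) ∘ₗ toMap I ≠ 0 := exists_functional (A' := A') I hIfg hne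
  obtain ⟨xt, hxt⟩ := exists_tensor_of_mem_smul I x hx
  let xh : P ⊗[A] J' := (toMap (A' := A') I).lTensor P xt
  have hxh : kap A D' f J' xh = f x := by
    rw [← hxt]
    show kap A D' f J' ((toMap (A' := A') I).lTensor P xt) = _
    clear hxt
    induction xt using TensorProduct.induction_on with
    | zero => simp
    | tmul p i =>
      rw [LinearMap.lTensor_tmul, kap_tmul, coe_toMap, LinearMap.lTensor_tmul, TensorProduct.rid_tmul]
      rw [algebraMap_smul, Submodule.subtype_apply, ← algebraMap_smul D (i : A) p, map_smul, algebraMap_smul]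
    | add y z hy hz => simp only [map_add, hy, hz]
  -- `f x = e • f x` with `e` in the sum of the two maximal ideals
  set 𝔢 : Ideal D' := (maximalIdeal A').map (algebraMap A' D') ⊔ (maximalIdeal D).map (algebraMap D D') with h𝔢
  have htop : LinearMap.ker (LinearMap.toSpanSingleton D' P' (f x)) ⊔ 𝔢 = ⊤ := by
    by_contra hcon
    obtain ⟨q, hqm, hqle⟩ := Ideal.exists_le_maximal _ hcon
    obtain ⟨s, hs, hs'⟩ := hq q (le_sup_right.trans hqle)
    apply hs
    apply hqle
    refine Ideal.mem_sup_left ?_
    rw [LinearMap.mem_ker, LinearMap.toSpanSingleton_apply]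
    exact hs'
  obtain ⟨a, ha, e, he, hae⟩ := Submodule.mem_sup.1 (htop ▸ Submodule.mem_top : (1 : D') ∈ _)
  have hef : e • f x = f x := by
    have h1 : a • f x = 0 := by
      rw [LinearMap.mem_ker, LinearMap.toSpanSingleton_apply] at ha
      exact ha
    conv_rhs => rw [← one_smul D' (f x), ← hae, add_smul, h1, zero_add]
  have hefn : ∀ n : ℕ, e ^ n • f x = f x := by
    intro n
    induction n with
    | zero => simp
    | succ n ih => rw [pow_succ, mul_smul, hef, ih]
  have hfxJ : f x ∈ (J'.map (algebraMap A' D') • ⊤ : Submodule D' P') := by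
    rw [← hxh]
    clear_value xh
    clear hxh
    induction xh using TensorProduct.induction_on with
    | zero => simp
    | tmul p k =>
      rw [kap_tmul, ← algebraMap_smul D' (k : A') (f p)]
      exact Submodule.smul_mem_smul (Ideal.mem_map_of_mem _ k.2) Submodule.mem_top
    | add y z hy hz => rw [map_add]; exact Submodule.add_mem _ hy hz
  have hfin : ∀ n : ℕ, TensorProduct.AlgebraTensorModule.lTensor D P (ν ∘ₗ (μ.restrictScalars A)) xh ∈
      ((maximalIdeal D) ^ n • ⊤ : Submodule D (P ⊗[A] ResidueField A)) := by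
    intro n
    have h1 : e ^ n ∈ (maximalIdeal A').map (algebraMap A' D') ⊔ ((maximalIdeal D) ^ n).map (algebraMap D D') := by
      rw [Ideal.map_pow]
      exact pow_sup_le _ _ n (Ideal.pow_mem_pow he n)
    obtain ⟨b, hb, w, hw, hbw⟩ := Submodule.mem_sup.1 h1
    have hsum : f x = b • f x + w • f x := by
      rw [← add_smul, hbw, hefn]
    -- the two parts
    have hb1 : b • f x ∈ ((((maximalIdeal A' * J').map (algebraMap A' D')) * ((⊤ : Ideal D).map (algebraMap D D'))) • ⊤ : Submodule D' P') := by
      rw [Ideal.map_top, Ideal.mul_top, Ideal.map_mul, ← smul_eq_mul, Submodule.smul_assoc]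
      exact Submodule.smul_mem_smul hb hfxJ
    have hw1 : w • f x ∈ (((J'.map (algebraMap A' D')) * (((maximalIdeal D) ^ n).map (algebraMap D D'))) • ⊤ : Submodule D' P') := by
      rw [mul_comm, ← smul_eq_mul, Submodule.smul_assoc]
      exact Submodule.smul_mem_smul hw hfxJ
    obtain ⟨z₁, -, hz₁⟩ := mem_map_kap (A := A) f hf (maximalIdeal A' * J') ⊤ _ hb1
    obtain ⟨z₂, hz₂m, hz₂⟩ := mem_map_kap (A := A) f hf J' ((maximalIdeal D) ^ n) _ hw1
    let incl : (maximalIdeal A' * J' : Ideal A') →ₗ[A] J' :=
      (Submodule.inclusion (Ideal.mul_le_right : maximalIdeal A' * J' ≤ J')).restrictScalars A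
    have hincl : kap A D' f J' (TensorProduct.AlgebraTensorModule.lTensor D P incl z₁) = kap A D' f (maximalIdeal A' * J') z₁ := by
      clear hz₁
      induction z₁ using TensorProduct.induction_on with
      | zero => simp
      | tmul p k => rfl
      | add y z hy hz => simp only [map_add, hy, hz]
    have hxz : xh = TensorProduct.AlgebraTensorModule.lTensor D P incl z₁ + z₂ := by
      apply kap_injective (A := A) (D' := D') f hf J'
      rw [map_add, hincl, hz₁, hz₂, hxh]
      exact hsum
    have hμ0 : (ν ∘ₗ (μ.restrictScalars A)) ∘ₗ incl = 0 := by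
      have h3 : ∀ j : J', j ∈ (maximalIdeal A' • ⊤ : Submodule A' J') → μ j = 0 := by
        intro j hj
        refine Submodule.smul_induction_on hj ?_ ?_
        · intro r hr y _
          rw [map_smul, Algebra.smul_def, IsLocalRing.ResidueField.algebraMap_eq]
          rw [(IsLocalRing.residue_eq_zero_iff r).2 hr, zero_mul]
        · intro y z hy hz
          rw [map_add, hy, hz, add_zero]
      ext ⟨k, hk⟩
      simp only [LinearMap.comp_apply, LinearMap.restrictScalars_apply, LinearMap.zero_apply]
      have h4 : incl ⟨k, hk⟩ ∈ (maximalIdeal A' • ⊤ : Submodule A' J') := by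
        have h5 : k ∈ Submodule.map (Submodule.subtype J') (maximalIdeal A' • ⊤ : Submodule A' J') := by
          rw [Submodule.map_smul'', Submodule.map_top, Submodule.range_subtype]
          exact hk
        obtain ⟨k', hk', hkk⟩ := h5
        have : incl ⟨k, hk⟩ = k' := Subtype.ext hkk.symm
        rw [this]
        exact hk'
      rw [h3 _ h4, map_zero]
    have h6 : TensorProduct.AlgebraTensorModule.lTensor D P (ν ∘ₗ (μ.restrictScalars A))
        (TensorProduct.AlgebraTensorModule.lTensor D P incl z₁) = 0 := by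
      have : (LinearMap.lTensor P (ν ∘ₗ (μ.restrictScalars A))) (LinearMap.lTensor P incl z₁) = 0 := by
        rw [← LinearMap.lTensor_comp_apply, hμ0, LinearMap.lTensor_zero, LinearMap.zero_apply]
      exact this
    rw [hxz, map_add, h6, zero_add]
    have h7 := Submodule.mem_map_of_mem
      (f := TensorProduct.AlgebraTensorModule.lTensor D P (ν ∘ₗ (μ.restrictScalars A))) hz₂m
    rw [Submodule.map_smul''] at h7
    exact Submodule.smul_mono le_rfl le_top h7
  have h0 := krull_fiber _ hfin
  have h8 : (ν ∘ₗ (μ.restrictScalars A) ∘ₗ toMap I).lTensor P xt ≠ 0 :=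
    lTensor_ne_zero_of_min I xt (fun J hJ => hmin J (by rw [← hxt]; exact hJ)) _ hμν
  apply h8
  have h9 : (ν ∘ₗ (μ.restrictScalars A) ∘ₗ toMap I) = (ν ∘ₗ (μ.restrictScalars A)) ∘ₗ toMap I := rfl
  rw [h9, LinearMap.lTensor_comp_apply]
  exact h0

theorem exists_content {A D P : Type u} [CommRing A] [IsLocalRing A] [CommRing D] [IsLocalRing D] [Algebra A D]
    [IsLocalHom (algebraMap A D)] [Algebra.EssFiniteType A D] [AddCommGroup P] [Module D P] [Module A P]
    [IsScalarTower A D P] [Module.Finite D P] [Module.Flat A P] (hML : CAlg.IsMittagLeffler A P) (x : P) :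
    ∃ I : Ideal A, I.FG ∧ x ∈ I • (⊤ : Submodule A P) ∧
      ∀ (A' D' P' : Type u) [CommRing A'] [IsLocalRing A'] [Algebra A A'] [IsLocalHom (algebraMap A A')]
        [CommRing D'] [Algebra D D'] [Algebra A' D'] [Algebra A D'] [IsScalarTower A D D'] [IsScalarTower A A' D']
        [Algebra.IsPushout A D A' D'] [AddCommGroup P'] [Module D' P'] [Module D P'] [IsScalarTower D D' P']
        (f : P →ₗ[D] P'), IsBaseChange D' f →
        (∀ (q : Ideal D') [q.IsPrime], (maximalIdeal A').map (algebraMap A' D') ⊔
          (maximalIdeal D).map (algebraMap D D') ≤ q → ∃ s ∉ q, s • f x = 0) →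
        I.map (algebraMap A A') = ⊥ := by
  obtain ⟨I, h1, h2, h3⟩ := exists_min hML x
  refine ⟨I, h1, h2, ?_⟩
  intro A' D' P' _ _ _ _ _ _ _ _ _ _ _ _ _ _ _ f hf hq
  let _ : Module A' P' := Module.compHom P' (algebraMap A' D')
  let _ : Module A P' := Module.compHom P' (algebraMap A D')
  have : IsScalarTower A' D' P' := ⟨fun r s x => by rw [Algebra.smul_def, mul_smul]; rfl⟩
  have : IsScalarTower A D P' := ⟨fun r s x => by
    rw [← algebraMap_smul D' (r • s) x, ← algebraMap_smul D' s x, Algebra.smul_def, map_mul, mul_smul,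
      ← IsScalarTower.algebraMap_apply]
    rfl⟩
  have : IsScalarTower A A' P' := ⟨fun r s x => by
    rw [Algebra.smul_def, mul_smul]
    show algebraMap A' D' (algebraMap A A' r) • (s • x) = algebraMap A D' r • (s • x)
    rw [← IsScalarTower.algebraMap_apply]⟩
  exact key x I h1 h2 h3 A' D' P' f hf hq

end Groth.Agent.Flat2A.ContentIdeal
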