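import Groth.Prelude.Def_Found
import Mathlib.RingTheory.Filtration
import Mathlib.RingTheory.AdicCompletion.Functoriality
import Mathlib.RingTheory.AdicCompletion.Exactness
import Mathlib.LinearAlgebra.TensorProduct.Finiteness
import Mathlib.RingTheory.Flat.Basic
import Mathlib.RingTheory.TensorProduct.IsBaseChangeFree

/-!
# Modules with a universally injective family of coordinate functionals

`phi c Q : M ⊗ Q → (α → Q)` for a family `c : α → (M →ₗ[R] R)` of linear functionals. If `phi c Q` is
injective for every `Q` then `M` is flat and Mittag-Leffler. Over a Noetherian ring it is enough to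
check this for finite modules `Q`.
-/

set_option autoImplicit false
universe u

namespace Groth.Agent.Flat2A.CoordML

open TensorProduct

variable {R : Type u} [CommRing R] {M : Type u} [AddCommGroup M] [Module R M] {α : Type u}

/-- `M ⊗ Q → (α → Q)`, `m ⊗ q ↦ (a ↦ c a m • q)`. -/
noncomputable def phi (c : α → (M →ₗ[R] R)) (Q : Type u) [AddCommGroup Q] [Module R Q] :
    M ⊗[R] Q →ₗ[R] (α → Q) :=
  LinearMap.pi fun a => (TensorProduct.lid R Q).toLinearMap ∘ₗ (c a).rTensor Q

@[simp]
theorem phi_tmul (c : α → (M →ₗ[R] R)) (Q : Type u) [AddCommGroup Q] [Module R Q] (m : M) (q : Q) (a : α) :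
    phi c Q (m ⊗ₜ q) a = c a m • q := by
  simp [phi]

theorem phi_lTensor (c : α → (M →ₗ[R] R)) {Q Q' : Type u} [AddCommGroup Q] [Module R Q] [AddCommGroup Q']
    [Module R Q'] (f : Q →ₗ[R] Q') (z : M ⊗[R] Q) (a : α) :
    phi c Q' (f.lTensor M z) a = f (phi c Q z a) := by
  induction z using TensorProduct.induction_on with
  | zero => simp
  | tmul m q => simp
  | add x y hx hy => simp only [map_add, Pi.add_apply, hx, hy]

/-- It suffices to test injectivity of `phi` on finite modules. -/
theorem phi_injective_of_finite (c : α → (M →ₗ[R] R))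
    (h : ∀ (Q : Type u) [AddCommGroup Q] [Module R Q], Module.Finite R Q → Function.Injective (phi c Q))
    (Q : Type u) [AddCommGroup Q] [Module R Q] : Function.Injective (phi c Q) := by
  rw [injective_iff_map_eq_zero]
  intro z hz
  obtain ⟨Q', hQ', hz'⟩ := TensorProduct.exists_finite_submodule_right_of_setFinite {z} (Set.finite_singleton z)
  obtain ⟨z', rfl⟩ := hz' rfl
  have : phi c Q' z' = 0 := by
    ext a
    have := congrFun hz a
    rw [phi_lTensor] at this
    simpa using this
  rw [(injective_iff_map_eq_zero _).1 (h Q' hQ') z' this, map_zero]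

theorem flat_of_phi_injective (c : α → (M →ₗ[R] R))
    (h : ∀ (Q : Type u) [AddCommGroup Q] [Module R Q], Function.Injective (phi c Q)) : Module.Flat R M := by
  rw [Module.Flat.iff_lTensor_preserves_injective_linearMap]
  intro Q Q' _ _ _ _ f hf
  have h1 : Function.Injective (fun z : M ⊗[R] Q => fun a => f (phi c Q z a)) := by
    intro z z' hzz
    apply h Q
    ext a
    exact hf (congrFun hzz a)
  have h2 : (fun z : M ⊗[R] Q => fun a => f (phi c Q z a)) = (phi c Q') ∘ (f.lTensor M) := by
    ext z a
    simp [phi_lTensor]
  rw [h2] at h1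
  exact h1.of_comp

theorem isMittagLeffler_of_phi_injective (c : α → (M →ₗ[R] R))
    (h : ∀ (Q : Type u) [AddCommGroup Q] [Module R Q], Function.Injective (phi c Q)) : CAlg.IsMittagLeffler R M := by
  intro ι Q _ _
  rw [injective_iff_map_eq_zero]
  intro z hz
  apply h (∀ i, Q i)
  rw [map_zero]
  ext a i
  have : phi c (∀ i, Q i) z a i = phi c (Q i) (TensorProduct.piRightHom R R M Q z i) a := by
    clear hz
    induction z using TensorProduct.induction_on with
    | zero => simp
    | tmul m q => simp
    | add x y hx hy => simp only [map_add, Pi.add_apply, hx, hy]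
  rw [this, hz]
  simp

/-- Transport of the injectivity property along a retract. -/
theorem phi_injective_of_retract {M' : Type u} [AddCommGroup M'] [Module R M'] (c : α → (M →ₗ[R] R))
    (h : ∀ (Q : Type u) [AddCommGroup Q] [Module R Q], Function.Injective (phi c Q))
    (i : M' →ₗ[R] M) (r : M →ₗ[R] M') (hri : r ∘ₗ i = LinearMap.id)
    (Q : Type u) [AddCommGroup Q] [Module R Q] : Function.Injective (phi (fun a => c a ∘ₗ i) Q) := by
  have h1 : ∀ z, phi (fun a => c a ∘ₗ i) Q z = phi c Q (i.rTensor Q z) := by
    intro z
    induction z using TensorProduct.induction_on with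
    | zero => simp
    | tmul m q => ext a; simp
    | add x y hx hy => simp only [map_add, hx, hy]
  have h2 : Function.Injective (i.rTensor Q) := by
    refine Function.LeftInverse.injective (g := r.rTensor Q) ?_
    intro z
    rw [← LinearMap.rTensor_comp_apply, hri, LinearMap.rTensor_id, LinearMap.id_apply]
  intro z z' hzz
  rw [h1, h1] at hzz
  exact h2 (h Q hzz)

end Groth.Agent.Flat2A.CoordML
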