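import Groth.Agent.Flat2A.RelAss

/-!
# Modules embedding universally into projective modules are universally pure
-/

set_option autoImplicit false
set_option linter.style.haveILetI false

universe u v w

namespace Groth.Agent.Flat2A.PureUniv

open TensorProduct Flat2A.Fiber Flat2A.FiberAss Flat2A.FiberEquiv

/-- Existence of a base change of a module with all structure maps. -/
theorem exists_isBaseChange (B B' : Type u) [CommRing B] [CommRing B'] [Algebra B B']
    (N : Type u) [AddCommGroup N] [Module B N] :
    ∃ (N' : Type u) (_ : AddCommGroup N') (_ : Module B' N') (_ : Module B N')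
      (_ : IsScalarTower B B' N') (f : N →ₗ[B] N'), IsBaseChange B' f :=
  ⟨B' ⊗[B] N, inferInstance, inferInstance, inferInstance, inferInstance,
    TensorProduct.mk B B' N 1, TensorProduct.isBaseChange B N B'⟩

/-- Restriction of scalars along a tower. -/
noncomputable def restrictEquiv (R : Type u) (C : Type v) (X : Type w) [CommRing R] [CommRing C]
    [Algebra R C] [AddCommGroup X] [Module C X] [Module R X] [IsScalarTower R C X] :
    RestrictScalars R C X ≃ₗ[R] X :=
  { RestrictScalars.addEquiv R C X with
    map_smul' := by
      intro r x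
      change RestrictScalars.addEquiv R C X (r • x) = r • RestrictScalars.addEquiv R C X x
      rw [RestrictScalars.addEquiv_map_smul, algebraMap_smul] }

/-- An element of `N ⊗ M` killed by `N ⊗ M → (C ⊗ N) ⊗ M` is killed by
`N ⊗ M → C ⊗ (N ⊗ M)`. -/
theorem one_tmul_eq_zero {A B C : Type u} [CommRing A] [CommRing B] [CommRing C] [Algebra A B]
    [Algebra B C] [Algebra A C] [IsScalarTower A B C]
    {N M : Type u} [AddCommGroup N] [Module B N] [Module A N] [IsScalarTower A B N]
    [AddCommGroup M] [Module A M] (z : N ⊗[A] M)
    (hz : ((TensorProduct.mk B C N 1).restrictScalars A).rTensor M z = 0) :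
    (1 : C) ⊗ₜ[B] z = 0 := by
  have h : ∀ z : N ⊗[A] M, (TensorProduct.AlgebraTensorModule.assoc A B B C N M)
      (((TensorProduct.mk B C N 1).restrictScalars A).rTensor M z) = (1 : C) ⊗ₜ[B] z := by
    intro z
    induction z using TensorProduct.induction_on with
    | zero => simp
    | tmul n m => simp
    | add x y hx hy => rw [map_add, map_add, hx, hy, TensorProduct.tmul_add]
  rw [← h, hz, map_zero]

/-- If `N` admits a `B`-linear map to a `B`-module `N₁` which is projective over `A`, and the map is
universally injective over `A`, then `N` is universally pure. -/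
theorem isUnivPureAlong_of_univInj {A B : Type u} [CommRing A] [CommRing B] [Algebra A B]
    {N N₁ : Type u} [AddCommGroup N] [Module B N] [Module A N] [IsScalarTower A B N]
    [AddCommGroup N₁] [Module B N₁] [Module A N₁] [IsScalarTower A B N₁] [Module.Projective A N₁]
    (φ : N →ₗ[B] N₁)
    (hφ : ∀ (M : Type u) [AddCommGroup M] [Module A M],
      Function.Injective ((φ.restrictScalars A).rTensor M))
    (p : Ideal A) [p.IsPrime] : FlatCA.IsUnivPureAlong A B N p := by
  intro A' B' N' _ _ _ _ _ _ _ _ _ _ _ _ _ _ f t' t _ _ P _ ⟨hpush, hf, htt, hover, hPover, hass, hno⟩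
  obtain ⟨N₁', _, _, _, _, f₁, hf₁⟩ := exists_isBaseChange B B' N₁
  letI : Module A' N₁' := Module.compHom N₁' (algebraMap A' B')
  haveI : IsScalarTower A' B' N₁' := ⟨fun a b n => by
    rw [Algebra.smul_def, mul_smul]; rfl⟩
  -- projectivity of the base change
  letI : Module A N₁' := Module.compHom N₁' (algebraMap A A')
  haveI : IsScalarTower A A' N₁' := ⟨fun a b n => by
    rw [Algebra.smul_def, mul_smul]; rfl⟩
  haveI hABN' : IsScalarTower A B N₁' := ⟨fun a b n => by
    rw [Algebra.smul_def, mul_smul]
    change algebraMap A B a • b • n = algebraMap A A' a • b • n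
    rw [← algebraMap_smul B' (algebraMap A B a), ← algebraMap_smul B' (algebraMap A A' a),
      ← IsScalarTower.algebraMap_apply, ← IsScalarTower.algebraMap_apply]⟩
  have hbc : IsBaseChange A' (f₁.restrictScalars A) :=
    ProjPure.isBaseChange_of_isPushout hpush f₁ hf₁
  haveI : Module.Projective A' N₁' := Module.Projective.of_equiv hbc.equiv
  -- the induced map
  let φ' : N' →ₗ[B'] N₁' := hf.lift (f₁ ∘ₗ φ)
  have hφ' : ∀ n : N, φ' (f n) = f₁ (φ n) := fun n => hf.lift_eq _ n
  obtain ⟨e, he, -⟩ := RelAss.exists_baseChange_equiv hpush f hf t'.ResidueField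
  obtain ⟨e₁, he₁, -⟩ := RelAss.exists_baseChange_equiv hpush f₁ hf₁ t'.ResidueField
  have hcomm : ∀ x : N ⊗[A] t'.ResidueField,
      (φ'.restrictScalars A').rTensor t'.ResidueField (e x) =
        e₁ ((φ.restrictScalars A).rTensor t'.ResidueField x) := by
    intro x
    induction x using TensorProduct.induction_on with
    | zero => simp
    | tmul n l =>
      rw [he, LinearMap.rTensor_tmul, LinearMap.rTensor_tmul, he₁,
        LinearMap.coe_restrictScalars, LinearMap.coe_restrictScalars, hφ']
    | add x y hx hy => rw [map_add, map_add, hx, hy, map_add, map_add]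
  have hinj : Function.Injective ((φ'.restrictScalars A').rTensor t'.ResidueField) := by
    intro x y hxy
    obtain ⟨x', rfl⟩ := e.surjective x
    obtain ⟨y', rfl⟩ := e.surjective y
    rw [hcomm, hcomm] at hxy
    rw [hφ _ (e₁.injective hxy)]
  obtain ⟨P', hP', hle, hover'⟩ := ProjPure.exists_prime_over φ' t' t htt hinj P hass
  exact hno P' hle hover'

end Groth.Agent.Flat2A.PureUniv
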