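import Groth.Agent.Flat2A.PureEtSpec
import Groth.Agent.Flat2A.PureUniv
import Groth.Agent.Flat2B.EtaleNhd

/-!
# Base change of etale algebras carrying a free module
-/

set_option autoImplicit false
universe u v w

namespace Groth.Agent.Flat2A.CoverBC

open TensorProduct

/-- The map between two base changes of an algebra. -/
theorem exists_algebra_map {R A₁ A₂ S S₁ S₂ : Type u} [CommRing R] [CommRing A₁] [CommRing A₂]
    [CommRing S] [CommRing S₁] [CommRing S₂] [Algebra R A₁] [Algebra R A₂] [Algebra A₁ A₂]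
    [IsScalarTower R A₁ A₂] [Algebra R S]
    [Algebra R S₁] [Algebra S S₁] [Algebra A₁ S₁] [IsScalarTower R S S₁] [IsScalarTower R A₁ S₁]
    (h₁ : Algebra.IsPushout R S A₁ S₁)
    [Algebra R S₂] [Algebra S S₂] [Algebra A₂ S₂] [IsScalarTower R S S₂] [IsScalarTower R A₂ S₂]
    (h₂ : Algebra.IsPushout R S A₂ S₂) :
    ∃ (_ : Algebra S₁ S₂) (_ : IsScalarTower S S₁ S₂) (_ : IsScalarTower R S₁ S₂)
      (_ : Algebra A₁ S₂) (_ : IsScalarTower A₁ S₁ S₂) (_ : IsScalarTower A₁ A₂ S₂)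
      (_ : IsScalarTower R A₁ S₂), Algebra.IsPushout A₁ S₁ A₂ S₂ := by
  let a : Algebra A₁ S₂ := ((algebraMap A₂ S₂).comp (algebraMap A₁ A₂)).toAlgebra
  have t1 : IsScalarTower A₁ A₂ S₂ := IsScalarTower.of_algebraMap_eq' rfl
  have t2 : IsScalarTower R A₁ S₂ := IsScalarTower.of_algebraMap_eq fun r => by
    change _ = algebraMap A₂ S₂ (algebraMap A₁ A₂ (algebraMap R A₁ r))
    rw [← IsScalarTower.algebraMap_apply R A₁ A₂, ← IsScalarTower.algebraMap_apply R A₂ S₂]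
  let φ : S₁ →ₐ[R] S₂ := Algebra.pushoutDesc (R := R) (S := S) (R' := A₁) S₁
    (IsScalarTower.toAlgHom R S S₂) (IsScalarTower.toAlgHom R A₁ S₂) (fun _ _ => mul_comm _ _)
  let b : Algebra S₁ S₂ := φ.toRingHom.toAlgebra
  have t3 : IsScalarTower S S₁ S₂ := IsScalarTower.of_algebraMap_eq fun x => by
    change _ = φ (algebraMap S S₁ x)
    simp only [φ, Algebra.pushoutDesc_left]
    rfl
  have t4 : IsScalarTower R S₁ S₂ := IsScalarTower.of_algebraMap_eq fun r =>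
    (φ.commutes r).symm
  have t5 : IsScalarTower A₁ S₁ S₂ := IsScalarTower.of_algebraMap_eq fun x => by
    change _ = φ (algebraMap A₁ S₁ x)
    simp only [φ, Algebra.pushoutDesc_right]
    rfl
  refine ⟨b, t3, t4, a, t5, t1, t2, ?_⟩
  have h : Algebra.IsPushout R A₁ S S₁ := h₁.symm
  exact ((Algebra.IsPushout.comp_iff (R := R) (S := A₁) (R' := S) (S' := S₁) (T := A₂)
    (T' := S₂)).mp h₂.symm).symm

/-- Base change of an etale algebra `C₁` over `S₁` such that `C₁ ⊗ N₁` is finitely presented and free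
over `A₁`. -/
theorem exists_baseChange {R A₁ A₂ S S₁ S₂ C₁ : Type u} [CommRing R] [CommRing A₁] [CommRing A₂]
    [CommRing S] [CommRing S₁] [CommRing S₂] [CommRing C₁] [Algebra R A₁] [Algebra R A₂]
    [Algebra A₁ A₂] [IsScalarTower R A₁ A₂] [Algebra R S]
    [Algebra R S₁] [Algebra S S₁] [Algebra A₁ S₁] [IsScalarTower R S S₁] [IsScalarTower R A₁ S₁]
    (h₁ : Algebra.IsPushout R S A₁ S₁)
    [Algebra R S₂] [Algebra S S₂] [Algebra A₂ S₂] [IsScalarTower R S S₂] [IsScalarTower R A₂ S₂]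
    (h₂ : Algebra.IsPushout R S A₂ S₂)
    {N N₁ N₂ : Type u} [AddCommGroup N] [Module S N]
    [AddCommGroup N₁] [Module S₁ N₁] [Module S N₁] [IsScalarTower S S₁ N₁] (f₁ : N →ₗ[S] N₁)
    (hf₁ : IsBaseChange S₁ f₁)
    [AddCommGroup N₂] [Module S₂ N₂] [Module S N₂] [IsScalarTower S S₂ N₂] (f₂ : N →ₗ[S] N₂)
    (hf₂ : IsBaseChange S₂ f₂)
    [Algebra S₁ C₁] [Algebra A₁ C₁] [IsScalarTower A₁ S₁ C₁] [Algebra S C₁] [IsScalarTower S S₁ C₁]
    [Algebra.Etale S₁ C₁] (hfree : Module.Free A₁ (C₁ ⊗[S₁] N₁)) :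
    ∃ (C₂ : Type u) (_ : CommRing C₂) (_ : Algebra S₂ C₂) (_ : Algebra A₂ C₂)
      (_ : IsScalarTower A₂ S₂ C₂) (_ : Algebra S C₂) (_ : IsScalarTower S S₂ C₂),
      Algebra.Etale S₂ C₂ ∧
      (Module.FinitePresentation C₁ (C₁ ⊗[S₁] N₁) → Module.FinitePresentation C₂ (C₂ ⊗[S₂] N₂)) ∧
      Module.Free A₂ (C₂ ⊗[S₂] N₂) ∧
      ∀ (m₁ : Ideal A₁) (m₂ : Ideal A₂) (x₁ : Ideal C₁), m₁.IsPrime → m₂.IsPrime → x₁.IsPrime →
        x₁.LiesOver m₁ → m₂.LiesOver m₁ → ∃ x₂ : Ideal C₂, x₂.IsPrime ∧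
          x₂.comap (algebraMap S C₂) = x₁.comap (algebraMap S C₁) ∧ x₂.LiesOver m₂ := by
  obtain ⟨_, _, _, _, _, _, _, hpush⟩ := exists_algebra_map h₁ h₂
  obtain ⟨C₂, _, _, _, _, _, _, hC⟩ := PureEtSpec.exists_pushout S₁ C₁ S₂
  -- structures on `C₂`
  let : Algebra A₂ C₂ := ((algebraMap S₂ C₂).comp (algebraMap A₂ S₂)).toAlgebra
  have : IsScalarTower A₂ S₂ C₂ := IsScalarTower.of_algebraMap_eq' rfl
  let : Algebra S C₂ := ((algebraMap S₂ C₂).comp (algebraMap S S₂)).toAlgebra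
  have : IsScalarTower S S₂ C₂ := IsScalarTower.of_algebraMap_eq' rfl
  let : Algebra A₁ C₂ := ((algebraMap S₁ C₂).comp (algebraMap A₁ S₁)).toAlgebra
  have : IsScalarTower A₁ S₁ C₂ := IsScalarTower.of_algebraMap_eq' rfl
  have : IsScalarTower S S₁ C₂ := IsScalarTower.of_algebraMap_eq fun x => by
    rw [IsScalarTower.algebraMap_apply S S₂ C₂, IsScalarTower.algebraMap_apply S S₁ S₂,
      ← IsScalarTower.algebraMap_apply S₁ S₂ C₂]
  have : IsScalarTower S C₁ C₂ := IsScalarTower.of_algebraMap_eq fun x => by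
    rw [IsScalarTower.algebraMap_apply S S₁ C₂, IsScalarTower.algebraMap_apply S S₁ C₁,
      ← IsScalarTower.algebraMap_apply S₁ C₁ C₂]
  have : IsScalarTower A₁ C₁ C₂ := IsScalarTower.of_algebraMap_eq fun x => by
    rw [IsScalarTower.algebraMap_apply A₁ S₁ C₂, IsScalarTower.algebraMap_apply A₁ S₁ C₁,
      ← IsScalarTower.algebraMap_apply S₁ C₁ C₂]
  have : IsScalarTower A₁ S₂ C₂ := IsScalarTower.of_algebraMap_eq fun x => by
    rw [IsScalarTower.algebraMap_apply A₁ S₁ C₂, IsScalarTower.algebraMap_apply A₁ S₁ S₂,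
      ← IsScalarTower.algebraMap_apply S₁ S₂ C₂]
  have : IsScalarTower A₁ A₂ C₂ := IsScalarTower.of_algebraMap_eq fun x => by
    rw [IsScalarTower.algebraMap_apply A₂ S₂ C₂, ← IsScalarTower.algebraMap_apply A₁ A₂ S₂,
      ← IsScalarTower.algebraMap_apply A₁ S₂ C₂]
  have hEt : Algebra.Etale S₂ C₂ := by
    have := Algebra.Etale.baseChange S₁ C₁ S₂
    exact Algebra.Etale.of_equiv (Algebra.IsPushout.equiv S₁ S₂ C₁ C₂ (h := hC.symm))
  -- the big square
  have hbig : Algebra.IsPushout A₁ C₁ A₂ C₂ := by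
    have e1 : Algebra.IsPushout A₁ S₁ A₂ S₂ := hpush
    exact (Algebra.IsPushout.comp_iff (R := A₁) (S := S₁) (R' := A₂) (S' := S₂) (T := C₁)
      (T' := C₂)).mpr hC
  -- the modules
  let : Module S₁ N₂ := Module.compHom N₂ (algebraMap S₁ S₂)
  have : IsScalarTower S₁ S₂ N₂ := ⟨fun a b n => by rw [Algebra.smul_def, mul_smul]; rfl⟩
  have : IsScalarTower S S₁ N₂ := ⟨fun a b n => by
    change algebraMap S₁ S₂ (a • b) • n = a • (algebraMap S₁ S₂ b • n)
    rw [Algebra.smul_def, map_mul, mul_smul, ← IsScalarTower.algebraMap_apply S S₁ S₂,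
      algebraMap_smul]⟩
  let g : N₁ →ₗ[S₁] N₂ := hf₁.lift f₂
  have hg : IsBaseChange S₂ g := by
    refine IsBaseChange.of_comp hf₁ ?_
    have : (g.restrictScalars S) ∘ₗ f₁ = f₂ := hf₁.lift_comp f₂
    rw [this]
    exact hf₂
  obtain ⟨X₁, _, _, _, _, u₁, hu₁⟩ := PureUniv.exists_isBaseChange S₁ C₁ N₁
  obtain ⟨X₂, _, _, _, _, u₂, hu₂⟩ := PureUniv.exists_isBaseChange S₂ C₂ N₂
  -- restrictions of scalars
  let : Module S₁ X₂ := Module.compHom X₂ (algebraMap S₁ C₂)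
  have : IsScalarTower S₁ C₂ X₂ := ⟨fun a b n => by rw [Algebra.smul_def, mul_smul]; rfl⟩
  have : IsScalarTower S₁ S₂ X₂ := ⟨fun a b n => by
    change (a • b : S₂) • n = algebraMap S₁ C₂ a • (b • n)
    rw [Algebra.smul_def, mul_smul, ← algebraMap_smul C₂ (algebraMap S₁ S₂ a) (b • n),
      ← IsScalarTower.algebraMap_apply S₁ S₂ C₂]⟩
  let : Module C₁ X₂ := Module.compHom X₂ (algebraMap C₁ C₂)
  have : IsScalarTower C₁ C₂ X₂ := ⟨fun a b n => by rw [Algebra.smul_def, mul_smul]; rfl⟩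
  have : IsScalarTower S₁ C₁ X₂ := ⟨fun a b n => by
    change algebraMap C₁ C₂ (a • b) • n = algebraMap S₁ C₂ a • (algebraMap C₁ C₂ b • n)
    rw [Algebra.smul_def, map_mul, mul_smul, ← IsScalarTower.algebraMap_apply S₁ C₁ C₂]⟩
  have h12 : IsBaseChange C₂ ((u₂.restrictScalars S₁) ∘ₗ g) := IsBaseChange.comp hg hu₂
  let w : X₁ →ₗ[C₁] X₂ := hu₁.lift ((u₂.restrictScalars S₁) ∘ₗ g)
  have hw : IsBaseChange C₂ w := by
    refine IsBaseChange.of_comp hu₁ ?_
    have : (w.restrictScalars S₁) ∘ₗ u₁ = (u₂.restrictScalars S₁) ∘ₗ g := hu₁.lift_comp _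
    rw [this]
    exact h12
  -- freeness
  let : Module A₁ X₁ := Module.compHom X₁ (algebraMap A₁ C₁)
  have : IsScalarTower A₁ C₁ X₁ := ⟨fun a b n => by rw [Algebra.smul_def, mul_smul]; rfl⟩
  let : Module A₂ X₂ := Module.compHom X₂ (algebraMap A₂ C₂)
  have : IsScalarTower A₂ C₂ X₂ := ⟨fun a b n => by rw [Algebra.smul_def, mul_smul]; rfl⟩
  let : Module A₁ X₂ := Module.compHom X₂ (algebraMap A₁ C₂)
  have : IsScalarTower A₁ C₂ X₂ := ⟨fun a b n => by rw [Algebra.smul_def, mul_smul]; rfl⟩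
  have : IsScalarTower A₁ A₂ X₂ := ⟨fun a b n => by
    change algebraMap A₂ C₂ (a • b) • n = algebraMap A₁ C₂ a • (algebraMap A₂ C₂ b • n)
    rw [Algebra.smul_def, map_mul, mul_smul, ← IsScalarTower.algebraMap_apply A₁ A₂ C₂]⟩
  have : IsScalarTower A₁ C₁ X₂ := ⟨fun a b n => by
    change algebraMap C₁ C₂ (a • b) • n = algebraMap A₁ C₂ a • (algebraMap C₁ C₂ b • n)
    rw [Algebra.smul_def, map_mul, mul_smul, ← IsScalarTower.algebraMap_apply A₁ C₁ C₂]⟩
  have hwA : IsBaseChange A₂ (w.restrictScalars A₁) :=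
    ProjPure.isBaseChange_of_isPushout hbig w hw
  have hfree₁ : Module.Free A₁ X₁ := Module.Free.of_equiv (hu₁.equiv.restrictScalars A₁)
  have hfree₂ : Module.Free A₂ X₂ := Module.Free.of_equiv hwA.equiv
  refine ⟨C₂, inferInstance, inferInstance, inferInstance, inferInstance, inferInstance,
    inferInstance, hEt, ?_, ?_, ?_⟩
  · intro hfp
    have h1 : Module.FinitePresentation C₁ X₁ := Module.FinitePresentation.of_equiv hu₁.equiv
    have h2 : Module.FinitePresentation C₂ X₂ := _root_.FinitePresentation.of_isBaseChange w hw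
    exact Module.FinitePresentation.of_equiv hu₂.equiv.symm
  · exact Module.Free.of_equiv (hu₂.equiv.restrictScalars A₂).symm
  · intro m₁ m₂ x₁ _ _ _ _ _
    obtain ⟨x₂, hx₂, h1, h2⟩ := Flat2B.EtaleNhd.exists_prime_of_isPushout (R := A₁) (R' := A₂)
      (S := C₁) (S' := C₂) m₁ x₁ m₂
    refine ⟨x₂, hx₂, ?_, h2⟩
    rw [h1.over]
    ext s
    simp only [Ideal.mem_comap, Ideal.under]
    rw [← IsScalarTower.algebraMap_apply S C₁ C₂]

end Groth.Agent.Flat2A.CoverBC
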