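import Mathlib.LinearAlgebra.TensorProduct.Pi
import Mathlib.Algebra.Module.FinitePresentation
import Mathlib.LinearAlgebra.FreeModule.Basic
import Mathlib.RingTheory.TensorProduct.Basic

/-!
# Finite products of algebras: finite presentation and freeness of tensor products
-/

set_option autoImplicit false
universe u v w

namespace Groth.Agent.Flat2A.PiTensor

open TensorProduct

section

variable {ι : Type} [Fintype ι] {C : ι → Type u} [∀ i, CommRing (C i)]

/-- A factor of a finite product of rings is a finitely presented module over the product. -/
theorem finitePresentation_factor [DecidableEq ι] (i : ι) :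
    let : Algebra (∀ i, C i) (C i) := (Pi.evalRingHom C i).toAlgebra
    Module.FinitePresentation (∀ i, C i) (C i) := by
  let : Algebra (∀ i, C i) (C i) := (Pi.evalRingHom C i).toAlgebra
  have hproj : Module.Projective (∀ i, C i) (C i) :=
    Module.Projective.of_split (M := ∀ i, C i)
      { toFun := fun a => Pi.single i a
        map_add' := fun x y => Pi.single_add i x y
        map_smul' := fun c x => by
          ext j
          by_cases h : j = i
          · subst h
            simp [Algebra.smul_def]
            rfl
          · simp [Pi.single_eq_of_ne h] }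
      (Algebra.linearMap (∀ i, C i) (C i)) (by
        ext x
        change Pi.single i x i = x
        simp)
  have hfin : Module.Finite (∀ i, C i) (C i) :=
    Module.Finite.of_surjective (Algebra.linearMap (∀ i, C i) (C i))
      (fun x => ⟨Pi.single i x, by
        change Pi.single i x i = x
        simp⟩)
  exact Module.finitePresentation_of_projective _ _

/-- Finite presentation over a finite product of rings. -/
theorem finitePresentation_pi (X : ι → Type u) [∀ i, AddCommGroup (X i)] [∀ i, Module (C i) (X i)]
    [h : ∀ i, Module.FinitePresentation (C i) (X i)] :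
    Module.FinitePresentation (∀ i, C i) (∀ i, X i) := by
  classical
  let : ∀ i, Algebra (∀ i, C i) (C i) := fun i => (Pi.evalRingHom C i).toAlgebra
  let : ∀ i, Module (∀ i, C i) (X i) := fun i => Module.compHom (X i) (Pi.evalRingHom C i)
  have : ∀ i, IsScalarTower (∀ i, C i) (C i) (X i) := fun i =>
    ⟨fun a b x => by rw [Algebra.smul_def, mul_smul]; rfl⟩
  have h1 : ∀ i, Module.FinitePresentation (∀ i, C i) (C i) := fun i => finitePresentation_factor i
  have h2 : ∀ i, Module.FinitePresentation (∀ i, C i) (X i) := fun i =>
    Module.FinitePresentation.trans (∀ i, C i) (X i) (C i)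
  exact (inferInstance : @Module.FinitePresentation (∀ i, C i) (∀ i, X i) _ _
    (Pi.module ι (fun i => X i) (∀ i, C i)))

variable {S : Type u} [CommRing S] [∀ i, Algebra S (C i)] (N : Type u) [AddCommGroup N] [Module S N]

/-- The comparison `(∏ C i) ⊗ N = ∏ (C i ⊗ N)` is linear over the product. -/
noncomputable def piEquiv [DecidableEq ι] :
    (∀ i, C i) ⊗[S] N ≃ₗ[∀ i, C i] ∀ i, C i ⊗[S] N :=
  { TensorProduct.piLeft S N C with
    map_smul' := by
      intro c x
      simp only [AddHom.toFun_eq_coe, LinearMap.coe_toAddHom, LinearEquiv.coe_coe,
        RingHom.id_apply]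
      induction x using TensorProduct.induction_on with
      | zero => simp
      | tmul a n =>
        rw [TensorProduct.smul_tmul']
        ext i
        simp [TensorProduct.smul_tmul']
      | add x y hx hy => rw [smul_add, map_add, hx, hy, map_add, smul_add] }

theorem finitePresentation_pi_tensor
    (h : ∀ i, Module.FinitePresentation (C i) (C i ⊗[S] N)) :
    Module.FinitePresentation (∀ i, C i) ((∀ i, C i) ⊗[S] N) := by
  classical
  have := finitePresentation_pi (C := C) (fun i => C i ⊗[S] N)
  exact Module.FinitePresentation.of_equiv (piEquiv (C := C) N).symm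

theorem free_pi_tensor {A : Type u} [CommRing A] [Algebra A S] [∀ i, Algebra A (C i)]
    [∀ i, IsScalarTower A S (C i)] (h : ∀ i, Module.Free A (C i ⊗[S] N)) :
    Module.Free A ((∀ i, C i) ⊗[S] N) := by
  classical
  let e : (∀ i, C i) ⊗[S] N ≃ₗ[A] ∀ i, C i ⊗[S] N :=
    (TensorProduct.piLeft S N C).restrictScalars A
  exact Module.Free.of_equiv e.symm

end

end Groth.Agent.Flat2A.PiTensor
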