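import Groth.Agent.Flat2A.CoverNhd
import Groth.Agent.Flat2A.PiTensor

/-!
# Covering the fibre by etale algebras carrying free modules
-/

set_option autoImplicit false
universe u v w

namespace Groth.Agent.Flat2A.CoverData

open TensorProduct IsLocalRing

/-- An elementary etale neighbourhood `(R₁, p₁)` of `p`, with local ring `A`, and an etale algebra `C`
over (a model of) the base change of `S` to `A` such that `C ⊗ N_A` is free over `A` (and finitely
presented over `C` if `FP`), with primes over all primes in `T` and over the maximal ideal of `A`. -/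
structure Data (R S N : Type u) [CommRing R] [CommRing S] [Algebra R S] [AddCommGroup N]
    [Module S N] (p : Ideal R) [p.IsPrime] (FP : Prop) (T : Set (Ideal S)) where
  R₁ : Type u
  [commRing_R : CommRing R₁]
  [algebra_RR : Algebra R R₁]
  p₁ : Ideal R₁
  [isPrime : p₁.IsPrime]
  isEtaleNhd : FlatCA.IsEtaleNhd R R₁ p p₁
  S₁ : Type u
  [commRing_S : CommRing S₁]
  [algebra_RS : Algebra R S₁]
  [algebra_SS : Algebra S S₁]
  [algebra_AS : Algebra (Localization.AtPrime p₁) S₁]
  [isScalarTower_RSS : IsScalarTower R S S₁]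
  [isScalarTower_RAS : IsScalarTower R (Localization.AtPrime p₁) S₁]
  isPushout : Algebra.IsPushout R S (Localization.AtPrime p₁) S₁
  N₁ : Type u
  [addCommGroup : AddCommGroup N₁]
  [module_S₁N : Module S₁ N₁]
  [module_SN : Module S N₁]
  [isScalarTower_SSN : IsScalarTower S S₁ N₁]
  f : N →ₗ[S] N₁
  isBaseChange : IsBaseChange S₁ f
  C : Type u
  [commRing_C : CommRing C]
  [algebra_S₁C : Algebra S₁ C]
  [algebra_AC : Algebra (Localization.AtPrime p₁) C]
  [isScalarTower_ASC : IsScalarTower (Localization.AtPrime p₁) S₁ C]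
  [algebra_SC : Algebra S C]
  [isScalarTower_SSC : IsScalarTower S S₁ C]
  etale : Algebra.Etale S₁ C
  fp : FP → Module.FinitePresentation C (C ⊗[S₁] N₁)
  free : Module.Free (Localization.AtPrime p₁) (C ⊗[S₁] N₁)
  cover : ∀ q ∈ T, ∃ x : Ideal C, x.IsPrime ∧ x.comap (algebraMap S C) = q ∧
    x.LiesOver (maximalIdeal (Localization.AtPrime p₁))

attribute [instance] Data.commRing_R Data.algebra_RR Data.isPrime Data.commRing_S Data.algebra_RS
  Data.algebra_SS Data.algebra_AS Data.isScalarTower_RSS Data.isScalarTower_RAS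
  Data.addCommGroup Data.module_S₁N Data.module_SN Data.isScalarTower_SSN Data.commRing_C
  Data.algebra_S₁C Data.algebra_AC Data.isScalarTower_ASC Data.algebra_SC Data.isScalarTower_SSC

/-- The primes over `p` form a quasi-compact set. -/
theorem isCompact_fiber {R S : Type u} [CommRing R] [CommRing S] [Algebra R S] (p : Ideal R)
    [p.IsPrime] : IsCompact {q : PrimeSpectrum S | q.asIdeal.LiesOver p} := by
  have h : {q : PrimeSpectrum S | q.asIdeal.LiesOver p} =
      PrimeSpectrum.comap (algebraMap R S) ⁻¹' {(⟨p, inferInstance⟩ : PrimeSpectrum R)} := by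
    ext q
    simp only [Set.mem_ofPred_eq, Set.mem_preimage, Set.mem_singleton_iff]
    constructor
    · intro h
      exact PrimeSpectrum.ext h.over.symm
    · intro h
      exact ⟨(congrArg PrimeSpectrum.asIdeal h).symm⟩
  rw [h, isCompact_iff_compactSpace]
  exact (PrimeSpectrum.preimageHomeomorphFiber R S ⟨p, inferInstance⟩).symm.compactSpace

/-- Glueing finitely many data: the result for an arbitrary model. -/
theorem exists_of_fin {R S N : Type u} [CommRing R] [CommRing S] [Algebra R S] [AddCommGroup N]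
    [Module S N] (p : Ideal R) [p.IsPrime] (FP : Prop) (k : ℕ) (T : Fin k → Set (Ideal S))
    (d : ∀ i, Data R S N p FP (T i)) :
    ∃ (R' : Type u) (_ : CommRing R') (_ : Algebra R R') (p' : Ideal R') (_ : p'.IsPrime),
      FlatCA.IsEtaleNhd R R' p p' ∧
      ∀ (SA NA : Type u) [CommRing SA] [Algebra R SA] [Algebra S SA]
        [Algebra (Localization.AtPrime p') SA]
        [IsScalarTower R S SA] [IsScalarTower R (Localization.AtPrime p') SA]
        [Algebra.IsPushout R S (Localization.AtPrime p') SA]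
        [AddCommGroup NA] [Module SA NA] [Module S NA] [IsScalarTower S SA NA]
        (f : N →ₗ[S] NA), IsBaseChange SA f →
        ∃ (C : Type u) (_ : CommRing C) (_ : Algebra SA C) (_ : Algebra (Localization.AtPrime p') C)
          (_ : IsScalarTower (Localization.AtPrime p') SA C) (_ : Algebra S C)
          (_ : IsScalarTower S SA C),
          Algebra.Etale SA C ∧
          (∀ i, ∀ q ∈ T i, ∃ x' : Ideal C, x'.IsPrime ∧ x'.comap (algebraMap S C) = q ∧
            x'.LiesOver (maximalIdeal (Localization.AtPrime p'))) ∧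
          (FP → Module.FinitePresentation C (C ⊗[SA] NA)) ∧
          Module.Free (Localization.AtPrime p') (C ⊗[SA] NA) := by
  obtain ⟨R', _, _, aR, tR, p', _, hR', hi⟩ :=
    Flat2B.EtaleNhd.exists_common_refinement_fin (p := p) k (fun i => (d i).R₁)
      (fun i => (d i).p₁) (fun i => (d i).isEtaleNhd)
  refine ⟨R', inferInstance, inferInstance, p', inferInstance, hR', ?_⟩
  intro SA NA _ _ _ _ _ _ hpush _ _ _ _ f hf
  have key : ∀ i, ∃ (C : Type u) (_ : CommRing C) (_ : Algebra SA C)
      (_ : Algebra (Localization.AtPrime p') C)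
      (_ : IsScalarTower (Localization.AtPrime p') SA C) (_ : Algebra S C)
      (_ : IsScalarTower S SA C),
      Algebra.Etale SA C ∧
      (∀ q ∈ T i, ∃ x' : Ideal C, x'.IsPrime ∧ x'.comap (algebraMap S C) = q ∧
        x'.LiesOver (maximalIdeal (Localization.AtPrime p'))) ∧
      (FP → Module.FinitePresentation C (C ⊗[SA] NA)) ∧
      Module.Free (Localization.AtPrime p') (C ⊗[SA] NA) := by
    intro i
    have hlo : p'.LiesOver (d i).p₁ := (hi i).2.1
    let : Algebra (Localization.AtPrime (d i).p₁) (Localization.AtPrime p') :=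
      Localization.AtPrime.algebraOfLiesOver (d i).p₁ p'
    have : IsScalarTower (d i).R₁ (Localization.AtPrime (d i).p₁) (Localization.AtPrime p') :=
      inferInstance
    have : IsScalarTower R (Localization.AtPrime (d i).p₁) (Localization.AtPrime p') :=
      .of_algebraMap_eq fun x => by
        rw [IsScalarTower.algebraMap_apply R (d i).R₁ (Localization.AtPrime (d i).p₁),
          ← IsScalarTower.algebraMap_apply (d i).R₁ (Localization.AtPrime (d i).p₁),
          IsScalarTower.algebraMap_apply (d i).R₁ R' (Localization.AtPrime p'),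
          ← IsScalarTower.algebraMap_apply R (d i).R₁ R', ← IsScalarTower.algebraMap_apply]
    have := (d i).etale
    obtain ⟨C, _, _, _, _, _, _, h1, h2, h3, h4⟩ := CoverBC.exists_baseChange (R := R)
      (A₁ := Localization.AtPrime (d i).p₁) (A₂ := Localization.AtPrime p') (S := S)
      (S₁ := (d i).S₁) (S₂ := SA) (C₁ := (d i).C) (d i).isPushout hpush (d i).f
      (d i).isBaseChange f hf (d i).free
    refine ⟨C, inferInstance, inferInstance, inferInstance, inferInstance, inferInstance,
      inferInstance, h1, ?_, fun h => h2 ((d i).fp h), h3⟩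
    intro q hq
    obtain ⟨x, hx1, hx2, hx3⟩ := (d i).cover q hq
    obtain ⟨x₂, hx₂, h5, h6⟩ := h4 _ (maximalIdeal (Localization.AtPrime p')) x
      (inferInstance : (maximalIdeal (Localization.AtPrime (d i).p₁)).IsPrime) inferInstance hx1 hx3
      (by
        have : IsLocalHom (algebraMap (Localization.AtPrime (d i).p₁)
            (Localization.AtPrime p')) := inferInstance
        infer_instance)
    exact ⟨x₂, hx₂, h5.trans hx2, h6⟩
  choose C c1 c2 c3 c4 c5 c6 h1 h2 h3 h4 using key
  have e1 : Algebra.Etale SA (∀ i, C i) := inferInstance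
  have t1 : IsScalarTower S SA (∀ i, C i) := inferInstance
  have t2 : IsScalarTower (Localization.AtPrime p') SA (∀ i, C i) := inferInstance
  refine ⟨∀ i, C i, inferInstance, inferInstance, inferInstance, inferInstance, inferInstance,
    inferInstance, inferInstance, ?_, ?_, ?_⟩
  · intro i q hq
    obtain ⟨x, hx, hx1, hx2⟩ := h2 i q hq
    refine ⟨x.comap (Pi.evalRingHom C i), inferInstance, ?_, ⟨?_⟩⟩
    · rw [← hx1, Ideal.comap_comap]
      rfl
    · rw [hx2.over, Ideal.under_def, Ideal.under_def, Ideal.comap_comap]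
      rfl
  · intro h
    exact PiTensor.finitePresentation_pi_tensor NA (fun i => h3 i h)
  · exact PiTensor.free_pi_tensor NA (fun i => h4 i)

/-- Local data from an etale algebra with a prime over `q`. -/
theorem exists_data {R S N : Type u} [CommRing R] [CommRing S] [Algebra R S] [AddCommGroup N]
    [Module S N] (p : Ideal R) [p.IsPrime] (FP : Prop) (q : Ideal S) [hqp : q.LiesOver p]
    (R₁ : Type u) [CommRing R₁] [Algebra R R₁] (p₁ : Ideal R₁) [p₁.IsPrime]
    (hEt : FlatCA.IsEtaleNhd R R₁ p p₁) (S₁ : Type u) [CommRing S₁] [Algebra R S₁]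
    [Algebra S S₁] [Algebra (Localization.AtPrime p₁) S₁] [IsScalarTower R S S₁]
    [IsScalarTower R (Localization.AtPrime p₁) S₁]
    (hpush : Algebra.IsPushout R S (Localization.AtPrime p₁) S₁)
    (N₁ : Type u) [AddCommGroup N₁] [Module S₁ N₁] [Module S N₁] [IsScalarTower S S₁ N₁]
    (f : N →ₗ[S] N₁) (hf : IsBaseChange S₁ f)
    (C : Type u) [CommRing C] [Algebra S₁ C] [Algebra (Localization.AtPrime p₁) C]
    [IsScalarTower (Localization.AtPrime p₁) S₁ C] [Algebra S C] [IsScalarTower S S₁ C]
    (hC : Algebra.Etale S₁ C) (hfp : FP → Module.FinitePresentation C (C ⊗[S₁] N₁))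
    (hfree : Module.Free (Localization.AtPrime p₁) (C ⊗[S₁] N₁))
    (x : Ideal C) [x.IsPrime] (hx : x.comap (algebraMap S C) = q) :
    ∃ a : S, a ∉ q ∧ Nonempty (Data R S N p FP {q' | q'.IsPrime ∧ q'.LiesOver p ∧ a ∉ q'}) := by
  have hEt' : Algebra.Etale R R₁ := hEt.1
  have hp₁ : p₁.LiesOver p := hEt.2.1
  have hlo : (x.under (Localization.AtPrime p₁)).LiesOver p := ⟨by
    rw [hqp.over, ← hx]
    ext r
    simp only [Ideal.mem_comap, Ideal.under_def]
    rw [IsScalarTower.algebraMap_apply (Localization.AtPrime p₁) S₁ C,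
      ← IsScalarTower.algebraMap_apply R (Localization.AtPrime p₁) S₁,
      IsScalarTower.algebraMap_apply R S S₁, ← IsScalarTower.algebraMap_apply S S₁ C]⟩
  have hm := CoverNhd.eq_maximalIdeal_of_liesOver p p₁ (x.under (Localization.AtPrime p₁))
  have hxm : x.LiesOver (maximalIdeal (Localization.AtPrime p₁)) := ⟨hm.symm⟩
  obtain ⟨a, ha, hcov⟩ := CoverNhd.exists_nhd (S := S) (SA := S₁) (C := C) p p₁ hEt x
  rw [hx] at ha
  exact ⟨a, ha, ⟨{
    R₁ := R₁
    p₁ := p₁
    isEtaleNhd := hEt
    S₁ := S₁
    isPushout := hpush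
    N₁ := N₁
    f := f
    isBaseChange := hf
    C := C
    etale := hC
    fp := hfp
    free := hfree
    cover := fun q' hq' => hcov q' hq'.1 hq'.2.1 hq'.2.2 }⟩⟩

/-- Glueing local data along the fibre over `p`. -/
theorem exists_cover {R S N : Type u} [CommRing R] [CommRing S] [Algebra R S] [AddCommGroup N]
    [Module S N] (p : Ideal R) [p.IsPrime] (FP : Prop)
    (h : ∀ q : Ideal S, q.IsPrime → q.LiesOver p → ∃ a : S, a ∉ q ∧
      Nonempty (Data R S N p FP {q' | q'.IsPrime ∧ q'.LiesOver p ∧ a ∉ q'})) :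
    ∃ (R' : Type u) (_ : CommRing R') (_ : Algebra R R') (p' : Ideal R') (_ : p'.IsPrime),
      FlatCA.IsEtaleNhd R R' p p' ∧
      ∀ (SA NA : Type u) [CommRing SA] [Algebra R SA] [Algebra S SA]
        [Algebra (Localization.AtPrime p') SA]
        [IsScalarTower R S SA] [IsScalarTower R (Localization.AtPrime p') SA]
        [Algebra.IsPushout R S (Localization.AtPrime p') SA]
        [AddCommGroup NA] [Module SA NA] [Module S NA] [IsScalarTower S SA NA]
        (f : N →ₗ[S] NA), IsBaseChange SA f →
        ∃ (C : Type u) (_ : CommRing C) (_ : Algebra SA C) (_ : Algebra (Localization.AtPrime p') C)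
          (_ : IsScalarTower (Localization.AtPrime p') SA C) (_ : Algebra S C)
          (_ : IsScalarTower S SA C),
          Algebra.Etale SA C ∧
          (∀ q : Ideal S, q.IsPrime → q.LiesOver p → ∃ x' : Ideal C, x'.IsPrime ∧
            x'.comap (algebraMap S C) = q ∧
            x'.LiesOver (maximalIdeal (Localization.AtPrime p'))) ∧
          (FP → Module.FinitePresentation C (C ⊗[SA] NA)) ∧
          Module.Free (Localization.AtPrime p') (C ⊗[SA] NA) := by
  classical
  choose! a ha hd using h
  obtain ⟨t, ht, hcov⟩ := (isCompact_fiber (R := R) (S := S) p).elim_nhds_subcover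
    (fun q => (PrimeSpectrum.basicOpen (a q.asIdeal) : Set (PrimeSpectrum S)))
    (fun q hq => (PrimeSpectrum.basicOpen (a q.asIdeal)).isOpen.mem_nhds (ha q.asIdeal q.2 hq))
  let e := t.equivFin
  obtain ⟨R', _, _, p', _, hR', hmain⟩ := exists_of_fin (R := R) (S := S) (N := N) p FP t.card
    (fun i => {q' | q'.IsPrime ∧ q'.LiesOver p ∧ a (e.symm i).1.asIdeal ∉ q'})
    (fun i => (hd (e.symm i).1.asIdeal (e.symm i).1.2 (ht _ (e.symm i).2)).some)
  refine ⟨R', inferInstance, inferInstance, p', inferInstance, hR', ?_⟩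
  intro SA NA _ _ _ _ _ _ _ _ _ _ _ f hf
  obtain ⟨C, _, _, _, _, _, _, h1, h2, h3, h4⟩ := hmain SA NA f hf
  refine ⟨C, inferInstance, inferInstance, inferInstance, inferInstance, inferInstance,
    inferInstance, h1, ?_, h3, h4⟩
  intro q hq hqp
  have hmem : (⟨q, hq⟩ : PrimeSpectrum S) ∈ {q : PrimeSpectrum S | q.asIdeal.LiesOver p} := hqp
  obtain ⟨x, hx⟩ := Set.mem_iUnion.mp (hcov hmem)
  obtain ⟨hxt, hx⟩ := Set.mem_iUnion.mp hx
  refine h2 (e ⟨x, hxt⟩) q ⟨hq, hqp, ?_⟩
  rw [Equiv.symm_apply_apply]
  exact hx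

end Groth.Agent.Flat2A.CoverData
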