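import Groth.Agent.Flat2A.CoverBC
import Mathlib.RingTheory.Etale.QuasiFinite
import Mathlib.RingTheory.Unramified.LocalStructure
import Mathlib.RingTheory.Spectrum.Prime.Chevalley

/-!
# Neighbourhoods in the fibre coming from etale algebras over the local ring of an etale
neighbourhood
-/

set_option autoImplicit false
universe u v w

namespace Groth.Agent.Flat2A.CoverNhd

open TensorProduct Flat2B.EtaleNhd

/-- Elements of the base change, modulo the ideal, come from `S` up to one denominator in `R ∖ p`. -/
theorem exists_uniform {R A S SA : Type u} [CommRing R] [CommRing A] [CommRing S] [CommRing SA]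
    [Algebra R A] [Algebra R S] [Algebra R SA] [Algebra S SA] [Algebra A SA] [IsScalarTower R S SA]
    [IsScalarTower R A SA] [H : Algebra.IsPushout R S A SA] {p : Ideal R} [hp : p.IsPrime]
    {m : Ideal A} (h : ResTriv R A p m) (z : SA) :
    ∃ (s : R) (a : S), s ∉ p ∧ algebraMap R SA s * z - algebraMap S SA a ∈
      m.map (algebraMap A SA) := by
  induction z using H.out.inductionOn with
  | zero => exact ⟨1, 0, fun h => hp.ne_top ((Ideal.eq_top_iff_one _).mpr h), by simp⟩
  | tmul b =>
    obtain ⟨a, s, hs, hb⟩ := h b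
    refine ⟨s, algebraMap R S a, hs, ?_⟩
    have := Ideal.mem_map_of_mem (algebraMap A SA) hb
    rw [AlgHom.toLinearMap_apply, IsScalarTower.coe_toAlgHom']
    simpa only [map_mul, map_sub, ← IsScalarTower.algebraMap_apply R A SA,
      ← IsScalarTower.algebraMap_apply R S SA] using this
  | smul t z hz =>
    obtain ⟨s, a, hs, hb⟩ := hz
    refine ⟨s, t * a, hs, ?_⟩
    have : algebraMap R SA s * (t • z) - algebraMap S SA (t * a) =
      algebraMap S SA t * (algebraMap R SA s * z - algebraMap S SA a) := by
      rw [Algebra.smul_def, map_mul]; ring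
    rw [this]
    exact Ideal.mul_mem_left _ _ hb
  | add z₁ z₂ h1 h2 =>
    obtain ⟨s, a, hs, hb⟩ := h1
    obtain ⟨s', a', hs', hb'⟩ := h2
    refine ⟨s * s', algebraMap R S s' * a + algebraMap R S s * a',
      fun h => (hp.mem_or_mem h).elim hs hs', ?_⟩
    have : algebraMap R SA (s * s') * (z₁ + z₂) -
        algebraMap S SA (algebraMap R S s' * a + algebraMap R S s * a') =
      algebraMap R SA s' * (algebraMap R SA s * z₁ - algebraMap S SA a) +
      algebraMap R SA s * (algebraMap R SA s' * z₂ - algebraMap S SA a') := by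
      simp only [map_mul, map_add, ← IsScalarTower.algebraMap_apply R S SA]; ring
    rw [this]
    exact Ideal.add_mem _ (Ideal.mul_mem_left _ _ hb) (Ideal.mul_mem_left _ _ hb')

/-- Membership of `g ∈ SA` in the primes over `m` is membership of an element of `S`. -/
theorem exists_basic {R A S SA : Type u} [CommRing R] [CommRing A] [CommRing S] [CommRing SA]
    [Algebra R A] [Algebra R S] [Algebra R SA] [Algebra S SA] [Algebra A SA] [IsScalarTower R S SA]
    [IsScalarTower R A SA] [H : Algebra.IsPushout R S A SA] {p : Ideal R} [hp : p.IsPrime]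
    {m : Ideal A} [m.IsPrime] [hmp : m.LiesOver p] (h : ResTriv R A p m) (g : SA) :
    ∃ a : S, ∀ Q : Ideal SA, Q.IsPrime → Q.LiesOver m →
      (g ∈ Q ↔ a ∈ Q.comap (algebraMap S SA)) := by
  obtain ⟨s, a, hs, hz⟩ := exists_uniform (S := S) (SA := SA) h g
  refine ⟨a, fun Q hQ hQm => ?_⟩
  have hz' : algebraMap R SA s * g - algebraMap S SA a ∈ Q :=
    (Ideal.map_le_iff_le_comap.mpr (hQm.over.le)) hz
  have hsQ : algebraMap R SA s ∉ Q := by
    intro hc
    apply hs
    have h1 : algebraMap R A s ∈ m := by
      rw [hQm.over, Ideal.under_def, Ideal.mem_comap, ← IsScalarTower.algebraMap_apply R A SA]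
      exact hc
    rw [hmp.over]
    exact h1
  rw [Ideal.mem_comap]
  constructor
  · intro hg
    have h1 : algebraMap R SA s * g ∈ Q := Ideal.mul_mem_left _ _ hg
    have := Q.sub_mem h1 hz'
    simpa using this
  · intro ha
    have h1 : algebraMap R SA s * g ∈ Q := by
      have := Q.add_mem hz' ha
      simpa using this
    exact (hQ.mem_or_mem h1).resolve_left hsQ

/-- The only prime of the local ring of an etale neighbourhood over `p` is the maximal ideal. -/
theorem eq_maximalIdeal_of_liesOver {R R' : Type u} [CommRing R] [CommRing R'] [Algebra R R']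
    [Algebra.Etale R R'] (p : Ideal R) [p.IsPrime] (p' : Ideal R') [p'.IsPrime] [p'.LiesOver p]
    (m : Ideal (Localization.AtPrime p')) [m.IsPrime] [hm : m.LiesOver p] :
    m = IsLocalRing.maximalIdeal (Localization.AtPrime p') := by
  have h1 : Algebra.QuasiFinite R (Localization.AtPrime p') := inferInstance
  have h2 := liesOver_maximalIdeal_atPrime p'
  have h3 : (IsLocalRing.maximalIdeal (Localization.AtPrime p')).LiesOver p := .trans _ p' p
  exact Algebra.QuasiFinite.eq_of_le_of_under_eq (R := R) m _ (IsLocalRing.le_maximalIdeal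
    (inferInstance : m.IsPrime).ne_top) (by rw [← hm.over, ← h3.over])

/-- Let `C` be etale over `SA` with a prime over the maximal ideal of `A = R'_{p'}` and over the prime
`q` of `S`. Then all primes over `p` in a neighbourhood `D(a)` of `q` have such primes. -/
theorem exists_nhd {R R' S SA C : Type u} [CommRing R] [CommRing R'] [Algebra R R']
    [CommRing S] [CommRing SA] [CommRing C] (p : Ideal R) [p.IsPrime] (p' : Ideal R') [p'.IsPrime]
    (hEt : FlatCA.IsEtaleNhd R R' p p')
    [Algebra R S] [Algebra R SA] [Algebra S SA] [Algebra (Localization.AtPrime p') SA]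
    [IsScalarTower R S SA] [IsScalarTower R (Localization.AtPrime p') SA]
    [Algebra.IsPushout R S (Localization.AtPrime p') SA]
    [Algebra SA C] [Algebra (Localization.AtPrime p') C]
    [IsScalarTower (Localization.AtPrime p') SA C] [Algebra S C] [IsScalarTower S SA C]
    [Algebra.Etale SA C] (x : Ideal C) [x.IsPrime]
    [hxm : x.LiesOver (IsLocalRing.maximalIdeal (Localization.AtPrime p'))] :
    ∃ a : S, a ∉ x.comap (algebraMap S C) ∧ ∀ (q : Ideal S), q.IsPrime → q.LiesOver p → a ∉ q →
      ∃ x' : Ideal C, x'.IsPrime ∧ x'.comap (algebraMap S C) = q ∧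
        x'.LiesOver (IsLocalRing.maximalIdeal (Localization.AtPrime p')) := by
  have := hEt.1
  have : p'.LiesOver p := hEt.2.1
  have hmp' := liesOver_maximalIdeal_atPrime p'
  have hmp : (IsLocalRing.maximalIdeal (Localization.AtPrime p')).LiesOver p := .trans _ p' p
  have hres : ResTriv R (Localization.AtPrime p') p
      (IsLocalRing.maximalIdeal (Localization.AtPrime p')) :=
    resTriv_localization_atPrime (resTriv hEt) _
  have : Module.Flat SA C := Algebra.Smooth.flat SA C
  have : Algebra.HasGoingDown SA C := Algebra.HasGoingDown.of_flat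
  have hopen : IsOpenMap (PrimeSpectrum.comap (algebraMap SA C)) :=
    PrimeSpectrum.isOpenMap_comap_of_hasGoingDown_of_finitePresentation
  let Q : PrimeSpectrum SA := PrimeSpectrum.comap (algebraMap SA C) ⟨x, inferInstance⟩
  have hQmem : Q ∈ Set.range (PrimeSpectrum.comap (algebraMap SA C)) := ⟨_, rfl⟩
  obtain ⟨_, ⟨g, rfl⟩, hQg, hg⟩ :=
    PrimeSpectrum.isTopologicalBasis_basic_opens.exists_subset_of_mem_open hQmem
      hopen.isOpen_range
  obtain ⟨a, ha⟩ := exists_basic (S := S) (SA := SA) hres g
  have hQm : Q.asIdeal.LiesOver (IsLocalRing.maximalIdeal (Localization.AtPrime p')) := ⟨by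
    rw [hxm.over]
    ext b
    simp only [Q, Ideal.mem_comap, Ideal.under_def, PrimeSpectrum.comap_asIdeal]
    rw [← IsScalarTower.algebraMap_apply]⟩
  refine ⟨a, ?_, ?_⟩
  · intro hc
    have h1 : a ∈ Q.asIdeal.comap (algebraMap S SA) := by
      simp only [Q, Ideal.mem_comap, PrimeSpectrum.comap_asIdeal]
      rw [← IsScalarTower.algebraMap_apply S SA C]
      exact hc
    exact hQg ((ha Q.asIdeal Q.2 hQm).mpr h1)
  · intro q hq hqp haq
    obtain ⟨Q₁, hQ₁, h1, h2⟩ := exists_prime_of_isPushout (R := R)
      (R' := Localization.AtPrime p') (S := S) (S' := SA) p q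
      (IsLocalRing.maximalIdeal (Localization.AtPrime p'))
    have h3 : g ∉ Q₁ := by
      rw [ha Q₁ hQ₁ h2]
      intro hc
      apply haq
      rw [h1.over]
      exact hc
    obtain ⟨x', hx'⟩ := hg (show (⟨Q₁, hQ₁⟩ : PrimeSpectrum SA) ∈ _ from h3)
    have hx'' : x'.asIdeal.comap (algebraMap SA C) = Q₁ := congrArg PrimeSpectrum.asIdeal hx'
    refine ⟨x'.asIdeal, x'.2, ?_, ⟨?_⟩⟩
    · rw [h1.over, ← hx'']
      ext b
      simp only [Ideal.mem_comap, Ideal.under_def]
      rw [← IsScalarTower.algebraMap_apply]
    · rw [h2.over, ← hx'']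
      ext b
      simp only [Ideal.mem_comap, Ideal.under_def]
      rw [← IsScalarTower.algebraMap_apply]

end Groth.Agent.Flat2A.CoverNhd
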