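import Groth.Agent.Flat2A.CoverBC

/-!
# Passing from a polynomial ring to a quotient: flatness at primes, etale algebras with free modules
-/

set_option autoImplicit false
universe u v w

namespace Groth.Agent.Flat2A.CoverSurj

open TensorProduct

/-- Flatness at the primes of `S` implies flatness at the primes of a ring surjecting onto `S`. -/
theorem flatAt_of_surjective {R P S : Type u} [CommRing R] [CommRing P] [CommRing S] [Algebra R P]
    [Algebra P S] [Algebra R S] [IsScalarTower R P S]
    (hsurj : Function.Surjective (algebraMap P S))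
    (N : Type u) [AddCommGroup N] [Module S N] [Module P N] [Module R N] [IsScalarTower P S N]
    [IsScalarTower R S N] [IsScalarTower R P N] (q₀ : Ideal P) [q₀.IsPrime]
    (h : ∀ (q : Ideal S) [q.IsPrime], q.comap (algebraMap P S) = q₀ → FlatCA.FlatAt R q N) :
    FlatCA.FlatAt R q₀ N := by
  by_cases hker : RingHom.ker (algebraMap P S) ≤ q₀
  · -- the prime comes from `S`
    have hq : (q₀.map (algebraMap P S)).IsPrime := Ideal.map_isPrime_of_surjective hsurj hker
    have hcomap : (q₀.map (algebraMap P S)).comap (algebraMap P S) = q₀ := by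
      rw [Ideal.comap_map_of_surjective _ hsurj, ← RingHom.ker_eq_comap_bot]
      exact sup_eq_left.mpr hker
    set q := q₀.map (algebraMap P S) with hqdef
    have hmem : ∀ s : P, algebraMap P S s ∈ q ↔ s ∈ q₀ := fun s => by
      rw [← Ideal.mem_comap, hcomap]
    have hflat : Module.Flat R (LocalizedModule q.primeCompl N) := h q hcomap
    let f : N →ₗ[P] LocalizedModule q.primeCompl N :=
      (LocalizedModule.mkLinearMap q.primeCompl N).restrictScalars P
    have hf : IsLocalizedModule q₀.primeCompl f := by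
      constructor
      · intro s
        have h1 := IsLocalizedModule.map_units (LocalizedModule.mkLinearMap q.primeCompl N)
          (⟨algebraMap P S s.1, fun hc => s.2 ((hmem s.1).mp hc)⟩ : q.primeCompl)
        rw [Module.End.isUnit_iff] at h1 ⊢
        convert h1 using 1
        ext x
        simp only [Module.algebraMap_end_apply]
        rw [algebraMap_smul]
      · intro y
        obtain ⟨⟨n, t⟩, ht⟩ := IsLocalizedModule.surj q.primeCompl
          (LocalizedModule.mkLinearMap q.primeCompl N) y
        obtain ⟨t₀, ht₀⟩ := hsurj t.1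
        refine ⟨⟨n, ⟨t₀, fun hc => t.2 (by rw [← ht₀]; exact (hmem t₀).mpr hc)⟩⟩, ?_⟩
        change t₀ • y = LocalizedModule.mkLinearMap q.primeCompl N n
        rw [← ht, ← algebraMap_smul S t₀ y, ht₀]
        rfl
      · intro x₁ x₂ hx
        obtain ⟨c, hc⟩ := IsLocalizedModule.exists_of_eq (S := q.primeCompl)
          (f := LocalizedModule.mkLinearMap q.primeCompl N) hx
        obtain ⟨t₀, ht₀⟩ := hsurj c.1
        refine ⟨⟨t₀, fun hc => c.2 (by rw [← ht₀]; exact (hmem t₀).mpr hc)⟩, ?_⟩
        change t₀ • x₁ = t₀ • x₂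
        rw [← algebraMap_smul S t₀ x₁, ← algebraMap_smul S t₀ x₂, ht₀]
        exact hc
    exact Module.Flat.of_linearEquiv
      ((IsLocalizedModule.iso q₀.primeCompl f).restrictScalars R)
  · obtain ⟨k, hk, hkq⟩ := Set.not_subset.mp hker
    have : Subsingleton (LocalizedModule q₀.primeCompl N) := by
      rw [LocalizedModule.subsingleton_iff]
      intro m
      refine ⟨k, hkq, ?_⟩
      rw [← algebraMap_smul S k m, (RingHom.mem_ker).mp hk, zero_smul]
    exact (inferInstance : Module.Flat R (LocalizedModule q₀.primeCompl N))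

/-- Transport of an etale algebra with a free module from the base change of `P` to the base change
of a quotient `S` of `P`. -/
theorem exists_etale {R A P S PA SA C₀ : Type u} [CommRing R] [CommRing A] [CommRing P]
    [CommRing S] [CommRing PA] [CommRing SA] [CommRing C₀] [Algebra R A] [Algebra R P]
    [Algebra R S] [Algebra P S] [IsScalarTower R P S]
    [Algebra R PA] [Algebra P PA] [Algebra A PA] [IsScalarTower R P PA] [IsScalarTower R A PA]
    (h₁ : Algebra.IsPushout R P A PA)
    [Algebra R SA] [Algebra S SA] [Algebra A SA] [IsScalarTower R S SA] [IsScalarTower R A SA]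
    (h₂ : Algebra.IsPushout R S A SA)
    [Algebra P SA] [IsScalarTower P S SA] [Algebra PA SA] [IsScalarTower P PA SA]
    [IsScalarTower A PA SA]
    (NA : Type u) [AddCommGroup NA] [Module SA NA] [Module PA NA] [IsScalarTower PA SA NA]
    [Algebra PA C₀] [Algebra A C₀] [IsScalarTower A PA C₀] [Algebra P C₀] [IsScalarTower P PA C₀]
    [Algebra.Etale PA C₀] (hfree : Module.Free A (C₀ ⊗[PA] NA)) :
    ∃ (C : Type u) (_ : CommRing C) (_ : Algebra SA C) (_ : Algebra A C)
      (_ : IsScalarTower A SA C) (_ : Algebra S C) (_ : IsScalarTower S SA C),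
      Algebra.Etale SA C ∧ Module.Free A (C ⊗[SA] NA) ∧
      ∀ (q : Ideal S) (q₀ : Ideal P) (x₀ : Ideal C₀) (m : Ideal A), q.IsPrime → q₀.IsPrime →
        x₀.IsPrime → q.comap (algebraMap P S) = q₀ → x₀.comap (algebraMap P C₀) = q₀ →
        x₀.LiesOver m → ∃ x : Ideal C, x.IsPrime ∧ x.comap (algebraMap S C) = q ∧ x.LiesOver m := by
  have hRP : IsScalarTower R P SA := IsScalarTower.of_algebraMap_eq fun r => by
    rw [IsScalarTower.algebraMap_apply P S SA, ← IsScalarTower.algebraMap_apply R P S,
      ← IsScalarTower.algebraMap_apply R S SA]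
  have hRPA : IsScalarTower R PA SA := IsScalarTower.of_algebraMap_eq fun r => by
    rw [IsScalarTower.algebraMap_apply R A SA, IsScalarTower.algebraMap_apply R A PA,
      ← IsScalarTower.algebraMap_apply A PA SA]
  -- the square of `P, S, PA, SA`
  have hsq : Algebra.IsPushout P PA S SA :=
    ((Algebra.IsPushout.comp_iff (R := R) (S := P) (R' := A) (S' := PA) (T := S)
      (T' := SA)).mp h₂).symm
  obtain ⟨C, _, _, _, _, _, _, hC⟩ := PureEtSpec.exists_pushout PA C₀ SA
  have hEt : Algebra.Etale SA C := by
    have := Algebra.Etale.baseChange PA C₀ SA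
    exact Algebra.Etale.of_equiv (Algebra.IsPushout.equiv PA SA C₀ C (h := hC.symm))
  let : Algebra A C := ((algebraMap SA C).comp (algebraMap A SA)).toAlgebra
  have : IsScalarTower A SA C := IsScalarTower.of_algebraMap_eq' rfl
  let : Algebra S C := ((algebraMap SA C).comp (algebraMap S SA)).toAlgebra
  have : IsScalarTower S SA C := IsScalarTower.of_algebraMap_eq' rfl
  let : Algebra P C := ((algebraMap SA C).comp (algebraMap P SA)).toAlgebra
  have : IsScalarTower P SA C := IsScalarTower.of_algebraMap_eq' rfl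
  have : IsScalarTower P S C := IsScalarTower.of_algebraMap_eq fun x => by
    rw [IsScalarTower.algebraMap_apply P SA C, IsScalarTower.algebraMap_apply P S SA,
      ← IsScalarTower.algebraMap_apply S SA C]
  have : IsScalarTower P PA C := IsScalarTower.of_algebraMap_eq fun x => by
    rw [IsScalarTower.algebraMap_apply P SA C, IsScalarTower.algebraMap_apply P PA SA,
      ← IsScalarTower.algebraMap_apply PA SA C]
  have : IsScalarTower P C₀ C := IsScalarTower.of_algebraMap_eq fun x => by
    rw [IsScalarTower.algebraMap_apply P PA C, IsScalarTower.algebraMap_apply P PA C₀,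
      ← IsScalarTower.algebraMap_apply PA C₀ C]
  have : IsScalarTower A C₀ C := IsScalarTower.of_algebraMap_eq fun x => by
    rw [IsScalarTower.algebraMap_apply A SA C, IsScalarTower.algebraMap_apply A PA SA,
      IsScalarTower.algebraMap_apply A PA C₀, ← IsScalarTower.algebraMap_apply PA C₀ C,
      ← IsScalarTower.algebraMap_apply PA SA C]
  have hbig : Algebra.IsPushout P S C₀ C :=
    ((Algebra.IsPushout.comp_iff (R := P) (S := PA) (R' := S) (S' := SA) (T := C₀)
      (T' := C)).mpr hC).symm
  refine ⟨C, inferInstance, inferInstance, inferInstance, inferInstance, inferInstance,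
    inferInstance, hEt, ?_, ?_⟩
  · let : Module A NA := Module.compHom NA (algebraMap A SA)
    have : IsScalarTower A SA NA := ⟨fun a b n => by rw [Algebra.smul_def, mul_smul]; rfl⟩
    have : IsScalarTower A PA NA := ⟨fun a b n => by
      rw [← algebraMap_smul SA (a • b) n, ← algebraMap_smul SA b n, Algebra.smul_def, map_mul,
        mul_smul, ← IsScalarTower.algebraMap_apply A PA SA]
      rfl⟩
    let e₁ : C ⊗[SA] NA ≃ₗ[SA] NA ⊗[SA] C := TensorProduct.comm SA C NA
    have hC' : Algebra.IsPushout PA SA C₀ C := hC.symm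
    let e₂ : NA ⊗[SA] C ≃ₗ[SA] NA ⊗[SA] (SA ⊗[PA] C₀) :=
      TensorProduct.congr (.refl SA NA) (Algebra.IsPushout.equiv PA SA C₀ C).symm.toLinearEquiv
    let e₃ : NA ⊗[SA] (SA ⊗[PA] C₀) ≃ₗ[SA] NA ⊗[PA] C₀ :=
      TensorProduct.AlgebraTensorModule.cancelBaseChange PA SA SA NA C₀
    let e₄ : NA ⊗[PA] C₀ ≃ₗ[PA] C₀ ⊗[PA] NA := TensorProduct.comm PA NA C₀
    exact Module.Free.of_equiv (((e₁.trans e₂).trans e₃).restrictScalars A |>.trans
      (e₄.restrictScalars A)).symm
  · intro q q₀ x₀ m hq hq₀ hx₀ h5 h6 h7
    have h8 : q.LiesOver q₀ := ⟨h5.symm⟩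
    have h9 : x₀.LiesOver q₀ := ⟨h6.symm⟩
    obtain ⟨x, hx, h10, h11⟩ := Flat2B.EtaleNhd.exists_prime_of_isPushout (R := P) (R' := C₀)
      (S := S) (S' := C) q₀ q x₀
    exact ⟨x, hx, h10.over.symm, .trans x x₀ m⟩

end Groth.Agent.Flat2A.CoverSurj
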