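import Groth.Prelude.Def_FlatCA
import Mathlib.RingTheory.Localization.BaseChange
import Mathlib.RingTheory.Localization.LocalizationLocalization
import Mathlib.RingTheory.FinitePresentation

/-!
# Essential finite presentation of local rings of finitely presented algebras
-/

set_option autoImplicit false
universe u

namespace Groth.Agent.Flat2A.EssFP

open TensorProduct

/-- The local ring at `t` of a finitely presented `A`-algebra `C` is essentially of finite presentation over
the local ring of `A` at the prime below `t`. -/
theorem essFinitePresentation_localization {A C : Type u} [CommRing A] [CommRing C] [Algebra A C]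
    [Algebra.FinitePresentation A C] (p : Ideal A) [p.IsPrime] (t : Ideal C) [t.IsPrime] [t.LiesOver p]
    [Algebra (Localization.AtPrime p) (Localization.AtPrime t)]
    [IsScalarTower A (Localization.AtPrime p) (Localization.AtPrime t)] :
    FlatCA.EssFinitePresentation (Localization.AtPrime p) (Localization.AtPrime t) := by
  let R₁ := Localization.AtPrime p
  let S₁ := Localization.AtPrime t
  let S₀ := R₁ ⊗[A] C
  let _ : Algebra C S₀ := Algebra.TensorProduct.rightAlgebra
  let φ : S₀ →ₐ[R₁] S₁ := Algebra.TensorProduct.lift (Algebra.ofId R₁ S₁) (IsScalarTower.toAlgHom A C S₁)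
    (fun _ _ => Commute.all _ _)
  let _ : Algebra S₀ S₁ := φ.toRingHom.toAlgebra
  have : IsScalarTower R₁ S₀ S₁ := IsScalarTower.of_algebraMap_eq (fun x => (φ.commutes x).symm)
  have : IsScalarTower C S₀ S₁ := IsScalarTower.of_algebraMap_eq (fun x => by
    have h1 : φ ((1 : R₁) ⊗ₜ[A] x) = algebraMap C S₁ x := by
      rw [Algebra.TensorProduct.lift_tmul, map_one, one_mul]
      rfl
    exact h1.symm)
  have hle : Algebra.algebraMapSubmonoid C p.primeCompl ≤ t.primeCompl := by
    rintro _ ⟨x, hx, rfl⟩ h
    apply hx
    rw [Ideal.over_def t p]
    exact h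
  refine ⟨S₀, inferInstance, inferInstance, inferInstance, inferInstance,
    t.primeCompl.map (algebraMap C S₀), Algebra.FinitePresentation.baseChange R₁, ?_⟩
  exact IsLocalization.isLocalization_of_submonoid_le S₀ S₁
    (Algebra.algebraMapSubmonoid C p.primeCompl) t.primeCompl hle

end Groth.Agent.Flat2A.EssFP
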