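import Groth.Prelude.Def_FlatCA
import Mathlib.RingTheory.EssentialFiniteness

/-!
# Algebras essentially of finite presentation: basic consequences
-/

set_option autoImplicit false
universe u

namespace Groth.Agent.Flat2A.EssFT

open TensorProduct

theorem essFiniteType {R S : Type u} [CommRing R] [CommRing S] [Algebra R S]
    (h : FlatCA.EssFinitePresentation R S) : Algebra.EssFiniteType R S := by
  obtain ⟨S₀, _, _, _, _, M, hfp, hloc⟩ := h
  have h1 : Algebra.EssFiniteType S₀ S := Algebra.EssFiniteType.of_isLocalization S M
  exact Algebra.EssFiniteType.comp R S₀ S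

theorem fiber_isNoetherianRing_of_essFiniteType {R S : Type u} [CommRing R] [CommRing S] [Algebra R S]
    [Algebra.EssFiniteType R S] (p : Ideal R) [p.IsPrime] : IsNoetherianRing (p.Fiber S) := by
  have h1 : Algebra.EssFiniteType p.ResidueField (p.Fiber S) := inferInstance
  exact Algebra.EssFiniteType.isNoetherianRing p.ResidueField (p.Fiber S)

end Groth.Agent.Flat2A.EssFT
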