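import Mathlib.RingTheory.Smooth.NoetherianDescent
import Mathlib.RingTheory.Smooth.StandardSmoothOfFree
import Mathlib.RingTheory.TensorProduct.MvPolynomial
import Mathlib.RingTheory.FiniteType
import Mathlib.RingTheory.Polynomial.Basic

/-!
# Noetherian descent of an etale algebra over a polynomial ring together with a section
-/

set_option autoImplicit false
universe u v

namespace Groth.Agent.Flat2A.EtDesc

open MvPolynomial TensorProduct

attribute [local instance] MvPolynomial.algebraMvPolynomial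

theorem exists_descent {A E : Type u} {ι : Type v} [CommRing A] [CommRing E] [Algebra A E] [Finite ι]
    [Algebra (MvPolynomial ι A) E] [IsScalarTower A (MvPolynomial ι A) E]
    [Algebra.Etale (MvPolynomial ι A) E] (σ : E →ₐ[A] A) :
    ∃ (A₁ : Type u) (E₁ : Type (max u v)) (_ : CommRing A₁) (_ : CommRing E₁) (_ : Algebra A₁ A) (_ : Algebra A₁ E₁)
      (_ : Algebra (MvPolynomial ι A₁) E₁) (_ : IsScalarTower A₁ (MvPolynomial ι A₁) E₁)
      (_ : Algebra A₁ E) (_ : Algebra E₁ E) (_ : IsScalarTower A₁ E₁ E) (_ : IsScalarTower A₁ A E)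
      (σ₁ : E₁ →ₐ[A₁] A₁), IsNoetherianRing A₁ ∧ Algebra.Etale (MvPolynomial ι A₁) E₁ ∧
        Algebra.IsPushout A₁ E₁ A E ∧ ∀ e, σ (algebraMap E₁ E e) = algebraMap A₁ A (σ₁ e) := by
  classical
  obtain ⟨J, K, _, _, P, hP⟩ := (Algebra.Etale.iff_isStandardSmoothOfRelativeDimension_zero
    (R := MvPolynomial ι A) (S := E)).mp inferInstance
  let S : Set A := (⋃ c ∈ P.coeffs, (c.coeffs : Set A)) ∪ Set.range (fun j => σ (P.val j)) ∪
    Set.range (fun i : ι => σ (algebraMap (MvPolynomial ι A) E (X i)))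
  have hS : S.Finite := by
    refine Set.Finite.union (Set.Finite.union ?_ (Set.finite_range _)) (Set.finite_range _)
    exact P.finite_coeffs.biUnion (fun c _ => Finset.finite_toSet _)
  let A₁ : Subalgebra ℤ A := Algebra.adjoin ℤ S
  have hSA : S ⊆ A₁ := Algebra.subset_adjoin
  have : IsScalarTower A₁ A E := inferInstance
  let R₀ := MvPolynomial ι A₁
  let _algR₀ : Algebra R₀ E := ((algebraMap (MvPolynomial ι A) E).comp (algebraMap R₀ (MvPolynomial ι A))).toAlgebra
  have : IsScalarTower R₀ (MvPolynomial ι A) E := IsScalarTower.of_algebraMap_eq fun _ => rfl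
  have : P.HasCoeffs R₀ := by
    refine ⟨?_⟩
    intro c hc
    change c ∈ Set.range (MvPolynomial.map (algebraMap A₁ A))
    rw [MvPolynomial.mem_range_map_iff_coeffs_subset]
    intro a ha
    have : a ∈ S := Or.inl (Or.inl (Set.mem_biUnion hc ha))
    exact ⟨⟨a, hSA this⟩, rfl⟩
  have : IsScalarTower A₁ R₀ E := by
    refine IsScalarTower.of_algebraMap_eq fun x => ?_
    rw [IsScalarTower.algebraMap_apply R₀ (MvPolynomial ι A) E, ← IsScalarTower.algebraMap_apply A₁ R₀ (MvPolynomial ι A),
      IsScalarTower.algebraMap_apply A₁ A (MvPolynomial ι A), ← IsScalarTower.algebraMap_apply A (MvPolynomial ι A) E]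
    rfl
  let E₁ := P.ModelOfHasCoeffs R₀
  have het : Algebra.Etale R₀ E₁ := by
    rw [Algebra.Etale.iff_isStandardSmoothOfRelativeDimension_zero]
    exact ⟨_, _, _, inferInstance, P.ofHasCoeffs R₀, hP⟩
  let e := P.tensorModelOfHasCoeffsEquiv R₀
  let θ : E₁ →ₐ[R₀] E := (e.toAlgHom.restrictScalars R₀).comp Algebra.TensorProduct.includeRight
  let _algE₁ : Algebra E₁ E := θ.toRingHom.toAlgebra
  have : IsScalarTower R₀ E₁ E := IsScalarTower.of_algebraMap_eq fun x => (θ.commutes x).symm
  have : IsScalarTower A₁ E₁ E := .to₁₃₄ A₁ R₀ E₁ E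
  have hpush : Algebra.IsPushout R₀ (MvPolynomial ι A) E₁ E := by
    refine ⟨IsBaseChange.of_equiv e.toLinearEquiv ?_⟩
    intro x
    rfl
  have hpush2 : Algebra.IsPushout A₁ E₁ A E := by
    have h1 : Algebra.IsPushout R₀ E₁ (MvPolynomial ι A) E := hpush.symm
    exact (Algebra.IsPushout.comp_iff (R := A₁) (S := R₀) (T := E₁) (R' := A)
      (S' := MvPolynomial ι A) (T' := E)).mpr h1
  have hR₀ : ∀ r : R₀, σ (algebraMap R₀ E r) ∈ A₁ := by
    intro r
    induction r using MvPolynomial.induction_on with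
    | C a =>
      have : algebraMap R₀ E (C a) = algebraMap A E a := by
        rw [← MvPolynomial.algebraMap_eq, ← IsScalarTower.algebraMap_apply A₁ R₀ E,
          IsScalarTower.algebraMap_apply A₁ A E]
        rfl
      rw [this, AlgHom.commutes]
      exact a.2
    | add p q hp hq => rw [map_add, map_add]; exact A₁.add_mem hp hq
    | mul_X p i hp =>
      rw [map_mul, map_mul]
      refine A₁.mul_mem hp (hSA (Or.inr ⟨i, ?_⟩))
      rw [IsScalarTower.algebraMap_apply R₀ (MvPolynomial ι A) E, MvPolynomial.algebraMap_def, MvPolynomial.map_X]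
  have hrange : ∀ x : E₁, σ (algebraMap E₁ E x) ∈ A₁ := by
    intro x
    obtain ⟨p, rfl⟩ := Ideal.Quotient.mk_surjective x
    have h1 : algebraMap E₁ E (Ideal.Quotient.mk _ p) = aeval P.val p := by
      change e (1 ⊗ₜ Ideal.Quotient.mk _ p) = _
      have := Algebra.Presentation.tensorModelOfHasCoeffsEquiv_tmul (P := P.toPresentation) R₀ (1 : MvPolynomial ι A) p
      rw [map_one, one_mul] at this
      exact this
    rw [h1]
    clear h1
    induction p using MvPolynomial.induction_on with
    | C r =>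
      rw [← MvPolynomial.algebraMap_eq, AlgHom.commutes]
      exact hR₀ r
    | add p q hp hq => rw [map_add, map_add]; exact A₁.add_mem hp hq
    | mul_X p i hp =>
      rw [map_mul, map_mul]
      refine A₁.mul_mem hp (hSA (Or.inl (Or.inr ⟨i, ?_⟩)))
      rw [aeval_X]
  let σ₀ : E₁ →+* A₁ := ((σ : E →+* A).comp (algebraMap E₁ E)).codRestrict A₁ hrange
  let σ₁ : E₁ →ₐ[A₁] A₁ := { σ₀ with
    commutes' := by
      intro a
      apply Subtype.ext
      change σ (algebraMap E₁ E (algebraMap A₁ E₁ a)) = a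
      rw [← IsScalarTower.algebraMap_apply A₁ E₁ E, IsScalarTower.algebraMap_apply A₁ A E, AlgHom.commutes]
      rfl }
  have hnoeth : IsNoetherianRing A₁ := by
    have : Algebra.FiniteType ℤ A₁ := Algebra.FiniteType.adjoin_of_finite hS
    exact Algebra.FiniteType.isNoetherianRing ℤ A₁
  exact ⟨A₁, E₁, inferInstance, inferInstance, inferInstance, inferInstance, inferInstance, inferInstance,
    inferInstance, inferInstance, inferInstance, inferInstance, σ₁, hnoeth, het, hpush2, fun _ => rfl⟩

end Groth.Agent.Flat2A.EtDesc
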