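import Groth.Agent.Flat2A.ModInjCore
import Mathlib.RingTheory.TensorProduct.MvPolynomial
import Mathlib.RingTheory.IsTensorProduct

/-!
# The fibre condition

`L → R'` local, `R → R'`, polynomial rings in `n` variables. `NL` is a module over `L[x]` and
`v : NL → M'` an `L`-linear map to an `R'`-module with compatible actions of the variables. We show that
`k' ⊗_L NL → k' ⊗_{R'} M'` is injective under a condition on the relations of generators modulo the
maximal ideal.
-/

set_option autoImplicit false
set_option linter.style.haveILetI false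
set_option linter.unusedSectionVars false
universe u

open TensorProduct IsLocalRing

namespace Groth.Agent.Flat2A.ModInjFibre

open ModInjCore

attribute [local instance] MvPolynomial.algebraMvPolynomial

variable {R R' L : Type u} [CommRing R] [CommRing R'] [IsLocalRing R'] [Algebra R R']
  [CommRing L] [Algebra L R'] {n : ℕ}
  {NL : Type u} [AddCommGroup NL] [Module L NL] [Module (MvPolynomial (Fin n) L) NL]
  [IsScalarTower L (MvPolynomial (Fin n) L) NL]
  {S' M' : Type u} [CommRing S'] [Algebra R' S'] [AddCommGroup M'] [Module S' M'] [Module R' M']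
  [IsScalarTower R' S' M'] [Module L M'] [IsScalarTower L R' M']
  (v : NL →ₗ[L] M') (ψL : MvPolynomial (Fin n) L →+* S') (φ' : MvPolynomial (Fin n) R →+* S')

/-- `R → k'`. -/
noncomputable def toRes (R R' : Type u) [CommRing R] [CommRing R'] [IsLocalRing R'] [Algebra R R'] :
    R →+* ResidueField R' := (algebraMap R' (ResidueField R')).comp (algebraMap R R')

/-- `P_k ⊗_{P_L} NL ≃ k' ⊗_L NL`. -/
noncomputable def eqv (R' L : Type u) [CommRing R'] [IsLocalRing R']
    [CommRing L] [Algebra L R'] (n : ℕ)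
    (NL : Type u) [AddCommGroup NL] [Module L NL] [Module (MvPolynomial (Fin n) L) NL]
    [IsScalarTower L (MvPolynomial (Fin n) L) NL] :
    (MvPolynomial (Fin n) (ResidueField R')) ⊗[MvPolynomial (Fin n) L] NL ≃ₗ[ResidueField R']
      (ResidueField R') ⊗[L] NL :=
  Algebra.IsPushout.cancelBaseChange L (ResidueField R') (MvPolynomial (Fin n) L)
    (MvPolynomial (Fin n) (ResidueField R')) NL

theorem eqv_C_tmul (a : ResidueField R') (x : NL) :
    eqv R' L n NL (MvPolynomial.C a ⊗ₜ x) = a ⊗ₜ x := by
  have := Algebra.IsPushout.cancelBaseChange_symm_tmul L (ResidueField R') (MvPolynomial (Fin n) L)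
    (MvPolynomial (Fin n) (ResidueField R')) NL a x
  rw [LinearEquiv.symm_apply_eq] at this
  rw [this]
  rfl

theorem smul_tmul_map (p : MvPolynomial (Fin n) L) (g : MvPolynomial (Fin n) (ResidueField R')) (x : NL) :
    (MvPolynomial.map (algebraMap L (ResidueField R')) p * g) ⊗ₜ[MvPolynomial (Fin n) L] x =
      g ⊗ₜ[MvPolynomial (Fin n) L] (p • x) := by
  rw [← TensorProduct.smul_tmul, Algebra.smul_def]
  rfl

theorem G_tmul (hv : ∀ (p : MvPolynomial (Fin n) L) (x : NL), v (p • x) = ψL p • v x)
    (hC : ∀ a : R, φ' (MvPolynomial.C a) = algebraMap R' S' (algebraMap R R' a))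
    (hX : ∀ i, φ' (MvPolynomial.X i) = ψL (MvPolynomial.X i))
    (h : MvPolynomial (Fin n) R) (x : NL) :
    bc (R := R') v (ResidueField R')
      (eqv R' L n NL (MvPolynomial.map (toRes R R') h ⊗ₜ x)) = 1 ⊗ₜ (φ' h • v x) := by
  induction h using MvPolynomial.induction_on generalizing x with
  | C a =>
    rw [MvPolynomial.map_C, eqv_C_tmul, bc_tmul, hC, algebraMap_smul]
    rw [← TensorProduct.smul_tmul]
    congr 1
    rw [Algebra.smul_def, mul_one]
    rfl
  | add p q hp hq =>
    rw [map_add, add_tmul, map_add, map_add, hp, hq, map_add, add_smul, tmul_add]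
  | mul_X p i hp =>
    rw [map_mul, MvPolynomial.map_X, mul_comm (MvPolynomial.map (toRes R R') p)]
    have h1 : (MvPolynomial.X i : MvPolynomial (Fin n) (ResidueField R')) =
      MvPolynomial.map (algebraMap L (ResidueField R')) (MvPolynomial.X i) := by
      rw [MvPolynomial.map_X]
    rw [h1, smul_tmul_map, hp, hv, map_mul, mul_smul, hX]

theorem G_smul (hv : ∀ (p : MvPolynomial (Fin n) L) (x : NL), v (p • x) = ψL p • v x)
    (hC : ∀ a : R, φ' (MvPolynomial.C a) = algebraMap R' S' (algebraMap R R' a))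
    (hX : ∀ i, φ' (MvPolynomial.X i) = ψL (MvPolynomial.X i))
    (hsurj : Function.Surjective (toRes R R')) (p : MvPolynomial (Fin n) L)
    (y : MvPolynomial (Fin n) (ResidueField R') ⊗[MvPolynomial (Fin n) L] NL)
    (hy : bc (R := R') v (ResidueField R') (eqv R' L n NL y) = 0) :
    bc (R := R') v (ResidueField R') (eqv R' L n NL (p • y)) = 0 := by
  have key : bc (R := R') v (ResidueField R') (eqv R' L n NL (p • y)) =
      ((LinearMap.lsmul S' M' (ψL p)).restrictScalars R').lTensor (ResidueField R')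
        (bc (R := R') v (ResidueField R') (eqv R' L n NL y)) := by
    clear hy
    induction y using TensorProduct.induction_on with
    | zero => simp
    | tmul g x =>
      obtain ⟨h, rfl⟩ := MvPolynomial.map_surjective (toRes R R') hsurj g
      rw [← TensorProduct.tmul_smul, G_tmul v ψL φ' hv hC hX, G_tmul v ψL φ' hv hC hX, hv,
        LinearMap.lTensor_tmul, LinearMap.restrictScalars_apply, LinearMap.lsmul_apply, smul_comm]
    | add a b ha hb => rw [smul_add, map_add, map_add, ha, hb, map_add, map_add, map_add]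
  rw [key, hy, map_zero]

theorem exists_smul_eq_sum {r : ℕ} (eL : Fin r → NL) (T : Submonoid (MvPolynomial (Fin n) L))
    (hgen : ∀ x : NL, ∃ τ ∈ T, ∃ p : Fin r → MvPolynomial (Fin n) L, τ • x = ∑ i, p i • eL i)
    (hsurj : Function.Surjective (toRes R R'))
    (y : MvPolynomial (Fin n) (ResidueField R') ⊗[MvPolynomial (Fin n) L] NL) :
    ∃ τ ∈ T, ∃ h : Fin r → MvPolynomial (Fin n) R,
      τ • y = ∑ i, MvPolynomial.map (toRes R R') (h i) ⊗ₜ eL i := by
  have hs := MvPolynomial.map_surjective (σ := Fin n) (toRes R R') hsurj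
  induction y using TensorProduct.induction_on with
  | zero => exact ⟨1, T.one_mem, 0, by simp⟩
  | tmul g x =>
    obtain ⟨τ, hτ, p, hp⟩ := hgen x
    choose h hh using fun i => hs (MvPolynomial.map (algebraMap L (ResidueField R')) (p i) * g)
    refine ⟨τ, hτ, h, ?_⟩
    rw [← TensorProduct.tmul_smul, hp, tmul_sum]
    refine Finset.sum_congr rfl fun i _ => ?_
    rw [hh, smul_tmul_map]
  | add a b ha hb =>
    obtain ⟨τ, hτ, h, hh⟩ := ha
    obtain ⟨τ', hτ', h', hh'⟩ := hb
    choose g hg using fun i => hs (MvPolynomial.map (algebraMap L (ResidueField R')) τ' *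
      MvPolynomial.map (toRes R R') (h i) + MvPolynomial.map (algebraMap L (ResidueField R')) τ *
      MvPolynomial.map (toRes R R') (h' i))
    refine ⟨τ' * τ, T.mul_mem hτ' hτ, g, ?_⟩
    rw [smul_add, mul_smul, hh, mul_comm τ' τ, mul_smul, hh', Finset.smul_sum, Finset.smul_sum,
      ← Finset.sum_add_distrib]
    refine Finset.sum_congr rfl fun i _ => ?_
    rw [hg, add_tmul, smul_tmul_map, smul_tmul_map, ← TensorProduct.tmul_smul,
      ← TensorProduct.tmul_smul]

theorem eq_zero_of_smul (τ : MvPolynomial (Fin n) L)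
    (h : Function.Bijective (LinearMap.lsmul (MvPolynomial (Fin n) L) NL τ))
    (y : MvPolynomial (Fin n) (ResidueField R') ⊗[MvPolynomial (Fin n) L] NL) (hy : τ • y = 0) :
    y = 0 := by
  let e := (LinearEquiv.ofBijective _ h).lTensor (MvPolynomial (Fin n) (ResidueField R'))
  apply e.injective
  rw [map_zero]
  have : e y = τ • y := by
    clear hy
    induction y using TensorProduct.induction_on with
    | zero => simp
    | tmul g x =>
      rw [← TensorProduct.tmul_smul]
      rfl
    | add a b ha hb => rw [map_add, ha, hb, smul_add]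
  rw [this, hy]

theorem bc_residue_injective (hv : ∀ (p : MvPolynomial (Fin n) L) (x : NL), v (p • x) = ψL p • v x)
    (hC : ∀ a : R, φ' (MvPolynomial.C a) = algebraMap R' S' (algebraMap R R' a))
    (hX : ∀ i, φ' (MvPolynomial.X i) = ψL (MvPolynomial.X i))
    (hsurj : Function.Surjective (toRes R R'))
    {r s : ℕ} (eL : Fin r → NL) (T : Submonoid (MvPolynomial (Fin n) L))
    (hgen : ∀ x : NL, ∃ τ ∈ T, ∃ p : Fin r → MvPolynomial (Fin n) L, τ • x = ∑ i, p i • eL i)
    (hT : ∀ τ ∈ T, Function.Bijective (LinearMap.lsmul (MvPolynomial (Fin n) L) NL τ))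
    (κ : Fin s → Fin r → MvPolynomial (Fin n) R) (κL : Fin s → Fin r → MvPolynomial (Fin n) L)
    (hκ : ∀ j i, MvPolynomial.map (algebraMap L R') (κL j i) = MvPolynomial.map (algebraMap R R') (κ j i))
    (hrel : ∀ j, ∑ i, κL j i • eL i = 0)
    (t₀ : MvPolynomial (Fin n) R) (tL : MvPolynomial (Fin n) L)
    (ht : MvPolynomial.map (algebraMap L R') tL = MvPolynomial.map (algebraMap R R') t₀) (htL : tL ∈ T)
    (K : ∀ h : Fin r → MvPolynomial (Fin n) R,
      ((1 : ResidueField R') ⊗ₜ[R'] (∑ i, φ' (h i) • v (eL i)) = 0) →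
      ∃ f : Fin s → MvPolynomial (Fin n) R, ∀ i,
        MvPolynomial.map (toRes R R') (t₀ * h i - ∑ j, f j * κ j i) = 0) :
    Function.Injective (bc (R := R') v (ResidueField R')) := by
  rw [injective_iff_map_eq_zero]
  intro z hz
  obtain ⟨y, rfl⟩ := (eqv R' L n NL).surjective z
  have hmapL : ∀ (p : MvPolynomial (Fin n) L) (q : MvPolynomial (Fin n) R),
      MvPolynomial.map (algebraMap L R') p = MvPolynomial.map (algebraMap R R') q →
      MvPolynomial.map (algebraMap L (ResidueField R')) p = MvPolynomial.map (toRes R R') q := by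
    intro p q h
    have h1 : algebraMap L (ResidueField R') = (algebraMap R' (ResidueField R')).comp (algebraMap L R') :=
      IsScalarTower.algebraMap_eq L R' (ResidueField R')
    rw [h1, ← MvPolynomial.map_map, h, MvPolynomial.map_map]
    rfl
  obtain ⟨τ, hτ, h, hh⟩ := exists_smul_eq_sum eL T hgen hsurj y
  have h1 : bc (R := R') v (ResidueField R') (eqv R' L n NL (τ • y)) = 0 :=
    G_smul v ψL φ' hv hC hX hsurj τ y hz
  have h2 : (1 : ResidueField R') ⊗ₜ[R'] (∑ i, φ' (h i) • v (eL i)) = 0 := by
    rw [hh, map_sum, map_sum] at h1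
    rw [tmul_sum, ← h1]
    refine Finset.sum_congr rfl fun i _ => ?_
    rw [G_tmul v ψL φ' hv hC hX]
  obtain ⟨f, hf⟩ := K h h2
  have h3 : tL • (τ • y) = 0 := by
    rw [hh, Finset.smul_sum]
    have h4 : ∀ i, tL • (MvPolynomial.map (toRes R R') (h i) ⊗ₜ[MvPolynomial (Fin n) L] eL i) =
        ∑ j, (MvPolynomial.map (toRes R R') (f j)) ⊗ₜ[MvPolynomial (Fin n) L] (κL j i • eL i) := by
      intro i
      have h5 := hf i
      rw [map_sub, sub_eq_zero, map_mul, map_sum] at h5
      rw [← TensorProduct.tmul_smul, ← smul_tmul_map, hmapL _ _ ht, h5, sum_tmul]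
      refine Finset.sum_congr rfl fun j _ => ?_
      rw [map_mul, mul_comm, ← hmapL _ _ (hκ j i), smul_tmul_map]
    rw [Finset.sum_congr rfl fun i _ => h4 i, Finset.sum_comm]
    refine Finset.sum_eq_zero fun j _ => ?_
    rw [← tmul_sum, hrel, tmul_zero]
  have h6 := eq_zero_of_smul tL (hT tL htL) _ h3
  have h7 := eq_zero_of_smul τ (hT τ hτ) _ h6
  rw [h7, map_zero]

end Groth.Agent.Flat2A.ModInjFibre
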