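import Mathlib.RingTheory.Flat.FaithfullyFlat.Algebra
import Mathlib.RingTheory.LocalRing.Module
import Mathlib.RingTheory.LocalRing.ResidueField.Basic

/-!
# Transfer of tensor products along `S → S'` over `R → R'`
-/

set_option autoImplicit false
set_option linter.style.haveILetI false
set_option linter.unusedSectionVars false
universe u

open TensorProduct IsLocalRing

namespace Groth.Agent.Flat2A.ModInjTransfer

variable (R R' S S' : Type u) [CommRing R] [CommRing R'] [CommRing S] [CommRing S'] [Algebra R R']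
  [Algebra R S] [Algebra S S'] [Algebra R' S'] [Algebra R S'] [IsScalarTower R S S']
  [IsScalarTower R R' S'] (T : Type u) [AddCommGroup T] [Module R T] [Module S T] [IsScalarTower R S T]
  (Q : Type u) [AddCommGroup Q] [Module R Q]

instance smulCommClass_aux : SMulCommClass S R' S' :=
  ⟨fun a b c => by simp only [Algebra.smul_def]; ring⟩

instance smulCommClass_aux' : SMulCommClass R' S S' :=
  ⟨fun a b c => by simp only [Algebra.smul_def]; ring⟩

/-- `t ⊗ q ↦ (1 ⊗ q) ⊗ (1 ⊗ t)`. -/
noncomputable def J : T ⊗[R] Q →+ (R' ⊗[R] Q) ⊗[R'] (S' ⊗[S] T) :=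
  (TensorProduct.comm R' (S' ⊗[S] T) (R' ⊗[R] Q)).toLinearMap.toAddMonoidHom.comp
    ((AlgebraTensorModule.cancelBaseChange R R' R' (S' ⊗[S] T) Q).symm.toLinearMap.toAddMonoidHom.comp
      ((AlgebraTensorModule.assoc R S S' S' T Q).symm.toLinearMap.toAddMonoidHom.comp
        (TensorProduct.mk S S' (T ⊗[R] Q) 1).toAddMonoidHom))

@[simp]
theorem J_tmul (t : T) (q : Q) : J R R' S S' T Q (t ⊗ₜ q) = (1 ⊗ₜ q) ⊗ₜ (1 ⊗ₜ t) := rfl

theorem J_smul (a : R) (w : T ⊗[R] Q) :
    J R R' S S' T Q (a • w) = algebraMap R R' a • J R R' S S' T Q w := by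
  induction w using TensorProduct.induction_on with
  | zero => simp
  | tmul t q =>
    rw [← TensorProduct.tmul_smul, J_tmul, J_tmul]
    have h : ((1 : R') ⊗ₜ[R] (a • q)) = algebraMap R R' a • ((1 : R') ⊗ₜ[R] q) := by
      rw [TensorProduct.tmul_smul, algebraMap_smul]
    rw [h]
    exact (smul_tmul' _ _ _).symm
  | add x y hx hy => rw [smul_add, map_add, hx, hy, map_add, smul_add]

theorem J_injective [Module.FaithfullyFlat S S'] : Function.Injective (J R R' S S' T Q) := by
  have h1 : Function.Injective (TensorProduct.mk S S' (T ⊗[R] Q) 1) :=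
    Module.FaithfullyFlat.tensorProduct_mk_injective (A := S) (B := S') (T ⊗[R] Q)
  exact (TensorProduct.comm R' (S' ⊗[S] T) (R' ⊗[R] Q)).injective.comp
    ((AlgebraTensorModule.cancelBaseChange R R' R' (S' ⊗[S] T) Q).symm.injective.comp
      ((AlgebraTensorModule.assoc R S S' S' T Q).symm.injective.comp h1))

variable {R R' S S' T}

/-- If `1 ⊗ (1 ⊗ w) = 0` in `k' ⊗_{R'} (S' ⊗_S T)` then `w ∈ m_R T`. -/
theorem mem_smul_top_of_tmul_eq_zero [IsLocalRing R] [IsLocalRing R'] [Module.FaithfullyFlat S S']
    (hm : (maximalIdeal R).map (algebraMap R R') = maximalIdeal R') (w : T)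
    (hw : (1 : ResidueField R') ⊗ₜ[R'] ((1 : S') ⊗ₜ[S] w) = 0) :
    w ∈ (maximalIdeal R • ⊤ : Submodule R T) := by
  have h1 : (1 : S') ⊗ₜ[S] w ∈ (maximalIdeal R' • ⊤ : Submodule R' (S' ⊗[S] T)) := by
    have h2 : LinearMap.ker (TensorProduct.mk R' (ResidueField R') (S' ⊗[S] T) 1) =
      (maximalIdeal R') • (⊤ : Submodule R' (S' ⊗[S] T)) := LinearMap.ker_tensorProductMk _
    rw [← h2]
    exact hw
  let Tm : Submodule S T := (maximalIdeal R).map (algebraMap R S) • ⊤
  have h3 : ∀ y ∈ (maximalIdeal R' • ⊤ : Submodule R' (S' ⊗[S] T)), Tm.mkQ.lTensor S' y = 0 := by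
    intro y hy
    refine Submodule.smul_induction_on hy ?_ ?_
    · intro a ha z _
      rw [← hm] at ha
      refine Submodule.span_induction (p := fun a _ => Tm.mkQ.lTensor S' (a • z) = 0) ?_ ?_ ?_ ?_ ha
      · rintro _ ⟨b, hb, rfl⟩
        rw [algebraMap_smul]
        induction z using TensorProduct.induction_on with
        | zero => simp
        | tmul s t =>
          have h4 : b • (s ⊗ₜ[S] t) = s ⊗ₜ[S] ((algebraMap R S b) • t) := by
            rw [TensorProduct.tmul_smul]
            rw [algebraMap_smul]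
          rw [h4, LinearMap.lTensor_tmul]
          have h5 : Tm.mkQ ((algebraMap R S b) • t) = 0 := by
            rw [← LinearMap.mem_ker, Submodule.ker_mkQ]
            exact Submodule.smul_mem_smul (Ideal.mem_map_of_mem _ hb) trivial
          rw [h5, tmul_zero]
        | add x y hx hy => rw [smul_add, map_add, hx trivial, hy trivial, add_zero]
      · rw [zero_smul, map_zero]
      · intro x y _ _ hx hy
        rw [add_smul, map_add, hx, hy, add_zero]
      · intro c x _ hx
        rw [smul_assoc]
        have : Tm.mkQ.lTensor S' (c • (x • z)) = c • Tm.mkQ.lTensor S' (x • z) := by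
          generalize x • z = y
          induction y using TensorProduct.induction_on with
          | zero => simp
          | tmul s t => rw [smul_tmul', LinearMap.lTensor_tmul, LinearMap.lTensor_tmul, smul_tmul']
          | add x y hx hy => rw [smul_add, map_add, hx, hy, map_add, smul_add]
        rw [this, hx, smul_zero]
    · intro x y hx hy
      rw [map_add, hx, hy, add_zero]
  have h6 := h3 _ h1
  rw [LinearMap.lTensor_tmul] at h6
  have h7 : Tm.mkQ w = 0 := by
    apply Module.FaithfullyFlat.tensorProduct_mk_injective (A := S) (B := S') (T ⧸ Tm)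
    rw [map_zero]
    exact h6
  rw [← LinearMap.mem_ker, Submodule.ker_mkQ] at h7
  -- `Tm` is `m_R T`
  refine Submodule.smul_induction_on h7 ?_ ?_
  · intro a ha t _
    refine Submodule.span_induction (p := fun a _ => ∀ t : T, a • t ∈ (maximalIdeal R • ⊤ : Submodule R T))
      ?_ ?_ ?_ ?_ ha t
    · rintro _ ⟨b, hb, rfl⟩ t
      rw [algebraMap_smul]
      exact Submodule.smul_mem_smul hb trivial
    · intro t
      rw [zero_smul]
      exact zero_mem _
    · intro x y _ _ hx hy t
      rw [add_smul]
      exact add_mem (hx t) (hy t)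
    · intro c x _ hx t
      rw [smul_assoc, smul_comm]
      exact hx _
  · intro x y hx hy
    exact add_mem hx hy

end Groth.Agent.Flat2A.ModInjTransfer
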