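import Mathlib.RingTheory.Polynomial.Basic
import Mathlib.RingTheory.LocalRing.ResidueField.Basic
import Mathlib.RingTheory.Noetherian.Basic
import Mathlib.RingTheory.MvPolynomial.Ideal
import Mathlib.Algebra.MvPolynomial.Basic
import Mathlib.RingTheory.Ideal.Quotient.Noetherian
import Mathlib.RingTheory.Polynomial.Quotient

/-!
# Finitely many relations modulo the maximal ideal of the base

`S` a local algebra which is a localization of a quotient of `R[x_1, …, x_n]`, `N` generated over `S` by `e_1, …, e_r`. There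
are finitely many relations `κ_j` among the `e_i`, with polynomial coefficients, which generate up to a unit denominator
`t₀` all polynomial relations modulo `𝔪_R`.
-/

set_option autoImplicit false
universe u

namespace Groth.Agent.Flat2A.Relations

open IsLocalRing

variable {R S N : Type u} [CommRing R] [CommRing S] [Algebra R S] [AddCommGroup N]
  [Module S N] [Module R N] [IsScalarTower R S N] {n r : ℕ} (φ : MvPolynomial (Fin n) R →ₐ[R] S)

omit [Module R N] [IsScalarTower R S N] in
/-- Elements of `N` in terms of generators with a common denominator. -/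
theorem exists_denom (hφ : ∀ s : S, ∃ p t, IsUnit (φ t) ∧ s * φ t = φ p) (e : Fin r → N)
    (he : Submodule.span S (Set.range e) = ⊤) (z : N) :
    ∃ (t : MvPolynomial (Fin n) R) (b : Fin r → MvPolynomial (Fin n) R), IsUnit (φ t) ∧
      φ t • z = ∑ i, φ (b i) • e i := by
  have hz : z ∈ Submodule.span S (Set.range e) := by rw [he]; trivial
  induction hz using Submodule.span_induction with
  | mem z hz =>
    obtain ⟨i, rfl⟩ := hz
    refine ⟨1, Pi.single i 1, by simp, ?_⟩
    rw [map_one, one_smul, Finset.sum_eq_single i]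
    · simp
    · intro j _ hji
      simp [Pi.single_eq_of_ne hji]
    · simp
  | zero => exact ⟨1, 0, by simp, by simp⟩
  | add x y _ _ hx hy =>
    obtain ⟨t, b, ht, hb⟩ := hx
    obtain ⟨t', b', ht', hb'⟩ := hy
    refine ⟨t * t', fun i => t' * b i + t * b' i, by rw [map_mul]; exact ht.mul ht', ?_⟩
    have h1 : φ (t * t') • (x + y) = φ t' • (φ t • x) + φ t • (φ t' • y) := by
      rw [smul_add, map_mul, smul_smul, smul_smul, mul_comm (φ t') (φ t)]
    rw [h1, hb, hb', Finset.smul_sum, Finset.smul_sum, ← Finset.sum_add_distrib]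
    refine Finset.sum_congr rfl fun i _ => ?_
    rw [map_add, map_mul, map_mul, add_smul, mul_smul, mul_smul]
  | smul s x _ hx =>
    obtain ⟨t, b, ht, hb⟩ := hx
    obtain ⟨p, u, hu, hs⟩ := hφ s
    refine ⟨u * t, fun i => p * b i, by rw [map_mul]; exact hu.mul ht, ?_⟩
    have h1 : φ (u * t) • (s • x) = φ p • (φ t • x) := by
      rw [map_mul, smul_smul, smul_smul, ← hs]
      congr 1
      ring
    rw [h1, hb, Finset.smul_sum]
    refine Finset.sum_congr rfl fun i _ => ?_
    rw [map_mul, mul_smul]

/-- Elements of `𝔪 N` in terms of generators with a common denominator and coefficients in `𝔪`. -/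
theorem exists_denom_of_mem (I : Ideal R) (hφ : ∀ s : S, ∃ p t, IsUnit (φ t) ∧ s * φ t = φ p) (e : Fin r → N)
    (he : Submodule.span S (Set.range e) = ⊤) (z : N) (hz : z ∈ (I • ⊤ : Submodule R N)) :
    ∃ (t : MvPolynomial (Fin n) R) (a : Fin r → MvPolynomial (Fin n) R), IsUnit (φ t) ∧
      (∀ i, a i ∈ I.map (MvPolynomial.C (σ := Fin n))) ∧ φ t • z = ∑ i, φ (a i) • e i := by
  refine Submodule.smul_induction_on hz ?_ ?_
  · intro m hm z _
    obtain ⟨t, b, ht, hb⟩ := exists_denom φ hφ e he z
    refine ⟨t, fun i => MvPolynomial.C m * b i, ht, fun i => Ideal.mul_mem_right _ _ (Ideal.mem_map_of_mem _ hm), ?_⟩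
    rw [smul_comm, hb, Finset.smul_sum]
    refine Finset.sum_congr rfl fun i _ => ?_
    rw [map_mul, mul_smul]
    have : φ (MvPolynomial.C m) = algebraMap R S m := by
      rw [← MvPolynomial.algebraMap_eq]; exact φ.commutes m
    rw [this, algebraMap_smul]
  · rintro x y ⟨t, a, ht, ha, hta⟩ ⟨t', a', ht', ha', hta'⟩
    refine ⟨t * t', fun i => t' * a i + t * a' i, by rw [map_mul]; exact ht.mul ht',
      fun i => Ideal.add_mem _ (Ideal.mul_mem_left _ _ (ha i)) (Ideal.mul_mem_left _ _ (ha' i)), ?_⟩
    have h1 : φ (t * t') • (x + y) = φ t' • (φ t • x) + φ t • (φ t' • y) := by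
      rw [smul_add, map_mul, smul_smul, smul_smul, mul_comm (φ t') (φ t)]
    rw [h1, hta, hta', Finset.smul_sum, Finset.smul_sum, ← Finset.sum_add_distrib]
    refine Finset.sum_congr rfl fun i _ => ?_
    rw [map_add, map_mul, map_mul, add_smul, mul_smul, mul_smul]

theorem exists_relations [IsLocalRing R] (hφ : ∀ s : S, ∃ p t, IsUnit (φ t) ∧ s * φ t = φ p) (e : Fin r → N)
    (he : Submodule.span S (Set.range e) = ⊤) :
    ∃ (s : ℕ) (κ : Fin s → Fin r → MvPolynomial (Fin n) R) (t₀ : MvPolynomial (Fin n) R), IsUnit (φ t₀) ∧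
      (∀ j, ∑ i, φ (κ j i) • e i = 0) ∧
      ∀ p : Fin r → MvPolynomial (Fin n) R, (∑ i, φ (p i) • e i) ∈ (maximalIdeal R • ⊤ : Submodule R N) →
        ∃ f : Fin s → MvPolynomial (Fin n) R, ∀ i, t₀ * p i - ∑ j, f j * κ j i ∈
          (maximalIdeal R).map (MvPolynomial.C (σ := Fin n)) := by
  classical
  set P := MvPolynomial (Fin n) R with hP
  set mP : Ideal P := (maximalIdeal R).map (MvPolynomial.C (σ := Fin n)) with hmP
  -- the submodule of relations modulo `𝔪`
  let M0 : Submodule P (Fin r → P) :=
    { carrier := {p | (∑ i, φ (p i) • e i) ∈ (maximalIdeal R • ⊤ : Submodule R N)}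
      add_mem' := by
        intro p q hp hq
        have : ∑ i, φ ((p + q) i) • e i = ∑ i, φ (p i) • e i + ∑ i, φ (q i) • e i := by
          rw [← Finset.sum_add_distrib]
          refine Finset.sum_congr rfl fun i _ => ?_
          rw [Pi.add_apply, map_add, add_smul]
        show (∑ i, φ ((p + q) i) • e i) ∈ (maximalIdeal R • ⊤ : Submodule R N)
        rw [this]
        exact Submodule.add_mem _ hp hq
      zero_mem' := by
        show (∑ i, φ ((0 : Fin r → P) i) • e i) ∈ (maximalIdeal R • ⊤ : Submodule R N)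
        simp
      smul_mem' := by
        intro c p hp
        have h1 : ∑ i, φ ((c • p) i) • e i = φ c • ∑ i, φ (p i) • e i := by
          rw [Finset.smul_sum]
          refine Finset.sum_congr rfl fun i _ => ?_
          rw [Pi.smul_apply, smul_eq_mul, map_mul, mul_smul]
        show (∑ i, φ ((c • p) i) • e i) ∈ (maximalIdeal R • ⊤ : Submodule R N)
        rw [h1]
        have h2 : ∀ z ∈ (maximalIdeal R • ⊤ : Submodule R N), φ c • z ∈ (maximalIdeal R • ⊤ : Submodule R N) := by
          intro z hz
          refine Submodule.smul_induction_on hz ?_ ?_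
          · intro m hm y _
            rw [smul_comm]
            exact Submodule.smul_mem_smul hm Submodule.mem_top
          · intro x y hx hy
            rw [smul_add]
            exact Submodule.add_mem _ hx hy
        exact h2 _ hp }
  -- reduction modulo `mP`
  let π : (Fin r → P) →ₗ[P] (Fin r → P ⧸ mP) := (Submodule.mkQ mP).compLeft (Fin r)
  have hnoeth : IsNoetherianRing (P ⧸ mP) := by
    let e1 : MvPolynomial (Fin n) (R ⧸ maximalIdeal R) ≃+* P ⧸ mP :=
      (MvPolynomial.quotientEquivQuotientMvPolynomial (σ := Fin n) (maximalIdeal R)).toRingEquiv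
    let _ : Field (R ⧸ maximalIdeal R) := Ideal.Quotient.field _
    exact isNoetherianRing_of_ringEquiv _ e1
  have hnoethM : IsNoetherian P (Fin r → P ⧸ mP) := by
    have : RingHomSurjective (Ideal.Quotient.mk mP) := ⟨Ideal.Quotient.mk_surjective⟩
    let l : (Fin r → P ⧸ mP) →ₛₗ[Ideal.Quotient.mk mP] (Fin r → P ⧸ mP) :=
      { toFun := id
        map_add' := fun _ _ => rfl
        map_smul' := fun c x => by
          ext i
          simp only [id, Pi.smul_apply]
          obtain ⟨y, hy⟩ := Ideal.Quotient.mk_surjective (x i)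
          rw [← hy]
          rfl }
    exact (LinearMap.isNoetherian_iff_of_bijective l Function.bijective_id).2 inferInstance
  obtain ⟨s, g, hg⟩ := Submodule.fg_iff_exists_fin_generating_family.1 (IsNoetherian.noetherian (Submodule.map π M0))
  have hg' : ∀ j, ∃ p ∈ M0, π p = g j := by
    intro j
    have : g j ∈ Submodule.map π M0 := by rw [← hg]; exact Submodule.subset_span ⟨j, rfl⟩
    exact this
  choose pp hpp hπp using hg'
  choose t a ht ha hta using fun j => exists_denom_of_mem φ (maximalIdeal R) hφ e he _ (hpp j)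
  let t₀ : P := ∏ j, t j
  let c : Fin s → P := fun j => ∏ l ∈ Finset.univ.erase j, t l
  have htc : ∀ j, t j * c j = t₀ := fun j => Finset.mul_prod_erase Finset.univ t (Finset.mem_univ j)
  refine ⟨s, fun j i => t₀ * pp j i - c j * a j i, t₀, ?_, ?_, ?_⟩
  · show IsUnit (φ (∏ j, t j))
    rw [map_prod]
    exact IsUnit.prod_univ_iff.2 ht
  · intro j
    have h1 : ∑ i, φ (t₀ * pp j i - c j * a j i) • e i =
        φ (c j) • (φ (t j) • ∑ i, φ (pp j i) • e i) - φ (c j) • ∑ i, φ (a j i) • e i := by
      rw [Finset.smul_sum, Finset.smul_sum, Finset.smul_sum, ← Finset.sum_sub_distrib]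
      refine Finset.sum_congr rfl fun i _ => ?_
      rw [← htc j, map_sub, map_mul, map_mul, map_mul, sub_smul, mul_smul, mul_smul, mul_smul,
        smul_comm (φ (t j)) (φ (c j))]
    rw [h1, hta j, sub_self]
  · intro p hp
    have h1 : π p ∈ Submodule.span P (Set.range g) := by
      rw [hg]
      exact Submodule.mem_map_of_mem hp
    obtain ⟨f, hf⟩ := (Submodule.mem_span_range_iff_exists_fun P).1 h1
    refine ⟨f, fun i => ?_⟩
    have h2 : p i - ∑ j, f j * pp j i ∈ mP := by
      rw [← Ideal.Quotient.eq_zero_iff_mem, map_sub, map_sum, sub_eq_zero]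
      have h3 := congrFun hf i
      rw [Finset.sum_apply] at h3
      have h4 : (π p) i = Ideal.Quotient.mk mP (p i) := rfl
      rw [h4] at h3
      rw [← h3]
      refine Finset.sum_congr rfl fun j _ => ?_
      rw [← hπp j]
      rfl
    have h5 : t₀ * p i - ∑ j, f j * (t₀ * pp j i - c j * a j i) =
        t₀ * (p i - ∑ j, f j * pp j i) + ∑ j, f j * c j * a j i := by
      rw [mul_sub, Finset.mul_sum]
      have : ∑ j, f j * (t₀ * pp j i - c j * a j i) = ∑ j, t₀ * (f j * pp j i) - ∑ j, f j * c j * a j i := by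
        rw [← Finset.sum_sub_distrib]
        refine Finset.sum_congr rfl fun j _ => ?_
        ring
      rw [this]
      ring
    rw [h5]
    exact Ideal.add_mem _ (Ideal.mul_mem_left _ _ h2)
      (Ideal.sum_mem _ fun j _ => Ideal.mul_mem_left _ _ (ha j i))

end Groth.Agent.Flat2A.Relations
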