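import Groth.Agent.Flat2A.ModInjMain
import Groth.Agent.Flat2A.ModInjFibre
import Groth.Agent.Flat2A.ModInjTransfer
import Groth.Agent.FlatB.CompleteDescent
import Groth.Agent.FlatB.LocalBaseChange
import Groth.Agent.Flat2A.Relations
import Mathlib.RingTheory.EssentialFiniteness
import Mathlib.RingTheory.Polynomial.Basic
import Mathlib.RingTheory.Localization.AtPrime.Basic
import Mathlib.Algebra.Module.FinitePresentation

/-!
# Theorem A: injective modulo the maximal ideal into a flat module (Stacks 05U9, maps linear over the top ring)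
-/

set_option autoImplicit false
set_option linter.style.haveILetI false
set_option linter.unusedSectionVars false
universe u

open TensorProduct IsLocalRing

namespace Groth.Agent.Flat2A.ModInj

open ModInjCore ModInjMain ModInjFibre ModInjTransfer
open Groth.Agent.FlatB.LocalBaseChange (exists_localBaseChange)

theorem exists_presentation {R S : Type u} [CommRing R] [CommRing S] [IsLocalRing S] [Algebra R S]
    [Algebra.EssFiniteType R S] : ∃ (n : ℕ) (φ : MvPolynomial (Fin n) R →ₐ[R] S),
      ∀ s : S, ∃ p t, IsUnit (φ t) ∧ s * φ t = φ p := by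
  classical
  obtain ⟨σ, hσ⟩ := (Algebra.essFiniteType_iff R S).1 inferInstance
  let e := σ.equivFin
  let v : Fin σ.card → S := fun i ↦ (e.symm i : S)
  have hv : Set.range v = (σ : Set S) := by
    ext x
    constructor
    · rintro ⟨i, rfl⟩
      exact (e.symm i).2
    · intro hx
      exact ⟨e ⟨x, hx⟩, by simp [v]⟩
  refine ⟨σ.card, MvPolynomial.aeval v, fun s ↦ ?_⟩
  obtain ⟨t, ht, hu, hst⟩ := hσ s
  rw [← hv, Algebra.adjoin_range_eq_range_aeval] at ht hst
  obtain ⟨t', rfl⟩ := ht
  obtain ⟨p, hp⟩ := hst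
  exact ⟨p, t', hu, hp.symm⟩

/-- lifting polynomials coefficientwise -/
theorem exists_lift {R R' L : Type u} [CommRing R] [CommRing R'] [CommRing L] [Algebra R R']
    [Algebra L R'] {n : ℕ} (p : MvPolynomial (Fin n) R)
    (hp : ∀ m, ∃ b : L, algebraMap L R' b = algebraMap R R' (p.coeff m)) :
    ∃ q : MvPolynomial (Fin n) L, MvPolynomial.map (algebraMap L R') q = MvPolynomial.map (algebraMap R R') p := by
  have h : MvPolynomial.map (algebraMap R R') p ∈ Set.range (MvPolynomial.map (σ := Fin n) (algebraMap L R')) := by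
    rw [MvPolynomial.mem_range_map_iff_coeffs_subset]
    intro c hc
    rw [SetLike.mem_coe, MvPolynomial.mem_coeffs_iff] at hc
    obtain ⟨m, hm, rfl⟩ := hc
    obtain ⟨b, hb⟩ := hp m
    exact ⟨b, by rw [hb, MvPolynomial.coeff_map]⟩
  exact h

section aux

variable {R S N M : Type u} [CommRing R] [CommRing S] [Algebra R S]
  [AddCommGroup N] [Module R N] [Module S N] [IsScalarTower R S N]
  [AddCommGroup M] [Module R M] [Module S M] [IsScalarTower R S M]

theorem rTensor_smul (u : N →ₗ[S] M) (Q : Type u) [AddCommGroup Q] [Module R Q] (s : S) (y : N ⊗[R] Q) :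
    (u.restrictScalars R).rTensor Q (s • y) = s • (u.restrictScalars R).rTensor Q y := by
  induction y using TensorProduct.induction_on with
  | zero => simp
  | tmul x q => simp [smul_tmul']
  | add a b ha hb => rw [smul_add, map_add, ha, hb, map_add, smul_add]

/-- the submodule generated by the elements `φ(p) e_i ⊗ q`. -/
def W {n r : ℕ} (φ : MvPolynomial (Fin n) R →ₐ[R] S) (e : Fin r → N) (Q : Type u) [AddCommGroup Q]
    [Module R Q] : Submodule R (N ⊗[R] Q) :=
  Submodule.span R {z | ∃ (p : MvPolynomial (Fin n) R) (i : Fin r) (q : Q), z = (φ p • e i) ⊗ₜ[R] q}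

theorem W_smul {n r : ℕ} (φ : MvPolynomial (Fin n) R →ₐ[R] S) (e : Fin r → N) (Q : Type u)
    [AddCommGroup Q] [Module R Q] (p : MvPolynomial (Fin n) R) (z : N ⊗[R] Q) (hz : z ∈ W φ e Q) :
    φ p • z ∈ W φ e Q := by
  refine Submodule.span_induction (p := fun z _ => φ p • z ∈ W φ e Q) ?_ ?_ ?_ ?_ hz
  · rintro _ ⟨p', i, q, rfl⟩
    apply Submodule.subset_span
    refine ⟨p * p', i, q, ?_⟩
    rw [smul_tmul', smul_smul, map_mul]
  · rw [smul_zero]; exact zero_mem _
  · intro x y _ _ hx hy
    rw [smul_add]; exact add_mem hx hy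
  · intro a x _ hx
    rw [smul_comm]
    exact Submodule.smul_mem _ _ hx

theorem exists_smul_mem_W {n r : ℕ} (φ : MvPolynomial (Fin n) R →ₐ[R] S)
    (hφ : ∀ s : S, ∃ p t, IsUnit (φ t) ∧ s * φ t = φ p) (e : Fin r → N)
    (he : Submodule.span S (Set.range e) = ⊤) (Q : Type u)
    [AddCommGroup Q] [Module R Q] (y : N ⊗[R] Q) : ∃ t, IsUnit (φ t) ∧ φ t • y ∈ W φ e Q := by
  induction y using TensorProduct.induction_on with
  | zero => exact ⟨1, by simp, by simp⟩
  | tmul x q =>
    have hx : x ∈ Submodule.span S (Set.range e) := by rw [he]; trivial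
    refine Submodule.span_induction (p := fun x _ => ∃ t, IsUnit (φ t) ∧ φ t • (x ⊗ₜ[R] q) ∈ W φ e Q)
      ?_ ?_ ?_ ?_ hx
    · rintro _ ⟨i, rfl⟩
      refine ⟨1, by simp, Submodule.subset_span ⟨1, i, q, ?_⟩⟩
      rw [smul_tmul']
    · exact ⟨1, by simp, by simp⟩
    · rintro x y _ _ ⟨t, ht, h⟩ ⟨t', ht', h'⟩
      refine ⟨t' * t, by rw [map_mul]; exact ht'.mul ht, ?_⟩
      rw [add_tmul, smul_add]
      refine add_mem ?_ ?_
      · rw [map_mul, mul_smul]
        exact W_smul φ e Q t' _ h
      · rw [map_mul, mul_comm, mul_smul]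
        exact W_smul φ e Q t _ h'
    · rintro s x _ ⟨t, ht, h⟩
      obtain ⟨p, t', ht', hp⟩ := hφ s
      refine ⟨t' * t, by rw [map_mul]; exact ht'.mul ht, ?_⟩
      have : φ (t' * t) • ((s • x) ⊗ₜ[R] q) = φ p • (φ t • (x ⊗ₜ[R] q)) := by
        rw [smul_tmul', smul_tmul', smul_tmul', smul_smul, smul_smul, ← hp, map_mul]
        congr 2
        ring
      rw [this]
      exact W_smul φ e Q p _ h
  | add x y hx hy =>
    obtain ⟨t, ht, h⟩ := hx
    obtain ⟨t', ht', h'⟩ := hy
    refine ⟨t' * t, by rw [map_mul]; exact ht'.mul ht, ?_⟩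
    rw [smul_add]
    refine add_mem ?_ ?_
    · rw [map_mul, mul_smul]
      exact W_smul φ e Q t' _ h
    · rw [map_mul, mul_comm, mul_smul]
      exact W_smul φ e Q t _ h'

end aux

theorem rTensor_injective {R S N M : Type u} [CommRing R] [IsLocalRing R] [CommRing S] [IsLocalRing S]
    [Algebra R S] [IsLocalHom (algebraMap R S)] [Algebra.EssFiniteType R S] [AddCommGroup N] [Module R N]
    [Module S N] [IsScalarTower R S N] [Module.Finite S N] [AddCommGroup M] [Module R M] [Module S M]
    [IsScalarTower R S M] [Module.Flat R M] (u : N →ₗ[S] M)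
    (hu : ∀ x : N, u x ∈ (maximalIdeal R • ⊤ : Submodule R M) → x ∈ (maximalIdeal R • ⊤ : Submodule R N))
    (Q : Type u) [AddCommGroup Q] [Module R Q] :
    Function.Injective ((u.restrictScalars R).rTensor Q) := by
  obtain ⟨n, φ, hφ⟩ := exists_presentation (R := R) (S := S)
  obtain ⟨r, e, he⟩ := Module.Finite.exists_fin (R := S) (M := N)
  obtain ⟨s, κ, t₀, ht₀, hrel, hK⟩ := Relations.exists_relations φ hφ e he
  -- coefficients
  let F : Set R := (⋃ j, ⋃ i, ((κ j i).coeffs : Set R)) ∪ (t₀.coeffs : Set R)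
  have hFfin : F.Finite :=
    (Set.finite_iUnion fun j => Set.finite_iUnion fun i => Finset.finite_toSet _).union
      (Finset.finite_toSet _)
  obtain ⟨L, R', _, _, _, _, _, _, _, _, _, _, _, hm, hres, hF⟩ :=
    FlatB.CompleteDescent.exists_complete_descent F hFfin
  obtain ⟨S', _, _, _, _, _, _, _, _, _, _, hflat⟩ := exists_localBaseChange (S := S) hm hres
  have hFκ : ∀ j i m, ∃ b : L, algebraMap L R' b = algebraMap R R' ((κ j i).coeff m) := by
    intro j i m
    by_cases h0 : (κ j i).coeff m = 0
    · exact ⟨0, by rw [h0, map_zero, map_zero]⟩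
    · refine hF _ (Or.inl (Set.mem_iUnion.2 ⟨j, Set.mem_iUnion.2 ⟨i, ?_⟩⟩))
      rw [SetLike.mem_coe, MvPolynomial.mem_coeffs_iff]
      exact ⟨m, MvPolynomial.mem_support_iff.2 h0, rfl⟩
  have hFt : ∀ m, ∃ b : L, algebraMap L R' b = algebraMap R R' (t₀.coeff m) := by
    intro m
    by_cases h0 : t₀.coeff m = 0
    · exact ⟨0, by rw [h0, map_zero, map_zero]⟩
    · refine hF _ (Or.inr ?_)
      rw [SetLike.mem_coe, MvPolynomial.mem_coeffs_iff]
      exact ⟨m, MvPolynomial.mem_support_iff.2 h0, rfl⟩
  choose κL hκL using fun j i => exists_lift (κ j i) (hFκ j i)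
  obtain ⟨tL, htL⟩ := exists_lift t₀ hFt
  -- the rings over `L`
  letI : Algebra L S' := ((algebraMap R' S').comp (algebraMap L R')).toAlgebra
  haveI : IsScalarTower L R' S' := IsScalarTower.of_algebraMap_eq fun x => rfl
  let ψL : MvPolynomial (Fin n) L →ₐ[L] S' :=
    MvPolynomial.aeval (fun i => algebraMap S S' (φ (MvPolynomial.X i)))
  let ψ' : MvPolynomial (Fin n) R' →ₐ[R'] S' :=
    MvPolynomial.aeval (fun i => algebraMap S S' (φ (MvPolynomial.X i)))
  let φ' : MvPolynomial (Fin n) R →+* S' := (algebraMap S S').comp φ.toRingHom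
  have hψL : ∀ p, ψL p = ψ' (MvPolynomial.map (algebraMap L R') p) := by
    intro p
    simp only [ψL, ψ', MvPolynomial.aeval_def, MvPolynomial.eval₂_map]
    rfl
  have hφ' : ∀ p, φ' p = ψ' (MvPolynomial.map (algebraMap R R') p) := by
    have : φ' = ψ'.toRingHom.comp (MvPolynomial.map (algebraMap R R')) := by
      apply MvPolynomial.ringHom_ext
      · intro a
        simp only [φ', ψ', RingHom.comp_apply, AlgHom.toRingHom_eq_coe, RingHom.coe_coe,
          MvPolynomial.map_C, MvPolynomial.aeval_C]
        rw [← MvPolynomial.algebraMap_eq, AlgHom.commutes, ← IsScalarTower.algebraMap_apply,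
          ← IsScalarTower.algebraMap_apply]
      · intro i
        simp only [φ', ψ', RingHom.comp_apply, AlgHom.toRingHom_eq_coe, RingHom.coe_coe,
          MvPolynomial.map_X, MvPolynomial.aeval_X]
    intro p
    rw [this]
    rfl
  let qL : Ideal (MvPolynomial (Fin n) L) := (maximalIdeal S').comap ψL.toRingHom
  haveI : qL.IsPrime := Ideal.comap_isPrime _ _
  have hqL : ∀ p, p ∉ qL ↔ IsUnit (ψL p) := by
    intro p
    change ¬ (ψL p ∈ maximalIdeal S') ↔ _
    rw [IsLocalRing.mem_maximalIdeal, mem_nonunits_iff, not_not]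
  let SL := Localization.AtPrime qL
  haveI : IsNoetherianRing SL := IsLocalization.isNoetherianRing qL.primeCompl SL inferInstance
  haveI : IsLocalHom (algebraMap L SL) := by
    refine ⟨fun a ha => ?_⟩
    rw [IsScalarTower.algebraMap_apply L (MvPolynomial (Fin n) L) SL,
      IsLocalization.AtPrime.isUnit_to_map_iff SL qL] at ha
    have h1 : IsUnit (ψL (algebraMap L (MvPolynomial (Fin n) L) a)) := (hqL _).1 ha
    rw [AlgHom.commutes, IsScalarTower.algebraMap_apply L R' S'] at h1
    exact (isUnit_map_iff (algebraMap L R') a).1 ((isUnit_map_iff (algebraMap R' S') _).1 h1)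
  let ψS : SL →+* S' := IsLocalization.lift (M := qL.primeCompl) (g := ψL.toRingHom)
    (fun y => (hqL _).1 y.2)
  letI : Algebra SL S' := ψS.toAlgebra
  have hψS : ∀ p, algebraMap SL S' (algebraMap (MvPolynomial (Fin n) L) SL p) = ψL p := by
    intro p
    exact IsLocalization.lift_eq _ p
  haveI : IsScalarTower L SL S' := IsScalarTower.of_algebraMap_eq fun x => by
    rw [IsScalarTower.algebraMap_apply L (MvPolynomial (Fin n) L) SL, hψS, AlgHom.commutes]
  haveI : SMulCommClass S SL S' := ⟨fun a b c => by simp only [Algebra.smul_def]; ring⟩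
  haveI : SMulCommClass S L S' := ⟨fun a b c => by simp only [Algebra.smul_def]; ring⟩
  haveI : SMulCommClass R L R' := ⟨fun a b c => by simp only [Algebra.smul_def]; ring⟩
  let KL : Submodule SL (Fin r → SL) :=
    Submodule.span SL (Set.range fun j => fun i => algebraMap (MvPolynomial (Fin n) L) SL (κL j i))
  let NL := (Fin r → SL) ⧸ KL
  -- the maps
  have hφ'u : ∀ (T : Type u) [AddCommGroup T] [Module S T] (p : MvPolynomial (Fin n) R) (x : T),
      φ' p • ((1 : S') ⊗ₜ[S] x) = 1 ⊗ₜ[S] (φ p • x) := by
    intro T _ _ p x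
    rw [smul_tmul', smul_eq_mul, mul_one, ← TensorProduct.smul_tmul, Algebra.smul_def, mul_one]
    rfl
  have hκS : ∀ j i, ψL (κL j i) = φ' (κ j i) := fun j i => by rw [hψL, hκL, ← hφ']
  let vN : NL →ₗ[SL] S' ⊗[S] N :=
    KL.liftQ (Fintype.linearCombination SL (fun i => (1 : S') ⊗ₜ[S] e i)) (by
      rw [Submodule.span_le]
      rintro _ ⟨j, rfl⟩
      rw [SetLike.mem_coe, LinearMap.mem_ker, Fintype.linearCombination_apply]
      have : ∀ i, (algebraMap (MvPolynomial (Fin n) L) SL (κL j i)) • ((1 : S') ⊗ₜ[S] e i) =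
          (1 : S') ⊗ₜ[S] (φ (κ j i) • e i) := by
        intro i
        rw [← hφ'u, ← hκS, ← hψS]
        exact (algebraMap_smul S' _ _).symm
      rw [Finset.sum_congr rfl fun i _ => this i, ← tmul_sum, hrel, tmul_zero])
  let eL : Fin r → NL := fun i => KL.mkQ (Pi.single i 1)
  have hvN : ∀ i, vN (eL i) = 1 ⊗ₜ[S] e i := by
    intro i
    change Fintype.linearCombination SL (fun i => (1 : S') ⊗ₜ[S] e i) (Pi.single i 1) = _
    rw [Fintype.linearCombination_apply_single, one_smul]
  let uS : S' ⊗[S] N →ₗ[S'] S' ⊗[S] M := u.baseChange S'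
  let v : NL →ₗ[L] S' ⊗[S] M := (uS.restrictScalars L) ∘ₗ (vN.restrictScalars L)
  have hveL : ∀ i, v (eL i) = 1 ⊗ₜ[S] u (e i) := by
    intro i
    change uS (vN (eL i)) = _
    rw [hvN]
    exact LinearMap.baseChange_tmul _ _ _
  have hvNp : ∀ (p : MvPolynomial (Fin n) L) (x : NL), vN (p • x) = ψL p • vN x := by
    intro p x
    rw [← hψS, ← algebraMap_smul SL p x, map_smul]
    exact (algebraMap_smul S' _ _).symm
  have hvp : ∀ (p : MvPolynomial (Fin n) L) (x : NL), v (p • x) = ψL p • v x := by
    intro p x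
    change uS (vN (p • x)) = _
    rw [hvNp, map_smul]
    rfl
  haveI : Module.Flat R' (S' ⊗[S] M) := hflat M
  have hbc : Function.Injective (bc (R := R') v (ResidueField R')) := by
    refine bc_residue_injective v ψL.toRingHom φ' hvp ?_ ?_ hres eL qL.primeCompl ?_ ?_ κ κL hκL ?_
      t₀ tL htL ?_ ?_
    · intro a
      rw [hφ', MvPolynomial.map_C, ← MvPolynomial.algebraMap_eq, AlgHom.commutes]
    · intro i
      rw [hφ', MvPolynomial.map_X]
      change _ = ψL (MvPolynomial.X i)
      rw [hψL, MvPolynomial.map_X]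
    · intro x
      obtain ⟨f, rfl⟩ := KL.mkQ_surjective x
      obtain ⟨b, hb⟩ := IsLocalization.exist_integer_multiples_of_finite qL.primeCompl f
      choose p hp using hb
      refine ⟨b, b.2, p, ?_⟩
      have h1 : f = ∑ i, f i • (Pi.single i (1 : SL) : Fin r → SL) := by
        ext k
        rw [Finset.sum_apply, Finset.sum_eq_single k]
        · simp
        · intro i _ hik
          simp [Pi.single_eq_of_ne (Ne.symm hik)]
        · simp
      conv_lhs => rw [h1]
      rw [map_sum, Finset.smul_sum]
      refine Finset.sum_congr rfl fun i _ => ?_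
      rw [map_smul, ← smul_assoc]
      have h2 : ((b : MvPolynomial (Fin n) L) • f i) = algebraMap _ SL (p i) := (hp i).symm
      rw [h2, algebraMap_smul]
    · intro τ hτ
      have hu : IsUnit (algebraMap (MvPolynomial (Fin n) L) SL τ) :=
        IsLocalization.map_units SL (⟨τ, hτ⟩ : qL.primeCompl)
      obtain ⟨w, hw⟩ := hu
      refine ⟨?_, ?_⟩
      · rw [injective_iff_map_eq_zero]
        intro x hx
        rw [LinearMap.lsmul_apply, ← algebraMap_smul SL, ← hw] at hx
        have := congrArg (fun y => ((w⁻¹ : SLˣ) : SL) • y) hx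
        simpa [smul_smul] using this
      · intro x
        refine ⟨((w⁻¹ : SLˣ) : SL) • x, ?_⟩
        rw [LinearMap.lsmul_apply, ← algebraMap_smul SL, ← hw, smul_smul, Units.mul_inv, one_smul]
    · intro j
      have h1 : ∑ i, κL j i • eL i =
          KL.mkQ (fun i => algebraMap (MvPolynomial (Fin n) L) SL (κL j i)) := by
        have h2 : (fun i => algebraMap (MvPolynomial (Fin n) L) SL (κL j i)) =
            ∑ i, (algebraMap (MvPolynomial (Fin n) L) SL (κL j i)) •
              (Pi.single i (1 : SL) : Fin r → SL) := by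
          ext k
          rw [Finset.sum_apply, Finset.sum_eq_single k]
          · simp
          · intro i _ hik
            simp [Pi.single_eq_of_ne (Ne.symm hik)]
          · simp
        rw [h2, map_sum]
        refine Finset.sum_congr rfl fun i _ => ?_
        rw [map_smul, algebraMap_smul]
      rw [h1, ← LinearMap.mem_ker, Submodule.ker_mkQ]
      exact Submodule.subset_span ⟨j, rfl⟩
    · rw [Ideal.mem_primeCompl_iff, hqL, hψL, htL, ← hφ']
      exact (ht₀.map (algebraMap S S'))
    · intro h hh
      have h1 : ∑ i, φ' (h i) • v (eL i) = (1 : S') ⊗ₜ[S] u (∑ i, φ (h i) • e i) := by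
        rw [map_sum, tmul_sum]
        refine Finset.sum_congr rfl fun i _ => ?_
        rw [hveL, hφ'u, map_smul]
      rw [h1] at hh
      have h2 := hu _ (mem_smul_top_of_tmul_eq_zero hm _ hh)
      obtain ⟨f, hf⟩ := hK h h2
      refine ⟨f, fun i => ?_⟩
      have h3 : (maximalIdeal R).map (MvPolynomial.C (σ := Fin n)) ≤
          RingHom.ker (MvPolynomial.map (σ := Fin n) (toRes R R')) := by
        rw [Ideal.map_le_iff_le_comap]
        intro a ha
        rw [Ideal.mem_comap, RingHom.mem_ker, MvPolynomial.map_C]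
        have : toRes R R' a = 0 := residue_algebraMap_eq_zero ha
        rw [this, map_zero]
      exact h3 (hf i)
  have hbcQ : Function.Injective (bc (R := R') v (R' ⊗[R] Q)) :=
    bc_injective (SL := SL) v hbc (R' ⊗[R] Q)
  -- the comparison for `W`
  have hW : ∀ w ∈ W φ e Q, ∃ y : (R' ⊗[R] Q) ⊗[L] NL,
      bc (R := R') (vN.restrictScalars L) (R' ⊗[R] Q) y = J R R' S S' N Q w := by
    intro w hw
    refine Submodule.span_induction (p := fun w _ => ∃ y : (R' ⊗[R] Q) ⊗[L] NL,
      bc (R := R') (vN.restrictScalars L) (R' ⊗[R] Q) y = J R R' S S' N Q w) ?_ ?_ ?_ ?_ hw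
    · rintro _ ⟨p, i, q, rfl⟩
      induction p using MvPolynomial.induction_on' with
      | monomial m a =>
        refine ⟨((1 : R') ⊗ₜ[R] (a • q)) ⊗ₜ[L] ((MvPolynomial.monomial m (1 : L)) • eL i), ?_⟩
        rw [bc_tmul, J_tmul, LinearMap.restrictScalars_apply, hvNp, hvN]
        have h1 : ψL (MvPolynomial.monomial m (1 : L)) = φ' (MvPolynomial.monomial m (1 : R)) := by
          rw [hψL, hφ', MvPolynomial.map_monomial, MvPolynomial.map_monomial,
            RingHom.map_one (algebraMap L R'), RingHom.map_one (algebraMap R R')]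
        have h2 : (MvPolynomial.monomial m a : MvPolynomial (Fin n) R) =
            a • MvPolynomial.monomial m (1 : R) := by
          rw [MvPolynomial.smul_monomial, smul_eq_mul, mul_one]
        have h3 : (1 : R') ⊗ₜ[R] (a • q) = algebraMap R R' a • ((1 : R') ⊗ₜ[R] q) := by
          rw [TensorProduct.tmul_smul, algebraMap_smul]
        have h4 : (1 : S') ⊗ₜ[S] (a • (φ (MvPolynomial.monomial m (1 : R)) • e i)) =
            algebraMap R R' a • ((1 : S') ⊗ₜ[S] (φ (MvPolynomial.monomial m (1 : R)) • e i)) := by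
          rw [algebraMap_smul, ← algebraMap_smul S a (φ (MvPolynomial.monomial m (1 : R)) • e i),
            TensorProduct.tmul_smul, algebraMap_smul]
        rw [h1, hφ'u, h2, map_smul, smul_assoc, h3, h4, TensorProduct.smul_tmul]
      | add p p' hp hp' =>
        obtain ⟨y, hy⟩ := hp
        obtain ⟨y', hy'⟩ := hp'
        refine ⟨y + y', ?_⟩
        rw [map_add, hy, hy', ← map_add, ← add_tmul, ← add_smul, ← map_add]
    · exact ⟨0, by simp⟩
    · rintro x y _ _ ⟨a, ha⟩ ⟨b, hb⟩
      exact ⟨a + b, by rw [map_add, map_add, ha, hb]⟩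
    · rintro a x _ ⟨y, hy⟩
      refine ⟨algebraMap R R' a • y, ?_⟩
      rw [map_smul, hy]
      exact (J_smul R R' S S' N Q a x).symm
  rw [injective_iff_map_eq_zero]
  intro y hy
  obtain ⟨t, ht, hty⟩ := exists_smul_mem_W φ hφ e he Q y
  obtain ⟨yL, hyL⟩ := hW _ hty
  have h1 : bc (R := R') v (R' ⊗[R] Q) yL = 0 := by
    have h2 : ∀ yL : (R' ⊗[R] Q) ⊗[L] NL, bc (R := R') v (R' ⊗[R] Q) yL =
        (uS.restrictScalars R').lTensor (R' ⊗[R] Q) (bc (R := R') (vN.restrictScalars L) (R' ⊗[R] Q) yL) := by
      intro yL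
      induction yL using TensorProduct.induction_on with
      | zero => simp
      | tmul a b => rfl
      | add a b ha hb => rw [map_add, map_add, map_add, ha, hb]
    have h3 : ∀ w : N ⊗[R] Q, (uS.restrictScalars R').lTensor (R' ⊗[R] Q) (J R R' S S' N Q w) =
        J R R' S S' M Q ((u.restrictScalars R).rTensor Q w) := by
      intro w
      induction w using TensorProduct.induction_on with
      | zero => simp
      | tmul a b =>
        rw [J_tmul, LinearMap.lTensor_tmul, LinearMap.rTensor_tmul, J_tmul]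
        rfl
      | add a b ha hb => rw [map_add, map_add, map_add, map_add, ha, hb]
    rw [h2, hyL, h3, rTensor_smul, hy, smul_zero, map_zero]
  have h2 : yL = 0 := hbcQ (h1.trans (map_zero _).symm)
  rw [h2, map_zero] at hyL
  have h3 : φ t • y = 0 := J_injective R R' S S' N Q (hyL.symm.trans (map_zero _).symm)
  obtain ⟨w, hw⟩ := ht
  have := congrArg (fun y => ((w⁻¹ : Sˣ) : S) • y) h3
  simpa [← hw, smul_smul] using this

/-- Universal injectivity in the `lTensor` form. -/
theorem lTensor_injective {R S N M : Type u} [CommRing R] [IsLocalRing R] [CommRing S] [IsLocalRing S]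
    [Algebra R S] [IsLocalHom (algebraMap R S)] [Algebra.EssFiniteType R S] [AddCommGroup N] [Module R N]
    [Module S N] [IsScalarTower R S N] [Module.Finite S N] [AddCommGroup M] [Module R M] [Module S M]
    [IsScalarTower R S M] [Module.Flat R M] (u : N →ₗ[S] M)
    (hu : ∀ x : N, u x ∈ (maximalIdeal R • ⊤ : Submodule R M) → x ∈ (maximalIdeal R • ⊤ : Submodule R N))
    (Q : Type u) [AddCommGroup Q] [Module R Q] :
    Function.Injective ((u.restrictScalars R).lTensor Q) :=
  (LinearMap.lTensor_inj_iff_rTensor_inj Q (u.restrictScalars R)).2 (rTensor_injective u hu Q)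

/-- Theorem A, flatness. -/
theorem flat {R S N M : Type u} [CommRing R] [IsLocalRing R] [CommRing S] [IsLocalRing S]
    [Algebra R S] [IsLocalHom (algebraMap R S)] [Algebra.EssFiniteType R S] [AddCommGroup N] [Module R N]
    [Module S N] [IsScalarTower R S N] [Module.Finite S N] [AddCommGroup M] [Module R M] [Module S M]
    [IsScalarTower R S M] [Module.Flat R M] (u : N →ₗ[S] M)
    (hu : ∀ x : N, u x ∈ (maximalIdeal R • ⊤ : Submodule R M) → x ∈ (maximalIdeal R • ⊤ : Submodule R N)) :
    Module.Flat R N := by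
  rw [Module.Flat.iff_rTensor_injective']
  intro I
  have h1 : Function.Injective ((u.restrictScalars R).lTensor I) := lTensor_injective u hu I
  have h2 : Function.Injective (I.subtype.rTensor M) :=
    Module.Flat.rTensor_preserves_injective_linearMap I.subtype Subtype.val_injective
  have h3 : (I.subtype.rTensor M) ∘ₗ ((u.restrictScalars R).lTensor I) =
      ((u.restrictScalars R).lTensor R) ∘ₗ (I.subtype.rTensor N) := by
    ext a b
    rfl
  have h4 : Function.Injective ((I.subtype.rTensor M) ∘ₗ ((u.restrictScalars R).lTensor I)) :=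
    h2.comp h1
  rw [h3, LinearMap.coe_comp] at h4
  exact h4.of_comp

/-- `hu` from the injectivity of `k ⊗ u`. -/
theorem comap_of_injective {R N M : Type u} [CommRing R] [IsLocalRing R] [AddCommGroup N] [Module R N]
    [AddCommGroup M] [Module R M] (u : N →ₗ[R] M)
    (h : Function.Injective (u.lTensor (ResidueField R))) (x : N)
    (hx : u x ∈ (maximalIdeal R • ⊤ : Submodule R M)) : x ∈ (maximalIdeal R • ⊤ : Submodule R N) := by
  have h1 : LinearMap.ker (TensorProduct.mk R (ResidueField R) M 1) =
      (maximalIdeal R) • (⊤ : Submodule R M) := LinearMap.ker_tensorProductMk _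
  have h2 : LinearMap.ker (TensorProduct.mk R (ResidueField R) N 1) =
      (maximalIdeal R) • (⊤ : Submodule R N) := LinearMap.ker_tensorProductMk _
  rw [← h1, LinearMap.mem_ker] at hx
  rw [← h2, LinearMap.mem_ker]
  apply h
  rw [map_zero]
  exact hx

/-- Theorem A, finite presentation. -/
theorem finitePresentation {R S N M : Type u} [CommRing R] [IsLocalRing R] [CommRing S] [IsLocalRing S]
    [Algebra R S] [IsLocalHom (algebraMap R S)] [Algebra.EssFiniteType R S] [AddCommGroup N] [Module R N]
    [Module S N] [IsScalarTower R S N] [Module.Finite S N] [AddCommGroup M] [Module R M] [Module S M]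
    [IsScalarTower R S M] [Module.Flat R M] (u : N →ₗ[S] M)
    (hu : ∀ x : N, u x ∈ (maximalIdeal R • ⊤ : Submodule R M) → x ∈ (maximalIdeal R • ⊤ : Submodule R N)) :
    Module.FinitePresentation S N := by
  obtain ⟨n, φ, hφ⟩ := exists_presentation (R := R) (S := S)
  obtain ⟨r, e, he⟩ := Module.Finite.exists_fin (R := S) (M := N)
  obtain ⟨s, κ, t₀, ht₀, hrel, hK⟩ := Relations.exists_relations φ hφ e he
  let K₀ : Submodule S (Fin r → S) := Submodule.span S (Set.range fun j => fun i => φ (κ j i))
  let π : (Fin r → S) →ₗ[S] N := Fintype.linearCombination S e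
  have hπ : Function.Surjective π := by
    rw [← LinearMap.range_eq_top, Fintype.range_linearCombination, he]
  have hK₀ : K₀ ≤ LinearMap.ker π := by
    rw [Submodule.span_le]
    rintro _ ⟨j, rfl⟩
    rw [SetLike.mem_coe, LinearMap.mem_ker, Fintype.linearCombination_apply, hrel]
  have hfg : K₀.FG := Submodule.fg_span (Set.finite_range _)
  let N₀ := (Fin r → S) ⧸ K₀
  let p : N₀ →ₗ[S] N := K₀.liftQ π hK₀
  have hp : ∀ x : N₀, p x ∈ (maximalIdeal R • ⊤ : Submodule R N) → x ∈ (maximalIdeal R • ⊤ : Submodule R N₀) := by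
    intro x hx
    obtain ⟨f, rfl⟩ := K₀.mkQ_surjective x
    change π f ∈ _ at hx
    -- common denominator
    have hcd : ∃ (t : MvPolynomial (Fin n) R) (g : Fin r → MvPolynomial (Fin n) R), IsUnit (φ t) ∧
        ∀ i, f i * φ t = φ (g i) := by
      choose g t ht hg using fun i => hφ (f i)
      refine ⟨∏ i, t i, fun i => g i * ∏ j ∈ Finset.univ.erase i, t j, ?_, fun i => ?_⟩
      · rw [map_prod]
        exact IsUnit.prod_univ_iff.2 ht
      · rw [map_mul, ← hg, ← Finset.mul_prod_erase _ _ (Finset.mem_univ i), map_mul, mul_assoc]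
    obtain ⟨t, g, ht, hg⟩ := hcd
    have h1 : ∑ i, φ (g i) • e i ∈ (maximalIdeal R • ⊤ : Submodule R N) := by
      have : ∑ i, φ (g i) • e i = φ t • π f := by
        rw [Fintype.linearCombination_apply, Finset.smul_sum]
        refine Finset.sum_congr rfl fun i _ => ?_
        rw [smul_smul, ← hg, mul_comm]
      rw [this]
      refine Submodule.smul_induction_on hx ?_ ?_
      · intro a ha y _
        rw [smul_comm]
        exact Submodule.smul_mem_smul ha trivial
      · intro x y hx hy
        rw [smul_add]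
        exact add_mem hx hy
    obtain ⟨f', hf'⟩ := hK g h1
    -- `φ t₀ • φ t • f ∈ K₀ + m`
    have h2 : K₀.mkQ (fun i => φ (t₀ * g i - ∑ j, f' j * κ j i)) ∈
        (maximalIdeal R • ⊤ : Submodule R N₀) := by
      have h3 : (fun i => φ (t₀ * g i - ∑ j, f' j * κ j i)) =
          ∑ i, Pi.single i (φ (t₀ * g i - ∑ j, f' j * κ j i)) := by
        ext k
        rw [Finset.sum_apply, Finset.sum_eq_single k]
        · simp
        · intro i _ hik
          simp [Pi.single_eq_of_ne (Ne.symm hik)]
        · simp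
      rw [h3, map_sum]
      refine sum_mem fun i _ => ?_
      have h4 := hf' i
      generalize t₀ * g i - ∑ j, f' j * κ j i = z at h4
      refine Submodule.span_induction (p := fun z _ => K₀.mkQ (Pi.single i (φ z)) ∈
        (maximalIdeal R • ⊤ : Submodule R N₀)) ?_ ?_ ?_ ?_ h4
      · rintro _ ⟨a, ha, rfl⟩
        have : K₀.mkQ (Pi.single i (φ (MvPolynomial.C a))) = a • K₀.mkQ (Pi.single i (1 : S)) := by
          rw [← MvPolynomial.algebraMap_eq, AlgHom.commutes, ← algebraMap_smul S a, ← map_smul]
          congr 1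
          ext k
          by_cases hk : k = i
          · subst hk; simp
          · simp [Pi.single_eq_of_ne hk]
        rw [this]
        exact Submodule.smul_mem_smul ha trivial
      · simp
      · intro x y _ _ hx hy
        rw [map_add, Pi.single_add, map_add]
        exact add_mem hx hy
      · intro c x _ hx
        have : K₀.mkQ (Pi.single i (φ (c • x))) = φ c • K₀.mkQ (Pi.single i (φ x)) := by
          rw [← map_smul, smul_eq_mul, map_mul]
          congr 1
          ext k
          by_cases hk : k = i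
          · subst hk; simp
          · simp [Pi.single_eq_of_ne hk]
        rw [this]
        refine Submodule.smul_induction_on hx ?_ ?_
        · intro a ha y _
          rw [smul_comm]
          exact Submodule.smul_mem_smul ha trivial
        · intro x y hx hy
          rw [smul_add]
          exact add_mem hx hy
    have h5 : K₀.mkQ (fun i => φ (t₀ * g i - ∑ j, f' j * κ j i)) = φ (t₀ * t) • K₀.mkQ f := by
      rw [← map_smul, ← sub_eq_zero, ← map_sub, ← LinearMap.mem_ker, Submodule.ker_mkQ]
      have : (fun i => φ (t₀ * g i - ∑ j, f' j * κ j i)) - φ (t₀ * t) • f =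
          - ∑ j, φ (f' j) • (fun i => φ (κ j i)) := by
        ext i
        rw [Pi.sub_apply, Pi.smul_apply, Pi.neg_apply, Finset.sum_apply, map_sub, map_mul, ← hg,
          map_sum, map_mul, smul_eq_mul]
        simp only [Pi.smul_apply, smul_eq_mul, map_mul]
        ring
      rw [this]
      exact neg_mem (sum_mem fun j _ => Submodule.smul_mem _ _ (Submodule.subset_span ⟨j, rfl⟩))
    rw [h5] at h2
    obtain ⟨w, hw⟩ : IsUnit (φ (t₀ * t)) := by rw [map_mul]; exact ht₀.mul ht
    have h6 : K₀.mkQ f = ((w⁻¹ : Sˣ) : S) • (φ (t₀ * t) • K₀.mkQ f) := by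
      rw [← hw, smul_smul, Units.inv_mul, one_smul]
    rw [h6]
    refine Submodule.smul_induction_on h2 ?_ ?_
    · intro a ha y _
      rw [smul_comm]
      exact Submodule.smul_mem_smul ha trivial
    · intro x y hx hy
      rw [smul_add]
      exact add_mem hx hy
  have hinj : Function.Injective (u ∘ₗ p) := by
    have h1 := rTensor_injective (R := R) (S := S) (u ∘ₗ p) (fun x hx => hp x (hu _ hx)) R
    intro x y hxy
    have h2 : x ⊗ₜ[R] (1 : R) = y ⊗ₜ[R] (1 : R) := by
      apply h1
      rw [LinearMap.rTensor_tmul, LinearMap.rTensor_tmul]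
      congr 1
    have := congrArg (TensorProduct.rid R N₀) h2
    simpa using this
  have hpinj : Function.Injective p := by
    rw [LinearMap.coe_comp] at hinj
    exact hinj.of_comp
  have hker : LinearMap.ker π = K₀ := by
    refine le_antisymm (fun x hx => ?_) hK₀
    have : K₀.mkQ x = 0 := by
      apply hpinj
      rw [map_zero]
      exact hx
    rwa [← LinearMap.mem_ker, Submodule.ker_mkQ] at this
  exact Module.finitePresentation_of_surjective π hπ (by rw [hker]; exact hfg)

/-- **Theorem A** (Stacks 05U9 for maps linear over the top ring). -/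
theorem main {R S N M : Type u} [CommRing R] [IsLocalRing R] [CommRing S] [IsLocalRing S] [Algebra R S]
    [IsLocalHom (algebraMap R S)] [Algebra.EssFiniteType R S] [AddCommGroup N] [Module R N] [Module S N]
    [IsScalarTower R S N] [Module.Finite S N] [AddCommGroup M] [Module R M] [Module S M]
    [IsScalarTower R S M] [Module.Flat R M] (u : N →ₗ[S] M)
    (h : Function.Injective ((u.restrictScalars R).lTensor (ResidueField R))) :
    Module.Flat R N ∧
      (∀ (Q : Type u) [AddCommGroup Q] [Module R Q], Function.Injective ((u.restrictScalars R).lTensor Q)) ∧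
      Module.FinitePresentation S N := by
  have hu := fun x hx => comap_of_injective (u.restrictScalars R) h x hx
  exact ⟨flat u hu, fun Q _ _ => lTensor_injective u hu Q, finitePresentation u hu⟩

end Groth.Agent.Flat2A.ModInj
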