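import Groth.Agent.Flat2A.EtMLTools
import Groth.Agent.Flat2A.ModInj
import Groth.Agent.Sga3A.SmoothDomain

/-!
# Passing between points of the closed fibre with a common generization

`A` local, `D` smooth over `A`, `p ≤ y`, `p ≤ q` primes over `m_A`: if `D_q` is Mittag-Leffler over `A`
then so is `D_y`.
-/

set_option autoImplicit false
universe u

namespace Groth.Agent.Flat2A.EtMLB4

open TensorProduct IsLocalRing

variable {A D : Type u} [CommRing A] [IsLocalRing A] [CommRing D] [Algebra A D]

theorem exists_residue_map (y : Ideal D) (hy : y.comap (algebraMap A D) = maximalIdeal A) :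
    ∃ g : (ResidueField A) ⊗[A] D →ₐ[A] D ⧸ y, ∀ d : D, g (1 ⊗ₜ[A] d) = Ideal.Quotient.mk y d := by
  let f1 : ResidueField A →ₐ[A] D ⧸ y :=
    Ideal.Quotient.liftₐ (maximalIdeal A) (Algebra.ofId A (D ⧸ y)) (by
      intro a ha
      rw [← hy] at ha
      exact Ideal.Quotient.eq_zero_iff_mem.mpr ha)
  refine ⟨Algebra.TensorProduct.lift f1 (Ideal.Quotient.mkₐ A y) (fun _ _ => Commute.all _ _), ?_⟩
  intro d
  rw [Algebra.TensorProduct.lift_tmul, map_one, one_mul]
  rfl

theorem exists_one_tmul (s : ResidueField A ⊗[A] D) : ∃ d : D, s = 1 ⊗ₜ[A] d := by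
  induction s with
  | zero => exact ⟨0, by simp⟩
  | tmul a b =>
    obtain ⟨a, rfl⟩ := IsLocalRing.residue_surjective a
    refine ⟨a • b, ?_⟩
    rw [← TensorProduct.smul_tmul, Algebra.smul_def, mul_one]
    rfl
  | add x y hx hy =>
    obtain ⟨a, rfl⟩ := hx
    obtain ⟨b, rfl⟩ := hy
    exact ⟨a + b, by rw [TensorProduct.tmul_add]⟩

theorem exists_mul_eq_zero [Algebra.Smooth A D] (p y : Ideal D) [p.IsPrime] [y.IsPrime] (hpy : p ≤ y)
    (hp : p.comap (algebraMap A D) = maximalIdeal A) (hy : y.comap (algebraMap A D) = maximalIdeal A)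
    (x : ResidueField A ⊗[A] D) (t : D) (ht : t ∉ p) (htx : (1 ⊗ₜ[A] t) * x = 0) :
    ∃ s : D, s ∉ y ∧ (1 ⊗ₜ[A] s) * x = 0 := by
  obtain ⟨g, hg⟩ := exists_residue_map y hy
  obtain ⟨g', hg'⟩ := exists_residue_map p hp
  have hprime : (RingHom.ker g).IsPrime := RingHom.ker_isPrime g
  rcases Sga3A.SmoothDomain.smooth_field_locally_domain (ResidueField A) (ResidueField A ⊗[A] D)
    (RingHom.ker g) (1 ⊗ₜ[A] t) x htx with ⟨s, hs, h⟩ | ⟨s, hs, h⟩
  · exfalso
    obtain ⟨s, rfl⟩ := exists_one_tmul s
    rw [RingHom.mem_ker, hg, Ideal.Quotient.eq_zero_iff_mem] at hs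
    have h1 := congrArg g' h
    rw [map_mul, hg', hg', map_zero, ← map_mul, Ideal.Quotient.eq_zero_iff_mem] at h1
    rcases ‹p.IsPrime›.mem_or_mem h1 with h2 | h2
    · exact hs (hpy h2)
    · exact ht h2
  · obtain ⟨s, rfl⟩ := exists_one_tmul s
    rw [RingHom.mem_ker, hg, Ideal.Quotient.eq_zero_iff_mem] at hs
    exact ⟨s, hs, h⟩

section univInj

variable (p y : Ideal D) [p.IsPrime] [y.IsPrime]

theorem primeCompl_le (hpy : p ≤ y) : y.primeCompl ≤ p.primeCompl := fun _ h h' => h (hpy h')

/-- Elementwise universal injectivity of `D_y → D_p`. -/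
theorem exists_smul_eq_zero [Algebra.Smooth A D] (hpy : p ≤ y)
    (hp : p.comap (algebraMap A D) = maximalIdeal A) (hy : y.comap (algebraMap A D) = maximalIdeal A)
    (Q : Type u) [AddCommGroup Q] [Module A Q] (x : D ⊗[A] Q) (t : D) (ht : t ∉ p) (htx : t • x = 0) :
    ∃ s : D, s ∉ y ∧ s • x = 0 := by
  let Ly := Localization.AtPrime y
  let Lp := Localization.AtPrime p
  let _ : Algebra Ly Lp := IsLocalization.localizationAlgebraOfSubmonoidLe Ly Lp y.primeCompl p.primeCompl
    (primeCompl_le p y hpy)
  have h1 : IsScalarTower D Ly Lp := IsLocalization.localization_isScalarTower_of_submonoid_le Ly Lp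
    y.primeCompl p.primeCompl (primeCompl_le p y hpy)
  have h2 : IsScalarTower A Ly Lp := IsScalarTower.of_algebraMap_eq (fun a => by
    rw [IsScalarTower.algebraMap_apply A D Lp, IsScalarTower.algebraMap_apply D Ly Lp,
      ← IsScalarTower.algebraMap_apply A D Ly])
  have hloc : IsLocalHom (algebraMap A Ly) := by
    have h0 : (maximalIdeal Ly).comap (algebraMap D Ly) = y :=
      Localization.AtPrime.under_maximalIdeal (I := y)
    have : (maximalIdeal Ly).comap (algebraMap A Ly) = maximalIdeal A := by
      rw [IsScalarTower.algebraMap_eq A D Ly, ← Ideal.comap_comap, h0, hy]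
    exact ((IsLocalRing.local_hom_TFAE (algebraMap A Ly)).out 0 4).mpr this
  have hess : Algebra.EssFiniteType A Ly := by
    have : Algebra.EssFiniteType D Ly := Algebra.EssFiniteType.of_isLocalization Ly y.primeCompl
    exact Algebra.EssFiniteType.comp A D Ly
  have hflat : Module.Flat A D := inferInstance
  have hflatp : Module.Flat D Lp := IsLocalization.flat Lp p.primeCompl
  have hflat' : Module.Flat A Lp := Module.Flat.trans A D Lp
  let u : Ly →ₗ[Ly] Lp := Algebra.linearMap Ly Lp
  have key : ∀ (Q : Type u) [AddCommGroup Q] [Module A Q] (x : D ⊗[A] Q),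
      (u.restrictScalars A).rTensor Q (AlgebraTensorModule.rTensor A Q (Algebra.linearMap D Ly) x) =
      AlgebraTensorModule.rTensor A Q (Algebra.linearMap D Lp) x := by
    intro Q _ _ x
    induction x with
    | zero => simp
    | tmul a b => simp [u, ← IsScalarTower.algebraMap_apply]
    | add x y hx hy => simp only [map_add, hx, hy]
  have hinj : Function.Injective ((u.restrictScalars A).lTensor (ResidueField A)) := by
    rw [LinearMap.lTensor_inj_iff_rTensor_inj, injective_iff_map_eq_zero]
    intro z hz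
    let g := AlgebraTensorModule.rTensor A (ResidueField A) (Algebra.linearMap D Ly)
    obtain ⟨⟨x, t⟩, hx⟩ := IsLocalizedModule.mk'_surjective y.primeCompl g z
    simp only [Function.uncurry_apply_pair] at hx
    have h3 : g x = (t : D) • z := by
      rw [← hx, ← Submonoid.smul_def, IsLocalizedModule.mk'_cancel']
    have h4 : AlgebraTensorModule.rTensor A (ResidueField A) (Algebra.linearMap D Lp) x = 0 := by
      rw [← key]
      change (u.restrictScalars A).rTensor (ResidueField A) (g x) = 0
      rw [h3]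
      have h5 : ∀ (d : D) (z : Ly ⊗[A] ResidueField A), (u.restrictScalars A).rTensor (ResidueField A) (d • z) =
          d • (u.restrictScalars A).rTensor (ResidueField A) z := by
        intro d z
        induction z with
        | zero => simp
        | tmul a b =>
          simp only [TensorProduct.smul_tmul', LinearMap.rTensor_tmul, LinearMap.coe_restrictScalars]
          congr 1
          rw [← IsScalarTower.algebraMap_smul Ly d a, map_smul, IsScalarTower.algebraMap_smul]
        | add x y hx hy => rw [smul_add, map_add, hx, hy, map_add, smul_add]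
      rw [h5, hz, smul_zero]
    rw [IsLocalizedModule.eq_zero_iff p.primeCompl] at h4
    obtain ⟨⟨t', ht'⟩, h6⟩ := h4
    have h7 : ∀ (d : D) (x : D ⊗[A] ResidueField A), (1 ⊗ₜ[A] d) * TensorProduct.comm A D (ResidueField A) x =
        TensorProduct.comm A D (ResidueField A) (d • x) := by
      intro d x
      induction x with
      | zero => simp
      | tmul a b => simp [TensorProduct.smul_tmul']
      | add x y hx hy => rw [map_add, mul_add, hx, hy, smul_add, map_add]
    obtain ⟨s, hs, h8⟩ := exists_mul_eq_zero p y hpy hp hy (TensorProduct.comm A D (ResidueField A) x) t' ht'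
      (by
        rw [h7]
        have : t' • x = 0 := h6
        rw [this, map_zero])
    have h9 : s • x = 0 := by
      rw [h7] at h8
      exact (TensorProduct.comm A D (ResidueField A)).injective (by rw [h8, map_zero])
    rw [← hx, IsLocalizedModule.mk'_eq_zero', ]
    exact ⟨⟨s, hs⟩, h9⟩
  have h10 := (ModInj.main u hinj).2.1 Q
  rw [LinearMap.lTensor_inj_iff_rTensor_inj, injective_iff_map_eq_zero] at h10
  have h11 := h10 (AlgebraTensorModule.rTensor A Q (Algebra.linearMap D Ly) x) (by
    rw [key, IsLocalizedModule.eq_zero_iff p.primeCompl]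
    exact ⟨⟨t, ht⟩, htx⟩)
  rw [IsLocalizedModule.eq_zero_iff y.primeCompl] at h11
  obtain ⟨⟨s, hs⟩, h12⟩ := h11
  exact ⟨s, hs, h12⟩

end univInj

/-- The Mittag-Leffler property of the local rings in the closed fibre only depends on the component. -/
theorem isMittagLeffler_of_common_generization [Algebra.Smooth A D] (p y q : Ideal D) [p.IsPrime]
    [y.IsPrime] [q.IsPrime] (hpy : p ≤ y) (hpq : p ≤ q)
    (hp : p.comap (algebraMap A D) = maximalIdeal A) (hy : y.comap (algebraMap A D) = maximalIdeal A)
    (hq : q.comap (algebraMap A D) = maximalIdeal A)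
    (h : CAlg.IsMittagLeffler A (Localization.AtPrime q)) :
    CAlg.IsMittagLeffler A (Localization.AtPrime y) := by
  rw [EtMLTools.isMittagLeffler_iff (E := D) y.primeCompl]
  rw [EtMLTools.isMittagLeffler_iff (E := D) q.primeCompl] at h
  intro κ Q _ _ x hx
  obtain ⟨t, ht, htx⟩ := h κ Q x (fun i => by
    obtain ⟨t, ht, htx⟩ := hx i
    obtain ⟨s, hs, hsx⟩ := exists_smul_eq_zero p q hpq hp hq (Q i) _ t (fun h => ht (hpy h)) htx
    exact ⟨s, hs, hsx⟩)
  obtain ⟨s, hs, hsx⟩ := exists_smul_eq_zero p y hpy hp hy _ x t (fun h => ht (hpq h)) htx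
  exact ⟨s, hs, hsx⟩

end Groth.Agent.Flat2A.EtMLB4
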