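import Mathlib.RingTheory.Etale.Basic
import Mathlib.RingTheory.TensorProduct.MvPolynomial
import Mathlib.RingTheory.Smooth.Basic
import Mathlib.RingTheory.Flat.Stability
import Mathlib.RingTheory.IsTensorProduct

/-!
# Base change of an etale algebra over a polynomial ring along a map to a finite free algebra, with its section
-/

set_option autoImplicit false
universe u

namespace Groth.Agent.Flat2A.EtMLSecEx

open TensorProduct MvPolynomial

attribute [local instance] MvPolynomial.algebraMvPolynomial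

/-- The tautological section of the base change along a map `D → A'`. -/
theorem exists_section {A D A' : Type u} {n : ℕ} [CommRing A]
    [CommRing D] [Algebra A D] [Algebra (MvPolynomial (Fin n) A) D]
    [IsScalarTower A (MvPolynomial (Fin n) A) D] [CommRing A'] [Algebra A A'] (φ : D →ₐ[A] A') :
    ∃ σ : (MvPolynomial (Fin n) A' ⊗[MvPolynomial (Fin n) A] D) →ₐ[A'] A', ∀ d, σ (1 ⊗ₜ d) = φ d := by
  let e : (MvPolynomial (Fin n) A' ⊗[MvPolynomial (Fin n) A] D) ≃ₐ[A'] A' ⊗[A] D :=
    Algebra.IsPushout.cancelBaseChangeAlg A A' (MvPolynomial (Fin n) A) (MvPolynomial (Fin n) A') D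
  let τ : A' ⊗[A] D →ₐ[A'] A' := Algebra.TensorProduct.lift (AlgHom.id A' A') φ (fun _ _ => .all _ _)
  refine ⟨τ.comp e.toAlgHom, ?_⟩
  intro d
  have h1 : e (1 ⊗ₜ d) = 1 ⊗ₜ d :=
    Algebra.IsPushout.cancelBaseChange_tmul A A' (MvPolynomial (Fin n) A) (MvPolynomial (Fin n) A') D d
  change τ (e (1 ⊗ₜ d)) = φ d
  rw [h1]
  simp [τ]

theorem exists_baseChange_section {A D A' : Type u} {n : ℕ} [CommRing A]
    [CommRing D] [Algebra A D] [Algebra (MvPolynomial (Fin n) A) D]
    [IsScalarTower A (MvPolynomial (Fin n) A) D] [Algebra.Etale (MvPolynomial (Fin n) A) D]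
    [CommRing A'] [Algebra A A'] [Module.Flat A A'] (φ : D →ₐ[A] A') :
    ∃ (E : Type u) (_ : CommRing E) (_ : Algebra A E) (_ : Algebra D E) (_ : Algebra A' E)
      (_ : IsScalarTower A D E) (_ : IsScalarTower A A' E) (_ : Algebra (MvPolynomial (Fin n) A') E)
      (_ : IsScalarTower A' (MvPolynomial (Fin n) A') E) (σ : E →ₐ[A'] A'), Module.Flat D E ∧
      Algebra.Etale (MvPolynomial (Fin n) A') E ∧ ∀ d, σ (algebraMap D E d) = φ d := by
  obtain ⟨σ, hσ⟩ := exists_section (n := n) φ
  let _ : Algebra D (MvPolynomial (Fin n) A' ⊗[MvPolynomial (Fin n) A] D) :=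
    Algebra.TensorProduct.rightAlgebra
  have h1 : Module.Flat (MvPolynomial (Fin n) A) (MvPolynomial (Fin n) A') := by
    have h := (inferInstance : Algebra.IsPushout A (MvPolynomial (Fin n) A) A' (MvPolynomial (Fin n) A'))
    exact Module.Flat.isBaseChange _ _ _ _ h.out
  have h2 : Algebra.IsPushout (MvPolynomial (Fin n) A) D (MvPolynomial (Fin n) A')
      (MvPolynomial (Fin n) A' ⊗[MvPolynomial (Fin n) A] D) := Algebra.IsPushout.symm TensorProduct.isPushout
  have h3 : Module.Flat D (MvPolynomial (Fin n) A' ⊗[MvPolynomial (Fin n) A] D) :=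
    Module.Flat.isBaseChange _ _ _ _ h2.out
  have h4 : IsScalarTower A D (MvPolynomial (Fin n) A' ⊗[MvPolynomial (Fin n) A] D) := by
    refine IsScalarTower.of_algebraMap_eq fun a => ?_
    have h5 : algebraMap D (MvPolynomial (Fin n) A' ⊗[MvPolynomial (Fin n) A] D) (algebraMap A D a) =
        (1 : MvPolynomial (Fin n) A') ⊗ₜ[MvPolynomial (Fin n) A] (algebraMap A D a) := rfl
    rw [h5, IsScalarTower.algebraMap_apply A (MvPolynomial (Fin n) A) D, Algebra.algebraMap_eq_smul_one (A := D),
      ← TensorProduct.smul_tmul, ← Algebra.algebraMap_eq_smul_one,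
      ← IsScalarTower.algebraMap_apply A (MvPolynomial (Fin n) A) (MvPolynomial (Fin n) A')]
    rfl
  have h6 : Algebra.Etale (MvPolynomial (Fin n) A') (MvPolynomial (Fin n) A' ⊗[MvPolynomial (Fin n) A] D) :=
    inferInstance
  exact ⟨MvPolynomial (Fin n) A' ⊗[MvPolynomial (Fin n) A] D, inferInstance, inferInstance, inferInstance,
    inferInstance, h4, inferInstance, inferInstance, inferInstance, σ, h3, h6, hσ⟩

end Groth.Agent.Flat2A.EtMLSecEx
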