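import Groth.Agent.FlatA.SeparablePoint
import Mathlib.RingTheory.Ideal.MinimalPrime.Noetherian
import Mathlib.RingTheory.Smooth.StandardSmooth
import Mathlib.RingTheory.LocalRing.ResidueField.Basic

/-!
# Separable points in a given component of the closed fibre of a smooth algebra
-/

set_option autoImplicit false
universe u

namespace Groth.Agent.Flat2A.EtPoint

open IsLocalRing

/-- In a finite type algebra over a local ring there are finitely many minimal primes over the
extension of the maximal ideal. -/
theorem finite_minimalPrimes (A D : Type u) [CommRing A] [IsLocalRing A] [CommRing D] [Algebra A D]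
    [Algebra.FiniteType A D] :
    ((maximalIdeal A).map (algebraMap A D)).minimalPrimes.Finite := by
  let I := (maximalIdeal A).map (algebraMap A D)
  let _ : Algebra (A ⧸ maximalIdeal A) (D ⧸ I) := (Ideal.quotientMap I (algebraMap A D)
    Ideal.le_comap_map).toAlgebra
  let _ := Ideal.Quotient.field (maximalIdeal A)
  have : IsScalarTower A (A ⧸ maximalIdeal A) (D ⧸ I) := IsScalarTower.of_algebraMap_eq (fun a => by
    rfl)
  have : Algebra.FiniteType A (D ⧸ I) := .of_surjective (IsScalarTower.toAlgHom A D (D ⧸ I))
    Ideal.Quotient.mk_surjective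
  have : Algebra.FiniteType (A ⧸ maximalIdeal A) (D ⧸ I) :=
    Algebra.FiniteType.of_restrictScalars_finiteType A _ _
  have : IsNoetherianRing (D ⧸ I) := Algebra.FiniteType.isNoetherianRing (A ⧸ maximalIdeal A) _
  rw [Ideal.minimalPrimes_eq_comap]
  exact (minimalPrimes.finite_of_isNoetherianRing (D ⧸ I)).image _

theorem exists_prime_formallyUnramified {A D : Type u} [CommRing A] [IsLocalRing A] [CommRing D]
    [Algebra A D] [Algebra.Smooth A D] (p : Ideal D) [p.IsPrime]
    (hp : p ∈ ((IsLocalRing.maximalIdeal A).map (algebraMap A D)).minimalPrimes) :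
    ∃ (q : Ideal D) (_ : q.IsPrime), p ≤ q ∧
      q.comap (algebraMap A D) = IsLocalRing.maximalIdeal A ∧
      Algebra.FormallyUnramified A q.ResidueField := by
  classical
  have hfin := finite_minimalPrimes A D
  have hcomap : ∀ (q : Ideal D), q.IsPrime → (maximalIdeal A).map (algebraMap A D) ≤ q →
      q.comap (algebraMap A D) = maximalIdeal A := by
    intro q _ hq
    exact ((maximalIdeal.isMaximal A).eq_of_le Ideal.IsPrime.ne_top'
      (Ideal.map_le_iff_le_comap.1 hq)).symm
  -- an element of all the other minimal primes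
  obtain ⟨g, hg, hgp⟩ : ∃ g : D, (∀ p' ∈ ((maximalIdeal A).map (algebraMap A D)).minimalPrimes,
      p' ≠ p → g ∈ p') ∧ g ∉ p := by
    by_contra hcon
    push Not at hcon
    have h1 : (hfin.toFinset.erase p).inf id ≤ p := by
      intro g hg
      refine hcon g (fun p' hp' hne => ?_)
      have h2 : (hfin.toFinset.erase p).inf id ≤ p' := Finset.inf_le (f := id)
        (Finset.mem_erase.2 ⟨hne, hfin.mem_toFinset.2 hp'⟩)
      exact h2 hg
    rw [Ideal.IsPrime.inf_le' inferInstance] at h1
    obtain ⟨p', hp', hle⟩ := h1
    rw [Finset.mem_erase, hfin.mem_toFinset] at hp'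
    exact hp'.1 (le_antisymm hle (hp.2 hp'.2.1 hle))
  let Dg := Localization.Away g
  have hdisj : Disjoint (Submonoid.powers g : Set D) (p : Set D) := by
    rw [Ideal.disjoint_powers_iff_notMem _ (Ideal.IsPrime.isRadical inferInstance)]
    exact hgp
  have hq₀ : (p.map (algebraMap D Dg)).IsPrime :=
    IsLocalization.isPrime_of_isPrime_disjoint (Submonoid.powers g) Dg p inferInstance hdisj
  have hq₀' : (p.map (algebraMap D Dg)).comap (algebraMap D Dg) = p :=
    IsLocalization.comap_map_of_isPrime_disjoint (Submonoid.powers g) Dg inferInstance hdisj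
  have hsm : Algebra.Smooth A Dg := by
    have : Algebra.Smooth D Dg := Algebra.Smooth.of_isLocalization_Away g
    exact Algebra.Smooth.comp A D Dg
  obtain ⟨q', hq', hq'A, hq'u⟩ := FlatA.SeparablePoint.exists_prime_formallyUnramified A Dg
    (maximalIdeal A) (p.map (algebraMap D Dg)) (by
      rw [IsScalarTower.algebraMap_eq A D Dg, ← Ideal.comap_comap, hq₀']
      exact hcomap p inferInstance hp.1.2)
  have hqA : (q'.comap (algebraMap D Dg)).comap (algebraMap A D) = maximalIdeal A := by
    rw [Ideal.comap_comap, ← IsScalarTower.algebraMap_eq]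
    exact hq'A
  refine ⟨q'.comap (algebraMap D Dg), inferInstance, ?_, hqA, ?_⟩
  · obtain ⟨p', hp', hle⟩ := Ideal.exists_minimalPrimes_le
      (I := (maximalIdeal A).map (algebraMap A D)) (J := q'.comap (algebraMap D Dg))
      (Ideal.map_le_iff_le_comap.2 hqA.ge)
    by_cases hpp : p' = p
    · rwa [← hpp]
    · exfalso
      have h1 : algebraMap D Dg g ∈ q' := hle (hg p' hp' hpp)
      exact hq'.ne_top (Ideal.eq_top_of_isUnit_mem _ h1
        (IsLocalization.Away.algebraMap_isUnit g))
  · exact FlatA.SeparablePoint.formallyUnramified_residueField_of_surjectiveOnStalks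
      (IsScalarTower.toAlgHom A D Dg)
      (RingHom.surjectiveOnStalks_of_isLocalization (Submonoid.powers g) Dg) _ q' rfl

end Groth.Agent.Flat2A.EtPoint
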