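import Groth.Agent.Flat2A.EtMLAt
import Groth.Agent.Flat2A.EtMLSecEx
import Groth.Agent.Flat2A.EtPoint
import Groth.Agent.Flat2A.EtMLB4
import Groth.Agent.FlatA.EtaleSliceGeom

/-!
# Local rings of etale algebras over polynomial rings over a henselian local ring are Mittag-Leffler
-/

set_option autoImplicit false
universe u

namespace Groth.Agent.Flat2A.EtML

open MvPolynomial IsLocalRing

theorem smooth_of_etale (A D : Type*) (n : ℕ) [CommRing A]
    [CommRing D] [Algebra A D] [Algebra (MvPolynomial (Fin n) A) D]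
    [IsScalarTower A (MvPolynomial (Fin n) A) D] [Algebra.Etale (MvPolynomial (Fin n) A) D] :
    Algebra.Smooth A D := by
  have : Algebra.Smooth A (MvPolynomial (Fin n) A) := ⟨inferInstance, inferInstance⟩
  exact Algebra.Smooth.comp A (MvPolynomial (Fin n) A) D

/-- Local rings of `D` at points with separable residue field are Mittag-Leffler. -/
theorem isMittagLeffler_of_formallyUnramified {A D : Type u} {n : ℕ} [CommRing A] [HenselianLocalRing A]
    [CommRing D] [Algebra A D] [Algebra (MvPolynomial (Fin n) A) D]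
    [IsScalarTower A (MvPolynomial (Fin n) A) D] [Algebra.Etale (MvPolynomial (Fin n) A) D]
    (q : Ideal D) [q.IsPrime] (hq : q.comap (algebraMap A D) = maximalIdeal A)
    [Algebra.FormallyUnramified A q.ResidueField] :
    CAlg.IsMittagLeffler A (Localization.AtPrime q) := by
  have hsm : Algebra.Smooth A D := smooth_of_etale A D n
  obtain ⟨C, _, _, _, _, hC, -, Q, hQ, hQq, -⟩ := FlatA.EtaleSliceGeom.exists_etale_slice_ring A D q
  have hQm : Q.LiesOver (maximalIdeal A) := by
    refine ⟨?_⟩
    rw [Ideal.under, IsScalarTower.algebraMap_eq A D C, ← Ideal.comap_comap, hQq, hq]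
  obtain ⟨A', _, _, _, _, _, hfin, hfree, hloc, hA'⟩ := EtMLTools.exists_local_factor (A := A) Q
  let φ : D →ₐ[A] A' := (IsScalarTower.toAlgHom A C A').comp (IsScalarTower.toAlgHom A D C)
  have hφ : (maximalIdeal A').comap φ = q := by
    have : (maximalIdeal A').comap φ = ((maximalIdeal A').comap (algebraMap C A')).comap (algebraMap D C) := rfl
    rw [this, hA', hQq]
  obtain ⟨E, _, _, _, _, _, _, _, _, σ, hflat, het, hσ⟩ := EtMLSecEx.exists_baseChange_section (n := n) φ
  refine EtMLAt.isMittagLeffler_descent (n := n) σ q ?_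
  rw [← hφ]
  ext d
  rw [Ideal.mem_comap, Ideal.mem_comap, Ideal.mem_comap, hσ]

theorem isMittagLeffler_atPrime {A D : Type u} {n : ℕ} [CommRing A] [HenselianLocalRing A]
    [CommRing D] [Algebra A D] [Algebra (MvPolynomial (Fin n) A) D]
    [IsScalarTower A (MvPolynomial (Fin n) A) D] [Algebra.Etale (MvPolynomial (Fin n) A) D]
    (y : Ideal D) [y.IsPrime] [y.LiesOver (maximalIdeal A)] :
    CAlg.IsMittagLeffler A (Localization.AtPrime y) := by
  have hsm : Algebra.Smooth A D := smooth_of_etale A D n
  have hy : y.comap (algebraMap A D) = maximalIdeal A := (y.over_def (maximalIdeal A)).symm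
  have hle : (maximalIdeal A).map (algebraMap A D) ≤ y := by
    rw [Ideal.map_le_iff_le_comap, hy]
  obtain ⟨p, hp, hpy⟩ := Ideal.exists_minimalPrimes_le hle
  have hpp : p.IsPrime := hp.1.1
  have hpm : p.comap (algebraMap A D) = maximalIdeal A := by
    have h1 : maximalIdeal A ≤ p.comap (algebraMap A D) := by
      rw [← Ideal.map_le_iff_le_comap]
      exact hp.1.2
    exact ((maximalIdeal.isMaximal A).eq_of_le (Ideal.comap_isPrime _ p).ne_top h1).symm
  obtain ⟨q, hq, hpq, hqm, hunr⟩ := EtPoint.exists_prime_formallyUnramified p hp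
  exact EtMLB4.isMittagLeffler_of_common_generization p y q hpy hpq hpm hy hqm
    (isMittagLeffler_of_formallyUnramified (n := n) q hqm)

end Groth.Agent.Flat2A.EtML
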