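import Groth.Agent.Flat2A.EtMLTools

/-!
# Descent of the Mittag-Leffler property of local rings along flat maps
-/

set_option autoImplicit false
universe u

namespace Groth.Agent.Flat2A.EtMLFlat

open TensorProduct IsLocalRing EtMLTools

section flat

theorem exists_smul_eq_zero_of_flat {D D' : Type*} [CommRing D] [CommRing D'] [Algebra D D']
    [Module.Flat D D'] (q : Ideal D) (y' : Ideal D') (h : q = y'.comap (algebraMap D D'))
    {M : Type*} [AddCommGroup M] [Module D M] (x : M) (t' : D') (ht' : t' ∉ y')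
    (hx : t' ⊗ₜ[D] x = 0) : ∃ t ∉ q, t • x = 0 := by
  by_contra hcon
  push Not at hcon
  apply ht'
  let I : Ideal D := LinearMap.ker (LinearMap.toSpanSingleton D M x)
  have hI : I ≤ q := by
    intro a ha
    by_contra haq
    exact hcon a haq ha
  let f : (D ⧸ I) →ₗ[D] M := I.liftQ (LinearMap.toSpanSingleton D M x) le_rfl
  have hf : Function.Injective f := by
    rw [← LinearMap.ker_eq_bot, Submodule.ker_liftQ_eq_bot _ _ _ le_rfl]
  have h1 : Function.Injective (f.lTensor D') := Module.Flat.lTensor_preserves_injective_linearMap f hf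
  have h2 : t' ⊗ₜ[D] (Ideal.Quotient.mk I (1 : D)) = (0 : D' ⊗[D] (D ⧸ I)) := by
    apply h1
    rw [map_zero, LinearMap.lTensor_tmul]
    have : f (Ideal.Quotient.mk I (1 : D)) = x := by
      change LinearMap.toSpanSingleton D M x 1 = x
      simp
    rw [this, hx]
  have h3 := congrArg (TensorProduct.tensorQuotEquivQuotSMul D' I) h2
  rw [map_zero] at h3
  have h4 : t' ∈ (I • ⊤ : Submodule D D') := by
    have h5 : (TensorProduct.tensorQuotEquivQuotSMul D' I) (t' ⊗ₜ[D] (Ideal.Quotient.mk I (1 : D))) =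
        Submodule.Quotient.mk t' := by
      rw [TensorProduct.tensorQuotEquivQuotSMul_tmul_mk, one_smul]
    rw [h5] at h3
    exact (Submodule.Quotient.mk_eq_zero _).mp h3
  have h6 : (I • ⊤ : Submodule D D') ≤ y'.restrictScalars D := by
    rw [Submodule.smul_le]
    intro r hr n _
    rw [Algebra.smul_def]
    refine y'.mul_mem_right _ ?_
    have := hI hr
    rw [h] at this
    exact this
  exact h6 h4

/-- The Mittag-Leffler property of local rings descends along flat maps. -/
theorem isMittagLeffler_of_flat {A D D' : Type u} [CommRing A] [CommRing D] [CommRing D']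
    [Algebra A D] [Algebra D D'] [Algebra A D'] [IsScalarTower A D D'] [Module.Flat D D']
    (q : Ideal D) [q.IsPrime] (y' : Ideal D') [y'.IsPrime] (h : q = y'.comap (algebraMap D D'))
    (hML : CAlg.IsMittagLeffler A (Localization.AtPrime y')) :
    CAlg.IsMittagLeffler A (Localization.AtPrime q) := by
  rw [isMittagLeffler_iff q.primeCompl]
  intro κ Q _ _ x hx
  rw [isMittagLeffler_iff y'.primeCompl] at hML
  let e : ∀ (W : Type u) [AddCommGroup W] [Module A W], D' ⊗[D] (D ⊗[A] W) ≃ₗ[D'] D' ⊗[A] W :=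
    fun W _ _ => AlgebraTensorModule.cancelBaseChange A D D' D' W
  have key : ∀ (i : κ) (x : D ⊗[A] (∀ i, Q i)), (LinearMap.proj i : (∀ i, Q i) →ₗ[A] Q i).lTensor D'
      (e _ (1 ⊗ₜ x)) = e _ (1 ⊗ₜ ((LinearMap.proj i : (∀ i, Q i) →ₗ[A] Q i).lTensor D x)) := by
    intro i x
    induction x with
    | zero => simp
    | tmul a b => simp [e]
    | add x y hx hy => simp only [TensorProduct.tmul_add, map_add, hx, hy]
  obtain ⟨t', ht', h1⟩ := hML κ Q (e _ (1 ⊗ₜ x)) (fun i => by
    obtain ⟨t, ht, htx⟩ := hx i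
    refine ⟨algebraMap D D' t, ?_, ?_⟩
    · intro h2
      apply ht
      rw [h]
      exact h2
    · rw [key, ← map_smul, algebraMap_smul, ← TensorProduct.tmul_smul, htx]
      simp)
  rw [← map_smul, LinearEquiv.map_eq_zero_iff, TensorProduct.smul_tmul', smul_eq_mul, mul_one] at h1
  obtain ⟨t, ht, h2⟩ := exists_smul_eq_zero_of_flat q y' h x t' ht' h1
  exact ⟨t, ht, h2⟩

end flat

end Groth.Agent.Flat2A.EtMLFlat
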