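import Mathlib.RingTheory.Filtration
import Mathlib.LinearAlgebra.TensorProduct.Finiteness
import Mathlib.RingTheory.Flat.Basic
import Mathlib.LinearAlgebra.TensorProduct.RightExactness
import Mathlib.LinearAlgebra.TensorProduct.Tower
import Mathlib.RingTheory.TensorProduct.Finite

/-!
# Separatedness of `E ⊗ Q` along a section, up to localization (noetherian core)
-/

set_option autoImplicit false

namespace Groth.Agent.Flat2A.EtSep

open TensorProduct

section

variable {A E : Type*} [CommRing A] [CommRing E] [Algebra A E]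

theorem lTensor_smul {Q Q' : Type*} [AddCommGroup Q] [Module A Q] [AddCommGroup Q'] [Module A Q']
    (f : Q →ₗ[A] Q') (s : E) (x : E ⊗[A] Q) : f.lTensor E (s • x) = s • f.lTensor E x := by
  induction x with
  | zero => simp
  | tmul a b => simp [TensorProduct.smul_tmul']
  | add x y hx hy => rw [smul_add, map_add, hx, hy, map_add, smul_add]

theorem rTensor_mkQ_eq_zero_iff (I : Ideal E) (Q : Type*) [AddCommGroup Q] [Module A Q] (x : E ⊗[A] Q) :
    ((Ideal.Quotient.mkₐ A I).toLinearMap.rTensor Q) x = 0 ↔ x ∈ (I • ⊤ : Submodule E (E ⊗[A] Q)) := by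
  constructor
  · intro h
    have hex : Function.Exact (I.restrictScalars A).subtype (Ideal.Quotient.mkₐ A I).toLinearMap := by
      intro y
      constructor
      · intro hy
        exact ⟨⟨y, Ideal.Quotient.eq_zero_iff_mem.mp hy⟩, rfl⟩
      · rintro ⟨y, rfl⟩
        exact Ideal.Quotient.eq_zero_iff_mem.mpr y.2
    obtain ⟨z, rfl⟩ := (rTensor_exact Q hex Ideal.Quotient.mk_surjective x).mp h
    induction z with
    | zero => simp
    | tmul a b =>
      have : ((I.restrictScalars A).subtype.rTensor Q) (a ⊗ₜ b) = (a : E) • ((1 : E) ⊗ₜ[A] b) := by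
        simp [TensorProduct.smul_tmul']
      rw [this]
      exact Submodule.smul_mem_smul a.2 trivial
    | add x y hx hy =>
      rw [map_add]
      have hz : ∀ z : (I.restrictScalars A) ⊗[A] Q, ((Ideal.Quotient.mkₐ A I).toLinearMap.rTensor Q)
          (((I.restrictScalars A).subtype.rTensor Q) z) = 0 := fun z =>
        (rTensor_exact Q hex Ideal.Quotient.mk_surjective _).mpr ⟨z, rfl⟩
      exact Submodule.add_mem _ (hx (hz x)) (hy (hz y))
  · intro h
    induction h using Submodule.smul_induction_on' with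
    | smul r hr n _ =>
      clear * - hr
      induction n with
      | zero => simp
      | tmul a b =>
        rw [TensorProduct.smul_tmul', LinearMap.rTensor_tmul]
        have : (Ideal.Quotient.mkₐ A I).toLinearMap (r • a) = 0 :=
          Ideal.Quotient.eq_zero_iff_mem.mpr (I.mul_mem_right a hr)
        rw [this, TensorProduct.zero_tmul]
      | add x y hx hy => rw [smul_add, map_add, hx, hy, add_zero]
    | add x _ y _ hx hy => rw [map_add, hx, hy, add_zero]

/-- Krull's intersection theorem for `E ⊗ Q`, `Q` arbitrary. -/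
theorem exists_smul_eq_zero_of_noetherian [IsNoetherianRing E] (P : Ideal E)
    (hflat : ∀ k : ℕ, Module.Flat A (E ⧸ P ^ (k + 1))) (Q : Type*) [AddCommGroup Q] [Module A Q]
    (x : E ⊗[A] Q) (hx : ∀ k : ℕ, x ∈ (P ^ (k + 1) • ⊤ : Submodule E (E ⊗[A] Q))) :
    ∃ s : E, s - 1 ∈ P ∧ s • x = 0 := by
  obtain ⟨Q₁, hfin, hx1⟩ := TensorProduct.exists_finite_submodule_right_of_setFinite {x} (Set.finite_singleton x)
  obtain ⟨x₁, hx₁⟩ := hx1 (Set.mem_singleton x)
  have h1 : ∀ k : ℕ, x₁ ∈ (P ^ (k + 1) • ⊤ : Submodule E (E ⊗[A] Q₁)) := by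
    intro k
    rw [← rTensor_mkQ_eq_zero_iff]
    have := hflat k
    have hinj : Function.Injective (Q₁.subtype.lTensor (E ⧸ P ^ (k + 1))) :=
      Module.Flat.lTensor_preserves_injective_linearMap _ Q₁.injective_subtype
    apply hinj
    rw [map_zero]
    have h2 := (rTensor_mkQ_eq_zero_iff (P ^ (k + 1)) Q x).mpr (hx k)
    rw [← hx₁] at h2
    rw [← h2, ← LinearMap.comp_apply, ← LinearMap.comp_apply, LinearMap.lTensor_comp_rTensor,
      LinearMap.rTensor_comp_lTensor]
  have h2 : x₁ ∈ (⨅ i : ℕ, P ^ i • ⊤ : Submodule E (E ⊗[A] Q₁)) := by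
    rw [Submodule.mem_iInf]
    intro i
    cases i with
    | zero => simp
    | succ k => exact h1 k
  obtain ⟨r, hr⟩ := (Ideal.mem_iInf_smul_pow_eq_bot_iff P x₁).mp h2
  refine ⟨1 - r, ?_, ?_⟩
  · have : (1 : E) - r - 1 = - r := by ring
    rw [this]
    exact P.neg_mem r.2
  · have h3 : ((1 : E) - r) • x₁ = 0 := by
      rw [← sub_eq_zero.mpr hr.symm]
      exact (sub_smul (1 : E) (r : E) x₁).trans (by rw [one_smul])
    rw [← hx₁, ← lTensor_smul, h3, map_zero]

end

section pushout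

variable {A₁ E₁ A E : Type*} [CommRing A₁] [CommRing E₁] [CommRing A] [CommRing E] [Algebra A₁ E₁]
  [Algebra A₁ A] [Algebra A₁ E] [Algebra E₁ E] [Algebra A E] [IsScalarTower A₁ E₁ E]
  [IsScalarTower A₁ A E] [Algebra.IsPushout A₁ E₁ A E]

theorem ker_eq_map_ker (σ₁ : E₁ →ₐ[A₁] A₁) (σ : E →ₐ[A] A)
    (hσ : ∀ e, σ (algebraMap E₁ E e) = algebraMap A₁ A (σ₁ e)) :
    RingHom.ker σ = (RingHom.ker σ₁).map (algebraMap E₁ E) := by
  apply le_antisymm
  · intro e he
    have key : ∀ e : E, e - algebraMap A E (σ e) ∈ (RingHom.ker σ₁).map (algebraMap E₁ E) := by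
      intro e
      have h : Algebra.IsPushout A₁ A E₁ E := Algebra.IsPushout.symm inferInstance
      obtain ⟨z, rfl⟩ := (Algebra.IsPushout.equiv A₁ A E₁ E).surjective e
      induction z with
      | zero => simp
      | tmul a b =>
        rw [Algebra.IsPushout.equiv_tmul, map_mul, AlgHom.commutes, hσ]
        have : algebraMap A E a * algebraMap E₁ E b - algebraMap A E (algebraMap A A a * algebraMap A₁ A (σ₁ b))
            = algebraMap A E a * algebraMap E₁ E (b - algebraMap A₁ E₁ (σ₁ b)) := by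
          rw [map_sub, mul_sub, map_mul, ← IsScalarTower.algebraMap_apply A₁ A E,
            ← IsScalarTower.algebraMap_apply A₁ E₁ E]
          rfl
        rw [this]
        refine Ideal.mul_mem_left _ _ (Ideal.mem_map_of_mem _ ?_)
        rw [RingHom.mem_ker, map_sub, AlgHom.commutes]
        simp
      | add x y hx hy =>
        rw [map_add, map_add, map_add, add_sub_add_comm]
        exact Ideal.add_mem _ hx hy
    have := key e
    rw [RingHom.mem_ker] at he
    rwa [he, map_zero, sub_zero] at this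
  · rw [Ideal.map_le_iff_le_comap]
    intro e he
    rw [Ideal.mem_comap, RingHom.mem_ker, hσ, (RingHom.mem_ker).mp he, map_zero]

theorem exists_smul_eq_zero_of_isPushout [IsNoetherianRing E₁] (σ₁ : E₁ →ₐ[A₁] A₁) (σ : E →ₐ[A] A)
    (hσ : ∀ e, σ (algebraMap E₁ E e) = algebraMap A₁ A (σ₁ e))
    (hflat : ∀ k : ℕ, Module.Flat A₁ (E₁ ⧸ (RingHom.ker σ₁) ^ (k + 1)))
    (Q : Type*) [AddCommGroup Q] [Module A Q] (x : E ⊗[A] Q)
    (hx : ∀ k : ℕ, x ∈ ((RingHom.ker σ) ^ (k + 1) • ⊤ : Submodule E (E ⊗[A] Q))) :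
    ∃ s : E, σ s = 1 ∧ s • x = 0 := by
  let : Module A₁ Q := Module.compHom Q (algebraMap A₁ A)
  have : IsScalarTower A₁ A Q := IsScalarTower.of_algebraMap_smul fun _ _ => rfl
  let β : E ⊗[A] Q ≃ₗ[E₁] E₁ ⊗[A₁] Q := Algebra.IsPushout.cancelBaseChange A₁ E₁ A E Q
  have hx1 : ∀ k : ℕ, β x ∈ ((RingHom.ker σ₁) ^ (k + 1) • ⊤ : Submodule E₁ (E₁ ⊗[A₁] Q)) := by
    intro k
    have h := hx k
    rw [ker_eq_map_ker σ₁ σ hσ, ← Ideal.map_pow] at h
    have h2 : x ∈ (((RingHom.ker σ₁) ^ (k + 1)).map (algebraMap E₁ E) • ⊤ : Submodule E (E ⊗[A] Q)).restrictScalars E₁ := h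
    rw [Ideal.smul_restrictScalars] at h2
    have h3 := Submodule.mem_map_of_mem (f := β.toLinearMap) h2
    rw [Submodule.map_smul''] at h3
    exact Submodule.smul_mono le_rfl le_top h3
  obtain ⟨s, hs, hsx⟩ := exists_smul_eq_zero_of_noetherian (RingHom.ker σ₁) hflat Q (β x) hx1
  refine ⟨algebraMap E₁ E s, ?_, ?_⟩
  · rw [hσ]
    have : σ₁ s = 1 := by
      rw [RingHom.mem_ker, map_sub, map_one, sub_eq_zero] at hs
      exact hs
    rw [this, map_one]
  · rw [← β.map_smul, LinearEquiv.map_eq_zero_iff] at hsx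
    rw [algebraMap_smul]
    exact hsx

end pushout

end Groth.Agent.Flat2A.EtSep
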