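import Groth.Agent.Flat2A.MLProj
import Groth.Agent.Flat2B.FlatBC
import Mathlib.RingTheory.Flat.FaithfullyFlat.Algebra
import Mathlib.Algebra.Module.Torsion.Basic

/-!
# Extensions and descent of Mittag-Leffler modules
-/

set_option autoImplicit false
universe u

namespace Groth.Agent.Flat2A.LocML

open TensorProduct Function

variable {R : Type u} [CommRing R]

/-- An extension of Mittag-Leffler modules (with universally injective first map) is
Mittag-Leffler. -/
theorem isMittagLeffler_of_extension {L M C : Type u} [AddCommGroup L] [Module R L]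
    [AddCommGroup M] [Module R M] [AddCommGroup C] [Module R C] (f : L →ₗ[R] M) (g : M →ₗ[R] C)
    (hf : ∀ (Q : Type u) [AddCommGroup Q] [Module R Q], Injective (f.lTensor Q))
    (hfg : Exact f g) (hg : Surjective g)
    (hL : CAlg.IsMittagLeffler R L) (hC : CAlg.IsMittagLeffler R C) :
    CAlg.IsMittagLeffler R M := by
  intro ι Q _ _
  rw [injective_iff_map_eq_zero]
  intro z hz
  have h1 : g.rTensor (∀ i, Q i) z = 0 := by
    apply hC ι Q
    rw [map_zero]
    ext i
    rw [MLProj.piRightHom_rTensor, hz]
    simp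
  obtain ⟨w, rfl⟩ := (rTensor_exact (∀ i, Q i) hfg hg z).1 h1
  have h2 : w = 0 := by
    apply hL ι Q
    rw [map_zero]
    ext i
    apply (LinearMap.lTensor_inj_iff_rTensor_inj (Q i) f).mp (hf (Q i))
    rw [← MLProj.piRightHom_rTensor, hz]
    simp
  rw [h2, map_zero]

/-- The cokernel of a universally injective map to a flat module is flat. -/
theorem flat_of_exact {L M C : Type u} [AddCommGroup L] [Module R L]
    [AddCommGroup M] [Module R M] [AddCommGroup C] [Module R C] (f : L →ₗ[R] M) (g : M →ₗ[R] C)
    (hf : ∀ (Q : Type u) [AddCommGroup Q] [Module R Q], Injective (f.lTensor Q))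
    (hfg : Exact f g) (hg : Surjective g) [Module.Flat R M] : Module.Flat R C := by
  rw [Module.Flat.iff_lTensor_injective]
  intro I _
  rw [injective_iff_map_eq_zero]
  intro x hx
  obtain ⟨y, rfl⟩ := LinearMap.rTensor_surjective I hg x
  have h1 : g.rTensor R (I.subtype.lTensor M y) = 0 := by
    rw [← LinearMap.comp_apply, LinearMap.rTensor_comp_lTensor, ← LinearMap.lTensor_comp_rTensor]
    exact hx
  obtain ⟨z, hz⟩ := (rTensor_exact R hfg hg _).1 h1
  have h2 : I.mkQ.lTensor L z = 0 := by
    apply (LinearMap.lTensor_inj_iff_rTensor_inj (R ⧸ I) f).mp (hf (R ⧸ I))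
    rw [map_zero, ← LinearMap.comp_apply, LinearMap.rTensor_comp_lTensor,
      ← LinearMap.lTensor_comp_rTensor, LinearMap.comp_apply, hz, ← LinearMap.comp_apply,
      ← LinearMap.lTensor_comp]
    have : I.mkQ ∘ₗ I.subtype = 0 := by
      ext x
      exact (Submodule.Quotient.mk_eq_zero I).2 x.2
    rw [this]
    simp
  have hex : Exact I.subtype I.mkQ := by
    rw [LinearMap.exact_iff, Submodule.ker_mkQ, Submodule.range_subtype]
  obtain ⟨w, rfl⟩ := (lTensor_exact L hex I.mkQ_surjective z).1 h2
  have h3 : y = f.rTensor I w := by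
    apply Module.Flat.lTensor_preserves_injective_linearMap (M := M) I.subtype
      I.subtype_injective
    rw [← hz, ← LinearMap.comp_apply, LinearMap.rTensor_comp_lTensor,
      ← LinearMap.lTensor_comp_rTensor]
    rfl
  rw [h3, ← LinearMap.comp_apply, ← LinearMap.rTensor_comp]
  have : g ∘ₗ f = 0 := hfg.linearMap_comp_eq_zero
  rw [this]
  simp

/-- For `B → X` faithfully flat, `N → X ⊗ N` is universally injective over `A`. -/
theorem mk_lTensor_injective {A B X N : Type u} [CommRing A] [CommRing B] [CommRing X] [Algebra A B]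
    [Algebra B X] [Algebra A X] [IsScalarTower A B X] [Module.FaithfullyFlat B X]
    [AddCommGroup N] [Module B N] [Module A N] [IsScalarTower A B N] (Q : Type u) [AddCommGroup Q]
    [Module A Q] : Injective ((((TensorProduct.mk B X N 1).restrictScalars A) :
      N →ₗ[A] X ⊗[B] N).lTensor Q) := by
  rw [LinearMap.lTensor_inj_iff_rTensor_inj]
  let e : (X ⊗[B] N) ⊗[A] Q ≃ₗ[X] X ⊗[B] (N ⊗[A] Q) :=
    TensorProduct.AlgebraTensorModule.assoc A B X X N Q
  have key : ∀ z : N ⊗[A] Q, e ((((TensorProduct.mk B X N 1).restrictScalars A) :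
      N →ₗ[A] X ⊗[B] N).rTensor Q z) = TensorProduct.mk B X (N ⊗[A] Q) 1 z := by
    intro z
    induction z with
    | zero => simp
    | tmul x y => simp [e]
    | add x y hx hy => rw [map_add, map_add, hx, hy, map_add]
  intro x y hxy
  apply Module.FaithfullyFlat.tensorProduct_mk_injective (A := B) (B := X) (N ⊗[A] Q)
  have := congrArg e hxy
  rwa [key, key] at this

/-- Descent of the Mittag-Leffler property along a faithfully flat map. -/
theorem isMittagLeffler_of_faithfullyFlat {A B X N : Type u} [CommRing A] [CommRing B] [CommRing X]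
    [Algebra A B] [Algebra B X] [Algebra A X] [IsScalarTower A B X] [Module.FaithfullyFlat B X]
    [AddCommGroup N] [Module B N] [Module A N] [IsScalarTower A B N]
    (h : CAlg.IsMittagLeffler A (X ⊗[B] N)) : CAlg.IsMittagLeffler A N :=
  MLProj.isMittagLeffler_of_lTensor_injective
    (((TensorProduct.mk B X N 1).restrictScalars A) : N →ₗ[A] X ⊗[B] N)
    (fun Q _ _ => mk_lTensor_injective Q) h

/-- Finite powers of Mittag-Leffler modules are Mittag-Leffler. -/
theorem isMittagLeffler_pi {M : Type u} [AddCommGroup M] [Module R M]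
    (h : CAlg.IsMittagLeffler R M) (n : ℕ) : CAlg.IsMittagLeffler R (Fin n → M) := by
  intro ι Q _ _
  rw [injective_iff_map_eq_zero]
  intro z hz
  have h1 : ∀ j, (LinearMap.proj j : (Fin n → M) →ₗ[R] M).rTensor (∀ i, Q i) z = 0 := by
    intro j
    apply h ι Q
    rw [map_zero]
    ext i
    rw [MLProj.piRightHom_rTensor, hz]
    simp
  have h2 : ∀ z : (Fin n → M) ⊗[R] (∀ i, Q i), z = ∑ j, (LinearMap.single R (fun _ : Fin n => M) j).rTensor
      (∀ i, Q i) ((LinearMap.proj j : (Fin n → M) →ₗ[R] M).rTensor (∀ i, Q i) z) := by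
    intro z
    induction z with
    | zero => simp
    | tmul x y =>
      simp only [LinearMap.rTensor_tmul, LinearMap.proj_apply, LinearMap.single_apply,
        ← TensorProduct.sum_tmul]
      rw [Finset.univ_sum_single]
    | add x y hx hy =>
      conv_lhs => rw [hx, hy]
      simp only [map_add, Finset.sum_add_distrib]
  rw [h2 z]
  exact Finset.sum_eq_zero (fun j _ => by rw [h1, map_zero])

end Groth.Agent.Flat2A.LocML
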