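import Groth.Prelude.Def_Found
import Mathlib.RingTheory.Flat.EquationalCriterion
import Mathlib.LinearAlgebra.TensorProduct.Vanishing
import Mathlib.LinearAlgebra.TensorProduct.Pi
import Mathlib.Algebra.Module.Projective
import Mathlib.LinearAlgebra.Pi
import Mathlib.LinearAlgebra.DirectSum.Finsupp
import Mathlib.Algebra.DirectSum.Module

/-!
# Flat Mittag-Leffler countably generated modules are projective (Stacks 058Y/059Z)
-/

set_option autoImplicit false
universe u v

namespace Groth.Agent.Flat2A.MLProj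

open TensorProduct LinearMap Function

variable {R : Type u} [CommRing R] {M : Type u} [AddCommGroup M] [Module R M]

/-- For a flat Mittag-Leffler module, a map from a finite free module has a factorization
through a finite free module which is dominated by every other one. -/
theorem exists_min_factorization [Module.Flat R M] (hML : CAlg.IsMittagLeffler R M)
    {n : ℕ} (f : (Fin n → R) →ₗ[R] M) :
    ∃ (m : ℕ) (g : (Fin n → R) →ₗ[R] (Fin m → R)) (f' : (Fin m → R) →ₗ[R] M),
      f' ∘ₗ g = f ∧ ∀ (k : ℕ) (h : (Fin n → R) →ₗ[R] (Fin k → R)) (f'' : (Fin k → R) →ₗ[R] M),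
        f'' ∘ₗ h = f → ∃ s : (Fin k → R) →ₗ[R] (Fin m → R), s ∘ₗ h = g := by
  classical
  let e : Fin n → (Fin n → R) := fun i => Pi.single i 1
  let z : ∀ L : Submodule R (Fin n → R), M ⊗[R] ((Fin n → R) ⧸ L) :=
    fun L => ∑ i, f (e i) ⊗ₜ[R] (L.mkQ (e i))
  let I : Type u := {L : Submodule R (Fin n → R) // z L = 0}
  let Q : I → Type u := fun L => (Fin n → R) ⧸ L.1
  let q : Fin n → (∀ L : I, Q L) := fun i L => L.1.mkQ (e i)
  have h0 : ∑ i, f (e i) ⊗ₜ[R] (q i) = (0 : M ⊗[R] (∀ L : I, Q L)) := by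
    apply hML I Q
    rw [map_sum, map_zero]
    ext L
    simp only [TensorProduct.piRightHom_tmul, Finset.sum_apply, Pi.zero_apply]
    exact L.2
  have h1 : ∑ i, (q i) ⊗ₜ[R] f (e i) = (0 : (∀ L : I, Q L) ⊗[R] M) := by
    have := congrArg (TensorProduct.comm R M (∀ L : I, Q L)) h0
    simpa using this
  obtain ⟨m, a, y, hy, ha⟩ :=
    TensorProduct.vanishesTrivially_of_sum_tmul_eq_zero_of_rTensor_injective R
      (Module.Flat.rTensor_preserves_injective_linearMap _ (Submodule.injective_subtype _)) h1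
  refine ⟨m, (Pi.basisFun R (Fin n)).constr R (fun i j => a i j),
    (Pi.basisFun R (Fin m)).constr R y, ?_, ?_⟩
  · apply (Pi.basisFun R (Fin n)).ext
    intro i
    rw [LinearMap.comp_apply, Module.Basis.constr_basis, Module.Basis.constr_apply_fintype]
    simp only [Pi.basisFun_equivFun, LinearEquiv.refl_apply, Pi.basisFun_apply]
    exact (hy i).symm
  · intro k h f'' hf
    let b : Fin n → Fin k → R := fun i => h (e i)
    let col : Fin k → (Fin n → R) := fun l i => b i l
    let L : Submodule R (Fin n → R) := Submodule.span R (Set.range col)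
    have hcol : ∀ l, ∑ i, b i l • L.mkQ (e i) = 0 := by
      intro l
      have : ∑ i, b i l • L.mkQ (e i) = L.mkQ (col l) := by
        conv_rhs => rw [← (Pi.basisFun R (Fin n)).sum_repr (col l)]
        simp only [map_sum, map_smul, Pi.basisFun_repr, Pi.basisFun_apply]
        rfl
      rw [this, Submodule.mkQ_apply, Submodule.Quotient.mk_eq_zero]
      exact Submodule.subset_span ⟨l, rfl⟩
    have hz : z L = 0 := by
      have hfe : ∀ i, f (e i) = ∑ l, b i l • f'' (Pi.single l 1) := by
        intro i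
        have : f (e i) = f'' (h (e i)) := by rw [← hf]; rfl
        rw [this]
        conv_lhs => rw [← (Pi.basisFun R (Fin k)).sum_repr (h (e i))]
        simp only [map_sum, map_smul, Pi.basisFun_repr, Pi.basisFun_apply]
        rfl
      change ∑ i, f (e i) ⊗ₜ[R] (L.mkQ (e i)) = 0
      simp_rw [hfe, TensorProduct.sum_tmul, TensorProduct.smul_tmul]
      rw [Finset.sum_comm]
      simp_rw [← TensorProduct.tmul_sum, hcol, TensorProduct.tmul_zero]
      simp
    have hmem : ∀ j, (fun i => a i j) ∈ L := by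
      intro j
      have h2 := congrFun (ha j) ⟨L, hz⟩
      simp only [Finset.sum_apply, Pi.smul_apply, Pi.zero_apply] at h2
      have h3 : ∑ i, a i j • L.mkQ (e i) = L.mkQ (fun i => a i j) := by
        conv_rhs => rw [← (Pi.basisFun R (Fin n)).sum_repr (fun i => a i j)]
        simp only [map_sum, map_smul, Pi.basisFun_repr, Pi.basisFun_apply]
        rfl
      rw [← Submodule.Quotient.mk_eq_zero, ← Submodule.mkQ_apply, ← h3]
      exact h2
    have hs : ∀ j, ∃ c : Fin k → R, ∑ l, c l • col l = fun i => a i j := by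
      intro j
      exact (Submodule.mem_span_range_iff_exists_fun R).mp (hmem j)
    choose c hc using hs
    refine ⟨(Pi.basisFun R (Fin k)).constr R (fun l j => c j l), ?_⟩
    apply (Pi.basisFun R (Fin n)).ext
    intro i
    rw [LinearMap.comp_apply, Module.Basis.constr_basis, Module.Basis.constr_apply_fintype]
    ext j
    have := congrFun (hc j) i
    simp only [Finset.sum_apply, Pi.smul_apply, smul_eq_mul] at this
    simp only [Pi.basisFun_equivFun, LinearEquiv.refl_apply, Pi.basisFun_apply, Finset.sum_apply,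
      Pi.smul_apply, smul_eq_mul]
    rw [← this]
    exact Finset.sum_congr rfl fun l _ => mul_comm _ _

/-- One step of the construction: a factorization dominated by all others and hitting a given
element. -/
theorem exists_step [Module.Flat R M] (hML : CAlg.IsMittagLeffler R M)
    (S : Σ n : ℕ, (Fin n → R) →ₗ[R] M) (x : M) :
    ∃ (T : Σ n : ℕ, (Fin n → R) →ₗ[R] M) (u : (Fin S.1 → R) →ₗ[R] (Fin T.1 → R)),
      T.2 ∘ₗ u = S.2 ∧ x ∈ LinearMap.range T.2 ∧
      ∀ (k : ℕ) (h : (Fin S.1 → R) →ₗ[R] (Fin k → R)) (f'' : (Fin k → R) →ₗ[R] M),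
        f'' ∘ₗ h = S.2 → ∃ s : (Fin k → R) →ₗ[R] (Fin T.1 → R), s ∘ₗ h = u := by
  obtain ⟨m, g, f', hf, hs⟩ := exists_min_factorization hML S.2
  let e : (R × (Fin m → R)) ≃ₗ[R] (Fin (m + 1) → R) := Fin.consLinearEquiv R (fun _ => R)
  refine ⟨⟨m + 1, (LinearMap.coprod (LinearMap.toSpanSingleton R M x) f') ∘ₗ e.symm.toLinearMap⟩,
    e.toLinearMap ∘ₗ LinearMap.inr R R (Fin m → R) ∘ₗ g, ?_, ?_, ?_⟩
  · ext i
    simp [← hf]
  · refine ⟨e (1, 0), ?_⟩
    simp
  · intro k h f'' hf''
    obtain ⟨s, hs⟩ := hs k h f'' hf''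
    exact ⟨e.toLinearMap ∘ₗ LinearMap.inr R R (Fin m → R) ∘ₗ s, by
      rw [LinearMap.comp_assoc, LinearMap.comp_assoc, hs]⟩

/-- A countably generated flat Mittag-Leffler module is projective. -/
theorem projective_of_flat_mittagLeffler_countablyGenerated [Module.Flat R M]
    (hML : CAlg.IsMittagLeffler R M) (hc : CAlg.IsCountablyGenerated R M) :
    Module.Projective R M := by
  classical
  obtain ⟨s, hs, hspan⟩ := hc
  obtain ⟨x, hx⟩ := (hs.insert (0 : M)).exists_eq_range ⟨0, Set.mem_insert _ _⟩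
  choose T u hTu hT hst using exists_step (R := R) (M := M) hML
  let S : ℕ → Σ n : ℕ, (Fin n → R) →ₗ[R] M := fun k =>
    Nat.rec ⟨0, 0⟩ (fun k S => T S (x k)) k
  let φ : ∀ k, (Fin (S k).1 → R) →ₗ[R] M := fun k => (S k).2
  let w : ∀ k, (Fin (S k).1 → R) →ₗ[R] (Fin (S (k + 1)).1 → R) := fun k => u (S k) (x k)
  have hw : ∀ k, φ (k + 1) ∘ₗ w k = φ k := fun k => hTu (S k) (x k)
  have hx' : ∀ k, x k ∈ LinearMap.range (φ (k + 1)) := fun k => hT (S k) (x k)
  have hdom : ∀ k, ∃ s : (Fin (S (k + 2)).1 → R) →ₗ[R] (Fin (S (k + 1)).1 → R),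
      s ∘ₗ (w (k + 1) ∘ₗ w k) = w k := by
    intro k
    exact hst (S k) (x k) _ (w (k + 1) ∘ₗ w k) (φ (k + 2)) (by
      rw [← LinearMap.comp_assoc, hw (k + 1), hw k])
  choose t ht using hdom
  -- the surjection from a free module
  let p : (M →₀ R) →ₗ[R] M := Finsupp.linearCombination R (id : M → M)
  have hp : Surjective p := Finsupp.linearCombination_id_surjective R M
  have hlift : ∀ k, ∃ τ : (Fin (S k).1 → R) →ₗ[R] (M →₀ R), p ∘ₗ τ = φ k := fun k =>
    Module.projective_lifting_property p (φ k) hp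
  choose τ hτ using hlift
  -- successive corrections
  have hstep : ∀ (k : ℕ) (ρ : {ρ : (Fin (S (k + 1)).1 → R) →ₗ[R] (M →₀ R) // p ∘ₗ ρ = φ (k + 1)}),
      ∃ ρ' : {ρ : (Fin (S (k + 2)).1 → R) →ₗ[R] (M →₀ R) // p ∘ₗ ρ = φ (k + 2)},
        ρ'.1 ∘ₗ w (k + 1) ∘ₗ w k = ρ.1 ∘ₗ w k := by
    intro k ρ
    refine ⟨⟨τ (k + 2) + (ρ.1 - τ (k + 2) ∘ₗ w (k + 1)) ∘ₗ t k, ?_⟩, ?_⟩
    · rw [LinearMap.comp_add, hτ, ← LinearMap.comp_assoc, LinearMap.comp_sub, ρ.2,
        ← LinearMap.comp_assoc, hτ, hw (k + 1), sub_self, LinearMap.zero_comp, add_zero]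
    · rw [LinearMap.add_comp, LinearMap.comp_assoc, ht, LinearMap.sub_comp]
      rw [LinearMap.comp_assoc]
      abel
  choose nxt hnxt using hstep
  let ρ : ∀ k, {ρ : (Fin (S (k + 1)).1 → R) →ₗ[R] (M →₀ R) // p ∘ₗ ρ = φ (k + 1)} := fun k =>
    Nat.rec ⟨τ 1, hτ 1⟩ (fun k ρ => nxt k ρ) k
  have hρ : ∀ k, (ρ (k + 1)).1 ∘ₗ w (k + 1) ∘ₗ w k = (ρ k).1 ∘ₗ w k := fun k => hnxt k (ρ k)
  let σ : ∀ k, (Fin (S k).1 → R) →ₗ[R] (M →₀ R) := fun k => (ρ k).1 ∘ₗ w k
  have hσp : ∀ k, p ∘ₗ σ k = φ k := fun k => by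
    change p ∘ₗ (ρ k).1 ∘ₗ w k = φ k
    rw [← LinearMap.comp_assoc, (ρ k).2, hw k]
  have hσw : ∀ k, σ (k + 1) ∘ₗ w k = σ k := fun k => by
    change ((ρ (k + 1)).1 ∘ₗ w (k + 1)) ∘ₗ w k = (ρ k).1 ∘ₗ w k
    rw [LinearMap.comp_assoc, hρ k]
  -- the kernel of `φ k` is the kernel of `w k`
  have hker : ∀ k (y : Fin (S k).1 → R), φ k y = 0 → w k y = 0 := by
    intro k y hy
    obtain ⟨m, a, b, hab, hay⟩ := Module.Flat.exists_factorization_of_apply_eq_zero_of_free hy
    let e : (Fin m →₀ R) ≃ₗ[R] (Fin m → R) := Finsupp.linearEquivFunOnFinite R R (Fin m)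
    obtain ⟨s, hs⟩ := hst (S k) (x k) m (e.toLinearMap ∘ₗ a) (b ∘ₗ e.symm.toLinearMap) (by
      change _ = φ k
      rw [hab]
      ext i
      simp)
    change (u (S k) (x k)) y = 0
    rw [← hs]
    simp [hay]
  -- the graph
  let G : ℕ → Submodule R (M × (M →₀ R)) := fun k => LinearMap.range ((φ k).prod (σ k))
  have hGmono : Monotone G := by
    apply monotone_nat_of_le_succ
    rintro k _ ⟨y, rfl⟩
    refine ⟨w k y, ?_⟩
    have h1 := LinearMap.congr_fun (hw k) y
    have h2 := LinearMap.congr_fun (hσw k) y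
    simp only [LinearMap.comp_apply] at h1 h2
    simp [LinearMap.prod_apply, h1, h2]
  let GG : Submodule R (M × (M →₀ R)) := ⨆ k, G k
  have hmemGG : ∀ z, z ∈ GG ↔ ∃ k, z ∈ G k := fun z =>
    Submodule.mem_iSup_of_directed _ hGmono.directed_le
  let π : GG →ₗ[R] M := (LinearMap.fst R M (M →₀ R)) ∘ₗ GG.subtype
  have hπinj : Injective π := by
    rw [injective_iff_map_eq_zero]
    rintro ⟨z, hz⟩ h0
    obtain ⟨k, y, rfl⟩ := (hmemGG z).mp hz
    have h1 : φ k y = 0 := h0
    have h2 := hker k y h1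
    apply Subtype.ext
    change (φ k y, σ k y) = 0
    have : σ k y = 0 := by
      change (ρ k).1 (w k y) = 0
      rw [h2, map_zero]
    rw [h1, this]
    rfl
  have hπsurj : Surjective π := by
    rw [← LinearMap.range_eq_top, eq_top_iff, ← hspan]
    refine (Submodule.span_le.mpr ?_)
    intro m hm
    have : m ∈ Set.range x := by
      rw [← hx]
      exact Set.mem_insert_of_mem _ hm
    obtain ⟨k, rfl⟩ := this
    obtain ⟨y, hy⟩ := hx' k
    refine ⟨⟨(φ (k + 1) y, σ (k + 1) y), (hmemGG _).mpr ⟨k + 1, y, rfl⟩⟩, ?_⟩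
    exact hy
  let E : GG ≃ₗ[R] M := LinearEquiv.ofBijective π ⟨hπinj, hπsurj⟩
  have hpG : ∀ z : GG, p z.1.2 = z.1.1 := by
    rintro ⟨z, hz⟩
    obtain ⟨k, y, rfl⟩ := (hmemGG z).mp hz
    exact LinearMap.congr_fun (hσp k) y
  refine Module.Projective.of_split
    ((LinearMap.snd R M (M →₀ R)) ∘ₗ GG.subtype ∘ₗ E.symm.toLinearMap) p ?_
  ext m
  obtain ⟨z, rfl⟩ := E.surjective m
  simp only [LinearMap.comp_apply, LinearEquiv.coe_coe, LinearEquiv.symm_apply_apply,
    LinearMap.id_apply]
  exact hpG z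

/-- The product comparison map is natural in the first variable. -/
theorem piRightHom_rTensor {M : Type*} {N : Type*} [AddCommGroup M] [Module R M] [AddCommGroup N]
    [Module R N] (f : M →ₗ[R] N)
    {ι : Type*} (Q : ι → Type*) [∀ i, AddCommGroup (Q i)] [∀ i, Module R (Q i)]
    (z : M ⊗[R] (∀ i, Q i)) (i : ι) :
    TensorProduct.piRightHom R R N Q (f.rTensor _ z) i
      = f.rTensor (Q i) (TensorProduct.piRightHom R R M Q z i) := by
  induction z with
  | zero => simp
  | tmul x y => simp
  | add x y hx hy => simp only [map_add, Pi.add_apply, hx, hy]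

/-- A module with a universally injective map to a Mittag-Leffler module is Mittag-Leffler. -/
theorem isMittagLeffler_of_rTensor_injective {M N : Type u} [AddCommGroup M] [Module R M]
    [AddCommGroup N] [Module R N] (f : M →ₗ[R] N)
    (hf : ∀ (Q : Type u) [AddCommGroup Q] [Module R Q], Injective (f.rTensor Q))
    (hN : CAlg.IsMittagLeffler R N) : CAlg.IsMittagLeffler R M := by
  intro ι Q _ _
  rw [injective_iff_map_eq_zero]
  intro z hz
  apply hf (∀ i, Q i)
  apply hN ι Q
  rw [map_zero, map_zero]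
  ext i
  rw [piRightHom_rTensor, hz]
  simp

/-- A module with a universally injective map (in the sense that `lTensor` is injective) to a
Mittag-Leffler module is Mittag-Leffler. -/
theorem isMittagLeffler_of_lTensor_injective {M N : Type u} [AddCommGroup M] [Module R M]
    [AddCommGroup N] [Module R N] (f : M →ₗ[R] N)
    (hf : ∀ (Q : Type u) [AddCommGroup Q] [Module R Q], Injective (f.lTensor Q))
    (hN : CAlg.IsMittagLeffler R N) : CAlg.IsMittagLeffler R M := by
  refine isMittagLeffler_of_rTensor_injective f (fun Q _ _ => ?_) hN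
  exact (LinearMap.lTensor_inj_iff_rTensor_inj Q f).mp (hf Q)

/-- A retract of a Mittag-Leffler module is Mittag-Leffler. -/
theorem isMittagLeffler_of_retract {M N : Type u} [AddCommGroup M] [Module R M]
    [AddCommGroup N] [Module R N] (f : M →ₗ[R] N) (g : N →ₗ[R] M) (hgf : g ∘ₗ f = LinearMap.id)
    (hN : CAlg.IsMittagLeffler R N) : CAlg.IsMittagLeffler R M := by
  refine isMittagLeffler_of_rTensor_injective f (fun Q _ _ => ?_) hN
  refine Function.HasLeftInverse.injective ⟨g.rTensor Q, fun z => ?_⟩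
  rw [← LinearMap.comp_apply, ← LinearMap.rTensor_comp, hgf, LinearMap.rTensor_id]
  rfl

/-- Free modules are Mittag-Leffler. -/
theorem isMittagLeffler_finsupp (α : Type u) : CAlg.IsMittagLeffler R (α →₀ R) := by
  intro ι Q _ _
  classical
  rw [injective_iff_map_eq_zero]
  intro z hz
  apply (TensorProduct.finsuppScalarLeft R (∀ i, Q i) α).injective
  rw [map_zero]
  ext a i
  have key : ∀ z : (α →₀ R) ⊗[R] (∀ i, Q i),
      TensorProduct.finsuppScalarLeft R (∀ i, Q i) α z a i =
        TensorProduct.finsuppScalarLeft R (Q i) α (TensorProduct.piRightHom R R (α →₀ R) Q z i) a := by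
    intro z
    induction z with
    | zero => simp
    | tmul x y => simp
    | add x y hx hy => simp only [map_add, Pi.add_apply, Finsupp.add_apply, hx, hy]
  rw [key, hz]
  simp

/-- Projective modules are Mittag-Leffler. -/
theorem isMittagLeffler_of_projective (M : Type u) [AddCommGroup M] [Module R M]
    [Module.Projective R M] : CAlg.IsMittagLeffler R M := by
  obtain ⟨s, hs⟩ := Module.projective_def'.mp (inferInstance : Module.Projective R M)
  exact isMittagLeffler_of_retract s _ hs (isMittagLeffler_finsupp M)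

/-- A countably generated flat module with a universally injective map to a projective (or
Mittag-Leffler) module is projective. -/
theorem projective_of_lTensor_injective {M N : Type u} [AddCommGroup M] [Module R M]
    [AddCommGroup N] [Module R N] [Module.Flat R M] (hc : CAlg.IsCountablyGenerated R M)
    (f : M →ₗ[R] N) (hf : ∀ (Q : Type u) [AddCommGroup Q] [Module R Q], Injective (f.lTensor Q))
    (hN : CAlg.IsMittagLeffler R N) : Module.Projective R M :=
  projective_of_flat_mittagLeffler_countablyGenerated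
    (isMittagLeffler_of_lTensor_injective f hf hN) hc

/-- An internal direct sum of countably generated submodules which is flat and Mittag-Leffler
is projective. -/
theorem projective_of_isInternal [Module.Flat R M] (hML : CAlg.IsMittagLeffler R M)
    {ι : Type u} [DecidableEq ι] (N : ι → Submodule R M) (hN : DirectSum.IsInternal N)
    (hc : ∀ i, CAlg.IsCountablyGenerated R (N i)) : Module.Projective R M := by
  have hret : ∀ i, ∃ g : M →ₗ[R] N i, g ∘ₗ (N i).subtype = LinearMap.id := by
    intro i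
    let e : (DirectSum ι fun i => N i) ≃ₗ[R] M := LinearEquiv.ofBijective
      (DirectSum.coeLinearMap N) hN
    refine ⟨(DirectSum.component R ι (fun i => N i) i) ∘ₗ e.symm.toLinearMap, ?_⟩
    ext x
    have : e.symm (x : M) = DirectSum.lof R ι (fun i => N i) i x := by
      rw [LinearEquiv.symm_apply_eq]
      exact (DirectSum.coeLinearMap_lof N i x).symm
    simp only [LinearMap.comp_apply, Submodule.subtype_apply, LinearEquiv.coe_coe, this,
      DirectSum.component.lof_self, LinearMap.id_apply]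
  have hp : ∀ i, Module.Projective R (N i) := by
    intro i
    obtain ⟨g, hg⟩ := hret i
    have : Module.Flat R (N i) := Module.Flat.of_retract (N i).subtype g hg
    exact projective_of_flat_mittagLeffler_countablyGenerated
      (isMittagLeffler_of_retract (N i).subtype g hg hML) (hc i)
  exact Module.Projective.of_equiv (LinearEquiv.ofBijective (DirectSum.coeLinearMap N) hN)

end Groth.Agent.Flat2A.MLProj
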