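import Groth.Prelude.Def_FlatCA
import Groth.Prelude.Def_Found
import Groth.Agent.Flat2A.EtSep
import Groth.Agent.Flat2A.MLProj
import Groth.Agent.Flat2A.LocML
import Groth.Agent.Hensel.LocalSplit
import Mathlib.RingTheory.LocalRing.Module

/-!
# Tools for the Mittag-Leffler property of local rings of etale algebras over polynomial rings

* `isMittagLeffler_iff` : elementwise criterion for localizations;
* `isMittagLeffler_of_finite_free` : restriction of scalars along a finite free extension;
* `exists_local_factor` : local factors of etale algebras over henselian local rings.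
-/

set_option autoImplicit false
universe u

namespace Groth.Agent.Flat2A.EtMLTools

open TensorProduct IsLocalRing

section loc

variable {A E L : Type u} [CommRing A] [CommRing E] [Algebra A E] (T : Submonoid E)
    [CommRing L] [Algebra E L] [Algebra A L] [IsScalarTower A E L] [IsLocalization T L]

theorem proj_lTensor_smul {κ : Type u} {Q : κ → Type u} [∀ i, AddCommGroup (Q i)]
    [∀ i, Module A (Q i)] (i : κ) (x : E ⊗[A] (∀ i, Q i)) :
    AlgebraTensorModule.rTensor A (Q i) (Algebra.linearMap E L)
      ((LinearMap.proj i : (∀ i, Q i) →ₗ[A] Q i).lTensor E x) =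
    TensorProduct.piRightHom A A L Q (AlgebraTensorModule.rTensor A (∀ i, Q i) (Algebra.linearMap E L) x) i := by
  induction x with
  | zero => simp
  | tmul a b => simp
  | add x y hx hy => simp only [map_add, hx, hy, Pi.add_apply]

theorem piRightHom_smul {κ : Type u} {Q : κ → Type u} [∀ i, AddCommGroup (Q i)]
    [∀ i, Module A (Q i)] (t : E) (z : L ⊗[A] (∀ i, Q i)) (i : κ) :
    TensorProduct.piRightHom A A L Q (t • z) i = t • TensorProduct.piRightHom A A L Q z i := by
  induction z with
  | zero => simp
  | tmul a b => simp [TensorProduct.smul_tmul']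
  | add x y hx hy => rw [smul_add, map_add, Pi.add_apply, hx, hy, map_add, Pi.add_apply, smul_add]

/-- Elementwise criterion for a localization to be Mittag-Leffler. -/
theorem isMittagLeffler_iff : CAlg.IsMittagLeffler A L ↔
    ∀ (κ : Type u) (Q : κ → Type u) [∀ i, AddCommGroup (Q i)] [∀ i, Module A (Q i)]
      (x : E ⊗[A] (∀ i, Q i)), (∀ i, ∃ t ∈ T, t • (LinearMap.proj i : (∀ i, Q i) →ₗ[A] Q i).lTensor E x = 0) →
      ∃ t ∈ T, t • x = 0 := by
  constructor
  · intro h κ Q _ _ x hx
    have h1 : AlgebraTensorModule.rTensor A (∀ i, Q i) (Algebra.linearMap E L) x = 0 := by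
      apply h κ Q
      rw [map_zero]
      funext i
      rw [← proj_lTensor_smul, Pi.zero_apply, IsLocalizedModule.eq_zero_iff T]
      obtain ⟨t, ht, h2⟩ := hx i
      exact ⟨⟨t, ht⟩, h2⟩
    obtain ⟨t, ht⟩ := (IsLocalizedModule.eq_zero_iff T _).mp h1
    exact ⟨t, t.2, ht⟩
  · intro h κ Q _ _
    rw [injective_iff_map_eq_zero]
    intro z hz
    let g := AlgebraTensorModule.rTensor A (∀ i, Q i) (Algebra.linearMap E L)
    obtain ⟨⟨x, t⟩, hx⟩ := IsLocalizedModule.mk'_surjective T g z
    simp only [Function.uncurry_apply_pair] at hx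
    have h3 : g x = (t : E) • z := by
      rw [← hx, ← Submonoid.smul_def, IsLocalizedModule.mk'_cancel']
    obtain ⟨s, hs, hsx⟩ := h κ Q x (fun i => by
      have h4 : AlgebraTensorModule.rTensor A (Q i) (Algebra.linearMap E L)
          ((LinearMap.proj i : (∀ i, Q i) →ₗ[A] Q i).lTensor E x) = 0 := by
        rw [proj_lTensor_smul]
        change TensorProduct.piRightHom A A L Q (g x) i = 0
        rw [h3, piRightHom_smul, hz]
        simp
      obtain ⟨s, hs⟩ := (IsLocalizedModule.eq_zero_iff T _).mp h4
      exact ⟨s, s.2, hs⟩)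
    rw [← hx, IsLocalizedModule.mk'_eq_zero']
    exact ⟨⟨s, hs⟩, hsx⟩

end loc

section free

variable {A A' : Type u} [CommRing A] [CommRing A'] [Algebra A A'] [Module.Finite A A'] [Module.Free A A']

theorem piRightHom_bijective {κ : Type u} (Q : κ → Type u) [∀ i, AddCommGroup (Q i)]
    [∀ i, Module A (Q i)] : Function.Bijective (TensorProduct.piRightHom A A' A' Q) := by
  classical
  constructor
  · have := MLProj.isMittagLeffler_of_projective (R := A) A' κ Q
    intro x y hxy
    apply this
    exact hxy
  · intro y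
    let b := Module.Free.chooseBasis A A'
    let ev : ∀ (j) (i : κ), A' ⊗[A] Q i →ₗ[A] Q i := fun j i =>
      (TensorProduct.lid A (Q i)).toLinearMap ∘ₗ ((b.coord j).rTensor (Q i))
    refine ⟨∑ j, b j ⊗ₜ[A] (fun i => ev j i (y i)), ?_⟩
    have key : ∀ (i : κ) (z : A' ⊗[A] Q i), ∑ j, b j ⊗ₜ[A] (ev j i z) = z := by
      intro i z
      induction z with
      | zero => simp
      | tmul a q =>
        have : ∀ j, b j ⊗ₜ[A] (ev j i (a ⊗ₜ[A] q)) = (b.repr a j • b j) ⊗ₜ[A] q := by
          intro j
          simp [ev, TensorProduct.smul_tmul]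
        simp_rw [this]
        rw [← TensorProduct.sum_tmul, b.sum_repr]
      | add x y hx hy =>
        simp_rw [map_add, TensorProduct.tmul_add, Finset.sum_add_distrib]
        rw [hx, hy]
    funext i
    rw [map_sum, Finset.sum_apply]
    simp only [TensorProduct.piRightHom_tmul]
    exact key i (y i)

theorem isMittagLeffler_of_finite_free {X : Type u} [AddCommGroup X] [Module A X] [Module A' X]
    [IsScalarTower A A' X] (h : CAlg.IsMittagLeffler A' X) : CAlg.IsMittagLeffler A X := by
  intro κ Q _ _
  rw [injective_iff_map_eq_zero]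
  intro z hz
  let e : X ⊗[A'] (A' ⊗[A] (∀ i, Q i)) ≃ₗ[A'] X ⊗[A] (∀ i, Q i) :=
    AlgebraTensorModule.cancelBaseChange A A' A' X (∀ i, Q i)
  let ei : ∀ i, X ⊗[A'] (A' ⊗[A] Q i) ≃ₗ[A'] X ⊗[A] Q i := fun i =>
    AlgebraTensorModule.cancelBaseChange A A' A' X (Q i)
  let ρ : A' ⊗[A] (∀ i, Q i) ≃ₗ[A'] ∀ i, A' ⊗[A] Q i :=
    LinearEquiv.ofBijective (TensorProduct.piRightHom A A' A' Q) (piRightHom_bijective Q)
  obtain ⟨w, rfl⟩ := e.surjective z
  have key : ∀ w, ∀ i, ei i (TensorProduct.piRightHom A' A' X (fun i => A' ⊗[A] Q i)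
      (LinearMap.lTensor X (ρ : A' ⊗[A] (∀ i, Q i) →ₗ[A'] ∀ i, A' ⊗[A] Q i) w) i) =
      TensorProduct.piRightHom A A X Q (e w) i := by
    intro w i
    induction w with
    | zero => simp
    | tmul x v =>
      induction v with
      | zero => simp
      | tmul a q => simp [e, ei, ρ]
      | add v v' hv hv' =>
        simp only [TensorProduct.tmul_add, map_add, Pi.add_apply] at hv hv' ⊢
        rw [hv, hv']
    | add x y hx hy => simp only [map_add, Pi.add_apply, hx, hy]
  have h1 : LinearMap.lTensor X (ρ : A' ⊗[A] (∀ i, Q i) →ₗ[A'] ∀ i, A' ⊗[A] Q i) w = 0 := by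
    apply h κ (fun i => A' ⊗[A] Q i)
    rw [map_zero]
    funext i
    apply (ei i).injective
    rw [key, hz]
    simp
  have h2 : w = 0 := by
    apply (LinearEquiv.lTensor X ρ).injective
    rw [map_zero]
    exact h1
  rw [h2, map_zero]

end free

section henselian

/-- Local factors of etale algebras over henselian local rings are finite and free. -/
theorem exists_local_factor {A C : Type u} [CommRing A] [HenselianLocalRing A] [CommRing C]
    [Algebra A C] [Algebra.Etale A C] (Q : Ideal C) [Q.IsPrime] [Q.LiesOver (maximalIdeal A)] :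
    ∃ (A' : Type u) (_ : CommRing A') (_ : IsLocalRing A') (_ : Algebra A A') (_ : Algebra C A')
      (_ : IsScalarTower A C A'), Module.Finite A A' ∧ Module.Free A A' ∧
      IsLocalHom (algebraMap A A') ∧ (maximalIdeal A').comap (algebraMap C A') = Q := by
  obtain ⟨e, he, heQ, hfin, huniq⟩ :=
    Hensel.LocalSplit.exists_isIdempotentElem_of_quasiFiniteAt (R := A) Q
  let A' := C ⧸ Ideal.span {1 - e}
  have hloc : IsLocalization.Away e A' := IsLocalization.Away.quotient_of_isIdempotentElem he
  have hflat1 : Module.Flat C A' := IsLocalization.flat A' (Submonoid.powers e)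
  have hflat : Module.Flat A A' := Module.Flat.trans A C A'
  have hmax : ∀ n : Ideal A', n.IsMaximal → n.comap (algebraMap C A') = Q := by
    intro n hn
    have h1 : n.LiesOver (maximalIdeal A) := Hensel.LocalSplit.comap_eq_maximalIdeal n
    refine huniq _ inferInstance ⟨?_⟩ ?_
    · rw [h1.over]
      rw [Ideal.under, Ideal.under, Ideal.comap_comap, ← IsScalarTower.algebraMap_eq]
    · intro h2
      apply hn.ne_top
      rw [Ideal.eq_top_iff_one]
      have h3 : algebraMap C A' e = 1 := by
        have : algebraMap C A' (1 - e) = 0 := Ideal.Quotient.eq_zero_iff_mem.mpr (Ideal.subset_span rfl)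
        rw [map_sub, map_one, sub_eq_zero] at this
        exact this.symm
      rw [← h3]
      exact h2
  have hnt : Nontrivial A' := by
    have : Ideal.span {1 - e} ≤ Q := by
      rw [Ideal.span_singleton_le_iff_mem]
      exact Hensel.LocalSplit.one_sub_mem_of_notMem he heQ
    exact Ideal.Quotient.nontrivial_iff.mpr (fun h => ‹Q.IsPrime›.ne_top (top_le_iff.mp (h ▸ this)))
  obtain ⟨n₀, hn₀⟩ := Ideal.exists_maximal A'
  have hlocal : IsLocalRing A' := by
    refine IsLocalRing.of_unique_max_ideal ⟨n₀, hn₀, ?_⟩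
    intro n hn
    have h1 := (hmax n hn).trans (hmax n₀ hn₀).symm
    exact Ideal.comap_injective_of_surjective _ Ideal.Quotient.mk_surjective h1
  have hfree : Module.Free A A' := Module.free_of_flat_of_isLocalRing
  have hlh : IsLocalHom (algebraMap A A') := by
    have h1 : (maximalIdeal A').LiesOver (maximalIdeal A) :=
      Hensel.LocalSplit.comap_eq_maximalIdeal (maximalIdeal A')
    exact ((IsLocalRing.local_hom_TFAE (algebraMap A A')).out 0 4).mpr h1.over.symm
  exact ⟨A', inferInstance, hlocal, inferInstance, inferInstance, inferInstance, hfin, hfree, hlh,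
    hmax _ inferInstance⟩

end henselian

end Groth.Agent.Flat2A.EtMLTools
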