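import Groth.Agent.Flat2A.EtSec
import Groth.Agent.Flat2A.EtMLTools
import Groth.Agent.Flat2A.EtMLFlat

/-!
# Local rings of etale algebras over polynomial rings: descent from a section
-/

set_option autoImplicit false
universe u

namespace Groth.Agent.Flat2A.EtMLAt

open IsLocalRing MvPolynomial

theorem isMittagLeffler_at_section {A E : Type u} {n : ℕ} [CommRing A] [IsLocalRing A]
    [CommRing E] [Algebra A E] [Algebra (MvPolynomial (Fin n) A) E]
    [IsScalarTower A (MvPolynomial (Fin n) A) E] [Algebra.Etale (MvPolynomial (Fin n) A) E]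
    (σ : E →ₐ[A] A) (y : Ideal E) [y.IsPrime] (hy : y = (maximalIdeal A).comap σ) :
    CAlg.IsMittagLeffler A (Localization.AtPrime y) := by
  refine EtSec.isMittagLeffler_of_section σ y.primeCompl ?_ ?_ ?_ ?_
  · intro s hs
    by_contra hu
    apply hs
    rw [hy]
    exact (mem_maximalIdeal _).mpr hu
  · intro s hs h
    rw [hy] at h
    have : σ s ∈ maximalIdeal A := h
    rw [hs] at this
    exact (Ideal.ne_top_iff_one _).mp (maximalIdeal.isMaximal A).ne_top this
  · intro k
    exact EtTaylor.free_quotient_pow (ι := Fin n) σ k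
  · intro Q _ _ x hx
    exact EtSec.exists_smul_eq_zero (ι := Fin n) σ Q x hx

theorem isMittagLeffler_descent {A A' D E : Type u} {n : ℕ} [CommRing A]
    [CommRing A'] [IsLocalRing A'] [Algebra A A'] [Module.Finite A A'] [Module.Free A A']
    [CommRing D] [Algebra A D] [CommRing E] [Algebra A E] [Algebra D E] [Algebra A' E]
    [IsScalarTower A D E] [IsScalarTower A A' E] [Module.Flat D E]
    [Algebra (MvPolynomial (Fin n) A') E]
    [IsScalarTower A' (MvPolynomial (Fin n) A') E] [Algebra.Etale (MvPolynomial (Fin n) A') E]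
    (σ : E →ₐ[A'] A') (q : Ideal D) [q.IsPrime]
    (hq : q = ((maximalIdeal A').comap σ).comap (algebraMap D E)) :
    CAlg.IsMittagLeffler A (Localization.AtPrime q) := by
  have hp : ((maximalIdeal A').comap σ).IsPrime := Ideal.comap_isPrime _ _
  have h1 := isMittagLeffler_at_section (n := n) σ ((maximalIdeal A').comap σ) rfl
  have h2 : CAlg.IsMittagLeffler A (Localization.AtPrime ((maximalIdeal A').comap σ)) :=
    EtMLTools.isMittagLeffler_of_finite_free (A' := A') h1
  exact EtMLFlat.isMittagLeffler_of_flat q _ hq h2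

end Groth.Agent.Flat2A.EtMLAt
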