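import Groth.Agent.Flat2A.EtMLB3
import Groth.Agent.Flat2A.EtMLB4
import Groth.Agent.Flat2A.EtPoint

/-!
# Local rings of étale algebras over polynomial rings over henselian local rings are Mittag-Leffler
-/

set_option autoImplicit false
universe u

namespace Groth.Agent.Flat2A.EtMLB

open TensorProduct IsLocalRing

theorem isMittagLeffler_atPrime (A : Type u) [CommRing A] [HenselianLocalRing A] (N : ℕ)
    (D₁ : Type u) [CommRing D₁] [Algebra A D₁] [Algebra (MvPolynomial (Fin N) A) D₁]
    [IsScalarTower A (MvPolynomial (Fin N) A) D₁] [Algebra.Etale (MvPolynomial (Fin N) A) D₁]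
    (z : Ideal D₁) [z.IsPrime] [z.LiesOver (maximalIdeal A)] :
    CAlg.IsMittagLeffler A (Localization.AtPrime z) := by
  have hz : z.comap (algebraMap A D₁) = maximalIdeal A :=
    (Ideal.LiesOver.over (P := z) (p := maximalIdeal A)).symm
  have hsm0 : Algebra.Smooth A (MvPolynomial (Fin N) A) := {}
  have hsm : Algebra.Smooth A D₁ := Algebra.Smooth.comp A (MvPolynomial (Fin N) A) D₁
  obtain ⟨p, hp, hpz⟩ := Ideal.exists_minimalPrimes_le (Ideal.map_le_iff_le_comap.mpr hz.ge)
  have : p.IsPrime := hp.1.1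
  have hpA : p.comap (algebraMap A D₁) = maximalIdeal A := by
    apply le_antisymm
    · rw [← hz]; exact Ideal.comap_mono hpz
    · rw [← Ideal.map_le_iff_le_comap]; exact hp.1.2
  obtain ⟨q, hqp, hpq, hq, hunr⟩ := EtPoint.exists_prime_formallyUnramified p hp
  have : q.LiesOver (maximalIdeal A) := ⟨hq.symm⟩
  exact EtMLB4.isMittagLeffler_of_common_generization p z q hpz hpq hpA hz hq
    (EtMLB3.isMittagLeffler_atPrime_of_unramified N q)

end Groth.Agent.Flat2A.EtMLB
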