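import Mathlib.RingTheory.Etale.Basic
import Mathlib.RingTheory.Smooth.Basic
import Mathlib.RingTheory.Unramified.Basic
import Mathlib.RingTheory.MvPolynomial.Ideal
import Mathlib.RingTheory.MvPolynomial.Basic
import Mathlib.LinearAlgebra.FreeModule.Basic
import Mathlib.RingTheory.Finiteness.Basic

/-!
# Infinitesimal neighbourhoods of a section of an etale algebra over a polynomial ring

`E` an etale algebra over `MvPolynomial ι A`, `σ : E →ₐ[A] A` a section, `P = ker σ`. Then `E ⧸ P ^ k` is a free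
`A`-module (isomorphic to `A[x]/(x)^k`).
-/

set_option autoImplicit false
universe u v

namespace Groth.Agent.Flat2A.EtTaylor

open MvPolynomial

section poly

variable (A : Type u) [CommRing A] (ι : Type v)

theorem exists_equiv_quotient (k : ℕ) : Nonempty
    ((MvPolynomial ι A ⧸ idealOfVars ι A ^ k) ≃ₗ[A] ({m : ι →₀ ℕ | m.degree < k} →₀ A)) := by
  classical
  let φ : MvPolynomial ι A →ₗ[A] ({m : ι →₀ ℕ | m.degree < k} →₀ A) :=
    (Finsupp.lsubtypeDomain {m : ι →₀ ℕ | m.degree < k}) ∘ₗ (basisMonomials ι A).repr.toLinearMap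
  have hφ : Function.Surjective φ := by
    intro f
    obtain ⟨p, hp⟩ := (basisMonomials ι A).repr.surjective (f.embDomain (Function.Embedding.subtype _))
    refine ⟨p, ?_⟩
    ext m
    change (basisMonomials ι A).repr p m = f m
    rw [hp]
    exact Finsupp.embDomain_apply_self (Function.Embedding.subtype _) f m
  have hcoeff : ∀ (p : MvPolynomial ι A) m, (basisMonomials ι A).repr p m = p.coeff m := by
    intro p m
    rfl
  have hker : LinearMap.ker φ = (idealOfVars ι A ^ k).restrictScalars A := by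
    ext p
    rw [LinearMap.mem_ker, Submodule.restrictScalars_mem, mem_pow_idealOfVars_iff']
    constructor
    · intro h m hm
      have := DFunLike.congr_fun h ⟨m, hm⟩
      exact this
    · intro h
      ext m
      exact h m.1 m.2
  exact ⟨(Submodule.Quotient.restrictScalarsEquiv A (idealOfVars ι A ^ k)).symm ≪≫ₗ
    Submodule.quotEquivOfEq _ _ hker.symm ≪≫ₗ φ.quotKerEquivOfSurjective hφ⟩

theorem finite_degree_lt [Finite ι] (k : ℕ) : {m : ι →₀ ℕ | m.degree < k}.Finite := by
  classical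
  have := Fintype.ofFinite ι
  have h1 : {f : ι → ℕ | ∀ i, f i < k}.Finite := by
    have : {f : ι → ℕ | ∀ i, f i < k} = Set.pi Set.univ (fun _ => Set.Iio k) := by
      ext f; simp
    rw [this]
    exact Set.Finite.pi' (fun _ => Set.finite_Iio k) |>.subset (by intro f hf i; simpa using hf i)
  refine Set.Finite.subset (h1.preimage (f := fun m : ι →₀ ℕ => (m : ι → ℕ)) DFunLike.coe_injective.injOn) ?_
  intro m hm i
  exact lt_of_le_of_lt (Finsupp.le_degree i m) hm

theorem free_quotient (k : ℕ) : Module.Free A (MvPolynomial ι A ⧸ idealOfVars ι A ^ k) := by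
  obtain ⟨e⟩ := exists_equiv_quotient A ι k
  exact Module.Free.of_equiv e.symm

theorem finite_quotient [Finite ι] (k : ℕ) : Module.Finite A (MvPolynomial ι A ⧸ idealOfVars ι A ^ k) := by
  obtain ⟨e⟩ := exists_equiv_quotient A ι k
  have : Finite {m : ι →₀ ℕ | m.degree < k} := finite_degree_lt ι k
  exact Module.Finite.equiv e.symm

variable {A ι}

/-- translation of the variables -/
noncomputable def translate (a : ι → A) : MvPolynomial ι A →ₐ[A] MvPolynomial ι A :=
  aeval (fun i => X i + C (a i))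

theorem translate_translate (a b : ι → A) (h : ∀ i, a i + b i = 0) :
    (translate a).comp (translate b) = AlgHom.id A _ := by
  apply MvPolynomial.algHom_ext
  intro i
  simp only [translate, AlgHom.comp_apply, aeval_X, map_add, AlgHom.id_apply]
  rw [← algebraMap_eq, AlgHom.commutes, algebraMap_eq, add_assoc, ← map_add, h, map_zero, add_zero]

noncomputable def translateEquiv (a : ι → A) : MvPolynomial ι A ≃ₐ[A] MvPolynomial ι A :=
  AlgEquiv.ofAlgHom (translate a) (translate (fun i => - a i))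
    (translate_translate _ _ (fun _ => add_neg_cancel _))
    (translate_translate _ _ (fun _ => neg_add_cancel _))

theorem ker_aeval_zero : RingHom.ker (aeval (R := A) (fun _ : ι => (0 : A))) = idealOfVars ι A := by
  have h : ∀ p : MvPolynomial ι A, aeval (R := A) (fun _ : ι => (0 : A)) p = p.coeff 0 := by
    intro p
    rw [MvPolynomial.aeval_zero', constantCoeff_eq]
    rfl
  ext p
  rw [RingHom.mem_ker, h, ← pow_one (idealOfVars ι A), mem_pow_idealOfVars_iff']
  constructor
  · intro h m hm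
    have : m = 0 := by
      rw [Nat.lt_one_iff, Finsupp.degree_eq_zero_iff] at hm
      exact hm
    rw [this, h]
  · intro h
    exact h 0 (by simp)

theorem map_translate_ker (a : ι → A) :
    idealOfVars ι A = (RingHom.ker (aeval (R := A) a)).map (translateEquiv a) := by
  have h1 : (aeval (R := A) (fun _ : ι => (0 : A))).comp (translateEquiv a : MvPolynomial ι A →ₐ[A] MvPolynomial ι A)
      = aeval (R := A) a := by
    apply MvPolynomial.algHom_ext
    intro i
    simp [translateEquiv, translate]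
  rw [← ker_aeval_zero]
  ext p
  rw [Ideal.mem_map_of_equiv]
  constructor
  · intro hp
    refine ⟨(translateEquiv a).symm p, ?_, by simp⟩
    rw [RingHom.mem_ker, ← h1]
    simpa using hp
  · rintro ⟨x, hx, rfl⟩
    rw [RingHom.mem_ker, ← h1] at hx
    exact hx

noncomputable def quotientTranslateEquiv (a : ι → A) (k : ℕ) :
    (MvPolynomial ι A ⧸ RingHom.ker (aeval (R := A) a) ^ k) ≃ₐ[A] (MvPolynomial ι A ⧸ idealOfVars ι A ^ k) :=
  Ideal.quotientEquivAlg _ _ (translateEquiv a) (by
    rw [map_translate_ker a, ← Ideal.map_pow]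
    rfl)

theorem free_quotient_ker (a : ι → A) (k : ℕ) :
    Module.Free A (MvPolynomial ι A ⧸ RingHom.ker (aeval (R := A) a) ^ k) := by
  have := free_quotient A ι k
  exact Module.Free.of_equiv (quotientTranslateEquiv a k).symm.toLinearEquiv

theorem finite_quotient_ker [Finite ι] (a : ι → A) (k : ℕ) :
    Module.Finite A (MvPolynomial ι A ⧸ RingHom.ker (aeval (R := A) a) ^ k) := by
  have := finite_quotient A ι k
  exact Module.Finite.equiv (quotientTranslateEquiv a k).symm.toLinearEquiv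

end poly

section etale

variable {R E : Type*} [CommRing R] [CommRing E] [Algebra R E]

theorem exists_quotient_equiv [Algebra.FormallyEtale R E] (P : Ideal E)
    (h : Function.Surjective (algebraMap R (E ⧸ P))) (k : ℕ) :
    Nonempty ((R ⧸ (P.comap (algebraMap R E)) ^ (k + 1)) ≃ₐ[R] (E ⧸ P ^ (k + 1))) := by
  set J : Ideal R := P.comap (algebraMap R E) with hJ
  have hJP : J ^ (k + 1) ≤ (P ^ (k + 1)).comap (algebraMap R E) :=
    Ideal.le_comap_pow _ _
  have hJle : J ^ (k + 1) ≤ J := Ideal.pow_le_self (Nat.succ_ne_zero k)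
  have hPle : P ^ (k + 1) ≤ P := Ideal.pow_le_self (Nat.succ_ne_zero k)
  let φ : (R ⧸ J ^ (k + 1)) →ₐ[R] (E ⧸ P ^ (k + 1)) :=
    Ideal.Quotient.liftₐ (J ^ (k + 1)) (Algebra.ofId R (E ⧸ P ^ (k + 1))) (by
      intro a ha
      have := hJP ha
      rw [Algebra.ofId_apply, IsScalarTower.algebraMap_apply R E (E ⧸ P ^ (k + 1)),
        Ideal.Quotient.algebraMap_eq, Ideal.Quotient.eq_zero_iff_mem]
      exact this)
  let q : (R ⧸ J ^ (k + 1)) →ₐ[R] (E ⧸ P) :=
    Ideal.Quotient.liftₐ (J ^ (k + 1)) (Algebra.ofId R (E ⧸ P)) (by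
      intro a ha
      have := hJle ha
      rw [Algebra.ofId_apply, IsScalarTower.algebraMap_apply R E (E ⧸ P),
        Ideal.Quotient.algebraMap_eq, Ideal.Quotient.eq_zero_iff_mem]
      exact this)
  let r : (E ⧸ P ^ (k + 1)) →ₐ[R] (E ⧸ P) := Ideal.Quotient.factorₐ R hPle
  have hq : Function.Surjective q := by
    intro x
    obtain ⟨a, ha⟩ := h x
    exact ⟨Ideal.Quotient.mk _ a, ha⟩
  have huniq : ∀ {B : Type _} [CommRing B] [Algebra R B] (f g : (R ⧸ J ^ (k + 1)) →ₐ[R] B), f = g := by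
    intro B _ _ f g
    apply AlgHom.ext
    intro x
    obtain ⟨a, rfl⟩ := Ideal.Quotient.mk_surjective x
    exact (f.commutes a).trans (g.commutes a).symm
  have hrφ : r.comp φ = q := huniq _ _
  have hkerq : RingHom.ker (q : (R ⧸ J ^ (k + 1)) →+* (E ⧸ P)) = J.map (Ideal.Quotient.mk (J ^ (k + 1))) := by
    ext x
    obtain ⟨a, rfl⟩ := Ideal.Quotient.mk_surjective x
    rw [Ideal.mem_quotient_iff_mem hJle, RingHom.mem_ker]
    change algebraMap R (E ⧸ P) a = 0 ↔ _
    rw [IsScalarTower.algebraMap_apply R E (E ⧸ P), Ideal.Quotient.algebraMap_eq,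
      Ideal.Quotient.eq_zero_iff_mem]
    rfl
  have hkerqn : IsNilpotent (RingHom.ker (q : (R ⧸ J ^ (k + 1)) →+* (E ⧸ P))) := by
    rw [hkerq]
    refine ⟨k + 1, ?_⟩
    rw [← Ideal.map_pow, Ideal.zero_eq_bot, Ideal.map_quotient_self]
  let mkE : E →ₐ[R] E ⧸ P := Ideal.Quotient.mkₐ R P
  let ψ : E →ₐ[R] (R ⧸ J ^ (k + 1)) := Algebra.FormallySmooth.liftOfSurjective mkE q hq hkerqn
  have hψ : ∀ x, q (ψ x) = mkE x := fun x =>
    Algebra.FormallySmooth.liftOfSurjective_apply mkE q hq hkerqn x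
  have hψP : ∀ x ∈ P ^ (k + 1), ψ x = 0 := by
    have h1 : P ≤ (RingHom.ker (q : (R ⧸ J ^ (k + 1)) →+* (E ⧸ P))).comap ψ := by
      intro x hx
      rw [Ideal.mem_comap, RingHom.mem_ker]
      exact (hψ x).trans (Ideal.Quotient.eq_zero_iff_mem.mpr hx)
    have h2 : P ^ (k + 1) ≤ ((RingHom.ker (q : (R ⧸ J ^ (k + 1)) →+* (E ⧸ P))) ^ (k + 1)).comap ψ :=
      (Ideal.pow_right_mono h1 _).trans (Ideal.le_comap_pow _ _)
    intro x hx
    have := h2 hx
    rw [hkerq, ← Ideal.map_pow, Ideal.map_quotient_self] at this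
    exact this
  let ψ' : (E ⧸ P ^ (k + 1)) →ₐ[R] (R ⧸ J ^ (k + 1)) := Ideal.Quotient.liftₐ _ ψ hψP
  have hP : IsNilpotent (RingHom.ker (r : (E ⧸ P ^ (k + 1)) →+* (E ⧸ P))) := by
    have : RingHom.ker (r : (E ⧸ P ^ (k + 1)) →+* (E ⧸ P)) = P.map (Ideal.Quotient.mk (P ^ (k + 1))) := by
      ext x
      obtain ⟨a, rfl⟩ := Ideal.Quotient.mk_surjective x
      rw [Ideal.mem_quotient_iff_mem hPle, RingHom.mem_ker]
      exact Ideal.Quotient.eq_zero_iff_mem
    rw [this]
    refine ⟨k + 1, ?_⟩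
    rw [← Ideal.map_pow, Ideal.zero_eq_bot, Ideal.map_quotient_self]
  refine ⟨AlgEquiv.ofAlgHom φ ψ' ?_ ?_⟩
  · have : (φ.comp ψ) = Ideal.Quotient.mkₐ R (P ^ (k + 1)) := by
      refine Algebra.FormallyUnramified.ext' (r : (E ⧸ P ^ (k + 1)) →+* (E ⧸ P)) hP _ _ ?_
      intro x
      change r (φ (ψ x)) = r (Ideal.Quotient.mk _ x)
      have h3 : r (φ (ψ x)) = q (ψ x) := DFunLike.congr_fun hrφ (ψ x)
      rw [h3, hψ]
      rfl
    apply AlgHom.ext
    intro x
    obtain ⟨a, rfl⟩ := Ideal.Quotient.mk_surjective x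
    exact DFunLike.congr_fun this a
  · apply AlgHom.ext
    intro x
    obtain ⟨a, rfl⟩ := Ideal.Quotient.mk_surjective x
    exact ((ψ'.comp φ).commutes a).trans ((AlgHom.id R _).commutes a).symm

end etale

section section_

variable {A : Type*} [CommRing A] {ι : Type*} {E : Type*} [CommRing E] [Algebra A E]
  [Algebra (MvPolynomial ι A) E] [IsScalarTower A (MvPolynomial ι A) E]

theorem comap_ker (σ : E →ₐ[A] A) : (RingHom.ker σ).comap (algebraMap (MvPolynomial ι A) E) =
    RingHom.ker (aeval (R := A) (fun i : ι => σ (algebraMap (MvPolynomial ι A) E (X i)))) := by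
  have h : σ.comp (IsScalarTower.toAlgHom A (MvPolynomial ι A) E) =
      aeval (R := A) (fun i : ι => σ (algebraMap (MvPolynomial ι A) E (X i))) := by
    apply MvPolynomial.algHom_ext
    intro i
    simp
  rw [← h]
  rfl

theorem surjective_algebraMap_quotient_ker (σ : E →ₐ[A] A) :
    Function.Surjective (algebraMap (MvPolynomial ι A) (E ⧸ RingHom.ker σ)) := by
  intro x
  obtain ⟨e, rfl⟩ := Ideal.Quotient.mk_surjective x
  refine ⟨C (σ e), ?_⟩
  rw [← algebraMap_eq, ← IsScalarTower.algebraMap_apply A (MvPolynomial ι A) (E ⧸ RingHom.ker σ),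
    IsScalarTower.algebraMap_apply A E, Ideal.Quotient.algebraMap_eq, Ideal.Quotient.eq,
    RingHom.mem_ker, map_sub, AlgHom.commutes]
  simp

theorem exists_equiv [Algebra.FormallyEtale (MvPolynomial ι A) E] (σ : E →ₐ[A] A) (k : ℕ) :
    Nonempty ((MvPolynomial ι A ⧸
      RingHom.ker (aeval (R := A) (fun i : ι => σ (algebraMap (MvPolynomial ι A) E (X i)))) ^ (k + 1)) ≃ₗ[A]
        (E ⧸ (RingHom.ker σ) ^ (k + 1))) := by
  obtain ⟨e⟩ := exists_quotient_equiv (R := MvPolynomial ι A) (RingHom.ker σ)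
    (surjective_algebraMap_quotient_ker σ) k
  rw [comap_ker] at e
  exact ⟨e.toLinearEquiv.restrictScalars A⟩

theorem free_quotient_pow [Algebra.FormallyEtale (MvPolynomial ι A) E] (σ : E →ₐ[A] A) (k : ℕ) :
    Module.Free A (E ⧸ (RingHom.ker σ) ^ (k + 1)) := by
  obtain ⟨e⟩ := exists_equiv (ι := ι) σ k
  have := free_quotient_ker (fun i : ι => σ (algebraMap (MvPolynomial ι A) E (X i))) (k + 1)
  exact Module.Free.of_equiv e

theorem finite_quotient_pow [Finite ι] [Algebra.FormallyEtale (MvPolynomial ι A) E] (σ : E →ₐ[A] A) (k : ℕ) :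
    Module.Finite A (E ⧸ (RingHom.ker σ) ^ (k + 1)) := by
  obtain ⟨e⟩ := exists_equiv (ι := ι) σ k
  have := finite_quotient_ker (fun i : ι => σ (algebraMap (MvPolynomial ι A) E (X i))) (k + 1)
  exact Module.Finite.equiv e

end section_

end Groth.Agent.Flat2A.EtTaylor
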