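import Groth.Prelude.Def_FlatCA
import Groth.Prelude.Def_Found
import Mathlib.RingTheory.FiniteType
import Mathlib.Algebra.MvPolynomial.Basic
import Mathlib.Data.Finsupp.Encodable
import Mathlib.Algebra.Algebra.Tower
import Mathlib.Algebra.Module.Submodule.Pointwise
import Mathlib.Data.Set.Countable

/-!
# Mittag-Leffler modules: stability under universally injective maps, countable generation
-/

set_option autoImplicit false
universe u

namespace Groth.Agent.Flat2A.MLPass

open TensorProduct Pointwise

/-- Tensoring on the right preserves injectivity of a universally injective map. -/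
theorem rTensor_injective {R : Type u} [CommRing R] {M N : Type u} [AddCommGroup M]
    [AddCommGroup N] [Module R M] [Module R N] {f : M →ₗ[R] N} (hf : FlatCA.UnivInj R f)
    (Q : Type u) [AddCommGroup Q] [Module R Q] : Function.Injective (f.rTensor Q) := by
  have h := hf Q
  rwa [← LinearMap.lTensor_inj_iff_rTensor_inj]

/-- The source of a universally injective map into a Mittag-Leffler module is Mittag-Leffler. -/
theorem isMittagLeffler_of_univInj {R : Type u} [CommRing R] {M N : Type u} [AddCommGroup M]
    [AddCommGroup N] [Module R M] [Module R N] {f : M →ₗ[R] N} (hf : FlatCA.UnivInj R f)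
    (hN : CAlg.IsMittagLeffler R N) : CAlg.IsMittagLeffler R M := by
  intro ι Q _ _
  have h1 := rTensor_injective hf (∀ i, Q i)
  have h2 := hN ι Q
  have key : ∀ x, TensorProduct.piRightHom R R N Q (f.rTensor (∀ i, Q i) x) =
      fun i => f.rTensor (Q i) (TensorProduct.piRightHom R R M Q x i) := by
    intro x
    induction x using TensorProduct.induction_on with
    | zero => ext i; simp
    | tmul m q => ext i; simp
    | add x y hx hy => ext i; simp [hx, hy]
  intro x y hxy
  apply h1
  apply h2
  rw [key, key, hxy]

/-- A countably generated module over a countably generated ... : an algebra of finite type is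
countably generated as a module. -/
theorem isCountablyGenerated_of_finiteType (R : Type u) (S : Type u) [CommRing R] [CommRing S]
    [Algebra R S] [Algebra.FiniteType R S] : CAlg.IsCountablyGenerated R S := by
  obtain ⟨n, f, hf⟩ := Algebra.FiniteType.iff_quotient_mvPolynomial''.mp
    (inferInstance : Algebra.FiniteType R S)
  refine ⟨Set.range fun m : Fin n →₀ ℕ => f (MvPolynomial.monomial m 1),
    Set.countable_range _, ?_⟩
  rw [eq_top_iff]
  rintro s -
  obtain ⟨p, rfl⟩ := hf s
  rw [MvPolynomial.as_sum p, map_sum]
  refine Submodule.sum_mem _ fun m _ => ?_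
  have : (MvPolynomial.monomial m (MvPolynomial.coeff m p)) =
      MvPolynomial.coeff m p • (MvPolynomial.monomial m (1 : R)) := by
    rw [MvPolynomial.smul_monomial, smul_eq_mul, mul_one]
  rw [this, map_smul]
  exact Submodule.smul_mem _ _ (Submodule.subset_span ⟨m, rfl⟩)

/-- A finite module over an algebra which is countably generated as a module is countably
generated. -/
theorem isCountablyGenerated_of_finite (R : Type u) (S : Type u) [CommRing R] [CommRing S]
    [Algebra R S] (hS : CAlg.IsCountablyGenerated R S) (N : Type u) [AddCommGroup N] [Module S N]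
    [Module R N] [IsScalarTower R S N] [Module.Finite S N] : CAlg.IsCountablyGenerated R N := by
  obtain ⟨s, hs, hspan⟩ := hS
  obtain ⟨t, ht⟩ := (Module.Finite.fg_top : (⊤ : Submodule S N).FG)
  refine ⟨Set.image2 (fun a b => a • b) s (t : Set N), hs.image2 t.countable_toSet _, ?_⟩
  have := Submodule.span_smul_of_span_eq_top hspan (t : Set N)
  have h2 : (s • (t : Set N)) = Set.image2 (fun a b => a • b) s (t : Set N) := rfl
  rw [← h2, this, ht]
  rfl

end Groth.Agent.Flat2A.MLPass
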