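import Groth.Prelude.Def_FlatCA
import Groth.Prelude.Def_Found
import Groth.Agent.Flat2A.EtTaylor
import Groth.Agent.Flat2A.EtSep
import Groth.Agent.Flat2A.EtDesc
import Groth.Agent.Flat2A.MLProj
import Groth.Agent.Flat2A.MLPass

/-!
# Localization of an etale algebra over a polynomial ring at a section is Mittag-Leffler
-/

set_option autoImplicit false
universe u v

namespace Groth.Agent.Flat2A.EtSec

open TensorProduct MvPolynomial

theorem exists_smul_eq_zero {A E : Type u} {ι : Type v} [CommRing A] [CommRing E] [Algebra A E] [Finite ι]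
    [Algebra (MvPolynomial ι A) E] [IsScalarTower A (MvPolynomial ι A) E]
    [Algebra.Etale (MvPolynomial ι A) E] (σ : E →ₐ[A] A)
    (Q : Type u) [AddCommGroup Q] [Module A Q] (x : E ⊗[A] Q)
    (hx : ∀ k : ℕ, x ∈ ((RingHom.ker σ) ^ (k + 1) • ⊤ : Submodule E (E ⊗[A] Q))) :
    ∃ s : E, σ s = 1 ∧ s • x = 0 := by
  obtain ⟨A₁, E₁, _, _, _, _, _, _, _, _, _, _, σ₁, hn, het, hpush, hσ⟩ := EtDesc.exists_descent (ι := ι) σ
  have : IsNoetherianRing E₁ :=
    Algebra.FiniteType.isNoetherianRing (MvPolynomial ι A₁) E₁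
  have hflat : ∀ k : ℕ, Module.Flat A₁ (E₁ ⧸ (RingHom.ker σ₁) ^ (k + 1)) := by
    intro k
    have := EtTaylor.free_quotient_pow (ι := ι) σ₁ k
    infer_instance
  exact EtSep.exists_smul_eq_zero_of_isPushout σ₁ σ hσ hflat Q x hx

theorem isUnit_mk {A E : Type*} [CommRing A] [CommRing E] [Algebra A E] (σ : E →ₐ[A] A) (t : E)
    (ht : IsUnit (σ t)) (k : ℕ) : IsUnit (Ideal.Quotient.mk ((RingHom.ker σ) ^ (k + 1)) t) := by
  obtain ⟨u, hu⟩ := ht
  set p : E := 1 - algebraMap A E (↑u⁻¹ : A) * t with hp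
  have hpm : p ∈ RingHom.ker σ := by
    rw [RingHom.mem_ker, hp, map_sub, map_mul, AlgHom.commutes, map_one, ← hu]
    simp
  have h1 : IsNilpotent (Ideal.Quotient.mk ((RingHom.ker σ) ^ (k + 1)) p) := by
    refine ⟨k + 1, ?_⟩
    rw [← map_pow, Ideal.Quotient.eq_zero_iff_mem]
    exact Ideal.pow_mem_pow hpm _
  have h2 := h1.isUnit_one_sub
  rw [← map_one (Ideal.Quotient.mk _), ← map_sub, hp, sub_sub_cancel, map_mul] at h2
  exact isUnit_of_mul_isUnit_right h2

theorem isMittagLeffler_of_section {A E L : Type u} [CommRing A] [CommRing E] [Algebra A E]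
    (σ : E →ₐ[A] A) (T : Submonoid E) (hT : ∀ s ∈ T, IsUnit (σ s)) (hT' : ∀ s, σ s = 1 → s ∈ T)
    [CommRing L] [Algebra E L] [Algebra A L] [IsScalarTower A E L] [IsLocalization T L]
    (hfree : ∀ k : ℕ, Module.Free A (E ⧸ (RingHom.ker σ) ^ (k + 1)))
    (hsep : ∀ (Q : Type u) [AddCommGroup Q] [Module A Q] (x : E ⊗[A] Q),
      (∀ k : ℕ, x ∈ ((RingHom.ker σ) ^ (k + 1) • ⊤ : Submodule E (E ⊗[A] Q))) →
      ∃ s : E, σ s = 1 ∧ s • x = 0) : CAlg.IsMittagLeffler A L := by
  intro κ Q _ _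
  rw [injective_iff_map_eq_zero]
  intro z hz
  let g := AlgebraTensorModule.rTensor A (∀ i, Q i) (Algebra.linearMap E L)
  obtain ⟨⟨x, t⟩, hx⟩ := IsLocalizedModule.mk'_surjective T g z
  simp only [Function.uncurry_apply_pair] at hx
  have hgx : ∀ i, AlgebraTensorModule.rTensor A (Q i) (Algebra.linearMap E L)
      ((LinearMap.proj i : (∀ i, Q i) →ₗ[A] Q i).lTensor E x) = 0 := by
    intro i
    have h1 : ∀ x : E ⊗[A] (∀ i, Q i), AlgebraTensorModule.rTensor A (Q i) (Algebra.linearMap E L)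
      ((LinearMap.proj i : (∀ i, Q i) →ₗ[A] Q i).lTensor E x) = (LinearMap.proj i : (∀ i, Q i) →ₗ[A] Q i).lTensor L (g x) := by
      intro x
      induction x with
      | zero => simp
      | tmul a b => simp [g]
      | add x y hx hy => simp only [map_add, hx, hy]
    have h2 : ∀ z : L ⊗[A] (∀ i, Q i), (LinearMap.proj i : (∀ i, Q i) →ₗ[A] Q i).lTensor L z =
        TensorProduct.piRightHom A A L Q z i := by
      intro z
      induction z with
      | zero => simp
      | tmul a b => simp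
      | add x y hx hy => simp only [map_add, hx, hy, Pi.add_apply]
    have h3 : g x = t • z := by
      rw [← hx, IsLocalizedModule.mk'_cancel']
    rw [h1, h3]
    have h4 : (LinearMap.proj i : (∀ i, Q i) →ₗ[A] Q i).lTensor L (t • z) =
        (algebraMap E L t) • (LinearMap.proj i : (∀ i, Q i) →ₗ[A] Q i).lTensor L z := by
      rw [Submonoid.smul_def, ← EtSep.lTensor_smul, algebraMap_smul]
    rw [h4, h2, hz]
    simp
  have hmem : ∀ k : ℕ, x ∈ ((RingHom.ker σ) ^ (k + 1) • ⊤ : Submodule E (E ⊗[A] (∀ i, Q i))) := by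
    intro k
    rw [← EtSep.rTensor_mkQ_eq_zero_iff]
    have := hfree k
    have hML := MLProj.isMittagLeffler_of_projective (R := A) (E ⧸ (RingHom.ker σ) ^ (k + 1)) κ Q
    apply hML
    rw [map_zero]
    funext i
    have h1 : ∀ x : E ⊗[A] (∀ i, Q i), TensorProduct.piRightHom A A (E ⧸ (RingHom.ker σ) ^ (k + 1)) Q
        (((Ideal.Quotient.mkₐ A ((RingHom.ker σ) ^ (k + 1))).toLinearMap.rTensor (∀ i, Q i)) x) i =
        (Ideal.Quotient.mkₐ A ((RingHom.ker σ) ^ (k + 1))).toLinearMap.rTensor (Q i)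
          ((LinearMap.proj i : (∀ i, Q i) →ₗ[A] Q i).lTensor E x) := by
      intro x
      induction x with
      | zero => simp
      | tmul a b => simp
      | add x y hx hy => simp only [map_add, hx, hy, Pi.add_apply]
    rw [h1, Pi.zero_apply]
    obtain ⟨s, hs⟩ := (IsLocalizedModule.eq_zero_iff T
      (AlgebraTensorModule.rTensor A (Q i) (Algebra.linearMap E L))).mp (hgx i)
    have h2 : ∀ y : E ⊗[A] Q i, (Ideal.Quotient.mkₐ A ((RingHom.ker σ) ^ (k + 1))).toLinearMap.rTensor (Q i)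
        ((s : E) • y) = (Ideal.Quotient.mk ((RingHom.ker σ) ^ (k + 1)) (s : E)) •
          (Ideal.Quotient.mkₐ A ((RingHom.ker σ) ^ (k + 1))).toLinearMap.rTensor (Q i) y := by
      intro y
      induction y with
      | zero => simp
      | tmul a b => simp [TensorProduct.smul_tmul']
      | add x y hx hy => rw [smul_add, map_add, hx, hy, map_add, smul_add]
    have h3 := h2 ((LinearMap.proj i : (∀ i, Q i) →ₗ[A] Q i).lTensor E x)
    rw [← Submonoid.smul_def, hs, map_zero] at h3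
    exact (isUnit_mk σ s (hT s s.2) k).smul_eq_zero.mp h3.symm
  obtain ⟨s, hs, hsx⟩ := hsep _ x hmem
  rw [← hx, IsLocalizedModule.mk'_eq_zero']
  exact ⟨⟨s, hT' s hs⟩, hsx⟩

end Groth.Agent.Flat2A.EtSec
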