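import Groth.Agent.Flat2A.EtMLTools
import Groth.Agent.Flat2A.EtSec
import Groth.Agent.FlatA.EtaleSliceGeom
import Mathlib.RingTheory.Localization.AtPrime.Basic

/-!
# Local rings of etale algebras over polynomial rings at points with unramified residue field
are Mittag-Leffler (henselian base)
-/

set_option autoImplicit false
universe u

namespace Groth.Agent.Flat2A.EtMLB3

open TensorProduct IsLocalRing MvPolynomial

/-- Descent of the Mittag-Leffler property along a flat local homomorphism. -/
theorem isMittagLeffler_of_flat_local {A B X : Type u} [CommRing A] [CommRing B] [CommRing X]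
    [Algebra A B] [Algebra B X] [Algebra A X] [IsScalarTower A B X] [IsLocalRing B] [IsLocalRing X]
    [Module.Flat B X] [IsLocalHom (algebraMap B X)] (h : CAlg.IsMittagLeffler A X) :
    CAlg.IsMittagLeffler A B := by
  have : Module.FaithfullyFlat B X := Module.FaithfullyFlat.of_flat_of_isLocalHom
  refine LocML.isMittagLeffler_of_faithfullyFlat (A := A) (B := B) (X := X) (N := B) ?_
  let e : X ⊗[B] B ≃ₗ[A] X := (TensorProduct.rid B X).restrictScalars A
  refine MLProj.isMittagLeffler_of_lTensor_injective e.toLinearMap (fun Q _ _ => ?_) h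
  exact (LinearEquiv.lTensor Q e).injective

theorem core {A A' D E : Type u} [CommRing A] [CommRing A'] [CommRing D] [CommRing E]
    [Algebra A A'] [Algebra A D] [Algebra A' E] [Algebra D E] [Algebra A E]
    [IsScalarTower A A' E] [IsScalarTower A D E] [IsLocalRing A'] [Module.Finite A A']
    [Module.Free A A'] [Module.Flat D E] (σ : E →ₐ[A'] A') (q : Ideal D) [q.IsPrime]
    (hq : ((maximalIdeal A').comap σ).comap (algebraMap D E) = q) (n : ℕ)
    [Algebra (MvPolynomial (Fin n) A') E] [IsScalarTower A' (MvPolynomial (Fin n) A') E]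
    [Algebra.Etale (MvPolynomial (Fin n) A') E] :
    CAlg.IsMittagLeffler A (Localization.AtPrime q) := by
  let y : Ideal E := (maximalIdeal A').comap σ
  have : y.LiesOver q := ⟨hq.symm⟩
  let L := Localization.AtPrime y
  have hL : CAlg.IsMittagLeffler A' L := by
    refine EtSec.isMittagLeffler_of_section σ y.primeCompl ?_ ?_ ?_ ?_
    · intro s hs
      by_contra hcon
      exact hs ((mem_maximalIdeal _).mpr hcon)
    · intro s hs hsy
      have : σ s ∈ maximalIdeal A' := hsy
      rw [hs] at this
      exact (maximalIdeal.isMaximal A').ne_top ((Ideal.eq_top_iff_one _).mpr this)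
    · intro k
      exact EtTaylor.free_quotient_pow (ι := Fin n) σ k
    · intro Q _ _ x hx
      exact EtSec.exists_smul_eq_zero (ι := Fin n) σ Q x hx
  have hLA : CAlg.IsMittagLeffler A L := EtMLTools.isMittagLeffler_of_finite_free hL
  let := Localization.AtPrime.algebraOfLiesOver q y
  have : Module.Flat D L := Module.Flat.trans D E L
  have : Module.Flat (Localization.AtPrime q) L :=
    (Module.flat_iff_of_isLocalization (Localization.AtPrime q) q.primeCompl L).mpr this
  exact isMittagLeffler_of_flat_local hLA

theorem exists_hom {A' P P' D : Type u} [CommRing A'] [CommRing P] [CommRing P'] [CommRing D]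
    [Algebra P P'] [Algebra P D] [Algebra A' P'] (φ : P' →ₐ[A'] A') (ρ : D →+* A')
    (h : ∀ x : P, φ (algebraMap P P' x) = ρ (algebraMap P D x)) :
    ∃ σ : P' ⊗[P] D →ₐ[A'] A', ∀ d, σ (1 ⊗ₜ d) = ρ d := by
  let _ : Algebra P A' := (ρ.comp (algebraMap P D)).toAlgebra
  let φP : P' →ₐ[P] A' := { φ.toRingHom with commutes' := h }
  let ρP : D →ₐ[P] A' := { ρ with commutes' := fun _ => rfl }
  let σ₀ : P' ⊗[P] D →ₐ[P] A' := Algebra.TensorProduct.lift φP ρP (fun _ _ => .all _ _)
  refine ⟨{ σ₀.toRingHom with commutes' := ?_ }, ?_⟩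
  · intro a
    change σ₀ (algebraMap A' P' a ⊗ₜ 1) = a
    rw [Algebra.TensorProduct.lift_tmul, map_one, mul_one]
    exact φ.commutes a
  · intro d
    change σ₀ (1 ⊗ₜ d) = ρ d
    rw [Algebra.TensorProduct.lift_tmul, map_one, one_mul]
    rfl

theorem isMittagLeffler_atPrime_of_unramified {A D : Type u} [CommRing A] [HenselianLocalRing A]
    [CommRing D] [Algebra A D] (n : ℕ) [Algebra (MvPolynomial (Fin n) A) D]
    [IsScalarTower A (MvPolynomial (Fin n) A) D] [Algebra.Etale (MvPolynomial (Fin n) A) D]
    (q : Ideal D) [q.IsPrime] [q.LiesOver (maximalIdeal A)]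
    [Algebra.FormallyUnramified A q.ResidueField] :
    CAlg.IsMittagLeffler A (Localization.AtPrime q) := by
  have hsm : Algebra.Smooth A D := by
    have : Algebra.Smooth A (MvPolynomial (Fin n) A) := { }
    exact Algebra.Smooth.comp A (MvPolynomial (Fin n) A) D
  obtain ⟨C, _, _, _, _, hC, -, Q, hQ, hQq, -⟩ := FlatA.EtaleSliceGeom.exists_etale_slice_ring A D q
  have : Q.LiesOver (maximalIdeal A) := by
    refine ⟨?_⟩
    rw [Ideal.under, IsScalarTower.algebraMap_eq A D C, ← Ideal.comap_comap, hQq]
    exact q.over_def (maximalIdeal A)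
  obtain ⟨A', _, _, _, _, _, hfin, hfree, hlh, hA'Q⟩ :=
    EtMLTools.exists_local_factor (A := A) (C := C) Q
  let ρ : D →ₐ[A] A' := (IsScalarTower.toAlgHom A C A').comp (IsScalarTower.toAlgHom A D C)
  have hρ : (maximalIdeal A').comap ρ = q := by
    rw [← hQq, ← hA'Q]
    rfl
  let P := MvPolynomial (Fin n) A
  let P' := MvPolynomial (Fin n) A'
  let _ : Algebra P P' := MvPolynomial.algebraMvPolynomial
  let E := P' ⊗[P] D
  let _ : Algebra D E := Algebra.TensorProduct.rightAlgebra
  have hpush : Algebra.IsPushout P P' D E := inferInstance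
  have hpush' : Algebra.IsPushout P D P' E := hpush.symm
  have hpP : Algebra.IsPushout A A' P P' := inferInstance
  have hpP' : Algebra.IsPushout A P A' P' := hpP.symm
  have hflat1 : Module.Flat P P' := Module.Flat.isBaseChange A P A' P' hpP'.out
  have hflat : Module.Flat D E := Module.Flat.isBaseChange P D P' E hpush'.out
  have htow1 : IsScalarTower A A' E := inferInstance
  have htow2 : IsScalarTower A D E := by
    refine IsScalarTower.of_algebraMap_eq (fun a => ?_)
    have h1 : algebraMap A E a = algebraMap P E (algebraMap A P a) := by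
      rw [← IsScalarTower.algebraMap_apply A P E]
    rw [h1, IsScalarTower.algebraMap_apply P D E, ← IsScalarTower.algebraMap_apply A P D]
  let φ : P' →ₐ[A'] A' := MvPolynomial.aeval (fun i => ρ (algebraMap P D (X i)))
  have hφ : ∀ x : P, φ (algebraMap P P' x) = ρ (algebraMap P D x) := by
    intro x
    induction x using MvPolynomial.induction_on with
    | C a =>
      have h1 : algebraMap P D (MvPolynomial.C a) = algebraMap A D a := by
        rw [← MvPolynomial.algebraMap_eq, ← IsScalarTower.algebraMap_apply A P D]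
      rw [h1, ρ.commutes]
      change φ (MvPolynomial.map (algebraMap A A') (MvPolynomial.C a)) = _
      rw [MvPolynomial.map_C, MvPolynomial.aeval_C]
      rfl
    | add p q hp hq => simp only [map_add, hp, hq]
    | mul_X p i hp =>
      rw [map_mul, map_mul, hp, map_mul, map_mul]
      congr 1
      change φ (MvPolynomial.map (algebraMap A A') (X i)) = _
      rw [MvPolynomial.map_X, MvPolynomial.aeval_X]
  obtain ⟨σ, hσ⟩ := exists_hom (A' := A') (P := P) (P' := P') (D := D) φ ρ hφ
  refine core (A := A) (A' := A') (D := D) (E := E) σ q ?_ n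
  rw [← hρ]
  ext d
  rw [Ideal.mem_comap, Ideal.mem_comap, Ideal.mem_comap]
  have h1 : σ (algebraMap D E d) = ρ d := hσ d
  rw [h1]

end Groth.Agent.Flat2A.EtMLB3
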