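import Groth.Agent.FlatA.EtaleSliceGeom
import Groth.Agent.Flat2A.EtMLTools

/-!
# Sections of smooth algebras over henselian local rings through separable closed points
-/

set_option autoImplicit false
universe u

namespace Groth.Agent.Flat2A.EtMLB3c

open IsLocalRing

theorem exists_section {A D : Type u} [CommRing A] [HenselianLocalRing A] [CommRing D]
    [Algebra A D] [Algebra.Smooth A D] (q : Ideal D) [q.IsPrime]
    (hq : q.comap (algebraMap A D) = maximalIdeal A) [Algebra.FormallyUnramified A q.ResidueField] :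
    ∃ (A' : Type u) (_ : CommRing A') (_ : IsLocalRing A') (_ : Algebra A A'),
      Module.Finite A A' ∧ Module.Free A A' ∧ IsLocalHom (algebraMap A A') ∧
      ∃ σ : D →ₐ[A] A', (maximalIdeal A').comap (σ : D →+* A') = q := by
  obtain ⟨C, _, _, _, _, _, -, Q, hQ, hQq, -⟩ :=
    FlatA.EtaleSliceGeom.exists_etale_slice_ring A D q
  have : Q.LiesOver (maximalIdeal A) := ⟨by
    rw [Ideal.under_def, ← hq, ← hQq, Ideal.comap_comap, ← IsScalarTower.algebraMap_eq]⟩
  obtain ⟨A', _, _, _, _, _, hfin, hfree, hloc, hcomap⟩ := EtMLTools.exists_local_factor (A := A) Q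
  refine ⟨A', inferInstance, inferInstance, inferInstance, hfin, hfree, hloc,
    (IsScalarTower.toAlgHom A C A').comp (IsScalarTower.toAlgHom A D C), ?_⟩
  rw [← hQq, ← hcomap, Ideal.comap_comap]
  rfl

end Groth.Agent.Flat2A.EtMLB3c
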