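import Groth.Prelude.Def_FlatCA
import Groth.Agent.S0585
import Mathlib.RingTheory.Flat.FaithfullyFlat.Algebra
import Mathlib.RingTheory.Spectrum.Prime.Chevalley
import Mathlib.RingTheory.Smooth.Flat
import Mathlib.RingTheory.Ideal.GoingDown
import Mathlib.LinearAlgebra.TensorProduct.Prod

/-!
# Projectivity is local for the etale topology
-/

set_option autoImplicit false
universe u v w

namespace Groth.Agent.Flat2A.EtaleProjGlue

open TensorProduct

/-- Projectivity is transitive along a projective algebra. -/
theorem projective_trans {C A P : Type u} [CommRing C] [CommRing A] [Algebra C A]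
    [AddCommGroup P] [Module A P] [Module C P] [IsScalarTower C A P] [Module.Projective C A]
    [Module.Projective A P] : Module.Projective C P := by
  obtain ⟨s, hs⟩ := (inferInstance : Module.Projective A P)
  have : Module.Projective C (P →₀ A) := by
    classical
    exact Module.Projective.of_equiv (finsuppLequivDFinsupp (ι := P) (M := A) C).symm
  exact Module.Projective.of_split (s.restrictScalars C)
    ((Finsupp.linearCombination A id).restrictScalars C) (by ext x; simpa using hs x)

/-- Projectivity over a product of two rings. -/
theorem projective_prod {R A B : Type u} [CommRing R] {N : Type u} [AddCommGroup N] [Module R N]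
    [CommRing A] [CommRing B] [Algebra R A] [Algebra R B] [Module.Projective A (A ⊗[R] N)]
    [Module.Projective B (B ⊗[R] N)] : Module.Projective (A × B) ((A × B) ⊗[R] N) := by
  let _ : Algebra (A × B) A := (RingHom.fst A B).toAlgebra
  let _ : Algebra (A × B) B := (RingHom.snd A B).toAlgebra
  have t1 : IsScalarTower R (A × B) A := IsScalarTower.of_algebraMap_eq fun _ => rfl
  have t2 : IsScalarTower R (A × B) B := IsScalarTower.of_algebraMap_eq fun _ => rfl
  have p1 : Module.Projective (A × B) A :=
    Module.Projective.of_split (M := A × B)
      { toFun := fun a => (a, 0), map_add' := fun x y => by simp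
        map_smul' := fun c x => by
          rw [Algebra.smul_def]; ext
          · rfl
          · simp }
      (Algebra.linearMap (A × B) A) (by ext; rfl)
  have p2 : Module.Projective (A × B) B :=
    Module.Projective.of_split (M := A × B)
      { toFun := fun a => (0, a), map_add' := fun x y => by simp
        map_smul' := fun c x => by
          rw [Algebra.smul_def]; ext
          · simp
          · rfl }
      (Algebra.linearMap (A × B) B) (by ext; rfl)
  have q1 : Module.Projective (A × B) (A ⊗[R] N) := projective_trans (A := A)
  have q2 : Module.Projective (A × B) (B ⊗[R] N) := projective_trans (A := B)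
  exact Module.Projective.of_equiv (TensorProduct.prodLeft R (A × B) A B N).symm

/-- A product of two flat modules is flat. -/
theorem flat_prod (R M N : Type u) [CommRing R] [AddCommGroup M] [AddCommGroup N] [Module R M]
    [Module R N] [Module.Flat R M] [Module.Flat R N] : Module.Flat R (M × N) := by
  rw [Module.Flat.iff_rTensor_preserves_injective_linearMap]
  intro A B _ _ _ _ g hg
  have h1 := Module.Flat.rTensor_preserves_injective_linearMap (M := M) g hg
  have h2 := Module.Flat.rTensor_preserves_injective_linearMap (M := N) g hg
  have key : (TensorProduct.prodRight R R B M N).toLinearMap ∘ₗ g.rTensor (M × N) =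
      ((g.rTensor M).prodMap (g.rTensor N)) ∘ₗ (TensorProduct.prodRight R R A M N).toLinearMap := by
    ext <;> simp
  have h3 : Function.Injective ((TensorProduct.prodRight R R B M N).toLinearMap ∘ₗ
      g.rTensor (M × N)) := by
    rw [key]
    exact (Prod.map_injective.mpr ⟨h1, h2⟩).comp (TensorProduct.prodRight R R A M N).injective
  exact Function.Injective.of_comp h3

/-- The property used for the induction on compact sets. -/
def Good (A : Type u) [CommRing A] (N : Type u) [AddCommGroup N] [Module A N]
    (K : Set (PrimeSpectrum A)) : Prop :=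
  ∃ (C : Type u) (_ : CommRing C) (_ : Algebra A C), Module.Flat A C ∧
    Module.Projective C (C ⊗[A] N) ∧ K ⊆ Set.range (PrimeSpectrum.comap (algebraMap A C))

theorem good_union {A : Type u} [CommRing A] {N : Type u} [AddCommGroup N] [Module A N]
    {K L : Set (PrimeSpectrum A)} (hK : Good A N K) (hL : Good A N L) : Good A N (K ∪ L) := by
  obtain ⟨C, _, _, hC1, hC2, hC3⟩ := hK
  obtain ⟨D, _, _, hD1, hD2, hD3⟩ := hL
  refine ⟨C × D, inferInstance, inferInstance, flat_prod A C D, projective_prod, ?_⟩
  rintro p (hp | hp)
  · obtain ⟨q, rfl⟩ := hC3 hp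
    exact ⟨PrimeSpectrum.comap (RingHom.fst C D) q, by
      rw [← PrimeSpectrum.comap_comp_apply]; rfl⟩
  · obtain ⟨q, rfl⟩ := hD3 hp
    exact ⟨PrimeSpectrum.comap (RingHom.snd C D) q, by
      rw [← PrimeSpectrum.comap_comp_apply]; rfl⟩

/-- If a module becomes projective on an etale neighbourhood of every point, it is projective. -/
theorem projective_of_etale_local (A : Type u) [CommRing A] (N : Type u) [AddCommGroup N]
    [Module A N]
    (h : ∀ (p : Ideal A) [p.IsPrime], ∃ (A₁ : Type u) (_ : CommRing A₁) (_ : Algebra A A₁)
      (p₁ : Ideal A₁) (_ : p₁.IsPrime), Algebra.Etale A A₁ ∧ p₁.LiesOver p ∧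
        Module.Projective A₁ (A₁ ⊗[A] N)) :
    Module.Projective A N := by
  have key : Good A N Set.univ := by
    refine isCompact_univ.induction_on (p := Good A N) ?_ ?_ ?_ ?_
    · refine ⟨PUnit.{u + 1}, inferInstance, inferInstance, ?_, ?_, Set.empty_subset _⟩
      · infer_instance
      · have : Subsingleton (PUnit.{u + 1} ⊗[A] N) := Module.subsingleton PUnit.{u + 1} _
        infer_instance
    · intro s t hst ht
      obtain ⟨C, _, _, hC1, hC2, hC3⟩ := ht
      exact ⟨C, inferInstance, inferInstance, hC1, hC2, hst.trans hC3⟩
    · intro s t hs ht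
      exact good_union hs ht
    · intro p _
      obtain ⟨A₁, _, _, p₁, _, h1, h2, h3⟩ := h p.asIdeal
      have : Module.Flat A A₁ := Algebra.Smooth.flat A A₁
      have : Algebra.HasGoingDown A A₁ := Algebra.HasGoingDown.of_flat
      have hopen : IsOpenMap (PrimeSpectrum.comap (algebraMap A A₁)) :=
        PrimeSpectrum.isOpenMap_comap_of_hasGoingDown_of_finitePresentation
      refine ⟨Set.range (PrimeSpectrum.comap (algebraMap A A₁)), ?_,
        ⟨A₁, inferInstance, inferInstance, inferInstance, h3, subset_rfl⟩⟩
      rw [nhdsWithin_univ]
      refine hopen.isOpen_range.mem_nhds ⟨⟨p₁, inferInstance⟩, ?_⟩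
      ext1
      exact h2.over.symm
  obtain ⟨C, _, _, hC1, hC2, hC3⟩ := key
  have : Module.FaithfullyFlat A C :=
    Module.FaithfullyFlat.of_comap_surjective fun p => hC3 (Set.mem_univ p)
  exact Groth.Agent.S0585.result A C N

end Groth.Agent.Flat2A.EtaleProjGlue
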