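import Groth.Agent.Flat2A.FiberAss
import Groth.Agent.Ega4A.SuppTensor
import Mathlib.RingTheory.Ideal.AssociatedPrime.Localization
import Mathlib.RingTheory.QuasiFinite.Basic

set_option autoImplicit false
universe u

/-!
# Support of fibre modules
-/

namespace Groth.Agent.Flat2A.FiberSupp

open TensorProduct Flat2A.Fiber Flat2A.FiberAss

attribute [local instance] Algebra.TensorProduct.rightAlgebra

variable {R S : Type u} [CommRing R] [CommRing S] [Algebra R S]
  (N : Type u) [AddCommGroup N] [Module S N] [Module R N] [IsScalarTower R S N] [Module.Finite S N]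

/-- The support of a fibre module of a finite module. -/
theorem mem_support_fiberMod_iff (p : Ideal R) [p.IsPrime] (Q : PrimeSpectrum (p.Fiber S)) :
    Q ∈ Module.support (p.Fiber S) (FlatCA.fiberMod p S N) ↔
      Module.annihilator S N ≤ Q.asIdeal.comap (toFiber p S) := by
  have h := Ega4A.SuppTensor.support_baseChange (A := S) (B := p.Fiber S) N
  have h2 : Q ∈ Module.support (p.Fiber S) ((p.Fiber S) ⊗[S] N) ↔
      Module.annihilator S N ≤ Q.asIdeal.comap (toFiber p S) := by
    rw [h, Set.mem_preimage, Module.support_eq_zeroLocus, PrimeSpectrum.mem_zeroLocus, SetLike.coe_subset_coe]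
    rfl
  exact h2

theorem annihilator_fiberMod_le_iff (p : Ideal R) [p.IsPrime] (Q : Ideal (p.Fiber S)) [hQ : Q.IsPrime] :
    Module.annihilator (p.Fiber S) (FlatCA.fiberMod p S N) ≤ Q ↔
      Module.annihilator S N ≤ Q.comap (toFiber p S) := by
  have h := mem_support_fiberMod_iff N p ⟨Q, hQ⟩
  have hfin := fiberMod_finite (R := R) (S := S) N p
  rw [Module.support_eq_zeroLocus, PrimeSpectrum.mem_zeroLocus, SetLike.coe_subset_coe] at h
  exact h

/-- A prime over `t` containing the annihilator of the finite module `N`, which is minimal among such primes over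
`t`, is an associated prime of the fibre module over `t`. -/
theorem mem_ass_of_minimal [Algebra.FiniteType R S] (t : Ideal R) [t.IsPrime] (P : Ideal S) [hP : P.IsPrime] [ht : P.LiesOver t]
    (hann : Module.annihilator S N ≤ P)
    (hmin : ∀ (P₀ : Ideal S) [P₀.IsPrime], P₀.LiesOver t → Module.annihilator S N ≤ P₀ → P₀ ≤ P → P₀ = P) :
    P ∈ associatedPrimes S (FlatCA.fiberMod t S N) := by
  rw [mem_associatedPrimes_fiberMod_iff]
  refine ⟨hP, ht, ?_⟩
  have hprime := fiberIdeal_isPrime t P
  have hnoeth := fiber_isNoetherianRing (S := S) t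
  have hfin := fiberMod_finite (R := R) (S := S) N t
  have hc := comap_fiberIdeal t P
  apply Module.associatedPrimes.minimalPrimes_annihilator_subset_associatedPrimes (t.Fiber S) (FlatCA.fiberMod t S N)
  refine ⟨⟨hprime, ?_⟩, ?_⟩
  · rw [annihilator_fiberMod_le_iff]
    rw [show (FlatCA.fiberIdeal t P).comap (toFiber t S) = P from hc]
    exact hann
  · rintro Q ⟨hQp, hQann⟩ hQle
    rw [annihilator_fiberMod_le_iff] at hQann
    have h1 : (Q.comap (toFiber t S)).LiesOver t := liesOver_of_comap t Q hQp.ne_top
    have h2 : Q.comap (toFiber t S) ≤ P := by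
      rw [← hc]
      exact Ideal.comap_mono hQle
    have h3 := hmin (Q.comap (toFiber t S)) h1 hQann h2
    have h4 := fiberIdeal_comap t Q
    rw [← h4]
    rw [show Q.comap (Algebra.TensorProduct.includeRight (R := R) (A := t.ResidueField) (B := S)).toRingHom = P from h3]

end Groth.Agent.Flat2A.FiberSupp
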