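import Groth.Agent.Flat2A.FiberAss
import Mathlib.RingTheory.Localization.BaseChange
import Mathlib.LinearAlgebra.TensorProduct.Tower
import Mathlib.RingTheory.Flat.Localization
import Mathlib.RingTheory.Flat.Basic

/-!
# Fibre modules as tensor products

* `fiberModEquiv` : `FlatCA.fiberMod p S N ≃ₗ[S] N ⊗[R] p.ResidueField`
* `mem_nzd_iff` : `s ∈ nonZeroSMulDivisors S (fiberMod p S N)` iff `s` acts injectively on `N ⊗[R] κ(p)`
* `mem_nzd_localization` : passage of nonzerodivisors on the fibre to `R_p → S₁` and `N₁` where `N₁` is any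
  localization of `N`
-/

set_option autoImplicit false
universe u

namespace Groth.Agent.Flat2A.FiberTensor

open TensorProduct Flat2A.Fiber Flat2A.FiberAss

section equiv

variable {R S : Type u} [CommRing R] [CommRing S] [Algebra R S] (p : Ideal R) [p.IsPrime]
  (N : Type u) [AddCommGroup N] [Module S N] [Module R N] [IsScalarTower R S N]

/-- The fibre module over `p` is `N ⊗[R] κ(p)`, linearly over `S`. -/
noncomputable def fiberModEquiv : FlatCA.fiberMod p S N ≃ₗ[S] N ⊗[R] p.ResidueField :=
  letI : Algebra S (p.Fiber S) := Algebra.TensorProduct.rightAlgebra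
  let e1 : p.Fiber S ≃ₗ[S] S ⊗[R] p.ResidueField :=
    (Algebra.TensorProduct.commRight R S p.ResidueField).symm.toLinearEquiv
  let e2 : (p.Fiber S) ⊗[S] N ≃ₗ[S] N ⊗[S] (S ⊗[R] p.ResidueField) :=
    TensorProduct.comm S _ _ ≪≫ₗ TensorProduct.congr (LinearEquiv.refl S N) e1
  (show (p.Fiber S) ⊗[S] N ≃ₗ[S] N ⊗[R] p.ResidueField from
    e2 ≪≫ₗ TensorProduct.AlgebraTensorModule.cancelBaseChange R S S N p.ResidueField)

theorem fiberModEquiv_toFiberMod (n : N) :
    fiberModEquiv p N (FlatCA.toFiberMod p S N n) = n ⊗ₜ 1 := by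
  let _ : Algebra S (p.Fiber S) := Algebra.TensorProduct.rightAlgebra
  change TensorProduct.AlgebraTensorModule.cancelBaseChange R S S N p.ResidueField
    (n ⊗ₜ[S] ((Algebra.TensorProduct.commRight R S p.ResidueField).symm (1 : p.Fiber S))) = _
  rw [map_one, Algebra.TensorProduct.one_def,
    TensorProduct.AlgebraTensorModule.cancelBaseChange_tmul, one_smul]

theorem mem_nzd_iff (s : S) : s ∈ nonZeroSMulDivisors S (FlatCA.fiberMod p S N) ↔
    ∀ z : N ⊗[R] p.ResidueField, s • z = 0 → z = 0 := by
  constructor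
  · intro h z hz
    have h1 : s • (fiberModEquiv (S := S) p N).symm z = 0 := by rw [← map_smul, hz, map_zero]
    have h2 := h _ h1
    rwa [LinearEquiv.map_eq_zero_iff] at h2
  · intro h y hy
    have h1 : s • (fiberModEquiv (S := S) p N) y = 0 := by rw [← map_smul, hy, map_zero]
    have h2 := h _ h1
    rwa [LinearEquiv.map_eq_zero_iff] at h2

end equiv

section residue

variable {R : Type u} [CommRing R] (p : Ideal R) [p.IsPrime]

/-- The residue field at the maximal ideal of `R_p` is the residue field at `p`. -/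
noncomputable def residueEquiv :
    p.ResidueField ≃ₗ[Localization.AtPrime p]
      (IsLocalRing.maximalIdeal (Localization.AtPrime p)).ResidueField :=
  (LinearEquiv.ofBijective (Algebra.linearMap
    (Localization.AtPrime p ⧸ IsLocalRing.maximalIdeal (Localization.AtPrime p))
    (IsLocalRing.maximalIdeal (Localization.AtPrime p)).ResidueField)
    (Ideal.bijective_algebraMap_quotient_residueField
      (IsLocalRing.maximalIdeal (Localization.AtPrime p)))).restrictScalars (Localization.AtPrime p)

end residue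

section localization

variable {R S : Type u} [CommRing R] [CommRing S] [Algebra R S] (p : Ideal R) [p.IsPrime]
  (S₁ : Type u) [CommRing S₁] [Algebra S S₁] [Algebra R S₁] [IsScalarTower R S S₁]
  [Algebra (Localization.AtPrime p) S₁] [IsScalarTower R (Localization.AtPrime p) S₁]
  (N₁ : Type u) [AddCommGroup N₁] [Module S₁ N₁] [Module S N₁] [IsScalarTower S S₁ N₁]
  [Module R N₁] [IsScalarTower R S N₁] [IsScalarTower R S₁ N₁] [Module (Localization.AtPrime p) N₁]
  [IsScalarTower R (Localization.AtPrime p) N₁]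
  [IsScalarTower (Localization.AtPrime p) S₁ N₁]

/-- For `N₁` a module over an algebra over `R_p`, the fibre over `p` is the closed fibre over `R_p`. -/
noncomputable def residueTensorEquiv : N₁ ⊗[Localization.AtPrime p]
      (IsLocalRing.maximalIdeal (Localization.AtPrime p)).ResidueField ≃ₗ[S₁]
    N₁ ⊗[R] p.ResidueField :=
  TensorProduct.AlgebraTensorModule.congr (LinearEquiv.refl S₁ N₁) (residueEquiv p).symm ≪≫ₗ
    TensorProduct.equivOfCompatibleSMul R (Localization.AtPrime p) S₁ N₁ p.ResidueField

/-- Nonzerodivisors on the fibre over `p` are nonzerodivisors on the closed fibre of any localization. -/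
theorem mem_nzd_localization (N : Type u) [AddCommGroup N] [Module S N] [Module R N] [IsScalarTower R S N]
    (T : Submonoid S) (f : N →ₗ[S] N₁) [IsLocalizedModule T f] (s : S)
    (hs : s ∈ nonZeroSMulDivisors S (FlatCA.fiberMod p S N)) :
    algebraMap S S₁ s ∈ nonZeroSMulDivisors S₁ (FlatCA.fiberMod
      (IsLocalRing.maximalIdeal (Localization.AtPrime p)) S₁ N₁) := by
  rw [mem_nzd_iff] at hs ⊢
  intro z hz
  rw [← (residueTensorEquiv p S₁ N₁).map_eq_zero_iff]
  have h1 : s • (residueTensorEquiv p S₁ N₁ z) = 0 := by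
    rw [← algebraMap_smul S₁ s, ← map_smul, hz, map_zero]
  obtain ⟨⟨x, t⟩, hx⟩ := IsLocalizedModule.mk'_surjective T
    (AlgebraTensorModule.rTensor R p.ResidueField f) (residueTensorEquiv p S₁ N₁ z)
  simp only [Function.uncurry_apply_pair] at hx
  rw [← hx] at h1 ⊢
  rw [← IsLocalizedModule.mk'_smul, IsLocalizedModule.mk'_eq_zero'] at h1
  obtain ⟨u, hu⟩ := h1
  have h2 : s • (u.1 • x) = 0 := by rw [smul_comm]; exact hu
  have h3 := hs _ h2
  rw [IsLocalizedModule.mk'_eq_zero']
  exact ⟨u, h3⟩

end localization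

end Groth.Agent.Flat2A.FiberTensor
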