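import Mathlib.Algebra.Module.FinitePresentation
import Mathlib.RingTheory.FinitePresentation
import Mathlib.RingTheory.TensorProduct.IsBaseChangeRightExact
import Mathlib.RingTheory.TensorProduct.IsBaseChangePi
import Mathlib.RingTheory.TensorProduct.MvPolynomial
import Mathlib.RingTheory.FiniteType
import Mathlib.RingTheory.Polynomial.Basic

/-!
# Noetherian models of linear maps between finitely presented modules

`exists_model_map` : if `B` is a finitely presented `A`-algebra and `u : M → M'` a `B`-linear map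
between finitely presented `B`-modules, there are a `ℤ`-subalgebra of finite type `A₀` of `A` and a
linear map `u₀ : M₀ → M₀'` between finite modules over some polynomial ring `A₀[x_1, …, x_n]` with
`A ⊗[A₀] u₀ ≃ u`.
-/

set_option autoImplicit false

open TensorProduct Module

namespace Groth.Agent.Flat2A.FibreInjModel

universe u v w v'

attribute [local instance] MvPolynomial.algebraMvPolynomial

section matrices

variable {A : Type u} [CommRing A] (n : ℕ)

/-- The coefficients of the matrix of a linear map between finite free modules over a polynomial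
ring. -/
noncomputable def matCoeffs {m r : ℕ}
    (f : (Fin m → MvPolynomial (Fin n) A) →ₗ[MvPolynomial (Fin n) A]
      (Fin r → MvPolynomial (Fin n) A)) : Finset A :=
  open scoped Classical in
  Finset.univ.biUnion fun j : Fin m => Finset.univ.biUnion fun i : Fin r =>
    (f (Pi.single j 1) i).coeffs

variable (A₀ : Subalgebra ℤ A)

/-- The comparison map of free modules. -/
noncomputable abbrev cmp (m : ℕ) : (Fin m → MvPolynomial (Fin n) A₀) →ₗ[MvPolynomial (Fin n) A₀]
    (Fin m → MvPolynomial (Fin n) A) :=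
  (Algebra.linearMap (MvPolynomial (Fin n) A₀) (MvPolynomial (Fin n) A)).compLeft (Fin m)

theorem cmp_injective (m : ℕ) : Function.Injective (cmp n A₀ m) := by
  intro x y hxy
  funext i
  have h := congrFun hxy i
  exact MvPolynomial.map_injective (algebraMap A₀ A) Subtype.val_injective h

/-- A matrix over a polynomial ring comes from the subring generated by its coefficients. -/
theorem exists_matrix_model {m r : ℕ}
    (f : (Fin m → MvPolynomial (Fin n) A) →ₗ[MvPolynomial (Fin n) A]
      (Fin r → MvPolynomial (Fin n) A)) (hs : (matCoeffs n f : Set A) ⊆ A₀) :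
    ∃ f₀ : (Fin m → MvPolynomial (Fin n) A₀) →ₗ[MvPolynomial (Fin n) A₀]
        (Fin r → MvPolynomial (Fin n) A₀),
      (cmp n A₀ r).comp f₀ = (f.restrictScalars (MvPolynomial (Fin n) A₀)).comp (cmp n A₀ m) := by
  classical
  have hcoeff : ∀ j i, f (Pi.single j 1) i ∈ Set.range (MvPolynomial.map (σ := Fin n)
      (algebraMap A₀ A)) := by
    intro j i
    rw [MvPolynomial.mem_range_map_iff_coeffs_subset]
    intro a ha
    refine ⟨⟨a, hs ?_⟩, rfl⟩
    rw [matCoeffs, Finset.mem_coe, Finset.mem_biUnion]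
    refine ⟨j, Finset.mem_univ _, ?_⟩
    rw [Finset.mem_biUnion]
    exact ⟨i, Finset.mem_univ _, ha⟩
  choose v hv using hcoeff
  have hmap : ∀ x : MvPolynomial (Fin n) A₀,
      algebraMap (MvPolynomial (Fin n) A₀) (MvPolynomial (Fin n) A) x =
        MvPolynomial.map (algebraMap A₀ A) x := fun x => rfl
  refine ⟨Fintype.linearCombination (MvPolynomial (Fin n) A₀) v, ?_⟩
  refine LinearMap.pi_ext' fun j => ?_
  refine LinearMap.ext_ring (funext fun i => ?_)
  have : (Algebra.linearMap (MvPolynomial (Fin n) A₀) (MvPolynomial (Fin n) A)).compLeft (Fin m)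
      (Pi.single j (1 : MvPolynomial (Fin n) A₀)) =
      Pi.single j (1 : MvPolynomial (Fin n) A) := by
    ext1 k
    by_cases hk : k = j
    · subst hk; simp
    · simp [hk]
  simp only [LinearMap.comp_apply, LinearMap.coe_single, Fintype.linearCombination_apply_single,
    one_smul, LinearMap.restrictScalars_apply]
  rw [this, ← hv, ← hmap]
  rfl

end matrices

/-- Model for a linear map of finitely presented modules over a polynomial ring. -/
theorem exists_model_mvPolynomial {A : Type u} [CommRing A] (n : ℕ)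
    (M : Type v) [AddCommGroup M]
    [Module (MvPolynomial (Fin n) A) M] [Module A M] [IsScalarTower A (MvPolynomial (Fin n) A) M]
    [Module.FinitePresentation (MvPolynomial (Fin n) A) M]
    (M' : Type v') [AddCommGroup M']
    [Module (MvPolynomial (Fin n) A) M'] [Module A M'] [IsScalarTower A (MvPolynomial (Fin n) A) M']
    [Module.FinitePresentation (MvPolynomial (Fin n) A) M']
    (u : M →ₗ[MvPolynomial (Fin n) A] M') :
    ∃ (s : Finset A), ∀ A₀ : Subalgebra ℤ A, (s : Set A) ⊆ A₀ →
      ∃ (M₀ : Type u) (_ : AddCommGroup M₀)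
      (_ : Module A₀ M₀) (_ : Module (MvPolynomial (Fin n) A₀) M₀)
      (_ : IsScalarTower A₀ (MvPolynomial (Fin n) A₀) M₀)
      (M₀' : Type u) (_ : AddCommGroup M₀')
      (_ : Module A₀ M₀') (_ : Module (MvPolynomial (Fin n) A₀) M₀')
      (_ : IsScalarTower A₀ (MvPolynomial (Fin n) A₀) M₀')
      (u₀ : M₀ →ₗ[MvPolynomial (Fin n) A₀] M₀')
      (e : A ⊗[A₀] M₀ ≃ₗ[A] M) (e' : A ⊗[A₀] M₀' ≃ₗ[A] M'),
      Module.Finite (MvPolynomial (Fin n) A₀) M₀ ∧ Module.Finite (MvPolynomial (Fin n) A₀) M₀' ∧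
      ∀ x, e' ((u₀.restrictScalars A₀).baseChange A x) = u (e x) := by
  classical
  obtain ⟨r, m, g, f, hg, hfg⟩ :=
    Module.FinitePresentation.exists_fin' (MvPolynomial (Fin n) A) M
  obtain ⟨r', m', g', f', hg', hfg'⟩ :=
    Module.FinitePresentation.exists_fin' (MvPolynomial (Fin n) A) M'
  obtain ⟨U, hU⟩ := Module.projective_lifting_property g' (u ∘ₗ g) hg'
  have hUf : ∀ x, ∃ y, f' y = U (f x) := by
    intro x
    apply (hfg' _).mp
    have : g' (U (f x)) = u (g (f x)) := LinearMap.congr_fun hU (f x)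
    rw [this, hfg.apply_apply_eq_zero, map_zero]
  obtain ⟨V, hV⟩ : ∃ V : (Fin m → MvPolynomial (Fin n) A) →ₗ[MvPolynomial (Fin n) A]
      (Fin m' → MvPolynomial (Fin n) A), f' ∘ₗ V = U ∘ₗ f := by
    choose y hy using hUf
    refine ⟨(Pi.basisFun _ (Fin m)).constr (MvPolynomial (Fin n) A)
      (fun j => y (Pi.single j 1)), ?_⟩
    apply (Pi.basisFun _ (Fin m)).ext
    intro j
    rw [LinearMap.comp_apply, Module.Basis.constr_basis, hy]
    simp
  let P := MvPolynomial (Fin n) A
  refine ⟨matCoeffs n f ∪ matCoeffs n f' ∪ matCoeffs n U ∪ matCoeffs n V, fun A₀ hA₀ => ?_⟩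
  let P₀ := MvPolynomial (Fin n) A₀
  simp only [Finset.coe_union, Set.union_subset_iff] at hA₀
  obtain ⟨⟨⟨hAf, hAf'⟩, hAU⟩, hAV⟩ := hA₀
  obtain ⟨f₀, hf₀⟩ := exists_matrix_model n A₀ f hAf
  obtain ⟨f₀', hf₀'⟩ := exists_matrix_model n A₀ f' hAf'
  obtain ⟨U₀, hU₀⟩ := exists_matrix_model n A₀ U hAU
  obtain ⟨V₀, hV₀⟩ := exists_matrix_model n A₀ V hAV
  have hUV₀ : f₀' ∘ₗ V₀ = U₀ ∘ₗ f₀ := by
    refine LinearMap.ext fun x => cmp_injective n A₀ r' ?_
    have h1 := LinearMap.congr_fun hf₀' (V₀ x)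
    have h2 := LinearMap.congr_fun hV₀ x
    have h3 := LinearMap.congr_fun hU₀ (f₀ x)
    have h4 := LinearMap.congr_fun hf₀ x
    have h5 := LinearMap.congr_fun hV (cmp n A₀ m x)
    simp only [LinearMap.comp_apply, LinearMap.restrictScalars_apply] at h1 h2 h3 h4 h5 ⊢
    rw [h1, h2, h3, h4, h5]
  have h0 : IsBaseChange P (Algebra.linearMap P₀ P) := IsBaseChange.linearMap P₀ P
  let _ : Module P₀ M := Module.compHom M (algebraMap P₀ P)
  have : IsScalarTower P₀ P M := IsScalarTower.of_algebraMap_smul (fun r x => rfl)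
  let _ : Module P₀ M' := Module.compHom M' (algebraMap P₀ P)
  have : IsScalarTower P₀ P M' := IsScalarTower.of_algebraMap_smul (fun r x => rfl)
  let N₀ := LinearMap.range f₀
  let M₀ := (Fin r → P₀) ⧸ N₀
  let N₀' := LinearMap.range f₀'
  let M₀' := (Fin r' → P₀) ⧸ N₀'
  let h₃ : M₀ →ₗ[P₀] M := N₀.liftQ ((g.restrictScalars P₀).comp (cmp n A₀ r)) (by
    rintro _ ⟨x, rfl⟩
    rw [LinearMap.mem_ker, LinearMap.comp_apply, ← LinearMap.comp_apply (cmp n A₀ r) f₀, hf₀]
    exact hfg.apply_apply_eq_zero _)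
  let h₃' : M₀' →ₗ[P₀] M' := N₀'.liftQ ((g'.restrictScalars P₀).comp (cmp n A₀ r')) (by
    rintro _ ⟨x, rfl⟩
    rw [LinearMap.mem_ker, LinearMap.comp_apply, ← LinearMap.comp_apply (cmp n A₀ r') f₀', hf₀']
    exact hfg'.apply_apply_eq_zero _)
  have comm₂ : h₃.comp N₀.mkQ = (g.restrictScalars P₀).comp (cmp n A₀ r) := N₀.liftQ_mkQ _ _
  have comm₂' : h₃'.comp N₀'.mkQ = (g'.restrictScalars P₀).comp (cmp n A₀ r') :=
    N₀'.liftQ_mkQ _ _
  have hbc : IsBaseChange P h₃ :=
    IsBaseChange.of_right_exact P (cmp n A₀ m) (cmp n A₀ r) h₃ hf₀ comm₂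
      (h0.finitePow (Fin m)) (h0.finitePow (Fin r))
      (LinearMap.exact_map_mkQ_range f₀) N₀.mkQ_surjective hfg hg
  have hbc' : IsBaseChange P h₃' :=
    IsBaseChange.of_right_exact P (cmp n A₀ m') (cmp n A₀ r') h₃' hf₀' comm₂'
      (h0.finitePow (Fin m')) (h0.finitePow (Fin r'))
      (LinearMap.exact_map_mkQ_range f₀') N₀'.mkQ_surjective hfg' hg'
  let u₀ : M₀ →ₗ[P₀] M₀' := N₀.mapQ N₀' U₀ (by
    rintro _ ⟨x, rfl⟩
    rw [Submodule.mem_comap]
    exact ⟨V₀ x, LinearMap.congr_fun hUV₀ x⟩)
  have hcomm : ∀ x, h₃' (u₀ x) = u (h₃ x) := by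
    intro x
    obtain ⟨y, rfl⟩ := N₀.mkQ_surjective x
    have h1 := LinearMap.congr_fun comm₂' (U₀ y)
    have h2 := LinearMap.congr_fun comm₂ y
    have h3 := LinearMap.congr_fun hU₀ y
    have h4 := LinearMap.congr_fun hU (cmp n A₀ r y)
    simp only [LinearMap.comp_apply, LinearMap.restrictScalars_apply] at h1 h2 h3 h4
    have h5 : u₀ (N₀.mkQ y) = N₀'.mkQ (U₀ y) := rfl
    rw [h5, h1, h2, h3, h4]
  let e : A ⊗[A₀] M₀ ≃ₗ[A] M := (Algebra.IsPushout.cancelBaseChange A₀ A P₀ P M₀).symm ≪≫ₗ
    hbc.equiv.restrictScalars A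
  let e' : A ⊗[A₀] M₀' ≃ₗ[A] M' := (Algebra.IsPushout.cancelBaseChange A₀ A P₀ P M₀').symm ≪≫ₗ
    hbc'.equiv.restrictScalars A
  refine ⟨M₀, inferInstance, inferInstance, inferInstance, inferInstance, M₀', inferInstance,
    inferInstance, inferInstance, inferInstance, u₀, e, e', inferInstance, inferInstance, ?_⟩
  intro x
  induction x with
  | zero => simp
  | add x y hx hy =>
    rw [LinearMap.map_add (LinearMap.baseChange A (u₀.restrictScalars A₀)), LinearEquiv.map_add e',
      LinearEquiv.map_add e, LinearMap.map_add u, hx, hy]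
  | tmul a x =>
    have h1 : e (a ⊗ₜ x) = a • h₃ x := by
      simp only [e, LinearEquiv.trans_apply, Algebra.IsPushout.cancelBaseChange_symm_tmul,
        LinearEquiv.restrictScalars_apply, IsBaseChange.equiv_tmul, algebraMap_smul]
    have h2 : e' (a ⊗ₜ u₀ x) = a • h₃' (u₀ x) := by
      simp only [e', LinearEquiv.trans_apply, Algebra.IsPushout.cancelBaseChange_symm_tmul,
        LinearEquiv.restrictScalars_apply, IsBaseChange.equiv_tmul, algebraMap_smul]
    rw [LinearMap.baseChange_tmul, LinearMap.restrictScalars_apply, h1, h2, hcomm]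
    exact (LinearMap.map_smul_of_tower u a (h₃ x)).symm

/-- Noetherian model of a linear map of finitely presented modules over a finitely presented
algebra. -/
theorem exists_model_map (A : Type u) (B : Type w) [CommRing A] [CommRing B] [Algebra A B]
    [Algebra.FinitePresentation A B] (M : Type v) [AddCommGroup M] [Module B M] [Module A M]
    [IsScalarTower A B M] [Module.FinitePresentation B M]
    (M' : Type v') [AddCommGroup M'] [Module B M'] [Module A M']
    [IsScalarTower A B M'] [Module.FinitePresentation B M'] (u : M →ₗ[B] M') :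
    ∃ (n : ℕ) (s : Finset A), ∀ A₀ : Subalgebra ℤ A, (s : Set A) ⊆ A₀ →
      ∃ (M₀ : Type u) (_ : AddCommGroup M₀)
      (_ : Module A₀ M₀) (_ : Module (MvPolynomial (Fin n) A₀) M₀)
      (_ : IsScalarTower A₀ (MvPolynomial (Fin n) A₀) M₀)
      (M₀' : Type u) (_ : AddCommGroup M₀')
      (_ : Module A₀ M₀') (_ : Module (MvPolynomial (Fin n) A₀) M₀')
      (_ : IsScalarTower A₀ (MvPolynomial (Fin n) A₀) M₀')
      (u₀ : M₀ →ₗ[MvPolynomial (Fin n) A₀] M₀')
      (e : A ⊗[A₀] M₀ ≃ₗ[A] M) (e' : A ⊗[A₀] M₀' ≃ₗ[A] M'),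
      Module.Finite (MvPolynomial (Fin n) A₀) M₀ ∧ Module.Finite (MvPolynomial (Fin n) A₀) M₀' ∧
      ∀ x, e' ((u₀.restrictScalars A₀).baseChange A x) = u (e x) := by
  obtain ⟨n, f, hf, hker⟩ := Algebra.FinitePresentation.out (R := A) (A := B)
  let P := MvPolynomial (Fin n) A
  let _ : Algebra P B := f.toAlgebra
  have : IsScalarTower A P B := IsScalarTower.of_algebraMap_eq (fun a => (f.commutes a).symm)
  let _ : Module P M := Module.compHom M f.toRingHom
  have : IsScalarTower P B M := IsScalarTower.of_algebraMap_smul (fun r x => rfl)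
  have : IsScalarTower A P M := IsScalarTower.of_algebraMap_smul (fun a x => by
    change f (algebraMap A P a) • x = a • x
    rw [f.commutes, algebraMap_smul])
  let _ : Module P M' := Module.compHom M' f.toRingHom
  have : IsScalarTower P B M' := IsScalarTower.of_algebraMap_smul (fun r x => rfl)
  have : IsScalarTower A P M' := IsScalarTower.of_algebraMap_smul (fun a x => by
    change f (algebraMap A P a) • x = a • x
    rw [f.commutes, algebraMap_smul])
  have h1 : Module.FinitePresentation P B :=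
    Module.finitePresentation_of_surjective (Algebra.linearMap P B) hf hker
  have h2 : Module.FinitePresentation P M := Module.FinitePresentation.trans P M B
  have h3 : Module.FinitePresentation P M' := Module.FinitePresentation.trans P M' B
  obtain ⟨s, hs⟩ := exists_model_mvPolynomial (A := A) n M M' (u.restrictScalars P)
  exact ⟨n, s, hs⟩

end Groth.Agent.Flat2A.FibreInjModel
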