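import Groth.Agent.FlatA.GenericFree2
import Groth.Agent.Ega43.SpreadNZD
import Groth.Agent.Ega43.ConsCrit
import Groth.Agent.Flat2A.FibreInjModel
import Mathlib.RingTheory.Flat.FaithfullyFlat.Basic
import Mathlib.RingTheory.Flat.Localization

/-!
# The locus where a linear map of finitely presented modules is fibrewise injective

`B` a finitely presented `A`-algebra, `u : M → M'` a `B`-linear map of finitely presented
`B`-modules: the set of `t : Spec A` such that `κ(t) ⊗ u` is injective is constructible.
-/

set_option autoImplicit false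

open TensorProduct Module Topology

namespace Groth.Agent.Flat2A.FibreInj

universe u v w v' x

/-- `L ⊗ u` is injective. -/
def InjOn {R : Type*} {M M' : Type*} [CommRing R] [AddCommGroup M] [Module R M] [AddCommGroup M']
    [Module R M'] (u : M →ₗ[R] M') (L : Type*) [CommRing L] [Algebra R L] : Prop :=
  Function.Injective (LinearMap.lTensor L u)

section BC

variable {R S : Type*} {M M' : Type*} [CommRing R] [CommRing S] [Algebra R S]
  [AddCommGroup M] [Module R M] [AddCommGroup M'] [Module R M'] (u : M →ₗ[R] M')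
  (L : Type*) [CommRing L] [Algebra R L] [Algebra S L] [IsScalarTower R S L]

theorem injOn_baseChange_iff : InjOn (u.baseChange S) L ↔ InjOn u L := by
  let e := AlgebraTensorModule.cancelBaseChange R S L L M
  let e' := AlgebraTensorModule.cancelBaseChange R S L L M'
  have key : (LinearMap.lTensor L u) ∘ e = e' ∘ LinearMap.lTensor L (u.baseChange S) := by
    funext x
    simp only [Function.comp_apply]
    induction x with
    | zero => simp
    | add x y hx hy => simp only [map_add, hx, hy]
    | tmul a x =>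
      induction x with
      | zero => simp
      | add x y hx hy => simp only [tmul_add, map_add, hx, hy]
      | tmul s c => simp [e, e']
  unfold InjOn
  rw [← Function.Injective.of_comp_iff e'.injective, ← key,
    Function.Injective.of_comp_iff' _ e.bijective]

end BC

theorem injOn_congr {R : Type*} {M M' N N' : Type*} [CommRing R] [AddCommGroup M] [Module R M]
    [AddCommGroup M'] [Module R M'] [AddCommGroup N] [Module R N] [AddCommGroup N'] [Module R N']
    (u : M →ₗ[R] M') (v : N →ₗ[R] N') (e : M ≃ₗ[R] N) (e' : M' ≃ₗ[R] N')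
    (h : ∀ x, e' (u x) = v (e x)) (L : Type*) [CommRing L] [Algebra R L] :
    InjOn u L ↔ InjOn v L := by
  have h1 : e'.toLinearMap ∘ₗ u = v ∘ₗ e.toLinearMap := LinearMap.ext h
  have h2 : (e'.toLinearMap.lTensor L) ∘ₗ (u.lTensor L) = (v.lTensor L) ∘ₗ (e.toLinearMap.lTensor L) := by
    rw [← LinearMap.lTensor_comp, h1, LinearMap.lTensor_comp]
  have he : Function.Bijective (e.toLinearMap.lTensor L) := (e.lTensor L).bijective
  have he' : Function.Bijective (e'.toLinearMap.lTensor L) := (e'.lTensor L).bijective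
  unfold InjOn
  rw [← Function.Injective.of_comp_iff he'.injective, ← LinearMap.coe_comp, h2, LinearMap.coe_comp,
    Function.Injective.of_comp_iff' _ he]

/-- Field extensions do not change injectivity. -/
theorem injOn_field_iff {R : Type*} {M M' : Type*} [CommRing R] [AddCommGroup M] [Module R M]
    [AddCommGroup M'] [Module R M'] (u : M →ₗ[R] M') (K L : Type*) [Field K] [Field L]
    [Algebra R K] [Algebra R L] [Algebra K L] [IsScalarTower R K L] :
    InjOn u K ↔ InjOn u L := by
  rw [← injOn_baseChange_iff (S := K) u L]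
  have h1 : InjOn u K ↔ Function.Injective (u.baseChange K) := Iff.rfl
  rw [h1, InjOn]
  exact (Module.FaithfullyFlat.lTensor_injective_iff_injective K L (u.baseChange K)).symm

section domain

open Groth.Agent.FlatA.GenericFree

/-- If the cokernel becomes projective over the flat `R`-algebra `S`, then an injective map stays
injective over every `S`-algebra. -/
theorem injOn_of_exact {R S : Type*} [CommRing R] [CommRing S] [Algebra R S] [Module.Flat R S]
    {X Y Z : Type*} [AddCommGroup X] [Module R X] [AddCommGroup Y] [Module R Y] [AddCommGroup Z]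
    [Module R Z] (f : X →ₗ[R] Y) (q : Y →ₗ[R] Z) (hf : Function.Injective f)
    (hq : Function.Surjective q) (hex : Function.Exact f q) [Module.Projective S (S ⊗[R] Z)]
    (L : Type*) [CommRing L] [Algebra R L] [Algebra S L] [IsScalarTower R S L] : InjOn f L := by
  rw [← injOn_baseChange_iff (S := S)]
  have h1 : Function.Injective (f.baseChange S) := Module.Flat.lTensor_preserves_injective_linearMap f hf
  have h2 : Function.Surjective (q.baseChange S) := LinearMap.lTensor_surjective S hq
  have h3 : Function.Exact (f.baseChange S) (q.baseChange S) := lTensor_exact S hex hq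
  obtain ⟨l, hl⟩ := Module.projective_lifting_property (q.baseChange S) LinearMap.id h2
  obtain ⟨r, hr⟩ := ((h3.split_tfae h1 h2).out 0 1 rfl rfl).mp ⟨l, hl⟩
  refine Function.HasLeftInverse.injective ⟨LinearMap.lTensor L r, fun x ↦ ?_⟩
  rw [← LinearMap.comp_apply, ← LinearMap.lTensor_comp, hr, LinearMap.lTensor_id,
    LinearMap.id_apply]

/-- Generic behaviour of fibrewise injectivity over a Noetherian domain. -/
theorem exists_forall_injOn_or {D : Type u} {C : Type v} {M : Type w} {M' : Type v'} [CommRing D]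
    [IsDomain D] [IsNoetherianRing D] [CommRing C] [Algebra D C] [Algebra.FiniteType D C]
    [AddCommGroup M] [Module C M] [Module D M] [IsScalarTower D C M] [Module.Finite C M]
    [AddCommGroup M'] [Module C M'] [Module D M'] [IsScalarTower D C M'] [Module.Finite C M']
    (u : M →ₗ[C] M') :
    ∃ g : D, g ≠ 0 ∧ ((∀ (L : Type x) [CommRing L] [Algebra D L], IsUnit (algebraMap D L g) →
      InjOn (u.restrictScalars D) L) ∨ (∀ (L : Type x) [CommRing L] [Nontrivial L] [Algebra D L],
        IsUnit (algebraMap D L g) → ¬ InjOn (u.restrictScalars D) L)) := by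
  have hC : IsNoetherianRing C := Algebra.FiniteType.isNoetherianRing D C
  obtain ⟨f₁, hf₁, h₁⟩ := genFree_of_finiteType (R := D) C (M' ⧸ LinearMap.range u)
  obtain ⟨f₂, hf₂, h₂⟩ := genFree_of_finiteType (R := D) C (LinearMap.range u)
  obtain ⟨f₃, hf₃, h₃⟩ := genFree_of_finiteType (R := D) C (LinearMap.ker u)
  let g := f₁ * f₂ * f₃
  have hg : g ≠ 0 := mul_ne_zero (mul_ne_zero hf₁ hf₂) hf₃
  have h₁' : FreeAway D (M' ⧸ LinearMap.range u) g :=
    h₁.of_dvd (dvd_mul_of_dvd_left (dvd_mul_right _ _) _)
  have h₂' : FreeAway D (LinearMap.range u) g :=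
    h₂.of_dvd (dvd_mul_of_dvd_left (dvd_mul_left _ _) _)
  have h₃' : FreeAway D (LinearMap.ker u) g := h₃.of_dvd (dvd_mul_left _ _)
  let Dg := Localization.Away g
  have free₁ : Module.Free Dg (Dg ⊗[D] (M' ⧸ LinearMap.range u)) := h₁'.free_tensor Dg
  have free₂ : Module.Free Dg (Dg ⊗[D] (LinearMap.range u)) := h₂'.free_tensor Dg
  have free₃ : Module.Free Dg (Dg ⊗[D] (LinearMap.ker u)) := h₃'.free_tensor Dg
  let i : LinearMap.ker u →ₗ[D] M := (LinearMap.ker u).subtype.restrictScalars D
  let π : M →ₗ[D] LinearMap.range u := u.rangeRestrict.restrictScalars D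
  let j : LinearMap.range u →ₗ[D] M' := (LinearMap.range u).subtype.restrictScalars D
  let ρ : M' →ₗ[D] M' ⧸ LinearMap.range u := (LinearMap.range u).mkQ.restrictScalars D
  have hi : Function.Injective i := Subtype.val_injective
  have hj : Function.Injective j := Subtype.val_injective
  have hπ : Function.Surjective π := u.surjective_rangeRestrict
  have hρ : Function.Surjective ρ := (LinearMap.range u).mkQ_surjective
  have hiπ : Function.Exact i π := by
    intro x
    constructor
    · intro hx
      have hx' : u x = 0 := congrArg Subtype.val hx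
      exact ⟨⟨x, hx'⟩, rfl⟩
    · rintro ⟨y, rfl⟩
      exact Subtype.ext y.2
  have hjρ : Function.Exact j ρ := by
    intro x
    change (Submodule.Quotient.mk x : M' ⧸ LinearMap.range u) = 0 ↔ _
    rw [Submodule.Quotient.mk_eq_zero]
    constructor
    · intro hx
      exact ⟨⟨x, hx⟩, rfl⟩
    · rintro ⟨y, rfl⟩
      exact y.2
  -- the key equivalence
  have hflat : Module.Flat D Dg := IsLocalization.flat Dg (Submonoid.powers g)
  have key : ∀ (L : Type x) [CommRing L] [Algebra D L] [Algebra Dg L] [IsScalarTower D Dg L],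
      InjOn (u.restrictScalars D) L ↔ Subsingleton (L ⊗[D] (LinearMap.ker u)) := by
    intro L _ _ _ _
    have hLi : InjOn i L := injOn_of_exact (S := Dg) i π hi hπ hiπ L
    have hLj : InjOn j L := injOn_of_exact (S := Dg) j ρ hj hρ hjρ L
    have hLex : Function.Exact (i.lTensor L) (π.lTensor L) := lTensor_exact L hiπ hπ
    have hu : (u.restrictScalars D).lTensor L = (j.lTensor L) ∘ₗ (π.lTensor L) := by
      rw [← LinearMap.lTensor_comp]
      rfl
    constructor
    · intro h
      rw [InjOn, hu] at h
      have h' : Function.Injective (π.lTensor L) := Function.Injective.of_comp h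
      refine ⟨fun x y => hLi (h' ?_)⟩
      rw [hLex.apply_apply_eq_zero, hLex.apply_apply_eq_zero]
    · intro h
      rw [InjOn, hu, LinearMap.coe_comp]
      refine Function.Injective.comp hLj ?_
      rw [injective_iff_map_eq_zero]
      intro x hx
      obtain ⟨y, rfl⟩ := (hLex x).mp hx
      rw [Subsingleton.elim y 0, map_zero]
  refine ⟨g, hg, ?_⟩
  by_cases hK : Subsingleton (Dg ⊗[D] (LinearMap.ker u))
  · left
    intro L _ _ hL
    let : Algebra Dg L := (IsLocalization.Away.lift (S := Dg) g hL).toAlgebra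
    have : IsScalarTower D Dg L := IsScalarTower.of_algebraMap_eq fun a ↦ by
      rw [RingHom.algebraMap_toAlgebra, IsLocalization.Away.lift_eq]
    rw [key L]
    exact (AlgebraTensorModule.cancelBaseChange D Dg L L (LinearMap.ker u)).symm.injective.subsingleton
  · right
    intro L _ _ _ hL
    let : Algebra Dg L := (IsLocalization.Away.lift (S := Dg) g hL).toAlgebra
    have : IsScalarTower D Dg L := IsScalarTower.of_algebraMap_eq fun a ↦ by
      rw [RingHom.algebraMap_toAlgebra, IsLocalization.Away.lift_eq]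
    rw [key L]
    intro h
    have h' : Subsingleton (L ⊗[Dg] (Dg ⊗[D] (LinearMap.ker u))) :=
      (AlgebraTensorModule.cancelBaseChange D Dg L L (LinearMap.ker u)).injective.subsingleton
    have hnt : Nontrivial (Dg ⊗[D] (LinearMap.ker u)) := not_subsingleton_iff_nontrivial.mp hK
    let b := Module.Free.chooseBasis Dg (Dg ⊗[D] (LinearMap.ker u))
    have hne : Nonempty (Module.Free.ChooseBasisIndex Dg (Dg ⊗[D] (LinearMap.ker u))) :=
      b.index_nonempty
    exact (b.baseChange L).ne_zero hne.some (Subsingleton.elim _ _)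

end domain

section main

attribute [local instance] MvPolynomial.algebraMvPolynomial

/-- Preimages of constructible sets under `Spec A → Spec A₀` are constructible. -/
theorem isConstructible_comap_preimage {A₀ : Type*} {A : Type u} [CommRing A₀] [CommRing A]
    (φ : A₀ →+* A) (V : Set (PrimeSpectrum A₀)) (hV : IsConstructible V) :
    IsConstructible (PrimeSpectrum.comap φ ⁻¹' V) := by
  obtain ⟨V', hV'⟩ := PrimeSpectrum.exists_constructibleSetData_iff.mpr hV
  rw [← hV', ← PrimeSpectrum.ConstructibleSetData.toSet_map]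
  exact PrimeSpectrum.ConstructibleSetData.isConstructible_toSet _

/-- Quotients `κ(t)` as algebras over `A₀ ⧸ p₀`. -/
theorem exists_lift_residueField {A₀ A : Type*} [CommRing A₀] [CommRing A] (φ : A₀ →+* A)
    (p₀ : Ideal A₀) (t : PrimeSpectrum A) (ht : ∀ a ∈ p₀, φ a ∈ t.asIdeal) :
      ∃ (ψ : A₀ ⧸ p₀ →+* t.asIdeal.ResidueField), ∀ a : A₀, ψ (Ideal.Quotient.mk p₀ a) =
        algebraMap A t.asIdeal.ResidueField (φ a) := by
  refine ⟨Ideal.Quotient.lift p₀ ((algebraMap A t.asIdeal.ResidueField).comp φ)
    (fun a ha ↦ ?_), fun a ↦ rfl⟩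
  rw [RingHom.comp_apply, Ideal.algebraMap_residueField_eq_zero]
  exact ht a ha

/-- Generic behaviour of fibrewise injectivity for the base change to a Noetherian domain. -/
theorem exists_forall_injOn_or_baseChange {A₀ D : Type u} [CommRing A₀] [CommRing D]
    [IsDomain D] [IsNoetherianRing D] [Algebra A₀ D] (n : ℕ)
    {M₀ M₀' : Type u} [AddCommGroup M₀] [Module A₀ M₀] [Module (MvPolynomial (Fin n) A₀) M₀]
    [IsScalarTower A₀ (MvPolynomial (Fin n) A₀) M₀] [Module.Finite (MvPolynomial (Fin n) A₀) M₀]
    [AddCommGroup M₀'] [Module A₀ M₀'] [Module (MvPolynomial (Fin n) A₀) M₀']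
    [IsScalarTower A₀ (MvPolynomial (Fin n) A₀) M₀'] [Module.Finite (MvPolynomial (Fin n) A₀) M₀']
    (u₀ : M₀ →ₗ[MvPolynomial (Fin n) A₀] M₀') :
    ∃ g : D, g ≠ 0 ∧ ((∀ (L : Type u) [CommRing L] [Algebra A₀ L] [Algebra D L]
      [IsScalarTower A₀ D L], IsUnit (algebraMap D L g) → InjOn (u₀.restrictScalars A₀) L) ∨
      (∀ (L : Type u) [CommRing L] [Nontrivial L] [Algebra A₀ L] [Algebra D L]
      [IsScalarTower A₀ D L], IsUnit (algebraMap D L g) → ¬ InjOn (u₀.restrictScalars A₀) L)) := by
  let uD : MvPolynomial (Fin n) D ⊗[MvPolynomial (Fin n) A₀] M₀ →ₗ[MvPolynomial (Fin n) D]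
    MvPolynomial (Fin n) D ⊗[MvPolynomial (Fin n) A₀] M₀' := u₀.baseChange (MvPolynomial (Fin n) D)
  -- comparison of the conditions
  have key : ∀ (L : Type u) [CommRing L] [Algebra A₀ L]
      [Algebra D L] [IsScalarTower A₀ D L],
      InjOn (u₀.restrictScalars A₀) L ↔ InjOn (uD.restrictScalars D) L := by
    intro L _ _ _ _
    rw [← injOn_baseChange_iff (S := D)]
    refine injOn_congr _ _ (Algebra.IsPushout.cancelBaseChange A₀ D (MvPolynomial (Fin n) A₀)
      (MvPolynomial (Fin n) D) M₀).symm
      (Algebra.IsPushout.cancelBaseChange A₀ D (MvPolynomial (Fin n) A₀)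
        (MvPolynomial (Fin n) D) M₀').symm ?_ L
    intro x
    induction x with
    | zero => simp
    | add x y hx hy => simp only [map_add, hx, hy]
    | tmul a x =>
      rw [LinearMap.baseChange_tmul, LinearMap.restrictScalars_apply,
        Algebra.IsPushout.cancelBaseChange_symm_tmul, Algebra.IsPushout.cancelBaseChange_symm_tmul,
        LinearMap.restrictScalars_apply, LinearMap.baseChange_tmul]
  obtain ⟨g, hg, hor⟩ := exists_forall_injOn_or.{u, u, u, u, u} (D := D) uD
  refine ⟨g, hg, ?_⟩
  rcases hor with hor | hor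
  · left
    intro L _ _ _ _ hL
    rw [key]
    exact hor L hL
  · right
    intro L _ _ _ _ _ hL
    rw [key]
    exact hor L hL

/-- The locus of fibrewise injectivity of a linear map over a polynomial ring over a Noetherian
ring. -/
theorem isConstructible_injOn_noetherian {A₀ A : Type u} [CommRing A₀] [CommRing A]
    [IsNoetherianRing A₀] [Algebra A₀ A] (n : ℕ)
    {M₀ M₀' : Type u} [AddCommGroup M₀] [Module A₀ M₀] [Module (MvPolynomial (Fin n) A₀) M₀]
    [IsScalarTower A₀ (MvPolynomial (Fin n) A₀) M₀] [Module.Finite (MvPolynomial (Fin n) A₀) M₀]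
    [AddCommGroup M₀'] [Module A₀ M₀'] [Module (MvPolynomial (Fin n) A₀) M₀']
    [IsScalarTower A₀ (MvPolynomial (Fin n) A₀) M₀'] [Module.Finite (MvPolynomial (Fin n) A₀) M₀']
    (u₀ : M₀ →ₗ[MvPolynomial (Fin n) A₀] M₀') :
    IsConstructible {t : PrimeSpectrum A |
      InjOn ((u₀.restrictScalars A₀).baseChange A) t.asIdeal.ResidueField} := by
  apply Groth.Agent.Ega43.ConsCrit.isConstructible_of_forall_exists
  intro p
  let p₀ : Ideal A₀ := p.asIdeal.comap (algebraMap A₀ A)
  have hp₀ : p₀.IsPrime := Ideal.comap_isPrime _ _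
  have hpN : IsNoetherianRing (A₀ ⧸ p₀) :=
    isNoetherianRing_of_surjective A₀ (A₀ ⧸ p₀) (Ideal.Quotient.mk p₀) Ideal.Quotient.mk_surjective
  obtain ⟨g, hg, hor⟩ := exists_forall_injOn_or_baseChange (D := A₀ ⧸ p₀) n u₀
  obtain ⟨g₁, rfl⟩ := Ideal.Quotient.mk_surjective g
  have hg₁ : g₁ ∉ p₀ := fun h ↦ hg (Ideal.Quotient.eq_zero_iff_mem.mpr h)
  let V₁ : Set (PrimeSpectrum A₀) := PrimeSpectrum.zeroLocus p₀ ∩ (PrimeSpectrum.basicOpen g₁)
  have hV₁ : IsConstructible V₁ := by
    refine .inter ?_ ?_
    · obtain ⟨s, hs⟩ := (isNoetherianRing_iff_ideal_fg A₀).mp inferInstance p₀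
      rw [← hs, PrimeSpectrum.zeroLocus_span, ← isConstructible_compl]
      exact (PrimeSpectrum.isRetrocompact_zeroLocus_compl s.finite_toSet).isConstructible
        (PrimeSpectrum.isClosed_zeroLocus _).isOpen_compl
    · exact (PrimeSpectrum.isCompact_basicOpen g₁).isConstructible
        (PrimeSpectrum.basicOpen g₁).isOpen
  have hV := isConstructible_comap_preimage (algebraMap A₀ A) V₁ hV₁
  refine ⟨PrimeSpectrum.comap (algebraMap A₀ A) ⁻¹' V₁, hV, ⟨fun a ha ↦ ha, hg₁⟩, ?_⟩
  -- evaluation on `V`
  have hev : ∀ t ∈ PrimeSpectrum.comap (algebraMap A₀ A) ⁻¹' V₁,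
      ∃ (_ : Algebra A₀ t.asIdeal.ResidueField) (_ : Algebra (A₀ ⧸ p₀) t.asIdeal.ResidueField),
        IsScalarTower A₀ A t.asIdeal.ResidueField ∧
        IsScalarTower A₀ (A₀ ⧸ p₀) t.asIdeal.ResidueField ∧
        IsUnit (algebraMap (A₀ ⧸ p₀) t.asIdeal.ResidueField (Ideal.Quotient.mk p₀ g₁)) := by
    rintro t ⟨ht₁, ht₂⟩
    obtain ⟨ψ, hψ⟩ := exists_lift_residueField (algebraMap A₀ A) p₀ t fun a ha ↦ ht₁ ha
    let i1 : Algebra A₀ t.asIdeal.ResidueField :=
      ((algebraMap A t.asIdeal.ResidueField).comp (algebraMap A₀ A)).toAlgebra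
    let i2 : Algebra (A₀ ⧸ p₀) t.asIdeal.ResidueField := ψ.toAlgebra
    refine ⟨i1, i2, .of_algebraMap_eq fun _ ↦ rfl, .of_algebraMap_eq fun a ↦ (hψ a).symm, ?_⟩
    rw [RingHom.algebraMap_toAlgebra, hψ, isUnit_iff_ne_zero, Ne,
      Ideal.algebraMap_residueField_eq_zero]
    exact ht₂
  rcases hor with hor | hor
  · convert hV using 1
    rw [Set.inter_eq_left]
    intro t ht
    obtain ⟨_, _, _, _, hu⟩ := hev t ht
    rw [Set.mem_ofPred_eq, injOn_baseChange_iff]
    exact hor _ hu
  · convert IsConstructible.empty using 1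
    rw [Set.eq_empty_iff_forall_notMem]
    rintro t ⟨ht, ht'⟩
    obtain ⟨_, _, _, _, hu⟩ := hev t ht
    rw [Set.mem_ofPred_eq, injOn_baseChange_iff] at ht'
    exact hor _ hu ht'

/-- The set of points of `Spec A` over which a linear map between finitely presented modules over a
finitely presented algebra is fibrewise injective is constructible. -/
theorem isConstructible_injOn {A B : Type u} [CommRing A] [CommRing B] [Algebra A B]
    [Algebra.FinitePresentation A B] {M M' : Type u} [AddCommGroup M] [Module B M] [Module A M]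
    [IsScalarTower A B M] [Module.FinitePresentation B M]
    [AddCommGroup M'] [Module B M'] [Module A M'] [IsScalarTower A B M']
    [Module.FinitePresentation B M'] (u : M →ₗ[B] M') :
    IsConstructible {t : PrimeSpectrum A |
      InjOn (u.restrictScalars A) t.asIdeal.ResidueField} := by
  obtain ⟨n, s, hs⟩ := FibreInjModel.exists_model_map A B M M' u
  let A₀ := Algebra.adjoin ℤ (s : Set A)
  have hft : Algebra.FiniteType ℤ A₀ :=
    (Subalgebra.fg_iff_finiteType _).mp (Subalgebra.fg_adjoin_finset s)
  have hN : IsNoetherianRing A₀ := Algebra.FiniteType.isNoetherianRing ℤ _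
  obtain ⟨M₀, _, _, _, _, M₀', _, _, _, _, u₀, e, e', _, _, he⟩ := hs A₀ Algebra.subset_adjoin
  have := isConstructible_injOn_noetherian (A := A) n u₀
  convert this using 1
  ext t
  rw [Set.mem_ofPred_eq, Set.mem_ofPred_eq]
  exact (injOn_congr _ _ e e' he _).symm

end main

end Groth.Agent.Flat2A.FibreInj
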