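import Groth.Agent.Flat2A.ModInj
import Groth.Agent.Flat2A.FiberTensor
import Groth.Agent.Flat2C.FlatAtCriterion
import Mathlib.RingTheory.Ideal.AssociatedPrime.Localization
import Mathlib.RingTheory.Localization.BaseChange
import Mathlib.RingTheory.Flat.Localization

/-!
# Flatness at a point follows from flatness at the associated points of the fibre
-/

set_option autoImplicit false
universe u

namespace Groth.Agent.Flat2A.FlatAtAssoc

open TensorProduct Flat2A.Fiber Flat2A.FiberAss Flat2A.FiberTensor

/-- An element of the fibre module which vanishes at all associated points below `q` vanishes at `q`. -/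
theorem exists_smul_eq_zero_fiberMod {R S : Type u} [CommRing R] [CommRing S] [Algebra R S]
    (p : Ideal R) [p.IsPrime] (N : Type u) [AddCommGroup N] [Module S N] [Module R N] [IsScalarTower R S N]
    [IsNoetherianRing (p.Fiber S)] (q : Ideal S) [q.IsPrime] [q.LiesOver p]
    (x : FlatCA.fiberMod p S N)
    (hx : ∀ q' ∈ associatedPrimes S (FlatCA.fiberMod p S N), q' ≤ q → ∃ s ∉ q', s • x = 0) :
    ∃ s ∉ q, s • x = 0 := by
  by_contra hcon
  push Not at hcon
  let F := p.Fiber S
  let 𝔞 : Ideal F := (⊥ : Submodule F (FlatCA.fiberMod p S N)).colon {x}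
  have h𝔞 : (⊥ : Submodule S (FlatCA.fiberMod p S N)).colon {x} = 𝔞.comap (toFiber p S) :=
    colon_comap p N x
  have hle : 𝔞.comap (toFiber p S) ≤ q := by
    intro s hs
    by_contra hsq
    apply hcon s hsq
    rw [← h𝔞, Submodule.mem_colon_singleton] at hs
    simpa using hs
  have hprime := fiberIdeal_isPrime p q
  have hle' : 𝔞 ≤ FlatCA.fiberIdeal p q := by
    rw [← fiberIdeal_comap p 𝔞]
    exact Ideal.map_mono hle
  obtain ⟨𝔯, h𝔯, h𝔯q⟩ := Ideal.exists_minimalPrimes_le hle'
  have h𝔯p : 𝔯.IsPrime := h𝔯.1.1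
  have hann : Module.annihilator F (Submodule.span F {x}) = 𝔞 := by
    ext a
    rw [Submodule.mem_annihilator_span_singleton, Submodule.mem_colon_singleton]
    simp
  have h1 : 𝔯 ∈ associatedPrimes F (Submodule.span F {x}) := by
    apply Module.associatedPrimes.minimalPrimes_annihilator_subset_associatedPrimes
    rw [hann]
    exact h𝔯
  have h2 : 𝔯 ∈ associatedPrimes F (FlatCA.fiberMod p S N) :=
    associatedPrimes.subset_of_injective (f := (Submodule.span F {x}).subtype)
      (Submodule.subtype_injective _) h1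
  have hover := liesOver_of_comap p 𝔯 h𝔯p.ne_top
  obtain ⟨s, hs, hsx⟩ := hx (𝔯.comap (toFiber p S)) (by
    rw [mem_associatedPrimes_fiberMod_iff]
    refine ⟨inferInstance, hover, ?_⟩
    have := fiberIdeal_comap p 𝔯
    rw [this]
    exact h2) (by
    have h3 := Ideal.comap_mono (f := toFiber p S) h𝔯q
    rwa [comap_fiberIdeal p q] at h3)
  apply hs
  have h4 : s ∈ 𝔞.comap (toFiber p S) := by
    rw [← h𝔞, Submodule.mem_colon_singleton, hsx]
    exact Submodule.zero_mem _
  exact Ideal.comap_mono h𝔯.1.2 h4

theorem flatAt_of_associated {R S : Type u} [CommRing R] [CommRing S] [Algebra R S] [Algebra.FiniteType R S]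
    (N : Type u) [AddCommGroup N] [Module S N] [Module R N] [IsScalarTower R S N] [Module.Finite S N]
    (p : Ideal R) [p.IsPrime] (q : Ideal S) [q.IsPrime] [q.LiesOver p]
    (h : ∀ (q' : Ideal S) [q'.IsPrime], q' ≤ q → q'.LiesOver p →
      FlatCA.fiberIdeal p q' ∈ associatedPrimes (p.Fiber S) (FlatCA.fiberMod p S N) → FlatCA.FlatAt R q' N) :
    FlatCA.FlatAt R q N := by
  have hN1 : IsNoetherianRing (p.Fiber S) := fiber_isNoetherianRing p
  have hN2 : Module.Finite (p.Fiber S) (FlatCA.fiberMod p S N) := fiberMod_finite N p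
  let T : Set (Ideal S) := {q' | q' ∈ associatedPrimes S (FlatCA.fiberMod p S N) ∧ q' ≤ q}
  have hTfin : T.Finite := (associatedPrimes_fiberMod_finite p N).subset (fun _ h => h.1)
  have hTprime : ∀ q' : T, q'.1.IsPrime := fun q' => q'.2.1.1
  have _ : Finite T := hTfin
  have hflat : ∀ q' : T, Module.Flat R (LocalizedModule q'.1.primeCompl N) := fun q' => by
    obtain ⟨h1, h2, h3⟩ := (mem_associatedPrimes_fiberMod_iff p N q'.1).mp q'.2.1
    exact h q'.1 q'.2.2 h2 h3
  let M₀ := (q' : T) → LocalizedModule q'.1.primeCompl N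
  have hM₀ : Module.Flat R M₀ := by
    classical
    have _ := Fintype.ofFinite T
    exact Module.Flat.of_linearEquiv (DirectSum.linearEquivFunOnFintype R T
      (fun q' : T => LocalizedModule q'.1.primeCompl N)).symm
  let u₀ : N →ₗ[S] M₀ := LinearMap.pi (fun q' : T => LocalizedModule.mkLinearMap q'.1.primeCompl N)
  let R₁ := Localization.AtPrime p
  let S₁ := Localization.AtPrime q
  let N₁ := LocalizedModule q.primeCompl N
  let M₁ := LocalizedModule q.primeCompl M₀
  let _ : Algebra R₁ S₁ := Localization.AtPrime.algebraOfLiesOver p q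
  let _ : Module R₁ N₁ := Module.compHom N₁ (algebraMap R₁ S₁)
  let _ : Module R₁ M₁ := Module.compHom M₁ (algebraMap R₁ S₁)
  have : IsScalarTower R₁ S₁ N₁ := IsScalarTower.of_algebraMap_smul fun _ _ => rfl
  have : IsScalarTower R₁ S₁ M₁ := IsScalarTower.of_algebraMap_smul fun _ _ => rfl
  have : IsScalarTower R S₁ N₁ := inferInstance
  have : IsScalarTower R S₁ M₁ := inferInstance
  have : IsScalarTower R R₁ S₁ := inferInstance
  have : IsScalarTower R R₁ N₁ := IsScalarTower.to₁₂₄ R R₁ S₁ N₁
  have : IsScalarTower R R₁ M₁ := IsScalarTower.to₁₂₄ R R₁ S₁ M₁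
  have : IsLocalHom (algebraMap R₁ S₁) := by
    rw [Localization.AtPrime.IsLiesOverAlgebra.algebraMap_eq]
    infer_instance
  have : Module.Flat R M₁ := by
    rw [Flat2C.FlatAtCriterion.flat_isLocalizedModule_iff q.primeCompl (LocalizedModule.mkLinearMap q.primeCompl M₀)]
    intro I x hx
    refine ⟨1, Submonoid.one_mem _, ?_⟩
    rw [one_smul]
    exact (Module.Flat.lTensor_preserves_injective_linearMap (M := M₀) I.subtype
      (Submodule.subtype_injective _)) (by rw [hx, map_zero])
  have : Module.Flat R₁ M₁ := (Module.flat_iff_of_isLocalization R₁ p.primeCompl M₁).mpr ‹_›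
  have : Algebra.EssFiniteType R S₁ := by
    have : Algebra.EssFiniteType S S₁ := Algebra.EssFiniteType.of_isLocalization S₁ q.primeCompl
    exact Algebra.EssFiniteType.comp R S S₁
  have : Algebra.EssFiniteType R₁ S₁ := Algebra.EssFiniteType.of_comp R R₁ S₁
  have : Module.Finite S₁ N₁ := Module.Finite.of_isLocalizedModule q.primeCompl
    (LocalizedModule.mkLinearMap q.primeCompl N)
  let u : N₁ →ₗ[S₁] M₁ := LocalizedModule.map q.primeCompl u₀
  have key : Function.Injective ((u.restrictScalars R₁).rTensor p.ResidueField) := by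
    rw [injective_iff_map_eq_zero]
    intro w hw
    -- transfer to tensor products over `R`
    let e₁ : N₁ ⊗[R₁] p.ResidueField ≃ₗ[S₁] N₁ ⊗[R] p.ResidueField :=
      TensorProduct.equivOfCompatibleSMul R R₁ S₁ N₁ p.ResidueField
    let e₂ : M₁ ⊗[R₁] p.ResidueField ≃ₗ[S₁] M₁ ⊗[R] p.ResidueField :=
      TensorProduct.equivOfCompatibleSMul R R₁ S₁ M₁ p.ResidueField
    have hnat : ∀ w, e₂ ((u.restrictScalars R₁).rTensor p.ResidueField w) =
        AlgebraTensorModule.rTensor R p.ResidueField (u.restrictScalars S) (e₁ w) := by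
      intro w
      induction w with
      | zero => simp only [map_zero]
      | add a b ha hb => simp only [map_add, ha, hb]
      | tmul a b => rfl
    have hv : AlgebraTensorModule.rTensor R p.ResidueField (u.restrictScalars S) (e₁ w) = 0 := by
      rw [← hnat, hw, map_zero]
    let fq := AlgebraTensorModule.rTensor R p.ResidueField (LocalizedModule.mkLinearMap q.primeCompl N)
    let gq := AlgebraTensorModule.rTensor R p.ResidueField (LocalizedModule.mkLinearMap q.primeCompl M₀)
    let uκ := AlgebraTensorModule.rTensor R p.ResidueField u₀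
    have hcomm : ∀ x, AlgebraTensorModule.rTensor R p.ResidueField (u.restrictScalars S) (fq x) = gq (uκ x) := by
      intro x
      induction x with
      | zero => simp only [map_zero]
      | add a b ha hb => simp only [map_add, ha, hb]
      | tmul a b =>
        change (u (LocalizedModule.mkLinearMap q.primeCompl N a)) ⊗ₜ[R] b =
          (LocalizedModule.mkLinearMap q.primeCompl M₀ (u₀ a)) ⊗ₜ[R] b
        congr 1
        exact IsLocalizedModule.map_apply q.primeCompl (LocalizedModule.mkLinearMap q.primeCompl N)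
          (LocalizedModule.mkLinearMap q.primeCompl M₀) u₀ a
    obtain ⟨⟨x, t⟩, hx⟩ := IsLocalizedModule.surj q.primeCompl fq (e₁ w)
    change t • e₁ w = fq x at hx
    have h1 : gq (uκ x) = 0 := by
      rw [← hcomm, ← hx]
      change AlgebraTensorModule.rTensor R p.ResidueField (u.restrictScalars S) ((t : S) • e₁ w) = 0
      rw [map_smul, hv, smul_zero]
    obtain ⟨t', ht'⟩ := (IsLocalizedModule.eq_zero_iff q.primeCompl gq).mp h1
    have h2 : ∀ q' ∈ associatedPrimes S (FlatCA.fiberMod p S N), q' ≤ q → ∃ s ∉ q', s • x = 0 := by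
      intro q' hq' hq'q
      have hq'p : q'.IsPrime := hq'.1
      let fq' := AlgebraTensorModule.rTensor R p.ResidueField (LocalizedModule.mkLinearMap q'.primeCompl N)
      have h3 : fq' x = AlgebraTensorModule.rTensor R p.ResidueField
          (LinearMap.proj (R := S) (φ := fun q' : T => LocalizedModule q'.1.primeCompl N) ⟨q', hq', hq'q⟩) (uκ x) := by
        clear hx h1 ht'
        induction x with
        | zero => simp only [map_zero]
        | add a b ha hb => simp only [map_add, ha, hb]
        | tmul a b => rfl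
      have h4 : (t' : S) • fq' x = 0 := by
        rw [h3, ← map_smul]
        have : (t' : S) • uκ x = 0 := ht'
        rw [this, map_zero]
      rw [← map_smul] at h4
      obtain ⟨s', hs'⟩ := (IsLocalizedModule.eq_zero_iff q'.primeCompl fq').mp h4
      refine ⟨s' * t', fun h => ?_, ?_⟩
      · rcases hq'p.mem_or_mem h with h | h
        · exact s'.2 h
        · exact t'.2 (hq'q h)
      · rw [mul_smul]
        exact hs'
    obtain ⟨s, hs, hsx⟩ := exists_smul_eq_zero_fiberMod p N q ((fiberModEquiv (S := S) p N).symm x) (by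
      intro q' hq' hq'q
      obtain ⟨s, hs, hsx⟩ := h2 q' hq' hq'q
      exact ⟨s, hs, by rw [← map_smul, hsx, map_zero]⟩)
    have hsx' : s • x = 0 := by
      rw [← map_smul, LinearEquiv.map_eq_zero_iff] at hsx
      exact hsx
    have h5 : fq x = 0 := (IsLocalizedModule.eq_zero_iff q.primeCompl fq).mpr ⟨⟨s, hs⟩, hsx'⟩
    rw [h5] at hx
    have h6 : e₁ w = 0 := by
      have hinj := IsLocalizedModule.smul_injective fq t
      apply hinj
      change t • e₁ w = t • 0
      rw [smul_zero]
      exact hx
    rwa [LinearEquiv.map_eq_zero_iff] at h6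
  have h1 := (ModInj.main (R := R₁) (S := S₁) u (by
    rw [LinearMap.lTensor_inj_iff_rTensor_inj]
    exact key)).1
  exact (Module.flat_iff_of_isLocalization R₁ p.primeCompl N₁).mp h1

end Groth.Agent.Flat2A.FlatAtAssoc
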