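import Groth.Agent.Flat2A.PolyPres
import Groth.Agent.Flat2E.FlatApprox

/-!
# Flatness modulo an ideal descends to a finitely generated ideal

`exists_fg`: `A → B` local, essentially of finite presentation, `M` finitely presented over `B`,
`M / I M` flat over `A / I`: there is a finitely generated `I₀ ≤ I` with `M / I₀ M` flat over
`A / I₀`.
-/

set_option autoImplicit false
universe u

open TensorProduct Function

namespace Groth.Agent.Flat2A.FlatFGIdeal

open Flat2E.PolyModel Flat2E.QFlat Flat2E.FlatApprox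

section QFlat

variable {R : Type u} {S : Type*} [CommRing R] [CommRing S] [Algebra R S] (I : Ideal R)
  (T : Submonoid S)
  {M : Type*} [AddCommGroup M] [Module R M] [Module S M] [IsScalarTower R S M]
  {M' : Type*} [AddCommGroup M'] [Module R M'] [Module S M'] [IsScalarTower R S M']
  (g : M →ₗ[S] M') [IsLocalizedModule T g]

include g in
theorem flat_of_qflat_bot (h : QFlat (⊥ : Ideal R) T M) : Module.Flat R M' := by
  rw [Module.Flat.iff_rTensor_injectiveₛ]
  intro P _ _ N
  let _ : AddCommGroup P := Module.addCommMonoidToAddCommGroup R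
  rw [← LinearMap.lTensor_inj_iff_rTensor_inj, lTensor_injective_iff T g]
  refine h N P ?_ ?_ N.subtype Subtype.val_injective
  · intro r hr x
    rw [(Submodule.mem_bot R).1 hr, zero_smul]
  · intro r hr x
    rw [(Submodule.mem_bot R).1 hr, zero_smul]

include g in
theorem qflat_of_flat_localized [Module.Flat R M'] : QFlat I T M := by
  intro N P _ _ _ _ _ _ f hf
  rw [← lTensor_injective_iff T g]
  exact Module.Flat.lTensor_preserves_injective_linearMap f hf

end QFlat

section Descent

variable {A : Type u} {C : Type u} [CommRing A] [CommRing C] [Algebra A C]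
  {M M' : Type*} [AddCommGroup M] [AddCommGroup M'] [Module A M] [Module A M'] [Module C M']
  [IsScalarTower A C M'] {μ : M →ₗ[A] M'} (hμ : IsBaseChange C μ)
  {P P' : Type*} [CommRing P] [CommRing P'] [Algebra A P] [Algebra C P']
  [Module P M] [Module P' M'] [IsScalarTower A P M] [IsScalarTower C P' M'] (ρ : P →+* P')
  (hρ : ∀ (p : P) (m : M), μ (p • m) = ρ p • μ m)
  (T : Submonoid P) (T' : Submonoid P') (hT : ∀ t' ∈ T', ∃ t ∈ T, ρ t = t')

include hμ hρ hT in
/-- `QFlat` descends along `A → C` surjective with kernel `I`. -/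
theorem qflat_of_surjective (hsurj : Surjective (algebraMap A C))
    (h : QFlat (⊥ : Ideal C) T' M') : QFlat (RingHom.ker (algebraMap A C)) T M := by
  intro N N' _ _ _ _ hN hN' f hf z hz
  have key : ∀ (X : Type u) [AddCommGroup X] [Module A X]
      (_ : ∀ r ∈ RingHom.ker (algebraMap A C), ∀ x : X, r • x = 0),
      ∃ (_ : Module C X), IsScalarTower A C X := by
    intro X _ _ hX
    let e := RingHom.quotientKerEquivOfSurjective hsurj
    have hX' : Module.IsTorsionBySet A X (RingHom.ker (algebraMap A C) : Set A) :=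
      fun n r => hX r.1 r.2 n
    let m1 : Module (A ⧸ RingHom.ker (algebraMap A C)) X := hX'.module
    let m2 : Module C X := Module.compHom X (e.symm : C →+* A ⧸ RingHom.ker (algebraMap A C))
    refine ⟨m2, IsScalarTower.of_algebraMap_smul fun r x => ?_⟩
    show e.symm (algebraMap A C r) • x = r • x
    have : e.symm (algebraMap A C r) = Ideal.Quotient.mk _ r := by
      rw [RingEquiv.symm_apply_eq]
      rfl
    rw [this]
    rfl
  obtain ⟨_, _⟩ := key N hN
  obtain ⟨_, _⟩ := key N' hN'
  let f' : N →ₗ[C] N' :=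
    { toFun := f
      map_add' := map_add f
      map_smul' := by
        intro c x
        obtain ⟨a, rfl⟩ := hsurj c
        rw [algebraMap_smul, map_smul, RingHom.id_apply, algebraMap_smul] }
  have hf' : f'.restrictScalars A = f := rfl
  have hz' : f'.lTensor M' (cbc hμ N z) = 0 := by
    rw [cbc_lTensor, hf', hz, map_zero]
  obtain ⟨s', hs', hs''⟩ := h N N' (fun r hr x => by rw [(Submodule.mem_bot C).1 hr, zero_smul])
    (fun r hr x => by rw [(Submodule.mem_bot C).1 hr, zero_smul]) f' hf _ hz'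
  obtain ⟨s, hs, rfl⟩ := hT s' hs'
  refine ⟨s, hs, ?_⟩
  rw [← cbc_smul hμ ρ hρ, LinearEquiv.map_eq_zero_iff] at hs''
  exact hs''

end Descent

section Main

variable {A₀ A : Type u} [CommRing A₀] [IsNoetherianRing A₀] [CommRing A] [Algebra A₀ A]
  {σ ι κ : Type*} [Finite σ] [Fintype ι] [Finite κ] (v : ι → κ → MvPolynomial σ A₀)
  (I : Ideal A) (q : Ideal (MvPolynomial σ A)) [q.IsPrime]

theorem exists_fg_qflat_of_model (hI : I ≤ q.comap MvPolynomial.C)
    (h : QFlat I q.primeCompl (Mod (vmap A v))) :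
    ∃ I₀ : Ideal A, I₀ ≤ I ∧ I₀.FG ∧ QFlat I₀ q.primeCompl (Mod (vmap A v)) := by
  let R := A ⧸ I
  let ρ : MvPolynomial σ A →+* MvPolynomial σ R := MvPolynomial.map (algebraMap A R)
  have hρ : Surjective ρ := MvPolynomial.map_surjective _ Ideal.Quotient.mk_surjective
  have hker : RingHom.ker ρ ≤ q := by
    rw [MvPolynomial.ker_map, Ideal.Quotient.algebraMap_eq, Ideal.mk_ker]
    exact Ideal.map_le_iff_le_comap.2 hI
  let q' : Ideal (MvPolynomial σ R) := q.map ρ
  have hq'p : q'.IsPrime := Ideal.map_isPrime_of_surjective hρ hker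
  have hq' : q'.comap ρ = q := by
    rw [Ideal.comap_map_of_surjective _ hρ]
    refine sup_eq_left.2 (le_trans ?_ hker)
    exact le_rfl
  have h1 : QFlat (⊥ : Ideal R) q'.primeCompl (Mod (vmap R (vmap A v))) := by
    refine QFlat.baseChange (isBaseChange_modMap (C := R) (vmap A v)) ρ (modMap_smul _)
      q.primeCompl _ ?_ I ⊥ ?_ h
    · intro t ht ht'
      refine ht ?_
      rw [← hq']
      exact ht'
    · intro r hr
      rw [Submodule.mem_bot]
      exact Ideal.Quotient.eq_zero_iff_mem.2 hr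
  rw [vmap_vmap] at h1
  have h2 : Module.Flat R (LocalizedModule q'.primeCompl (Mod (vmap R v))) :=
    flat_of_qflat_bot q'.primeCompl (LocalizedModule.mkLinearMap q'.primeCompl _) h1
  obtain ⟨R₁, hfg, hflat⟩ := exists_fg_subalgebra_flat_of_flat v q' h2
  have h3 : QFlat (⊥ : Ideal R₁) (cq q' R₁).primeCompl (Mod (vmap R₁ v)) :=
    qflat_of_flat_localized ⊥ (cq q' R₁).primeCompl
      (LocalizedModule.mkLinearMap (cq q' R₁).primeCompl _)
  have hfin : Algebra.FiniteType A₀ R₁ := (Subalgebra.fg_iff_finiteType R₁).1 hfg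
  obtain ⟨m, f, hf, hfk⟩ := (Algebra.FinitePresentation.of_finiteType.1 hfin).out
  choose a ha using fun i => Ideal.Quotient.mk_surjective (I := I) ((f (MvPolynomial.X i) : R₁) : R)
  let φ : MvPolynomial (Fin m) A₀ →ₐ[A₀] A := MvPolynomial.aeval a
  have hφ : ∀ p, algebraMap A R (φ p) = ((f p : R₁) : R) := by
    intro p
    have : (IsScalarTower.toAlgHom A₀ A R).comp φ = R₁.val.comp f := by
      apply MvPolynomial.algHom_ext
      intro i
      show algebraMap A R (φ (MvPolynomial.X i)) = ((f (MvPolynomial.X i) : R₁) : R)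
      rw [MvPolynomial.aeval_X]
      exact ha i
    exact DFunLike.congr_fun this p
  let I₀ : Ideal A := (RingHom.ker f.toRingHom).map φ.toRingHom
  have hI₀ : I₀ ≤ I := by
    rw [Ideal.map_le_iff_le_comap]
    intro p hp
    have hp' : f p = 0 := hp
    show φ p ∈ I
    rw [← Ideal.Quotient.eq_zero_iff_mem]
    show algebraMap A R (φ p) = 0
    rw [hφ, hp']
    rfl
  refine ⟨I₀, hI₀, hfk.map _, ?_⟩
  let C := A ⧸ I₀
  let ψ : R₁ →ₐ[A₀] C := AlgHom.liftOfSurjective f hf ((IsScalarTower.toAlgHom A₀ A C).comp φ) (by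
    intro p hp
    show Ideal.Quotient.mk I₀ (φ p) = 0
    rw [Ideal.Quotient.eq_zero_iff_mem]
    exact Ideal.mem_map_of_mem φ.toRingHom hp)
  let algC : Algebra R₁ C := ψ.toRingHom.toAlgebra
  have htow : IsScalarTower A₀ R₁ C := IsScalarTower.of_algebraMap_eq' (ψ.comp_algebraMap).symm
  let π : C →+* R := Ideal.Quotient.factor hI₀
  have hπ : ∀ x : R₁, π (algebraMap R₁ C x) = (x : R) := by
    intro x
    obtain ⟨p, rfl⟩ := hf x
    show π (ψ (f p)) = _
    rw [AlgHom.liftOfSurjective_apply, ← hφ]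
    rfl
  let qC : Ideal (MvPolynomial σ C) := q'.comap (MvPolynomial.map π)
  have h4 : QFlat (⊥ : Ideal C) qC.primeCompl (Mod (vmap C (vmap R₁ v))) := by
    refine QFlat.baseChange (isBaseChange_modMap (C := C) (vmap R₁ v))
      (MvPolynomial.map (algebraMap R₁ C)) (modMap_smul _)
      (cq q' R₁).primeCompl _ ?_ ⊥ ⊥ ?_ h3
    · intro t ht ht'
      refine ht ?_
      show MvPolynomial.map (algebraMap R₁ R) t ∈ q'
      have h5 : MvPolynomial.map π (MvPolynomial.map (algebraMap R₁ C) t) ∈ q' := ht'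
      rw [MvPolynomial.map_map] at h5
      have h6 : π.comp (algebraMap R₁ C) = algebraMap R₁ R := RingHom.ext hπ
      rwa [h6] at h5
    · intro r hr
      rw [Submodule.mem_bot] at hr ⊢
      rw [hr, map_zero]
  rw [vmap_vmap] at h4
  have h5 : Mod (vmap C v) = Mod (vmap C (vmap A v)) := by rw [vmap_vmap]
  have h4' : QFlat (⊥ : Ideal C) qC.primeCompl (Mod (vmap C (vmap A v))) := by
    rw [vmap_vmap]
    exact h4
  have h6 := qflat_of_surjective (isBaseChange_modMap (C := C) (vmap A v))
    (MvPolynomial.map (algebraMap A C)) (modMap_smul _) q.primeCompl qC.primeCompl ?_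
    Ideal.Quotient.mk_surjective h4'
  · rwa [Ideal.Quotient.algebraMap_eq, Ideal.mk_ker] at h6
  · intro t' ht'
    obtain ⟨t, rfl⟩ := MvPolynomial.map_surjective (algebraMap A C) Ideal.Quotient.mk_surjective t'
    refine ⟨t, ?_, rfl⟩
    intro ht
    refine ht' ?_
    show MvPolynomial.map π (MvPolynomial.map (algebraMap A C) t) ∈ q'
    rw [MvPolynomial.map_map]
    have h7 : π.comp (algebraMap A C) = algebraMap A R := RingHom.ext fun _ => rfl
    rw [h7]
    exact Ideal.mem_map_of_mem ρ ht

end Main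

/-- Polynomial matrix form. -/
theorem exists_fg_qflat {A : Type u} [CommRing A] {σ ι κ : Type*} [Finite σ] [Fintype ι] [Finite κ]
    (v : ι → κ → MvPolynomial σ A) (I : Ideal A) (q : Ideal (MvPolynomial σ A)) [q.IsPrime]
    (hI : I ≤ q.comap MvPolynomial.C) (h : QFlat I q.primeCompl (Mod v)) :
    ∃ I₀ : Ideal A, I₀ ≤ I ∧ I₀.FG ∧ QFlat I₀ q.primeCompl (Mod v) := by
  classical
  have := Fintype.ofFinite κ
  let Z : Finset A := Finset.univ.biUnion fun i => Finset.univ.biUnion fun k => (v i k).coeffs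
  let A₀ : Subalgebra ℤ A := Algebra.adjoin ℤ (Z : Set A)
  have hfg : A₀.FG := ⟨Z, rfl⟩
  have hN : IsNoetherianRing A₀ := isNoetherianRing_of_fg hfg
  have hv : ∀ i, ∃ w : κ → MvPolynomial σ A₀, ext σ A₀ A κ w = v i := by
    intro i
    refine exists_ext_eq (v i) fun k x hx => ?_
    have hx' : x ∈ A₀ := by
      refine Algebra.subset_adjoin ?_
      refine Finset.mem_coe.2 (Finset.mem_biUnion.2 ⟨i, Finset.mem_univ _,
        Finset.mem_biUnion.2 ⟨k, Finset.mem_univ _, hx⟩⟩)
    exact ⟨⟨x, hx'⟩, rfl⟩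
  choose w hw using hv
  have hvw : vmap A w = v := funext hw
  rw [← hvw] at h ⊢
  exact exists_fg_qflat_of_model w I q hI h

open IsLocalRing in
/-- `A → B` local, essentially of finite presentation, `M` finitely presented over `B`,
`M / I M` flat over `A / I`: there is a finitely generated `I₀ ≤ I` with `M / I₀ M` flat over
`A / I₀`. -/
theorem exists_fg {A B M : Type u} [CommRing A] [IsLocalRing A] [CommRing B] [IsLocalRing B]
    [Algebra A B] [IsLocalHom (algebraMap A B)] (hB : FlatCA.EssFinitePresentation A B)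
    [AddCommGroup M] [Module B M] [Module A M] [IsScalarTower A B M]
    [Module.FinitePresentation B M] (I : Ideal A) (h : Module.Flat (A ⧸ I) ((A ⧸ I) ⊗[A] M)) :
    ∃ I₀ : Ideal A, I₀ ≤ I ∧ I₀.FG ∧ Module.Flat (A ⧸ I₀) ((A ⧸ I₀) ⊗[A] M) := by
  by_cases hI : I = ⊤
  · subst hI
    exact ⟨⊤, le_rfl, ⟨{1}, by simp⟩, h⟩
  obtain ⟨n, m, _, _, _, _, ι, _, v, g, hg⟩ := PolyPres.exists_presentation (A := A) (M := M) hB
  have htow : IsScalarTower A (MvPolynomial (Fin n) A) M := by
    refine IsScalarTower.of_algebraMap_smul fun r x => ?_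
    rw [← algebraMap_smul B (algebraMap A (MvPolynomial (Fin n) A) r) x,
      ← IsScalarTower.algebraMap_apply, algebraMap_smul]
  obtain ⟨I₀, hle, hfg, hq⟩ := exists_fg_qflat v I ((maximalIdeal B).comap
    (algebraMap (MvPolynomial (Fin n) A) B)) (by
      refine (le_maximalIdeal hI).trans ?_
      intro r hr
      show algebraMap (MvPolynomial (Fin n) A) B (algebraMap A (MvPolynomial (Fin n) A) r) ∈
        maximalIdeal B
      rw [← IsScalarTower.algebraMap_apply A (MvPolynomial (Fin n) A) B]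
      exact map_nonunit (algebraMap A B) r hr) (qflat_of_flat I _ _ g h)
  exact ⟨I₀, hle, hfg, flat_of_qflat I₀ _ _ g hq⟩

end Groth.Agent.Flat2A.FlatFGIdeal
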