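import Groth.Agent.Flat2A.ResInj
import Mathlib.RingTheory.Localization.BaseChange
import Mathlib.LinearAlgebra.TensorProduct.Quotient

/-!
# Maps out of projective modules, injective at the residue field of a prime

`R` any ring, `p` a prime, `F` projective, `M` flat, `u : F → M` with `κ(p) ⊗ u` injective: then for
every `R`-module `Q` each element of the kernel of `Q ⊗ u` is killed by an element outside `p`.
-/

set_option autoImplicit false
universe u

namespace Groth.Agent.Flat2A.ResInjPrime

open TensorProduct

variable {R : Type u} [CommRing R] (p : Ideal R) [p.IsPrime]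
variable {F M : Type u} [AddCommGroup F] [Module R F] [AddCommGroup M] [Module R M]

theorem cancel_comm (R' : Type u) [CommRing R'] [Algebra R R'] (P : Type u) [AddCommGroup P]
    [Module R' P] [Module R P] [IsScalarTower R R' P] (u : F →ₗ[R] M)
    (z : P ⊗[R'] (R' ⊗[R] F)) :
    (AlgebraTensorModule.cancelBaseChange R R' R' P M) ((u.baseChange R').lTensor P z) =
      (u.lTensor P) (AlgebraTensorModule.cancelBaseChange R R' R' P F z) := by
  induction z using TensorProduct.induction_on with
  | zero => simp
  | add x y hx hy => simp only [map_add, hx, hy]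
  | tmul x y =>
    induction y using TensorProduct.induction_on with
    | zero => simp
    | add a b ha hb => simp only [tmul_add, map_add, ha, hb]
    | tmul a b => simp

theorem lTensor_injective_iff_baseChange (R' : Type u) [CommRing R'] [Algebra R R'] (P : Type u)
    [AddCommGroup P] [Module R' P] [Module R P] [IsScalarTower R R' P] (u : F →ₗ[R] M) :
    Function.Injective ((u.baseChange R').lTensor P) ↔ Function.Injective (u.lTensor P) := by
  have h : (AlgebraTensorModule.cancelBaseChange R R' R' P M) ∘ ((u.baseChange R').lTensor P) =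
      (u.lTensor P) ∘ (AlgebraTensorModule.cancelBaseChange R R' R' P F) := by
    funext z; exact cancel_comm R' P u z
  constructor
  · intro hi
    have h1 : Function.Injective ((u.lTensor P) ∘
        (AlgebraTensorModule.cancelBaseChange R R' R' P F)) := by
      rw [← h]
      exact (AlgebraTensorModule.cancelBaseChange R R' R' P M).injective.comp hi
    exact (Function.Injective.of_comp_iff' _
      (AlgebraTensorModule.cancelBaseChange R R' R' P F).bijective).mp h1
  · intro hi
    have h1 : Function.Injective ((AlgebraTensorModule.cancelBaseChange R R' R' P M) ∘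
        ((u.baseChange R').lTensor P)) := by
      rw [h]
      exact hi.comp (AlgebraTensorModule.cancelBaseChange R R' R' P F).injective
    exact h1.of_comp

/-- Universal injectivity locally at `p`. -/
theorem exists_smul_eq_zero [Module.Projective R F] [Module.Flat R M] (u : F →ₗ[R] M)
    (h : Function.Injective (u.lTensor p.ResidueField)) (Q : Type u) [AddCommGroup Q] [Module R Q]
    (x : F ⊗[R] Q) (hx : u.rTensor Q x = 0) : ∃ t : R, t ∉ p ∧ t • x = 0 := by
  let R' := Localization.AtPrime p
  have h1 : Function.Injective ((u.baseChange R').lTensor (IsLocalRing.ResidueField R')) :=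
    (lTensor_injective_iff_baseChange R' (IsLocalRing.ResidueField R') u).mpr h
  have h2 : Function.Injective ((u.baseChange R').lTensor (R' ⊗[R] Q)) :=
    ResInj.lTensor_injective_of_projective (u.baseChange R') h1 (R' ⊗[R] Q)
  have h3 : Function.Injective (u.lTensor (R' ⊗[R] Q)) :=
    (lTensor_injective_iff_baseChange R' (R' ⊗[R] Q) u).mp h2
  let j : Q →ₗ[R] R' ⊗[R] Q := TensorProduct.mk R R' Q 1
  have hj : IsLocalizedModule p.primeCompl j := inferInstance
  have hjF : IsLocalizedModule p.primeCompl (AlgebraTensorModule.rTensor R F j) := inferInstance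
  let y : Q ⊗[R] F := TensorProduct.comm R F Q x
  have hy : u.lTensor Q y = 0 := by
    have : u.lTensor Q (TensorProduct.comm R F Q x) =
        TensorProduct.comm R M Q (u.rTensor Q x) := by
      rw [LinearMap.comm_comp_rTensor_comp_comm_eq u |>.symm]
      simp
    rw [this, hx, map_zero]
  have h4 : AlgebraTensorModule.rTensor R F j y = 0 := by
    apply h3
    rw [map_zero]
    change u.lTensor (R' ⊗[R] Q) (j.rTensor F y) = 0
    rw [← LinearMap.comp_apply, LinearMap.lTensor_comp_rTensor, ← LinearMap.rTensor_comp_lTensor,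
      LinearMap.comp_apply, hy, map_zero]
  obtain ⟨t, ht⟩ := (IsLocalizedModule.eq_zero_iff p.primeCompl _).mp h4
  refine ⟨t.1, t.2, ?_⟩
  apply (TensorProduct.comm R F Q).injective
  rw [map_smul, map_zero]
  exact ht

/-- Clearing denominators in `κ(p) ⊗ F`. -/
theorem exists_smul_eq_one_tmul (z : p.ResidueField ⊗[R] F) :
    ∃ b : R, b ∉ p ∧ ∃ x : F, b • z = (1 : p.ResidueField) ⊗ₜ[R] x := by
  induction z using TensorProduct.induction_on with
  | zero => exact ⟨1, fun h => Ideal.IsPrime.ne_top' ((Ideal.eq_top_iff_one p).mpr h), 0, by simp⟩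
  | tmul c f =>
    obtain ⟨a, b, hb, rfl⟩ := IsFractionRing.div_surjective (A := R ⧸ p) c
    obtain ⟨a, rfl⟩ := Ideal.Quotient.mk_surjective a
    obtain ⟨b, rfl⟩ := Ideal.Quotient.mk_surjective b
    have hbp : b ∉ p := fun h => by
      rw [Ideal.Quotient.eq_zero_iff_mem.mpr h] at hb
      exact zero_notMem_nonZeroDivisors hb
    refine ⟨b, hbp, a • f, ?_⟩
    rw [TensorProduct.smul_tmul', ← TensorProduct.smul_tmul]
    congr 1
    have h1 : (algebraMap (R ⧸ p) p.ResidueField) (Ideal.Quotient.mk p b) ≠ 0 := by
      rw [Ideal.algebraMap_quotient_residueField_mk, Ne, Ideal.algebraMap_residueField_eq_zero]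
      exact hbp
    rw [Algebra.smul_def, Algebra.smul_def, mul_one, ← Ideal.algebraMap_quotient_residueField_mk p b,
      ← Ideal.algebraMap_quotient_residueField_mk p a]
    field_simp
  | add x y hx hy =>
    obtain ⟨b, hb, x', hx'⟩ := hx
    obtain ⟨c, hc, y', hy'⟩ := hy
    refine ⟨b * c, fun h => (‹p.IsPrime›.mem_or_mem h).elim hb hc, c • x' + b • y', ?_⟩
    rw [smul_add, mul_smul, mul_smul, smul_comm b c x, hx', hy', TensorProduct.tmul_add,
      TensorProduct.tmul_smul, TensorProduct.tmul_smul]

/-- For a flat module `M`, `1 ⊗ y = 0` in `κ(p) ⊗ M` only if `y ∈ p M`. -/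
theorem mem_smul_top_of_one_tmul_eq_zero [Module.Flat R M] (y : M)
    (hy : (1 : p.ResidueField) ⊗ₜ[R] y = 0) : y ∈ (p • ⊤ : Submodule R M) := by
  let g : (R ⧸ p) →ₗ[R] p.ResidueField :=
    (IsScalarTower.toAlgHom R (R ⧸ p) p.ResidueField).toLinearMap
  have hg : Function.Injective g := Ideal.injective_algebraMap_quotient_residueField p
  have h1 : Function.Injective (g.rTensor M) := Module.Flat.rTensor_preserves_injective_linearMap g hg
  have h2 : (1 : R ⧸ p) ⊗ₜ[R] y = 0 := by
    apply h1
    rw [LinearMap.rTensor_tmul, map_zero]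
    have : g 1 = 1 := map_one (algebraMap (R ⧸ p) p.ResidueField)
    rw [this, hy]
  have h3 := congrArg (TensorProduct.quotTensorEquivQuotSMul M p) h2
  rw [map_zero] at h3
  have h4 : TensorProduct.quotTensorEquivQuotSMul M p ((1 : R ⧸ p) ⊗ₜ[R] y) =
      Submodule.Quotient.mk y := by
    simp
  rw [h4, Submodule.Quotient.mk_eq_zero] at h3
  exact h3

theorem one_tmul_eq_zero_of_mem (y : M) (hy : y ∈ (p • ⊤ : Submodule R M)) :
    (1 : p.ResidueField) ⊗ₜ[R] y = 0 := by
  induction hy using Submodule.smul_induction_on' with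
  | smul r hr m _ =>
    rw [TensorProduct.tmul_smul, TensorProduct.smul_tmul', Algebra.smul_def, mul_one,
      (Ideal.algebraMap_residueField_eq_zero (I := p)).mpr hr, TensorProduct.zero_tmul]
  | add x _ y _ hx hy => rw [TensorProduct.tmul_add, hx, hy, add_zero]

/-- To check injectivity of `κ(p) ⊗ u` for a map into a flat module. -/
theorem lTensor_residueField_injective [Module.Flat R M] (u : F →ₗ[R] M)
    (h : ∀ x : F, u x ∈ (p • ⊤ : Submodule R M) → x ∈ (p • ⊤ : Submodule R F)) :
    Function.Injective (u.lTensor p.ResidueField) := by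
  rw [injective_iff_map_eq_zero]
  intro z hz
  obtain ⟨b, hb, x, hx⟩ := exists_smul_eq_one_tmul p z
  have h1 : (1 : p.ResidueField) ⊗ₜ[R] (u x) = 0 := by
    have := congrArg (fun y => u.lTensor p.ResidueField y) hx
    simp only [map_smul, hz, smul_zero, LinearMap.lTensor_tmul] at this
    exact this.symm
  have h2 := h x (mem_smul_top_of_one_tmul_eq_zero p _ h1)
  have h3 := one_tmul_eq_zero_of_mem p x h2
  rw [h3] at hx
  have hb' : algebraMap R p.ResidueField b ≠ 0 := by
    rw [Ne, Ideal.algebraMap_residueField_eq_zero]; exact hb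
  rw [← algebraMap_smul p.ResidueField b z] at hx
  exact (smul_eq_zero_iff_right hb').mp hx

end Groth.Agent.Flat2A.ResInjPrime
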