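import Groth.Agent.Flat2A.LocUnivInj
import Groth.Agent.Flat2A.ResInjPrime
import Groth.Agent.Flat2B.FlatLocusAux
import Mathlib.RingTheory.LocalRing.Module
import Mathlib.RingTheory.Support

/-!
# Maps from finite free modules, bijective at the generic point of a fibre

`S` projective over `R`, `rr` a prime of `R` with `rr S` prime, `α : S^r → N` bijective after base change
to the residue field of `rr S`; `q` a prime of `S` over `rr`.
-/

set_option autoImplicit false
set_option linter.unusedSectionVars false
universe u

namespace Groth.Agent.Flat2A.FreeMap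

open TensorProduct LocUnivInj

variable {R S : Type u} [CommRing R] [CommRing S] [Algebra R S]

section

variable (rr : Ideal R) [rr.IsPrime] (q : Ideal S) [q.IsPrime] [hq : q.LiesOver rr]

include hq in
theorem map_le : rr.map (algebraMap R S) ≤ q := by
  rw [Ideal.map_le_iff_le_comap]
  exact (Ideal.over_def q rr).le

include hq in
theorem algebraMap_notMem {t : R} (ht : t ∉ rr) : algebraMap R S t ∉ q := by
  intro h
  apply ht
  rw [Ideal.over_def q rr]
  exact h

include hq in
theorem algebraMap_notMem' {t : R} (ht : t ∉ rr) : algebraMap R S t ∉ rr.map (algebraMap R S) :=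
  fun h => algebraMap_notMem rr q ht (map_le rr q h)

end

variable (rr : Ideal R) [rr.IsPrime] [hp : (rr.map (algebraMap R S)).IsPrime]
  {N : Type u} [AddCommGroup N] [Module S N] [Module R N] [IsScalarTower R S N]
  {r : ℕ} (α : (Fin r → S) →ₗ[S] N)

/-- The canonical map from the localization at `rr S` to the fibre at its residue field. -/
noncomputable def toResidue : LocalizedModule (rr.map (algebraMap R S)).primeCompl N →ₗ[S]
    (rr.map (algebraMap R S)).ResidueField ⊗[S] N :=
  LocalizedModule.lift (rr.map (algebraMap R S)).primeCompl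
    (TensorProduct.mk S (rr.map (algebraMap R S)).ResidueField N 1) (by
      intro t
      have hu : IsUnit (algebraMap S (rr.map (algebraMap R S)).ResidueField t.1) :=
        IsUnit.mk0 _ (by rw [Ne, Ideal.algebraMap_residueField_eq_zero]; exact t.2)
      have := hu.map (algebraMap (rr.map (algebraMap R S)).ResidueField
        (Module.End (rr.map (algebraMap R S)).ResidueField
          ((rr.map (algebraMap R S)).ResidueField ⊗[S] N)))
      rw [Module.End.isUnit_iff] at this ⊢
      convert this using 1
      ext x
      simp [Module.algebraMap_end_apply])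

theorem toResidue_mk (n : N) : toResidue rr (LocalizedModule.mkLinearMap _ N n) =
    (1 : (rr.map (algebraMap R S)).ResidueField) ⊗ₜ[S] n := by
  unfold toResidue
  rw [LocalizedModule.mkLinearMap_apply, LocalizedModule.lift_mk_one]
  rfl

theorem toResidue_eq_zero (y : LocalizedModule (rr.map (algebraMap R S)).primeCompl N)
    (hy : y ∈ (rr • ⊤ : Submodule R (LocalizedModule (rr.map (algebraMap R S)).primeCompl N))) :
    toResidue rr y = 0 := by
  induction hy using Submodule.smul_induction_on' with
  | smul a ha m _ =>
    have h1 : a • m = algebraMap R S a • m := (algebraMap_smul S a m).symm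
    rw [h1, map_smul]
    generalize toResidue rr m = z
    have h2 : algebraMap S (rr.map (algebraMap R S)).ResidueField (algebraMap R S a) = 0 :=
      Ideal.algebraMap_residueField_eq_zero.mpr (Ideal.mem_map_of_mem _ ha)
    rw [← algebraMap_smul (rr.map (algebraMap R S)).ResidueField (algebraMap R S a) z, h2, zero_smul]
  | add x _ y _ hx hy => rw [map_add, hx, hy, add_zero]

/-- Local universal injectivity over `R` at `rr`. -/
theorem exists_smul_eq_zero [Module.Projective R S]
    (hN : FlatCA.FlatAt R (rr.map (algebraMap R S)) N)
    (hα : Function.Injective (α.baseChange (rr.map (algebraMap R S)).ResidueField))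
    (Q : Type u) [AddCommGroup Q] [Module R Q] (x : (Fin r → S) ⊗[R] Q)
    (hx : (α.restrictScalars R).rTensor Q x = 0) : ∃ t : R, t ∉ rr ∧ t • x = 0 := by
  have hflat : Module.Flat R (LocalizedModule (rr.map (algebraMap R S)).primeCompl N) := hN
  let u : (Fin r → S) →ₗ[R] LocalizedModule (rr.map (algebraMap R S)).primeCompl N :=
    ((LocalizedModule.mkLinearMap (rr.map (algebraMap R S)).primeCompl N) ∘ₗ α).restrictScalars R
  have hu : Function.Injective (u.lTensor rr.ResidueField) := by
    apply ResInjPrime.lTensor_residueField_injective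
    intro x hx
    have h1 := toResidue_eq_zero rr (u x) hx
    have h2 : toResidue rr (u x) = (1 : (rr.map (algebraMap R S)).ResidueField) ⊗ₜ[S] (α x) :=
      toResidue_mk rr (α x)
    rw [h2] at h1
    have h3 : (1 : (rr.map (algebraMap R S)).ResidueField) ⊗ₜ[S] x = 0 := by
      apply hα
      rw [map_zero, LinearMap.baseChange_tmul, h1]
    have h4 := ResInjPrime.mem_smul_top_of_one_tmul_eq_zero (rr.map (algebraMap R S)) x h3
    have h5 : x ∈ ((rr.map (algebraMap R S)) • (⊤ : Submodule S (Fin r → S))).restrictScalars R := h4
    rwa [Ideal.smul_restrictScalars, Submodule.restrictScalars_top] at h5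
  have : Module.Projective R (Fin r → S) :=
    Module.Projective.of_equiv (DFinsupp.linearEquivFunOnFintype (R := R) (M := fun _ : Fin r => S))
  apply ResInjPrime.exists_smul_eq_zero rr u hu Q x
  have : u = ((LocalizedModule.mkLinearMap (rr.map (algebraMap R S)).primeCompl N).restrictScalars R) ∘ₗ
    (α.restrictScalars R) := rfl
  rw [this, LinearMap.rTensor_comp, LinearMap.comp_apply, hx, map_zero]

/-- Nakayama: `α` is surjective at `rr S`. -/
theorem surjective_map [Module.Finite S N]
    (hα : Function.Surjective (α.baseChange (rr.map (algebraMap R S)).ResidueField)) :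
    Function.Surjective (LocalizedModule.map (rr.map (algebraMap R S)).primeCompl α) := by
  rw [map_surjective_iff]
  intro x
  let C := N ⧸ LinearMap.range α
  let P : PrimeSpectrum S := ⟨rr.map (algebraMap R S), hp⟩
  have h1 : P ∉ Module.support S C := by
    rw [Module.mem_support_iff_nontrivial_residueField_tensorProduct, not_nontrivial_iff_subsingleton]
    have hex : Function.Exact (α.lTensor (rr.map (algebraMap R S)).ResidueField)
        ((LinearMap.range α).mkQ.lTensor (rr.map (algebraMap R S)).ResidueField) :=
      lTensor_exact _ (LinearMap.exact_map_mkQ_range α) (Submodule.mkQ_surjective _)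
    have hs : Function.Surjective
        ((LinearMap.range α).mkQ.lTensor (rr.map (algebraMap R S)).ResidueField) :=
      LinearMap.lTensor_surjective _ (Submodule.mkQ_surjective _)
    refine ⟨fun a b => ?_⟩
    have key : ∀ a : (rr.map (algebraMap R S)).ResidueField ⊗[S] C, a = 0 := by
      intro a
      obtain ⟨y, rfl⟩ := hs a
      obtain ⟨z, rfl⟩ := hα y
      exact (hex _).mpr ⟨z, rfl⟩
    rw [key a, key b]
  rw [Module.notMem_support_iff'] at h1
  obtain ⟨t, ht, h⟩ := h1 (Submodule.Quotient.mk x)
  refine ⟨t, ht, ?_⟩
  rwa [← Submodule.Quotient.mk_smul, Submodule.Quotient.mk_eq_zero] at h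

/-- Elements outside `rr S` are nonzerodivisors on `S^r`, locally at `rr`. -/
theorem exists_smul_eq_zero_of_smul [Module.Projective R S] (t : S)
    (ht : t ∉ rr.map (algebraMap R S)) (x : Fin r → S) (hx : t • x = 0) :
    ∃ t' : R, t' ∉ rr ∧ t' • x = 0 := by
  let β : (Fin r → S) →ₗ[S] (Fin r → S) := LinearMap.lsmul S (Fin r → S) t
  have : Module.Projective R (Fin r → S) :=
    Module.Projective.of_equiv (DFinsupp.linearEquivFunOnFintype (R := R) (M := fun _ : Fin r => S))
  have hN : FlatCA.FlatAt R (rr.map (algebraMap R S)) (Fin r → S) :=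
    Flat2B.FlatLocusAux.flatAt_of_flat _ _
  have hβ : Function.Injective (β.baseChange (rr.map (algebraMap R S)).ResidueField) := by
    have h1 : ∀ z, β.baseChange (rr.map (algebraMap R S)).ResidueField z =
        (algebraMap S (rr.map (algebraMap R S)).ResidueField t) • z := by
      intro z
      induction z using TensorProduct.induction_on with
      | zero => simp
      | tmul a b =>
        rw [LinearMap.baseChange_tmul, TensorProduct.smul_tmul', smul_eq_mul, ← Algebra.smul_def,
          TensorProduct.smul_tmul]
        rfl
      | add a b ha hb => rw [map_add, ha, hb, smul_add]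
    have h2 : algebraMap S (rr.map (algebraMap R S)).ResidueField t ≠ 0 := by
      rw [Ne, Ideal.algebraMap_residueField_eq_zero]; exact ht
    rw [injective_iff_map_eq_zero]
    intro z hz
    rw [h1] at hz
    exact (smul_eq_zero_iff_right h2).mp hz
  obtain ⟨t', ht', h⟩ := exists_smul_eq_zero rr β hN hβ R (x ⊗ₜ 1) (by
    rw [LinearMap.rTensor_tmul]
    have : (β.restrictScalars R) x = 0 := hx
    rw [this, zero_tmul])
  refine ⟨t', ht', ?_⟩
  have := congrArg (TensorProduct.rid R (Fin r → S)) h
  simpa using this

variable (q : Ideal S) [q.IsPrime] [hq : q.LiesOver rr]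

include hq in
theorem step_flat_univInj [Module.Projective R S]
    (hα : Function.Bijective (α.baseChange (rr.map (algebraMap R S)).ResidueField))
    (h : FlatCA.FlatAt R q N) :
    (∀ (Q : Type u) [AddCommGroup Q] [Module R Q] (x : (Fin r → S) ⊗[R] Q),
      (α.restrictScalars R).rTensor Q x = 0 → ∃ t : R, t ∉ rr ∧ t • x = 0) ∧
    FlatCA.FlatAt R q (N ⧸ LinearMap.range α) := by
  have h1 : FlatCA.FlatAt R (rr.map (algebraMap R S)) N :=
    Flat2C.FlatAtCriterion.flatAt_of_le q _ (map_le rr q) h
  have h2 := fun (Q : Type u) [AddCommGroup Q] [Module R Q] (x : (Fin r → S) ⊗[R] Q) =>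
    exists_smul_eq_zero rr α h1 hα.1 Q x
  refine ⟨fun Q _ _ x hx => h2 Q x hx, ?_⟩
  apply flatAt_coker q α h
  intro Q _ _ x hx
  obtain ⟨t, ht, h3⟩ := h2 Q x hx
  exact ⟨algebraMap R S t, algebraMap_notMem rr q ht, by rw [algebraMap_smul]; exact h3⟩

theorem step_inj_bij [Module.Finite S N]
    (hα : Function.Bijective (α.baseChange (rr.map (algebraMap R S)).ResidueField))
    (hinj : ∀ x, α x = 0 → ∃ t : R, algebraMap R S t ∉ rr.map (algebraMap R S) ∧ t • x = 0) :
    Function.Bijective (LocalizedModule.map (rr.map (algebraMap R S)).primeCompl α) := by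
  refine ⟨?_, surjective_map rr α hα.2⟩
  rw [map_injective_iff]
  intro x hx
  obtain ⟨t, ht, h⟩ := hinj x hx
  exact ⟨algebraMap R S t, ht, by rw [algebraMap_smul]; exact h⟩

include hq in
theorem step_bij_inj [Module.Projective R S]
    (hbij : Function.Bijective (LocalizedModule.map (rr.map (algebraMap R S)).primeCompl α)) :
    Function.Injective (LocalizedModule.map q.primeCompl α) := by
  have h1 := (map_injective_iff _ α).mp hbij.1
  rw [map_injective_iff]
  intro x hx
  obtain ⟨t, ht, h⟩ := h1 x hx
  obtain ⟨t', ht', h'⟩ := exists_smul_eq_zero_of_smul rr t ht x h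
  exact ⟨algebraMap R S t', algebraMap_notMem rr q ht', by rw [algebraMap_smul]; exact h'⟩

theorem step_inj_flat [Module.Projective R S]
    (hinj : Function.Injective (LocalizedModule.map q.primeCompl α))
    (hC : FlatCA.FlatAt R q (N ⧸ LinearMap.range α)) : FlatCA.FlatAt R q N := by
  have : Module.Projective R (Fin r → S) :=
    Module.Projective.of_equiv (DFinsupp.linearEquivFunOnFintype (R := R) (M := fun _ : Fin r => S))
  apply flatAt_of_coker q α _ hC
  exact (map_injective_iff _ α).mp hinj

/-- Existence of a map from a finite free module which is bijective at a residue field. -/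
theorem exists_free_map (p : Ideal S) [p.IsPrime] [Module.Finite S N] :
    ∃ (r : ℕ) (α : (Fin r → S) →ₗ[S] N), Function.Bijective (α.baseChange p.ResidueField) := by
  classical
  let V := p.ResidueField ⊗[S] N
  have hspan : Submodule.span p.ResidueField (Set.range fun n : N => (1 : p.ResidueField) ⊗ₜ[S] n) =
      (⊤ : Submodule p.ResidueField V) := by
    rw [eq_top_iff]
    rintro z -
    induction z using TensorProduct.induction_on with
    | zero => exact Submodule.zero_mem _
    | tmul a b =>
      have : a ⊗ₜ[S] b = a • ((1 : p.ResidueField) ⊗ₜ[S] b) := by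
        rw [TensorProduct.smul_tmul', smul_eq_mul, mul_one]
      rw [this]
      exact Submodule.smul_mem _ _ (Submodule.subset_span ⟨b, rfl⟩)
    | add a b ha hb => exact Submodule.add_mem _ ha hb
  obtain ⟨b, hbsub, hbspan, hbli⟩ := exists_linearIndependent p.ResidueField
    (Set.range fun n : N => (1 : p.ResidueField) ⊗ₜ[S] n : Set V)
  rw [hspan] at hbspan
  let B : Module.Basis b p.ResidueField V := Module.Basis.mk hbli (by
    rw [Subtype.range_coe, hbspan])
  have : Finite b := Module.Finite.finite_basis B
  have : Fintype b := Fintype.ofFinite b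
  let e := Fintype.equivFin b
  choose n hn using fun i : b => hbsub i.2
  let α : (Fin (Fintype.card b) → S) →ₗ[S] N := Fintype.linearCombination S (fun i => n (e.symm i))
  refine ⟨Fintype.card b, α, ?_⟩
  let B' : Module.Basis (Fin (Fintype.card b)) p.ResidueField V := B.reindex e
  let A : Module.Basis (Fin (Fintype.card b)) p.ResidueField
      (p.ResidueField ⊗[S] (Fin (Fintype.card b) → S)) :=
    (Pi.basisFun S (Fin (Fintype.card b))).baseChange p.ResidueField
  have hcomp : α.baseChange p.ResidueField = (A.equiv B' (Equiv.refl _)).toLinearMap := by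
    apply A.ext
    intro i
    rw [LinearEquiv.coe_coe, Module.Basis.equiv_apply, Module.Basis.baseChange_apply,
      LinearMap.baseChange_tmul]
    have h1 : α (Pi.basisFun S (Fin (Fintype.card b)) i) = n (e.symm i) := by
      simp [α, Fintype.linearCombination_apply, Pi.single_apply]
    rw [h1]
    refine (hn (e.symm i)).trans ?_
    simp [B', B]
  rw [hcomp]
  exact (A.equiv B' (Equiv.refl _)).bijective

end Groth.Agent.Flat2A.FreeMap
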