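import Groth.Agent.Flat2A.FreeMap
import Groth.Agent.Flat2A.Fiber
import Groth.Agent.Flat2A.GeomInt
import Mathlib.RingTheory.Spectrum.Prime.Chevalley
import Mathlib.RingTheory.Flat.FaithfullyFlat.Algebra
import Mathlib.RingTheory.Ideal.GoingDown

/-!
# Spreading out universal injectivity of a map from a finite free module (finitely presented case)
-/

set_option autoImplicit false
set_option linter.unusedSectionVars false
universe u

namespace Groth.Agent.Flat2A.FreeMapFP

open TensorProduct LocUnivInj

variable {R S : Type u} [CommRing R] [CommRing S] [Algebra R S]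

theorem mem_smul_top_pi_iff {r : ℕ} (I : Ideal R) (x : Fin r → S) :
    x ∈ (I • ⊤ : Submodule R (Fin r → S)) ↔ ∀ i, x i ∈ (I • ⊤ : Submodule R S) := by
  constructor
  · intro h i
    have h1 : (LinearMap.proj i : (Fin r → S) →ₗ[R] S) x ∈
        (I • ⊤ : Submodule R (Fin r → S)).map (LinearMap.proj i) := Submodule.mem_map_of_mem h
    rw [Submodule.map_smul''] at h1
    exact (Submodule.smul_mono le_rfl le_top) h1
  · intro h
    have h1 : x = ∑ i, (LinearMap.single R (fun _ : Fin r => S) i) (x i) := by
      funext j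
      simp [Finset.sum_apply, Pi.single_apply]
    rw [h1]
    refine Submodule.sum_mem _ fun i _ => ?_
    have h2 : (LinearMap.single R (fun _ : Fin r => S) i) (x i) ∈
        (I • ⊤ : Submodule R S).map (LinearMap.single R (fun _ : Fin r => S) i) :=
      Submodule.mem_map_of_mem (h i)
    rw [Submodule.map_smul''] at h2
    exact (Submodule.smul_mono le_rfl le_top) h2

/-- If `h` is nonzero in the (integral) fibre over `p`, it acts injectively on `S^r ⊗ Q` locally at `p`. -/
theorem exists_smul_eq_zero_of_fiber [Module.Projective R S] (p : Ideal R) [p.IsPrime]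
    [IsDomain (p.Fiber S)] (h : S) (hh : (1 : p.ResidueField) ⊗ₜ[R] h ≠ 0) {r : ℕ}
    (Q : Type u) [AddCommGroup Q] [Module R Q] (x : (Fin r → S) ⊗[R] Q) (hx : h • x = 0) :
    ∃ t : R, t ∉ p ∧ t • x = 0 := by
  have hproj : Module.Projective R (Fin r → S) :=
    Module.Projective.of_equiv (DFinsupp.linearEquivFunOnFintype (R := R) (M := fun _ : Fin r => S))
  let u : (Fin r → S) →ₗ[R] (Fin r → S) := (LinearMap.lsmul S (Fin r → S) h).restrictScalars R
  have key : ∀ y : S, y ∈ (p • ⊤ : Submodule R S) ↔ (1 : p.ResidueField) ⊗ₜ[R] y = 0 := fun y =>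
    ⟨ResInjPrime.one_tmul_eq_zero_of_mem p y, ResInjPrime.mem_smul_top_of_one_tmul_eq_zero p y⟩
  have hu : Function.Injective (u.lTensor p.ResidueField) := by
    apply ResInjPrime.lTensor_residueField_injective
    intro x hx
    rw [mem_smul_top_pi_iff] at hx ⊢
    intro i
    have h1 := (key _).mp (hx i)
    rw [key]
    have h2 : (1 : p.ResidueField) ⊗ₜ[R] (u x i) =
        ((1 : p.ResidueField) ⊗ₜ[R] h : p.Fiber S) * ((1 : p.ResidueField) ⊗ₜ[R] (x i)) := by
      rw [Algebra.TensorProduct.tmul_mul_tmul, one_mul]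
      rfl
    rw [h2] at h1
    exact (mul_eq_zero.mp h1).resolve_left hh
  apply ResInjPrime.exists_smul_eq_zero p u hu Q x
  have : u.rTensor Q x = h • x := by
    have : u = (LinearMap.lsmul S (Fin r → S) h).restrictScalars R := rfl
    clear hx
    induction x using TensorProduct.induction_on with
    | zero => simp
    | tmul a b => rw [LinearMap.rTensor_tmul, TensorProduct.smul_tmul']; rfl
    | add a b ha hb => rw [map_add, ha, hb, smul_add]
  rw [this, hx]

/-- The finitely presented case: universal injectivity after inverting one element of the base. -/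
theorem exists_univInj_away [Algebra.FinitePresentation R S] [Module.Projective R S]
    (hdom : ∀ (p : Ideal R) [p.IsPrime], IsDomain (p.Fiber S))
    (rr : Ideal R) [rr.IsPrime] [hp : (rr.map (algebraMap R S)).IsPrime]
    (q : Ideal S) [q.IsPrime] [q.LiesOver rr]
    {N : Type u} [AddCommGroup N] [Module S N] [Module R N] [IsScalarTower R S N]
    [Module.FinitePresentation S N] {r : ℕ} (α : (Fin r → S) →ₗ[S] N)
    (hbij : Function.Bijective (LocalizedModule.map (rr.map (algebraMap R S)).primeCompl α)) :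
    ∃ f : R, f ∉ rr ∧ ∀ (Q : Type u) [AddCommGroup Q] [Module R Q] (x : (Fin r → S) ⊗[R] Q),
      (α.restrictScalars R).rTensor Q x = 0 → ∃ n : ℕ, f ^ n • x = 0 := by
  obtain ⟨h, hh, hb⟩ := Module.FinitePresentation.exists_notMem_bijective α
    (rr.map (algebraMap R S)) (LocalizedModule.mkLinearMap _ _) (LocalizedModule.mkLinearMap _ _) hbij
  -- `α` is universally injective after inverting `h`
  have h1 : FlatCA.UnivInj R ((LocalizedModule.map (Submonoid.powers h) α).restrictScalars R) := by
    intro Q _ _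
    exact (LinearEquiv.lTensor Q
      ((LinearEquiv.ofBijective _ hb).restrictScalars R)).injective
  rw [univInj_map_iff] at h1
  -- the image of `D(h)` in `Spec R`
  have hopen : IsOpen (PrimeSpectrum.comap (algebraMap R S) '' (PrimeSpectrum.basicOpen h)) :=
    PrimeSpectrum.isOpenMap_comap_of_hasGoingDown_of_finitePresentation _
      (PrimeSpectrum.basicOpen h).isOpen
  have hmem : (⟨rr, inferInstance⟩ : PrimeSpectrum R) ∈
      PrimeSpectrum.comap (algebraMap R S) '' (PrimeSpectrum.basicOpen h) := by
    refine ⟨⟨rr.map (algebraMap R S), hp⟩, hh, ?_⟩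
    ext t
    rw [PrimeSpectrum.comap_asIdeal, Ideal.mem_comap]
    constructor
    · intro ht
      by_contra ht'
      exact FreeMap.algebraMap_notMem' rr q ht' ht
    · intro ht
      exact Ideal.mem_map_of_mem _ ht
  obtain ⟨_, ⟨_, ⟨f, rfl⟩, rfl⟩, hf1, hf2⟩ := PrimeSpectrum.isBasis_basic_opens.exists_subset_of_mem_open
    hmem hopen
  refine ⟨f, hf1, fun Q _ _ x hx => ?_⟩
  obtain ⟨_, ⟨k, rfl⟩, hk⟩ := h1 Q x hx
  -- `f` lies in the radical of the annihilator of `x`
  have hrad : f ∈ (Submodule.span R {x}).annihilator.radical := by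
    rw [Ideal.radical_eq_sInf, Submodule.mem_sInf]
    rintro (p : Ideal R) ⟨hle, hpr⟩
    by_contra hfp
    obtain ⟨P, hP, hPp⟩ := hf2 (show (⟨p, hpr⟩ : PrimeSpectrum R) ∈ PrimeSpectrum.basicOpen f from hfp)
    have hPl : P.asIdeal.LiesOver p := ⟨(congrArg PrimeSpectrum.asIdeal hPp).symm⟩
    have hdp := hdom p
    have hne : (1 : p.ResidueField) ⊗ₜ[R] (h ^ k) ≠ 0 := by
      intro h0
      have := (Fiber.one_tmul_mem_fiberIdeal_iff p P.asIdeal (h ^ k)).mp (by
        rw [h0]; exact Ideal.zero_mem _)
      exact hP (P.2.mem_of_pow_mem k this)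
    obtain ⟨t, ht, ht0⟩ := exists_smul_eq_zero_of_fiber p (h ^ k) hne Q x hk
    exact ht (hle ((Submodule.mem_annihilator_span_singleton x t).mpr ht0))
  obtain ⟨n, hn⟩ := hrad
  exact ⟨n, (Submodule.mem_annihilator_span_singleton x _).mp hn⟩

end Groth.Agent.Flat2A.FreeMapFP
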