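import Groth.Agent.S1199
import Groth.Agent.Flat2A.CompletedProj
import Mathlib.RingTheory.LocalRing.ResidueField.Basic
import Mathlib.RingTheory.LocalRing.RingHom.Basic

/-!
# A universally injective family of functionals on a flat finite module over a local algebra

`L` a complete Noetherian local ring, `S` a Noetherian local `L`-algebra (local homomorphism), `N` a finite `S`-module
flat over `L`. Then there is a family of `L`-linear functionals `c` on `N` with `N ⊗ Q → (α → Q)` injective for every `Q`.
-/

set_option autoImplicit false
universe u

namespace Groth.Agent.Flat2A.Functionals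

open TensorProduct IsLocalRing

theorem exists_functionals {L S N : Type u} [CommRing L] [IsLocalRing L] [IsNoetherianRing L]
    [IsAdicComplete (maximalIdeal L) L] [CommRing S] [IsLocalRing S] [IsNoetherianRing S] [Algebra L S]
    [IsLocalHom (algebraMap L S)] [AddCommGroup N] [Module S N] [Module L N] [IsScalarTower L S N]
    [Module.Finite S N] [Module.Flat L N] :
    ∃ (α : Type u) (c : α → (N →ₗ[L] L)), ∀ (Q : Type u) [AddCommGroup Q] [Module L Q],
      Function.Injective (CoordML.phi c Q) := by
  have hui : FlatCA.UnivInj L (AdicCompletion.of (maximalIdeal L) N) := by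
    refine Groth.Agent.S1199.result (S := S) (maximalIdeal L) N ?_
    intro Q _ _ hQ q hq htop
    have h1 : (maximalIdeal L).map (algebraMap L S) ≤ maximalIdeal S :=
      IsLocalRing.map_maximalIdeal_le (algebraMap L S)
    have h2 : q ≤ maximalIdeal S := le_maximalIdeal hq.1.ne_top
    have h3 : (maximalIdeal L).map (algebraMap L S) ⊔ q ≤ maximalIdeal S := sup_le h1 h2
    rw [htop] at h3
    exact (maximalIdeal.isMaximal S).ne_top (top_le_iff.1 h3)
  have hproj : Module.Projective (L ⧸ maximalIdeal L) (N ⧸ (maximalIdeal L • ⊤ : Submodule L N)) := by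
    let _ : Field (L ⧸ maximalIdeal L) := Ideal.Quotient.field (maximalIdeal L)
    infer_instance
  obtain ⟨σ, hσ⟩ := CompletedProj.exists_section (maximalIdeal L) (Finsupp.linearCombination L (id : N → N))
    (Finsupp.linearCombination_id_surjective L N)
  have h := CoordML.phi_injective_of_retract (M := AdicCompletion (maximalIdeal L) (N →₀ L))
    (CompletedFree.coord (maximalIdeal L))
    (fun Q _ _ => CompletedFree.phi_coord_injective (maximalIdeal L) Q) σ _ hσ
  refine ⟨N, fun a => (CompletedFree.coord (maximalIdeal L) a ∘ₗ σ) ∘ₗ AdicCompletion.of (maximalIdeal L) N, ?_⟩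
  intro Q _ _
  have h1 : ∀ z, CoordML.phi (fun a => (CompletedFree.coord (maximalIdeal L) a ∘ₗ σ) ∘ₗ AdicCompletion.of (maximalIdeal L) N) Q z
      = CoordML.phi (fun a => (CompletedFree.coord (maximalIdeal L) a ∘ₗ σ)) Q
        ((AdicCompletion.of (maximalIdeal L) N).rTensor Q z) := by
    intro z
    induction z using TensorProduct.induction_on with
    | zero => simp
    | tmul m q => ext a; simp
    | add x y hx hy => simp only [map_add, hx, hy]
  have h2 : Function.Injective ((AdicCompletion.of (maximalIdeal L) N).rTensor Q) := by
    have h3 := hui Q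
    intro x y hxy
    apply (TensorProduct.comm L N Q).injective
    apply h3
    have h4 : ∀ z : N ⊗[L] Q, (AdicCompletion.of (maximalIdeal L) N).lTensor Q (TensorProduct.comm L N Q z)
        = TensorProduct.comm L _ Q ((AdicCompletion.of (maximalIdeal L) N).rTensor Q z) := by
      intro z
      induction z using TensorProduct.induction_on with
      | zero => simp
      | tmul m q => simp
      | add x y hx hy => simp only [map_add, hx, hy]
    rw [h4, h4, hxy]
  intro x y hxy
  rw [h1, h1] at hxy
  exact h2 (h Q hxy)

end Groth.Agent.Flat2A.Functionals
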