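import Groth.Agent.FlatB.Content
import Mathlib.RingTheory.AdicCompletion.Noetherian
import Mathlib.RingTheory.AdicCompletion.Exactness
import Mathlib.RingTheory.LocalRing.RingHom.Basic
import Mathlib.RingTheory.TensorProduct.Finite
import Mathlib.RingTheory.TensorProduct.Quotient

/-!
# Functionals on a finite module over a local algebra which becomes flat after a quotient of the base

`L` a complete Noetherian local ring, `S` a Noetherian local `L`-algebra (local homomorphism), `N` a finite `S`-module,
`L → L'` a surjection onto a local ring such that `L' ⊗ N` is flat over `L'`. Then the maps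
`n ⊗ q ↦ c n • q`, `c : N →ₗ[L] L'`, are jointly injective on `N ⊗[L] Q` for every `L'`-module `Q`.
-/

set_option autoImplicit false
universe u

namespace Groth.Agent.Flat2A.FunctionalsQuot

open TensorProduct IsLocalRing

/-- `n ⊗ q ↦ c n • q` for a functional `c : N →ₗ[L] L'` with values in an `L`-algebra, and `Q` an `L'`-module. -/
noncomputable def evalMap {L L' N : Type u} [CommRing L] [CommRing L'] [Algebra L L'] [AddCommGroup N] [Module L N]
    (c : N →ₗ[L] L') (Q : Type u) [AddCommGroup Q] [Module L Q] [Module L' Q] [IsScalarTower L L' Q] :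
    N ⊗[L] Q →ₗ[L] Q :=
  TensorProduct.lift (LinearMap.mk₂ L (fun n q => c n • q)
    (fun n n' q => by rw [map_add, add_smul])
    (fun r n q => by rw [map_smul, smul_assoc])
    (fun n q q' => smul_add _ _ _)
    (fun r n q => (smul_comm _ _ _)))

@[simp]
theorem evalMap_tmul {L L' N : Type u} [CommRing L] [CommRing L'] [Algebra L L'] [AddCommGroup N] [Module L N]
    (c : N →ₗ[L] L') (Q : Type u) [AddCommGroup Q] [Module L Q] [Module L' Q] [IsScalarTower L L' Q] (n : N) (q : Q) :
    evalMap c Q (n ⊗ₜ q) = c n • q := rfl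

theorem isHausdorff_of_injective {L : Type u} [CommRing L] (I : Ideal L) {M M' : Type u} [AddCommGroup M] [Module L M]
    [AddCommGroup M'] [Module L M'] (f : M →ₗ[L] M') (hf : Function.Injective f) [IsHausdorff I M'] : IsHausdorff I M := by
  refine ⟨fun x hx => hf ?_⟩
  rw [map_zero]
  refine IsHausdorff.haus (inferInstance : IsHausdorff I M') _ fun n => ?_
  rw [SModEq.zero]
  have h1 := hx n
  rw [SModEq.zero] at h1
  have h2 : f x ∈ Submodule.map f (I ^ n • ⊤ : Submodule L M) := Submodule.mem_map_of_mem h1
  rw [Submodule.map_smul''] at h2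
  exact Submodule.smul_mono le_rfl le_top h2

theorem map_maximalIdeal_of_surjective {L L' : Type u} [CommRing L] [IsLocalRing L] [CommRing L'] [IsLocalRing L']
    [Algebra L L'] (hs : Function.Surjective (algebraMap L L')) :
    (maximalIdeal L).map (algebraMap L L') = maximalIdeal L' := by
  have hloc : IsLocalHom (algebraMap L L') := Function.Surjective.isLocalHom _ hs
  apply le_antisymm (IsLocalRing.map_maximalIdeal_le _)
  intro x hx
  obtain ⟨y, rfl⟩ := hs x
  refine Ideal.mem_map_of_mem _ ?_
  rw [mem_maximalIdeal] at hx ⊢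
  intro h
  exact hx (h.map _)

/-- A quotient of a complete Noetherian local ring is complete. -/
theorem isAdicComplete_of_surjective {L L' : Type u} [CommRing L] [IsLocalRing L] [IsNoetherianRing L]
    [IsAdicComplete (maximalIdeal L) L] [CommRing L'] [IsLocalRing L']
    [Algebra L L'] (hs : Function.Surjective (algebraMap L L')) : IsAdicComplete (maximalIdeal L') L' := by
  rw [← map_maximalIdeal_of_surjective hs, IsAdicComplete.map_algebraMap_iff]
  have hfin : Module.Finite L L' := Module.Finite.of_surjective (Algebra.linearMap L L') hs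
  have h1 : IsHausdorff (maximalIdeal L) L' := IsHausdorff.of_le_jacobson _ _ (maximalIdeal_le_jacobson _)
  have h2 : IsPrecomplete (maximalIdeal L) L' := by
    rw [← AdicCompletion.of_surjective_iff]
    have h3 : Function.Surjective (AdicCompletion.map (maximalIdeal L) (Algebra.linearMap L L')) :=
      AdicCompletion.map_surjective _ hs
    intro x
    obtain ⟨y, rfl⟩ := h3 x
    obtain ⟨z, rfl⟩ := AdicCompletion.of_surjective (maximalIdeal L) L y
    exact ⟨_, (AdicCompletion.map_of _ _ _).symm⟩
  exact { toIsHausdorff := h1, toIsPrecomplete := h2 }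

theorem exists_functionals_of_surjective {L L' S N : Type u} [CommRing L] [IsLocalRing L] [IsNoetherianRing L]
    [IsAdicComplete (maximalIdeal L) L] [CommRing L'] [IsLocalRing L'] [Algebra L L']
    (hs : Function.Surjective (algebraMap L L')) [CommRing S] [IsLocalRing S] [IsNoetherianRing S] [Algebra L S]
    [IsLocalHom (algebraMap L S)] [AddCommGroup N] [Module S N] [Module L N] [IsScalarTower L S N]
    [Module.Finite S N] [Module.Flat L' (L' ⊗[L] N)] :
    ∃ (α : Type u) (c : α → (N →ₗ[L] L')), ∀ (Q : Type u) [AddCommGroup Q] [Module L Q] [Module L' Q]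
      [IsScalarTower L L' Q] (z : N ⊗[L] Q), (∀ a, evalMap (c a) Q z = 0) → z = 0 := by
  have hcomp : IsAdicComplete (maximalIdeal L') L' := isAdicComplete_of_surjective hs
  have hfinL' : Module.Finite L L' := Module.Finite.of_surjective (Algebra.linearMap L L') hs
  -- the separatedness statement
  have H : ∀ (Q : Type u) [AddCommGroup Q] [Module L' Q], Module.Finite L' Q →
      IsHausdorff (maximalIdeal L') (Q ⊗[L'] (L' ⊗[L] N)) := by
    intro Q _ _ hQ
    let _ : Module L Q := Module.compHom Q (algebraMap L L')
    have : IsScalarTower L L' Q := ⟨fun r s x => by rw [Algebra.smul_def, mul_smul]; rfl⟩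
    have hQL : Module.Finite L Q := Module.Finite.trans L' Q
    rw [← map_maximalIdeal_of_surjective hs, IsHausdorff.map_algebraMap_iff]
    let e : Q ⊗[L'] (L' ⊗[L] N) ≃ₗ[L'] Q ⊗[L] N := AlgebraTensorModule.cancelBaseChange L L' L' Q N
    have h1 : IsHausdorff (maximalIdeal L) (N ⊗[L] Q) := by
      rw [← IsHausdorff.map_algebraMap_iff (S := S)]
      have hfin : Module.Finite S (N ⊗[L] Q) := by
        obtain ⟨n, π, hπ⟩ := Module.Finite.exists_fin' L Q
        refine Module.Finite.of_surjective
          ((TensorProduct.AlgebraTensorModule.lTensor S N π) ∘ₗ (TensorProduct.piScalarRight L S N (Fin n)).symm.toLinearMap) ?_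
        intro x
        obtain ⟨y, rfl⟩ := LinearMap.lTensor_surjective N hπ x
        refine ⟨TensorProduct.piScalarRight L S N (Fin n) y, ?_⟩
        rw [LinearMap.comp_apply]
        erw [LinearEquiv.symm_apply_apply]
        rfl
      exact IsHausdorff.of_le_jacobson _ _ ((IsLocalRing.map_maximalIdeal_le (algebraMap L S)).trans
        (maximalIdeal_le_jacobson _))
    exact isHausdorff_of_injective (maximalIdeal L) ((TensorProduct.comm L Q N).toLinearMap ∘ₗ (e.toLinearMap.restrictScalars L))
      ((TensorProduct.comm L Q N).injective.comp e.injective)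
  refine ⟨(L' ⊗[L] N) →ₗ[L'] L', fun f => f.restrictScalars L ∘ₗ TensorProduct.mk L L' N 1, ?_⟩
  intro Q _ _ _ _ z hz
  let e : Q ⊗[L'] (L' ⊗[L] N) ≃ₗ[L'] Q ⊗[L] N := AlgebraTensorModule.cancelBaseChange L L' L' Q N
  have h0 := FlatB.Content.eq_zero_of_forall_functional (A := L') (M := L' ⊗[L] N) H Q (e.symm (TensorProduct.comm L N Q z)) (by
    intro f
    rw [← hz f]
    clear hz
    induction z using TensorProduct.induction_on with
    | zero => simp
    | tmul n q =>
      have h1 : e.symm (TensorProduct.comm L N Q (n ⊗ₜ q)) = q ⊗ₜ[L'] ((1 : L') ⊗ₜ[L] n) := by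
        rw [LinearEquiv.symm_apply_eq, TensorProduct.comm_tmul]
        show _ = AlgebraTensorModule.cancelBaseChange L L' L' Q N (q ⊗ₜ[L'] ((1 : L') ⊗ₜ[L] n))
        rw [AlgebraTensorModule.cancelBaseChange_tmul, one_smul]
      rw [h1]
      simp
    | add x y hx hy => simp only [map_add, hx, hy])
  have h1 : TensorProduct.comm L N Q z = 0 := by
    apply e.symm.injective
    rw [h0, map_zero]
  apply (TensorProduct.comm L N Q).injective
  rw [h1, map_zero]

/-- The version for a quotient `L ⧸ I`. -/
theorem exists_functionals_quot {L S N : Type u} [CommRing L] [IsLocalRing L] [IsNoetherianRing L]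
    [IsAdicComplete (maximalIdeal L) L] [CommRing S] [IsLocalRing S] [IsNoetherianRing S] [Algebra L S]
    [IsLocalHom (algebraMap L S)] [AddCommGroup N] [Module S N] [Module L N] [IsScalarTower L S N]
    [Module.Finite S N] (I : Ideal L) (hI : I ≤ maximalIdeal L) [Module.Flat (L ⧸ I) ((L ⧸ I) ⊗[L] N)] :
    ∃ (α : Type u) (c : α → (N →ₗ[L] (L ⧸ I))), ∀ (Q : Type u) [AddCommGroup Q] [Module L Q] [Module (L ⧸ I) Q]
      [IsScalarTower L (L ⧸ I) Q] (z : N ⊗[L] Q), (∀ a, evalMap (c a) Q z = 0) → z = 0 := by
  have hnt : Nontrivial (L ⧸ I) := Ideal.Quotient.nontrivial_iff.2 (fun h => (maximalIdeal.isMaximal L).ne_top (top_le_iff.1 (h ▸ hI)))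
  have : IsLocalRing (L ⧸ I) := IsLocalRing.of_surjective' (Ideal.Quotient.mk I) Ideal.Quotient.mk_surjective
  exact exists_functionals_of_surjective (L' := L ⧸ I) (S := S) Ideal.Quotient.mk_surjective

end Groth.Agent.Flat2A.FunctionalsQuot
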