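import Groth.Prelude.Def_FlatCA
import Groth.Agent.S1203
import Groth.Agent.S0585
import Groth.Agent.S0389
import Groth.Agent.S0543
import Mathlib.LinearAlgebra.TensorProduct.Quotient
import Mathlib.RingTheory.Ideal.Maps
import Mathlib.RingTheory.AdicCompletion.AsTensorProduct
import Mathlib.RingTheory.AdicCompletion.Completeness
import Mathlib.RingTheory.Flat.FaithfullyFlat.Algebra

/-!
# Flat finite type algebras with geometrically integral fibres over Noetherian rings are projective
-/

set_option autoImplicit false
universe u

namespace Groth.Agent.Flat2A.GeomIntProj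

open TensorProduct

/-- Every base change to a field is a domain. -/
def GI (R S : Type u) [CommRing R] [CommRing S] [Algebra R S] : Prop :=
  ∀ (K : Type u) [Field K] [Algebra R K], IsDomain (K ⊗[R] S)

theorem GI.baseChange {R S : Type u} [CommRing R] [CommRing S] [Algebra R S] (h : GI R S)
    (R' : Type u) [CommRing R'] [Algebra R R'] : GI R' (R' ⊗[R] S) := by
  intro K _ _
  let _ : Algebra R K := Algebra.compHom K (algebraMap R R')
  have : IsScalarTower R R' K := IsScalarTower.of_algebraMap_eq fun _ => rfl
  have := h K
  exact (Algebra.TensorProduct.cancelBaseChange R R' K K S).toMulEquiv.isDomain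

theorem mem_map_of_fiber_eq_zero {R S : Type u} [CommRing R] [CommRing S] [Algebra R S]
    [Module.Flat R S] (p : Ideal R) [p.IsPrime] (y : S)
    (hy : (1 : p.ResidueField) ⊗ₜ[R] y = 0) : y ∈ p.map (algebraMap R S) := by
  let g : (R ⧸ p) →ₗ[R] p.ResidueField :=
    (IsScalarTower.toAlgHom R (R ⧸ p) p.ResidueField).toLinearMap
  have hg : Function.Injective g := Ideal.injective_algebraMap_quotient_residueField p
  have h1 : Function.Injective (g.rTensor S) := Module.Flat.rTensor_preserves_injective_linearMap g hg
  have h2 : (1 : R ⧸ p) ⊗ₜ[R] y = 0 := by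
    apply h1
    rw [LinearMap.rTensor_tmul, map_zero]
    have : g 1 = 1 := map_one (algebraMap (R ⧸ p) p.ResidueField)
    rw [this, hy]
  have h3 := congrArg (TensorProduct.quotTensorEquivQuotSMul S p) h2
  rw [map_zero] at h3
  have h4 : TensorProduct.quotTensorEquivQuotSMul S p ((1 : R ⧸ p) ⊗ₜ[R] y) =
      Submodule.Quotient.mk y := by
    simp
  rw [h4, Submodule.Quotient.mk_eq_zero, Ideal.smul_top_eq_map] at h3
  exact h3

/-- A prime whose extension to the fibre ring is associated to the fibre module of the ring itself
is zero in the fibre ring, when the latter is a domain. -/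
theorem one_tmul_eq_zero_of_mem {R S : Type u} [CommRing R] [CommRing S] [Algebra R S]
    (p : Ideal R) [p.IsPrime] [IsDomain (p.Fiber S)] (q : Ideal S)
    (hq : FlatCA.fiberIdeal p q ∈ associatedPrimes (p.Fiber S) (FlatCA.fiberMod p S S))
    (y : S) (hy : y ∈ q) : (1 : p.ResidueField) ⊗ₜ[R] y = 0 := by
  let _ : Algebra S (p.Fiber S) := Algebra.TensorProduct.rightAlgebra
  let e : FlatCA.fiberMod p S S ≃ₗ[p.Fiber S] p.Fiber S :=
    (TensorProduct.AlgebraTensorModule.rid S (p.Fiber S) (p.Fiber S))
  rw [LinearEquiv.AssociatedPrimes.eq e] at hq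
  obtain ⟨hprime, x, hx⟩ := hq
  have hx0 : x ≠ 0 := by
    rintro rfl
    apply hprime.ne_top
    rw [hx]
    simp
  have : FlatCA.fiberIdeal p q = ⊥ := by
    rw [hx, eq_bot_iff]
    rintro z ⟨n, hz⟩
    rw [Submodule.mem_colon_singleton, Submodule.mem_bot, smul_eq_mul] at hz
    rcases mul_eq_zero.mp hz with h | h
    · exact IsReduced.eq_zero _ ⟨n, h⟩
    · exact absurd h hx0
  have h2 : (1 : p.ResidueField) ⊗ₜ[R] y ∈ FlatCA.fiberIdeal p q := Ideal.mem_map_of_mem _ hy
  rw [this] at h2
  exact h2

/-- The Noetherian complete case. -/
theorem projective_of_complete {R S : Type u} [CommRing R] [IsNoetherianRing R] [CommRing S]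
    [Algebra R S] [Algebra.FiniteType R S] [Module.Flat R S] (h : GI R S) (I : Ideal R)
    [IsAdicComplete I R] [Module.Projective (R ⧸ I) ((R ⧸ I) ⊗[R] S)] : Module.Projective R S := by
  have : Module.Projective (R ⧸ I) (S ⧸ (I • ⊤ : Submodule R S)) :=
    Module.Projective.of_equiv
      ((TensorProduct.quotTensorEquivQuotSMul S I).extendScalarsOfSurjective
        Ideal.Quotient.mk_surjective)
  refine Groth.Agent.S1203.result (R := R) (S := S) I S ?_
  intro p q _ _ _ hq htop
  have hD : IsDomain (p.Fiber S) := h p.ResidueField
  -- a maximal ideal above `p`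
  obtain ⟨m, hm, hpm⟩ := Ideal.exists_le_maximal p (Ideal.IsPrime.ne_top inferInstance)
  have hIm : I ≤ m := by
    have := IsAdicComplete.le_jacobson_bot I
    exact this.trans (sInf_le ⟨bot_le, hm⟩)
  have hqm : q ≤ m.map (algebraMap R S) := fun y hy =>
    Ideal.map_mono hpm (mem_map_of_fiber_eq_zero p y (one_tmul_eq_zero_of_mem p q hq y hy))
  have h1 : m.map (algebraMap R S) = ⊤ := by
    rw [eq_top_iff, ← htop]
    exact sup_le (Ideal.map_mono hIm) hqm
  let _ := Ideal.Quotient.field m
  have hD2 : IsDomain ((R ⧸ m) ⊗[R] S) := h (R ⧸ m)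
  have h2 : (1 : S) ∈ m.map (algebraMap R S) := by rw [h1]; trivial
  have h3 : (Algebra.TensorProduct.includeRight : S →ₐ[R] (R ⧸ m) ⊗[R] S) 1 ∈
      (m.map (algebraMap R S)).map (Algebra.TensorProduct.includeRight : S →ₐ[R] (R ⧸ m) ⊗[R] S) :=
    Ideal.mem_map_of_mem _ h2
  have h4 : (m.map (algebraMap R S)).map
      (Algebra.TensorProduct.includeRight : S →ₐ[R] (R ⧸ m) ⊗[R] S) = ⊥ := by
    rw [eq_bot_iff, Ideal.map_le_iff_le_comap, Ideal.map_le_iff_le_comap]
    intro r hr
    rw [Ideal.mem_comap, Ideal.mem_comap, Ideal.mem_bot]
    rw [AlgHom.commutes, Algebra.TensorProduct.algebraMap_apply, Ideal.Quotient.algebraMap_eq,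
      Ideal.Quotient.eq_zero_iff_mem.mpr hr, TensorProduct.zero_tmul]
  rw [h4, map_one, Ideal.mem_bot] at h3
  exact one_ne_zero h3

/-- Projectivity of a base change is inherited by further base changes. -/
theorem projective_baseChange_of_ringHom {R S A B : Type u} [CommRing R] [CommRing S] [Algebra R S]
    [CommRing A] [CommRing B] [Algebra R A] [Algebra R B] (φ : A →+* B)
    (hφ : φ.comp (algebraMap R A) = algebraMap R B) [Module.Projective A (A ⊗[R] S)] :
    Module.Projective B (B ⊗[R] S) := by
  let _ : Algebra A B := φ.toAlgebra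
  have : IsScalarTower R A B := IsScalarTower.of_algebraMap_eq' hφ.symm
  exact Module.Projective.of_equiv (TensorProduct.AlgebraTensorModule.cancelBaseChange R A B B S)

/-- Projectivity is transitive along a projective algebra. -/
theorem projective_trans {C A P : Type u} [CommRing C] [CommRing A] [Algebra C A]
    [AddCommGroup P] [Module A P] [Module C P] [IsScalarTower C A P] [Module.Projective C A]
    [Module.Projective A P] : Module.Projective C P := by
  obtain ⟨s, hs⟩ := (inferInstance : Module.Projective A P)
  have : Module.Projective C (P →₀ A) := by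
    classical
    exact Module.Projective.of_equiv (finsuppLequivDFinsupp (ι := P) (M := A) C).symm
  exact Module.Projective.of_split (s.restrictScalars C)
    ((Finsupp.linearCombination A id).restrictScalars C) (by ext x; simpa using hs x)

/-- Projectivity over a product of two rings. -/
theorem projective_prod {R S A B : Type u} [CommRing R] [CommRing S] [Algebra R S]
    [CommRing A] [CommRing B] [Algebra R A] [Algebra R B] [Module.Projective A (A ⊗[R] S)]
    [Module.Projective B (B ⊗[R] S)] : Module.Projective (A × B) ((A × B) ⊗[R] S) := by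
  let _ : Algebra (A × B) A := (RingHom.fst A B).toAlgebra
  let _ : Algebra (A × B) B := (RingHom.snd A B).toAlgebra
  have t1 : IsScalarTower R (A × B) A := IsScalarTower.of_algebraMap_eq fun _ => rfl
  have t2 : IsScalarTower R (A × B) B := IsScalarTower.of_algebraMap_eq fun _ => rfl
  have p1 : Module.Projective (A × B) A :=
    Module.Projective.of_split (M := A × B)
      { toFun := fun a => (a, 0), map_add' := fun x y => by simp
        map_smul' := fun c x => by
          rw [Algebra.smul_def]; ext
          · rfl
          · simp }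
      (Algebra.linearMap (A × B) A) (by ext; rfl)
  have p2 : Module.Projective (A × B) B :=
    Module.Projective.of_split (M := A × B)
      { toFun := fun a => (0, a), map_add' := fun x y => by simp
        map_smul' := fun c x => by
          rw [Algebra.smul_def]; ext
          · simp
          · rfl }
      (Algebra.linearMap (A × B) B) (by ext; rfl)
  have q1 : Module.Projective (A × B) (A ⊗[R] S) := projective_trans (A := A)
  have q2 : Module.Projective (A × B) (B ⊗[R] S) := projective_trans (A := B)
  exact Module.Projective.of_equiv (TensorProduct.prodLeft R (A × B) A B S).symm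

/-- A product of two flat modules is flat. -/
theorem flat_prod (R M N : Type u) [CommRing R] [AddCommGroup M] [AddCommGroup N] [Module R M]
    [Module R N] [Module.Flat R M] [Module.Flat R N] : Module.Flat R (M × N) := by
  rw [Module.Flat.iff_rTensor_preserves_injective_linearMap]
  intro A B _ _ _ _ g hg
  have h1 := Module.Flat.rTensor_preserves_injective_linearMap (M := M) g hg
  have h2 := Module.Flat.rTensor_preserves_injective_linearMap (M := N) g hg
  have key : (TensorProduct.prodRight R R B M N).toLinearMap ∘ₗ g.rTensor (M × N) =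
      ((g.rTensor M).prodMap (g.rTensor N)) ∘ₗ (TensorProduct.prodRight R R A M N).toLinearMap := by
    ext <;> simp
  have h3 : Function.Injective ((TensorProduct.prodRight R R B M N).toLinearMap ∘ₗ
      g.rTensor (M × N)) := by
    rw [key]
    exact (Function.Injective.prodMap h1 h2).comp (TensorProduct.prodRight R R A M N).injective
  exact Function.Injective.of_comp h3

/-- The product of a basic localization and the corresponding completion is faithfully flat. -/
theorem faithfullyFlat_away_prod_completion (R : Type u) [CommRing R] [IsNoetherianRing R] (f : R) :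
    Module.FaithfullyFlat R
      (Localization.Away f × AdicCompletion (Ideal.span {f}) R) := by
  have : Module.Flat R (Localization.Away f × AdicCompletion (Ideal.span {f}) R) := flat_prod _ _ _
  refine ⟨fun {m} hm => ?_⟩
  rw [Ideal.smul_top_eq_map]
  intro htop
  have htop' : m.map (algebraMap R (Localization.Away f × AdicCompletion (Ideal.span {f}) R)) = ⊤ := by
    rw [← Submodule.restrictScalars_eq_top_iff R]
    exact htop
  by_cases hf : f ∈ m
  · -- project to the completion and then to `R / m`
    have hle : Ideal.span {f} ≤ m := by rwa [Ideal.span_le, Set.singleton_subset_iff]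
    let ψ : (Localization.Away f × AdicCompletion (Ideal.span {f}) R) →+* R ⧸ m :=
      ((Ideal.Quotient.factor hle).comp
        (AdicCompletion.evalOneₐ (Ideal.span {f})).toRingHom).comp (RingHom.snd _ _)
    have hψ : ψ.comp (algebraMap R _) = Ideal.Quotient.mk m := by
      ext x; rfl
    have h1 : (m.map (algebraMap R _)).map ψ = ⊤ := by
      rw [htop', Ideal.map_top]
    rw [Ideal.map_map, hψ, Ideal.map_quotient_self] at h1
    have : Nontrivial (R ⧸ m) := Ideal.Quotient.nontrivial_iff.mpr hm.ne_top
    exact bot_ne_top h1
  · let ψ : (Localization.Away f × AdicCompletion (Ideal.span {f}) R) →+* Localization.Away f :=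
      RingHom.fst _ _
    have hψ : ψ.comp (algebraMap R _) = algebraMap R (Localization.Away f) := by
      ext x; rfl
    have h1 : (m.map (algebraMap R _)).map ψ = ⊤ := by
      rw [htop', Ideal.map_top]
    rw [Ideal.map_map, hψ] at h1
    have h2 : Disjoint (Submonoid.powers f : Set R) (m : Set R) := by
      rw [Set.disjoint_left]
      rintro x ⟨n, rfl⟩ hx
      exact hf (hm.isPrime.mem_of_pow_mem n hx)
    exact (IsLocalization.isPrime_of_isPrime_disjoint (Submonoid.powers f)
      (Localization.Away f) m hm.isPrime h2).ne_top h1

/-- Gluing: projectivity over `R_f` and over `R/f` gives projectivity. -/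
theorem projective_of_away_of_quotient {R S : Type u} [CommRing R] [IsNoetherianRing R]
    [CommRing S] [Algebra R S] [Algebra.FiniteType R S] [Module.Flat R S] (h : GI R S) (f : R)
    [Module.Projective (Localization.Away f) (Localization.Away f ⊗[R] S)]
    [Module.Projective (R ⧸ Ideal.span {f}) ((R ⧸ Ideal.span {f}) ⊗[R] S)] :
    Module.Projective R S := by
  let I : Ideal R := Ideal.span {f}
  have hfg : I.FG := ⟨{f}, by simp [I]⟩
  have hN : IsNoetherianRing (AdicCompletion I R) := Groth.Agent.S0543.result R I
  let I' : Ideal (AdicCompletion I R) := I.map (algebraMap R (AdicCompletion I R))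
  have hc : IsAdicComplete I' (AdicCompletion I R) :=
    (IsAdicComplete.map_algebraMap_iff _ _).mpr (AdicCompletion.isAdicComplete hfg)
  have hp0 : Module.Projective (R ⧸ I) ((R ⧸ I) ⊗[R] S) := inferInstance
  let φ : R ⧸ I →+* AdicCompletion I R ⧸ I' :=
    Ideal.quotientMap I' (algebraMap R (AdicCompletion I R)) Ideal.le_comap_map
  have hφ : φ.comp (algebraMap R (R ⧸ I)) = algebraMap R (AdicCompletion I R ⧸ I') := by
    ext x; rfl
  have hp1 : Module.Projective (AdicCompletion I R ⧸ I') ((AdicCompletion I R ⧸ I') ⊗[R] S) :=
    projective_baseChange_of_ringHom φ hφ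
  have hp2 : Module.Projective (AdicCompletion I R ⧸ I')
      ((AdicCompletion I R ⧸ I') ⊗[AdicCompletion I R] (AdicCompletion I R ⊗[R] S)) :=
    Module.Projective.of_equiv (TensorProduct.AlgebraTensorModule.cancelBaseChange R
      (AdicCompletion I R) (AdicCompletion I R ⧸ I') (AdicCompletion I R ⧸ I') S).symm
  have hp3 : Module.Projective (AdicCompletion I R) (AdicCompletion I R ⊗[R] S) :=
    projective_of_complete (h.baseChange _) I'
  have hff := faithfullyFlat_away_prod_completion R f
  have hp4 : Module.Projective (Localization.Away f × AdicCompletion I R)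
      ((Localization.Away f × AdicCompletion I R) ⊗[R] S) := projective_prod
  exact Groth.Agent.S0585.result R (Localization.Away f × AdicCompletion I R) S

/-- In a reduced Noetherian nonzero ring, a minimal prime is killed by some element outside of it. -/
theorem exists_minimalPrime_annihilator (R : Type u) [CommRing R] [Nontrivial R]
    [IsNoetherianRing R] [IsReduced R] :
    ∃ (p : Ideal R) (_ : p.IsPrime) (s : R), s ∉ p ∧ ∀ x ∈ p, s * x = 0 := by
  classical
  have hfin := minimalPrimes.finite_of_isNoetherianRing R
  obtain ⟨m, hm⟩ := Ideal.exists_maximal R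
  obtain ⟨p, hp, -⟩ := Ideal.exists_minimalPrimes_le (I := (⊥ : Ideal R)) (J := m) bot_le
  have hpp : p.IsPrime := hp.1.1
  let T : Finset (Ideal R) := hfin.toFinset.erase p
  have h1 : ¬ T.inf id ≤ p := by
    intro h
    obtain ⟨p', hp', hle⟩ := (Ideal.IsPrime.inf_le' hpp).mp h
    rw [Finset.mem_erase, Set.Finite.mem_toFinset] at hp'
    have : p ≤ p' := hp.2 ⟨hp'.2.1.1, bot_le⟩ hle
    exact hp'.1 (le_antisymm hle this)
  obtain ⟨s, hs, hsp⟩ := SetLike.not_le_iff_exists.mp h1
  refine ⟨p, hpp, s, hsp, fun x hx => ?_⟩
  have h2 : s * x ∈ sInf (minimalPrimes R) := by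
    rw [Submodule.mem_sInf]
    intro p' hp'
    by_cases hpe : p' = p
    · rw [hpe]; exact Ideal.mul_mem_left _ _ hx
    · refine Ideal.mul_mem_right _ _ ?_
      have : T.inf id ≤ p' := Finset.inf_le (f := id) (by
        rw [Finset.mem_erase, Set.Finite.mem_toFinset]; exact ⟨hpe, hp'⟩)
      exact this hs
  have h3 : sInf (minimalPrimes R) = nilradical R := Ideal.sInf_minimalPrimes
  rw [h3, nilradical_eq_zero] at h2
  exact h2

/-- Generic projectivity: over a nonzero Noetherian ring, a finite type algebra becomes projective
after inverting some nonzero element. -/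
theorem exists_away {R S : Type u} [CommRing R] [Nontrivial R] [IsNoetherianRing R] [CommRing S]
    [Algebra R S] [Algebra.FiniteType R S] :
    ∃ f : R, f ≠ 0 ∧ Module.Projective (Localization.Away f) (Localization.Away f ⊗[R] S) := by
  by_cases hred : IsReduced R
  · obtain ⟨p, hp, s, hs, hsx⟩ := exists_minimalPrime_annihilator R
    obtain ⟨g, hg0, -, hfree, -⟩ := Groth.Agent.S0389.result (R := R ⧸ p)
      (S := (R ⧸ p) ⊗[R] S) (M := (R ⧸ p) ⊗[R] S)
    obtain ⟨g, rfl⟩ := Ideal.Quotient.mk_surjective g
    have hg : g ∉ p := fun h => hg0 (Ideal.Quotient.eq_zero_iff_mem.mpr h)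
    let f : R := s * g
    have hf : f ∉ p := fun h => (hp.mem_or_mem h).elim hs hg
    refine ⟨f, fun h => hf (h ▸ p.zero_mem), ?_⟩
    have hsu : IsUnit (algebraMap R (Localization.Away f) s) := by
      have : IsUnit (algebraMap R (Localization.Away f) f) := IsLocalization.Away.algebraMap_isUnit f
      rw [map_mul] at this
      exact isUnit_of_mul_isUnit_left this
    have hgu : IsUnit (algebraMap R (Localization.Away f) g) := by
      have : IsUnit (algebraMap R (Localization.Away f) f) := IsLocalization.Away.algebraMap_isUnit f
      rw [map_mul] at this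
      exact isUnit_of_mul_isUnit_right this
    let φ₁ : R ⧸ p →+* Localization.Away f := Ideal.Quotient.lift p
      (algebraMap R (Localization.Away f)) (by
        intro x hx
        have := hsx x hx
        have h2 : algebraMap R (Localization.Away f) s * algebraMap R (Localization.Away f) x = 0 := by
          rw [← map_mul, this, map_zero]
        exact (hsu.mul_right_eq_zero).mp h2)
    have hgu' : IsUnit (φ₁ (Ideal.Quotient.mk p g)) := hgu
    let φ₂ : Localization.Away (Ideal.Quotient.mk p g) →+* Localization.Away f :=
      IsLocalization.Away.lift (Ideal.Quotient.mk p g) hgu'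
    have hφ₂ : ∀ x : R ⧸ p, φ₂ (algebraMap _ _ x) = φ₁ x := fun x =>
      IsLocalization.Away.lift_eq _ hgu' x
    have hfree' : Module.Projective (Localization.Away (Ideal.Quotient.mk p g))
      (Localization.Away (Ideal.Quotient.mk p g) ⊗[R] S) :=
      have := hfree
      Module.Projective.of_equiv (TensorProduct.AlgebraTensorModule.cancelBaseChange R (R ⧸ p)
        (Localization.Away (Ideal.Quotient.mk p g)) (Localization.Away (Ideal.Quotient.mk p g)) S)
    refine projective_baseChange_of_ringHom φ₂ ?_
    ext x
    rw [RingHom.comp_apply, IsScalarTower.algebraMap_apply R (R ⧸ p), hφ₂]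
    rfl
  · rw [isReduced_iff] at hred
    push Not at hred
    obtain ⟨f, hf, hf0⟩ := hred
    refine ⟨f, hf0, ?_⟩
    obtain ⟨n, hn⟩ := hf
    have : Subsingleton (Localization.Away f) :=
      IsLocalization.subsingleton (M := Submonoid.powers f) ⟨n, hn⟩
    have : Subsingleton (Localization.Away f ⊗[R] S) := Module.subsingleton (Localization.Away f) _
    infer_instance

/-- **Stacks Tag 05FT, Noetherian case**: a flat finite type algebra over a Noetherian ring all of
whose base changes to fields are domains is projective. -/
theorem projective_of_noetherian {R S : Type u} [CommRing R] [IsNoetherianRing R] [CommRing S]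
    [Algebra R S] [Algebra.FiniteType R S] [Module.Flat R S]
    (h : ∀ (K : Type u) [Field K] [Algebra R K], IsDomain (TensorProduct R K S)) :
    Module.Projective R S := by
  have key : ∀ I : Ideal R, ∀ (R' : Type u) [CommRing R'] [Algebra R R'],
      Function.Surjective (algebraMap R R') → RingHom.ker (algebraMap R R') = I →
      Module.Projective R' (R' ⊗[R] S) := by
    intro I
    induction I using IsNoetherian.induction with
    | hgt I ih =>
    intro R' _ _ hsurj hker
    have hN : IsNoetherianRing R' := isNoetherianRing_of_surjective R R' (algebraMap R R') hsurj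
    rcases subsingleton_or_nontrivial R' with hs | hn
    · have : Subsingleton (R' ⊗[R] S) := Module.subsingleton R' _
      infer_instance
    obtain ⟨f, hf0, hf⟩ := exists_away (R := R') (S := R' ⊗[R] S)
    have hq : Module.Projective (R' ⧸ Ideal.span {f}) ((R' ⧸ Ideal.span {f}) ⊗[R'] (R' ⊗[R] S)) := by
      have hsurj' : Function.Surjective (algebraMap R (R' ⧸ Ideal.span {f})) := by
        rw [IsScalarTower.algebraMap_eq R R' (R' ⧸ Ideal.span {f})]
        exact Ideal.Quotient.mk_surjective.comp hsurj
      have hlt : RingHom.ker (algebraMap R (R' ⧸ Ideal.span {f})) > I := by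
        refine lt_of_le_of_ne ?_ ?_
        · intro x hx
          rw [← hker, RingHom.mem_ker] at hx
          rw [RingHom.mem_ker, IsScalarTower.algebraMap_apply R R' (R' ⧸ Ideal.span {f}), hx, map_zero]
        · intro he
          obtain ⟨x, rfl⟩ := hsurj f
          have : x ∈ RingHom.ker (algebraMap R (R' ⧸ Ideal.span {algebraMap R R' x})) := by
            rw [RingHom.mem_ker, IsScalarTower.algebraMap_apply R R']
            exact Ideal.Quotient.eq_zero_iff_mem.mpr (Ideal.mem_span_singleton_self _)
          rw [← he, ← hker, RingHom.mem_ker] at this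
          exact hf0 this
      have := ih _ hlt (R' ⧸ Ideal.span {f}) hsurj' rfl
      exact Module.Projective.of_equiv (TensorProduct.AlgebraTensorModule.cancelBaseChange R
        R' (R' ⧸ Ideal.span {f}) (R' ⧸ Ideal.span {f}) S).symm
    exact projective_of_away_of_quotient (GI.baseChange h R') f
  have := key ⊥ R Function.surjective_id (by
    rw [← RingHom.injective_iff_ker_eq_bot]; exact Function.injective_id)
  exact Module.Projective.of_equiv (TensorProduct.lid R S)

end Groth.Agent.Flat2A.GeomIntProj
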