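import Groth.Prelude.Def_FlatCA
import Groth.Agent.Flat2A.ModInj
import Mathlib.RingTheory.Localization.BaseChange
import Mathlib.RingTheory.Localization.AtPrime.Basic
import Mathlib.RingTheory.Flat.Localization

/-!
# Finite modules over finite type algebras which are flat at a prime are finitely presented there
-/

set_option autoImplicit false
universe u

namespace Groth.Agent.Flat2A.LocalFlatFP

open TensorProduct

/-- Stacks 05I7, even for finite type algebras. -/
theorem finitePresentation_of_flatAt {R S : Type u} [CommRing R] [CommRing S] [Algebra R S] [Algebra.FiniteType R S]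
    (N : Type u) [AddCommGroup N] [Module S N] [Module R N] [IsScalarTower R S N] [Module.Finite S N]
    (q : Ideal S) [q.IsPrime] (h : FlatCA.FlatAt R q N) :
    Module.FinitePresentation (Localization.AtPrime q) (LocalizedModule q.primeCompl N) := by
  let p : Ideal R := q.under R
  let R₁ := Localization.AtPrime p
  let S₁ := Localization.AtPrime q
  let N₁ := LocalizedModule q.primeCompl N
  let _ : Algebra R₁ S₁ := Localization.AtPrime.algebraOfLiesOver p q
  let _ : Module R₁ N₁ := Module.compHom N₁ (algebraMap R₁ S₁)
  have : IsScalarTower R₁ S₁ N₁ := IsScalarTower.of_algebraMap_smul fun _ _ => rfl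
  have : IsScalarTower R S₁ N₁ := inferInstance
  have : IsScalarTower R R₁ S₁ := inferInstance
  have : IsScalarTower R R₁ N₁ := IsScalarTower.to₁₂₄ R R₁ S₁ N₁
  have : IsLocalHom (algebraMap R₁ S₁) := by
    rw [Localization.AtPrime.IsLiesOverAlgebra.algebraMap_eq]
    infer_instance
  have : Module.Flat R N₁ := h
  have : Module.Flat R₁ N₁ := (Module.flat_iff_of_isLocalization R₁ p.primeCompl N₁).mpr ‹_›
  have : Algebra.EssFiniteType R S₁ := by
    have : Algebra.EssFiniteType S S₁ := Algebra.EssFiniteType.of_isLocalization S₁ q.primeCompl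
    exact Algebra.EssFiniteType.comp R S S₁
  have : Algebra.EssFiniteType R₁ S₁ := Algebra.EssFiniteType.of_comp R R₁ S₁
  have : Module.Finite S₁ N₁ := Module.Finite.of_isLocalizedModule q.primeCompl
    (LocalizedModule.mkLinearMap q.primeCompl N)
  exact (ModInj.main (R := R₁) (S := S₁) (LinearMap.id : N₁ →ₗ[S₁] N₁) (by
    have : (LinearMap.id : N₁ →ₗ[S₁] N₁).restrictScalars R₁ = LinearMap.id := rfl
    rw [this, LinearMap.lTensor_id]
    exact Function.injective_id)).2.2

end Groth.Agent.Flat2A.LocalFlatFP
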