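import Groth.Agent.S1194
import Groth.Agent.S1208
import Groth.Agent.Flat2A.FiberTensor
import Groth.Agent.Flat2A.EssFP
import Groth.Agent.Flat2C.FlatAtCriterion

/-!
# Nonzerodivisors on the fibre are universal nonzerodivisors

`keyK`: `B` of finite type over `A`, `N` a finite `B`-module which is flat over `A` at a prime `t` over `p`,
`s ∈ B` a nonzerodivisor on the fibre `N ⊗ κ(p)`. Then `s` acts injectively on `N_t ⊗_A Q` for every `A`-module
`Q`; this is stated elementwise.
-/

set_option autoImplicit false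
universe u

namespace Groth.Agent.Flat2A.KeyK

open TensorProduct Flat2A.FiberTensor

theorem smul_injective_of_univInj {R S N : Type u} [CommRing R] [CommRing S] [Algebra R S]
    [AddCommGroup N] [Module S N] [Module R N] [IsScalarTower R S N] (s : S)
    (h : FlatCA.UnivInj R ((LinearMap.lsmul S N s).restrictScalars R))
    (Q : Type u) [AddCommGroup Q] [Module R Q] (w : N ⊗[R] Q) (hw : s • w = 0) : w = 0 := by
  have h1 : Function.Injective (((LinearMap.lsmul S N s).restrictScalars R).rTensor Q) := by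
    rw [← LinearMap.lTensor_inj_iff_rTensor_inj]
    exact h Q
  have h2 : ∀ w : N ⊗[R] Q, ((LinearMap.lsmul S N s).restrictScalars R).rTensor Q w = s • w := by
    intro w
    induction w with
    | zero => simp
    | add x y hx hy => rw [map_add, hx, hy, smul_add]
    | tmul x y => rfl
  apply h1
  rw [h2, hw, map_zero]

theorem keyK_fp {A C : Type u} [CommRing A] [CommRing C] [Algebra A C] [Algebra.FinitePresentation A C]
    (N : Type u) [AddCommGroup N] [Module C N] [Module A N] [IsScalarTower A C N] [Module.Finite C N]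
    (p : Ideal A) [p.IsPrime] (t : Ideal C) [t.IsPrime] [t.LiesOver p] (hflat : FlatCA.FlatAt A t N)
    (s : C) (hs : s ∈ nonZeroSMulDivisors C (FlatCA.fiberMod p C N))
    (Q : Type u) [AddCommGroup Q] [Module A Q] (z : N ⊗[A] Q) (hz : s • z = 0) :
    ∃ u ∉ t, u • z = 0 := by
  let R₁ := Localization.AtPrime p
  let S₁ := Localization.AtPrime t
  let N₁ := LocalizedModule t.primeCompl N
  let _ : Algebra R₁ S₁ := Localization.AtPrime.algebraOfLiesOver p t
  let _ : Module R₁ N₁ := Module.compHom N₁ (algebraMap R₁ S₁)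
  have : IsScalarTower R₁ S₁ N₁ := IsScalarTower.of_algebraMap_smul fun _ _ => rfl
  have : IsScalarTower A S₁ N₁ := inferInstance
  have : IsScalarTower A R₁ S₁ := inferInstance
  have : IsScalarTower A R₁ N₁ := IsScalarTower.to₁₂₄ A R₁ S₁ N₁
  have : IsLocalHom (algebraMap R₁ S₁) := by
    rw [Localization.AtPrime.IsLiesOverAlgebra.algebraMap_eq]
    infer_instance
  have : Module.FinitePresentation S₁ N₁ := S1208.result N t hflat
  have : Module.Flat A N₁ := hflat
  have : Module.Flat R₁ N₁ := (Module.flat_iff_of_isLocalization R₁ p.primeCompl N₁).mpr ‹_›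
  have h1 := mem_nzd_localization p S₁ N₁ N t.primeCompl (LocalizedModule.mkLinearMap t.primeCompl N) s hs
  have h2 := (S1194.result (R := R₁) (S := S₁) (EssFP.essFinitePresentation_localization p t) N₁).1 _ h1
  let f := AlgebraTensorModule.rTensor A Q (LocalizedModule.mkLinearMap t.primeCompl N)
  have h3 : s • f z = 0 := by rw [← map_smul, hz, map_zero]
  let e : N₁ ⊗[R₁] (R₁ ⊗[A] Q) ≃ₗ[S₁] N₁ ⊗[A] Q :=
    TensorProduct.AlgebraTensorModule.cancelBaseChange A R₁ S₁ N₁ Q
  have h4 : algebraMap C S₁ s • (e.symm (f z)) = 0 := by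
    rw [← map_smul, algebraMap_smul, h3, map_zero]
  have h5 := smul_injective_of_univInj _ h2 _ _ h4
  rw [LinearEquiv.map_eq_zero_iff] at h5
  obtain ⟨u, hu⟩ := (IsLocalizedModule.eq_zero_iff t.primeCompl f).mp h5
  exact ⟨u, u.2, hu⟩

/-- Finite type version. -/
theorem keyK {A B : Type u} [CommRing A] [CommRing B] [Algebra A B] [Algebra.FiniteType A B]
    (N : Type u) [AddCommGroup N] [Module B N] [Module A N] [IsScalarTower A B N] [Module.Finite B N]
    (p : Ideal A) [p.IsPrime] (t : Ideal B) [t.IsPrime] [t.LiesOver p] (hflat : FlatCA.FlatAt A t N)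
    (s : B) (hs : s ∈ nonZeroSMulDivisors B (FlatCA.fiberMod p B N))
    (Q : Type u) [AddCommGroup Q] [Module A Q] (z : N ⊗[A] Q) (hz : s • z = 0) :
    ∃ u ∉ t, u • z = 0 := by
  obtain ⟨n, φ, hφ⟩ := Algebra.FiniteType.iff_quotient_mvPolynomial''.mp ‹Algebra.FiniteType A B›
  let C := MvPolynomial (Fin n) A
  let _ : Algebra C B := φ.toRingHom.toAlgebra
  let _ : Module C N := Module.compHom N φ.toRingHom
  have : IsScalarTower C B N := IsScalarTower.of_algebraMap_smul fun _ _ => rfl
  have : IsScalarTower A C B := IsScalarTower.of_algebraMap_eq (fun x => (φ.commutes x).symm)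
  have : IsScalarTower A C N := IsScalarTower.to₁₂₄ A C B N
  have : Module.Finite C B := Module.Finite.of_surjective (Algebra.linearMap C B) hφ
  have : Module.Finite C N := Module.Finite.trans B N
  have hover : (t.comap (algebraMap C B)).LiesOver p := by
    constructor
    rw [Ideal.under_def, Ideal.comap_comap, ← IsScalarTower.algebraMap_eq]
    exact Ideal.over_def t p
  obtain ⟨s', hs'⟩ := hφ s
  have hflat' : FlatCA.FlatAt A (t.comap (algebraMap C B)) N := by
    rw [Flat2C.FlatAtCriterion.flatAt_iff] at hflat ⊢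
    intro I x hx
    obtain ⟨u, hu, hu'⟩ := hflat I x hx
    obtain ⟨v, rfl⟩ := hφ u
    exact ⟨v, hu, by rw [← hu']; exact (algebraMap_smul B v x).symm⟩
  have hs2 : s' ∈ nonZeroSMulDivisors C (FlatCA.fiberMod p C N) := by
    rw [mem_nzd_iff] at hs ⊢
    intro w hw
    apply hs w
    rw [← hs', ← hw]
    exact algebraMap_smul B s' w
  obtain ⟨u, hu, hu'⟩ := keyK_fp N p (t.comap (algebraMap C B)) hflat' s' hs2 Q z (by
    rw [← hz, ← hs']
    exact (algebraMap_smul B s' z).symm)
  exact ⟨algebraMap C B u, hu, by rw [algebraMap_smul]; exact hu'⟩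

end Groth.Agent.Flat2A.KeyK
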