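import Groth.Agent.S1194
import Groth.Agent.Flat2A.AtPrimeEssFP
import Mathlib.RingTheory.Localization.BaseChange
import Mathlib.Algebra.Module.LocalizedModule.Submodule

/-!
# Elements acting injectively on the fibre at a prime act injectively after any base change

`key`: for `R → S` and `N` of finite presentation, `q` over `p` with `N_q` flat over `R`, an element
`s` of `S` acting injectively on `(N ⊗ κ(p))_q` acts injectively on `(N ⊗_R Q)_q` for all `R`-modules `Q`.
-/

set_option autoImplicit false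
universe u v w

namespace Groth.Agent.Flat2A.KeyLemma

open TensorProduct Flat2A.Fiber Flat2A.FiberAss Flat2A.UnivInj Flat2A.UnivInjAss

section

variable {R : Type u} [CommRing R] (p : Ideal R) [p.IsPrime]

/-- `κ(p)` is the localization of `R/p` at `R ∖ p`, as a module. -/
theorem isLocalizedModule_residueField : IsLocalizedModule p.primeCompl
    ((IsScalarTower.toAlgHom R (R ⧸ p) p.ResidueField).toLinearMap) := by
  constructor
  · intro r
    have h1 : algebraMap R p.ResidueField r.1 ≠ 0 := by
      intro h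
      exact r.2 (by simpa using h)
    rw [Module.End.isUnit_iff]
    constructor
    · intro a b hab
      simp only [Module.algebraMap_end_apply, Algebra.smul_def] at hab
      exact mul_left_cancel₀ h1 hab
    · intro b
      refine ⟨(algebraMap R p.ResidueField r.1)⁻¹ * b, ?_⟩
      simp only [Module.algebraMap_end_apply, Algebra.smul_def]
      rw [mul_inv_cancel_left₀ h1]
  · intro y
    obtain ⟨a, b, hb, rfl⟩ := IsFractionRing.div_surjective (A := R ⧸ p) y
    obtain ⟨r, rfl⟩ := Ideal.Quotient.mk_surjective b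
    have hr : r ∈ p.primeCompl := by
      intro h
      have h2 := nonZeroDivisors.ne_zero hb
      exact h2 (Ideal.Quotient.eq_zero_iff_mem.mpr h)
    refine ⟨⟨a, ⟨r, hr⟩⟩, ?_⟩
    have h1 : algebraMap (R ⧸ p) p.ResidueField (Ideal.Quotient.mk p r) ≠ 0 := by
      have h2 := nonZeroDivisors.ne_zero hb
      rw [Ne, FaithfulSMul.algebraMap_eq_zero_iff]
      exact h2
    have h3 : algebraMap R p.ResidueField r = algebraMap (R ⧸ p) p.ResidueField (Ideal.Quotient.mk p r) :=
      IsScalarTower.algebraMap_apply R (R ⧸ p) p.ResidueField r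
    rw [Submonoid.smul_def, Algebra.smul_def, h3, mul_div_cancel₀ _ h1]
    rfl
  · intro a b hab
    refine ⟨1, ?_⟩
    rw [one_smul, one_smul]
    exact FaithfulSMul.algebraMap_injective (R ⧸ p) p.ResidueField hab

theorem tmul_one_eq_zero_iff (N : Type v) [AddCommGroup N] [Module R N] (x : N) :
    x ⊗ₜ[R] (1 : p.ResidueField) = 0 ↔ ∃ r, r ∉ p ∧ r • x ∈ (p • ⊤ : Submodule R N) := by
  let f := (IsScalarTower.toAlgHom R (R ⧸ p) p.ResidueField).toLinearMap
  have hf : IsLocalizedModule p.primeCompl f := isLocalizedModule_residueField p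
  have h1 : IsLocalizedModule p.primeCompl (AlgebraTensorModule.rTensor R N f) := inferInstance
  have h2 : (AlgebraTensorModule.rTensor R N f) ((Submodule.Quotient.mk 1 : R ⧸ p) ⊗ₜ[R] x) =
      (1 : p.ResidueField) ⊗ₜ[R] x := by
    rw [AlgebraTensorModule.rTensor_tmul]
    congr 1
    exact map_one (IsScalarTower.toAlgHom R (R ⧸ p) p.ResidueField)
  have h3 : x ⊗ₜ[R] (1 : p.ResidueField) = 0 ↔ (1 : p.ResidueField) ⊗ₜ[R] x = 0 := by
    rw [← LinearEquiv.map_eq_zero_iff (TensorProduct.comm R N p.ResidueField), TensorProduct.comm_tmul]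
  rw [h3, ← h2, IsLocalizedModule.eq_zero_iff p.primeCompl]
  have h4 : ∀ r : R, r • ((Submodule.Quotient.mk 1 : R ⧸ p) ⊗ₜ[R] x) = 0 ↔ r • x ∈ (p • ⊤ : Submodule R N) := by
    intro r
    rw [← TensorProduct.tmul_smul, ← LinearEquiv.map_eq_zero_iff (quotTensorEquivQuotSMul N p)]
    have h5 : (quotTensorEquivQuotSMul N p) ((Submodule.Quotient.mk 1 : R ⧸ p) ⊗ₜ[R] (r • x)) =
        Submodule.Quotient.mk (r • x) := by
      have := quotTensorEquivQuotSMul_mk_tmul p 1 (r • x)
      rw [one_smul] at this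
      exact this
    rw [h5, Submodule.Quotient.mk_eq_zero]
  constructor
  · rintro ⟨r, hr⟩
    exact ⟨r.1, r.2, (h4 r.1).mp hr⟩
  · rintro ⟨r, hr, hr'⟩
    exact ⟨⟨r, hr⟩, (h4 r).mpr hr'⟩

end

section

theorem mem_map_smul_top_iff {S : Type u} [CommRing S] (M : Submonoid S) (B : Type v) [CommRing B] [Algebra S B]
    [IsLocalization M B] {N : Type w} [AddCommGroup N] [Module S N]
    {N' : Type w} [AddCommGroup N'] [Module S N'] [Module B N'] [IsScalarTower S B N'] (f : N →ₗ[S] N')
    [IsLocalizedModule M f] (J : Ideal S) (y : N') :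
    y ∈ (J.map (algebraMap S B) • ⊤ : Submodule B N') ↔
      ∃ n ∈ (J • ⊤ : Submodule S N), ∃ t : M, IsLocalizedModule.mk' f n t = y := by
  rw [← Submodule.mem_localized₀, Submodule.localized₀_smul, Submodule.localized₀_top,
    ← Submodule.restrictScalars_mem S, Ideal.smul_restrictScalars, Submodule.restrictScalars_top]

theorem map_mem_smul_top_iff {S : Type u} [CommRing S] (M : Submonoid S) (B : Type v) [CommRing B] [Algebra S B]
    [IsLocalization M B] {N : Type w} [AddCommGroup N] [Module S N]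
    {N' : Type w} [AddCommGroup N'] [Module S N'] [Module B N'] [IsScalarTower S B N'] (f : N →ₗ[S] N')
    [IsLocalizedModule M f] (J : Ideal S) (n : N) (t : M) :
    IsLocalizedModule.mk' f n t ∈ (J.map (algebraMap S B) • ⊤ : Submodule B N') ↔
      ∃ c : M, c.1 • n ∈ (J • ⊤ : Submodule S N) := by
  rw [mem_map_smul_top_iff M B f J]
  constructor
  · rintro ⟨m, hm, t', h⟩
    rw [IsLocalizedModule.mk'_eq_mk'_iff] at h
    obtain ⟨c, hc⟩ := h
    refine ⟨c * t', ?_⟩
    have h2 : (c * t').1 • n = c • t' • n := by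
      rw [Submonoid.smul_def, Submonoid.smul_def, smul_smul]
      rfl
    rw [h2, hc]
    exact Submodule.smul_mem _ _ (Submodule.smul_mem _ _ hm)
  · rintro ⟨c, hc⟩
    exact ⟨c.1 • n, hc, c * t, IsLocalizedModule.mk'_cancel_left f n c t⟩

end

/-- The key lemma: an element acting injectively on the fibre module at `q` acts injectively, at `q`,
on `N ⊗_R Q` for every `R`-module `Q`. -/
theorem key {R S : Type u} [CommRing R] [CommRing S] [Algebra R S] [Algebra.FinitePresentation R S]
    (N : Type u) [AddCommGroup N] [Module S N] [Module R N] [IsScalarTower R S N] [Module.FinitePresentation S N]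
    (p : Ideal R) [p.IsPrime] (q : Ideal S) [q.IsPrime] [q.LiesOver p] (hflat : FlatCA.FlatAt R q N)
    (s : S) (hs : ∀ y : N ⊗[R] p.ResidueField, s • y = 0 → ∃ t, t ∉ q ∧ t • y = 0)
    (Q : Type u) [AddCommGroup Q] [Module R Q] (x : N ⊗[R] Q) (hx : s • x = 0) :
    ∃ t, t ∉ q ∧ t • x = 0 := by
  let A := Localization.AtPrime p
  let B := Localization.AtPrime q
  let Nq := LocalizedModule q.primeCompl N
  let f : N →ₗ[S] Nq := LocalizedModule.mkLinearMap q.primeCompl N
  letI : Algebra A B := Localization.AtPrime.algebraOfLiesOver p q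
  have hloc : IsLocalHom (algebraMap A B) := AtPrimeEssFP.isLocalHom p q
  letI : Module A Nq := Module.compHom Nq (algebraMap A B)
  have htow : IsScalarTower A B Nq := ⟨fun a b n => by
    rw [Algebra.smul_def, mul_smul]; rfl⟩
  have htow2 : IsScalarTower R A Nq := ⟨fun r a n => by
    change (algebraMap A B (r • a)) • n = r • ((algebraMap A B a) • n)
    rw [Algebra.smul_def r a, map_mul, mul_smul, ← IsScalarTower.algebraMap_apply R A B,
      algebraMap_smul]⟩
  have hfl : Module.Flat A Nq := by
    rw [Module.flat_iff_of_isLocalization A p.primeCompl]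
    exact hflat
  have hnzd : algebraMap S B s ∈ FlatCA.nzdFiber A B Nq := by
    rw [ClosedFiber.mem_nonZeroSMulDivisors_fiberMod_iff]
    have hmap : (IsLocalRing.maximalIdeal A).map (algebraMap A B) =
        (p.map (algebraMap R S)).map (algebraMap S B) := by
      rw [← Localization.AtPrime.map_eq_maximalIdeal, Ideal.map_map, Ideal.map_map,
        ← IsScalarTower.algebraMap_eq, ← IsScalarTower.algebraMap_eq]
    rw [hmap]
    intro y hy
    obtain ⟨⟨n, t⟩, rfl⟩ := IsLocalizedModule.mk'_surjective q.primeCompl f y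
    simp only [Function.uncurry_apply_pair] at hy ⊢
    rw [algebraMap_smul, ← IsLocalizedModule.mk'_smul, map_mem_smul_top_iff q.primeCompl B f] at hy
    rw [map_mem_smul_top_iff q.primeCompl B f]
    obtain ⟨c, hc⟩ := hy
    rw [ClosedFiber.mem_map_smul_top_iff N S] at hc
    -- `c s n ∈ p N`
    have h1 : (c.1 • s • n) ⊗ₜ[R] (1 : p.ResidueField) = 0 := by
      rw [tmul_one_eq_zero_iff]
      exact ⟨1, fun h => Ideal.IsPrime.ne_top ‹_› ((Ideal.eq_top_iff_one p).mpr h), by rwa [one_smul]⟩
    have h2 : s • ((c.1 • n) ⊗ₜ[R] (1 : p.ResidueField)) = 0 := by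
      refine (TensorProduct.smul_tmul' (R := R) s (c.1 • n) (1 : p.ResidueField)).trans ?_
      rw [smul_comm]
      exact h1
    obtain ⟨t₁, ht₁, h3⟩ := hs _ h2
    have h4 : (t₁ • c.1 • n) ⊗ₜ[R] (1 : p.ResidueField) = 0 :=
      (TensorProduct.smul_tmul' (R := R) t₁ (c.1 • n) (1 : p.ResidueField)).symm.trans h3
    rw [tmul_one_eq_zero_iff] at h4
    obtain ⟨r, hr, h5⟩ := h4
    have hr' : algebraMap R S r ∉ q := by
      intro h
      apply hr
      have h1 : r ∈ q.under R := h
      rwa [← Ideal.LiesOver.over (p := p) (P := q)] at h1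
    refine ⟨⟨algebraMap R S r * (t₁ * c.1), ?_⟩, ?_⟩
    · exact q.primeCompl.mul_mem hr' (q.primeCompl.mul_mem ht₁ c.2)
    · rw [ClosedFiber.mem_map_smul_top_iff N S]
      rw [mul_smul, mul_smul, algebraMap_smul]
      exact h5
  have h1 := (Groth.Agent.S1194.result (AtPrimeEssFP.essFinitePresentation p q) Nq).1 _ hnzd
  rw [univInj_smul_iff] at h1
  -- transport to `Nq ⊗[R] Q`
  let F := AlgebraTensorModule.cancelBaseChange R A B Nq Q
  let g : N ⊗[R] Q →ₗ[S] Nq ⊗[R] Q := AlgebraTensorModule.rTensor R Q f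
  have h2 : (algebraMap S B s) • (F.symm (g x)) = 0 := by
    rw [← map_smul, algebraMap_smul, ← map_smul, hx, map_zero, map_zero]
  have h3 := h1 _ _ h2
  rw [LinearEquiv.map_eq_zero_iff] at h3
  have h4 : IsLocalizedModule q.primeCompl g := inferInstance
  rw [IsLocalizedModule.eq_zero_iff q.primeCompl] at h3
  obtain ⟨c, hc⟩ := h3
  exact ⟨c.1, c.2, hc⟩

end Groth.Agent.Flat2A.KeyLemma
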