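import Groth.Agent.Flat2A.KeyLemma

/-!
# Annihilators of elements of `N ⊗_R Q` and associated primes of the fibre modules (half of Stacks 05IG)
-/

set_option autoImplicit false
universe u v w

namespace Groth.Agent.Flat2A.KeyLemma2

open TensorProduct Flat2A.Fiber Flat2A.FiberAss Flat2A.UnivInj Flat2A.UnivInjAss Flat2A.KeyLemma

/-- Localizations (over `S`) of `R`-flat modules are `R`-flat. -/
theorem flat_localizedModule {R S : Type u} [CommRing R] [CommRing S] [Algebra R S] (M : Submonoid S)
    (N : Type u) [AddCommGroup N] [Module S N] [Module R N] [IsScalarTower R S N] [Module.Flat R N] :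
    Module.Flat R (LocalizedModule M N) := by
  rw [Module.Flat.iff_lTensor_preserves_injective_linearMap]
  intro P Q _ _ _ _ f hf
  have h1 : Function.Injective (AlgebraTensorModule.lTensor S N f) :=
    Module.Flat.lTensor_preserves_injective_linearMap (M := N) f hf
  have h2 := IsLocalizedModule.map_lTensor (R := R) S M f (LocalizedModule.mkLinearMap M N)
  have h3 := IsLocalizedModule.map_injective M
    (AlgebraTensorModule.rTensor R P (LocalizedModule.mkLinearMap M N))
    (AlgebraTensorModule.rTensor R Q (LocalizedModule.mkLinearMap M N)) _ h1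
  rw [h2] at h3
  exact h3

/-- For `N` flat over `R` at `q`, every element of `N ⊗_R Q` whose annihilator is contained in `q` has
annihilator contained in an associated prime of the fibre module contained in `q`. -/
theorem exists_ass {R S : Type u} [CommRing R] [CommRing S] [Algebra R S] [Algebra.FinitePresentation R S]
    (N : Type u) [AddCommGroup N] [Module S N] [Module R N] [IsScalarTower R S N] [Module.FinitePresentation S N]
    (p : Ideal R) [p.IsPrime] (q : Ideal S) [q.IsPrime] [q.LiesOver p] (hflat : FlatCA.FlatAt R q N)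
    (Q : Type u) [AddCommGroup Q] [Module R Q] (x : N ⊗[R] Q) (hx : ann S x ≤ q) :
    ∃ q₂ ∈ associatedPrimes S (FlatCA.fiberMod p S N), ann S x ≤ q₂ ∧ q₂ ≤ q := by
  have : IsNoetherianRing (p.Fiber S) := fiber_isNoetherianRing p
  have : Module.Finite (p.Fiber S) (FlatCA.fiberMod p S N) := fiberMod_finite N p
  refine exists_ass_of_ann_le p q N (ann S x) ?_
  intro s hs hsx
  rw [mem_ann] at hsx
  obtain ⟨t, ht, ht'⟩ := key N p q hflat s (fun y hy => by
    have h1 : s • (fiberModEquiv (S := S) p N).symm y = 0 := by rw [← map_smul, hy, map_zero]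
    obtain ⟨t, ht, h2⟩ := hs _ h1
    refine ⟨t, ht, ?_⟩
    rwa [← map_smul, LinearEquiv.map_eq_zero_iff] at h2) Q x hsx
  exact ht (hx ((mem_ann x t).mpr ht'))

/-- Half of Stacks 05IG: a prime minimal over the annihilator of an element of `N ⊗_R Q`, at which `N` is flat,
is an associated prime of the fibre module. -/
theorem mem_ass_of_mem_minimalPrimes {R S : Type u} [CommRing R] [CommRing S] [Algebra R S] [Algebra.FinitePresentation R S]
    (N : Type u) [AddCommGroup N] [Module S N] [Module R N] [IsScalarTower R S N] [Module.FinitePresentation S N]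
    (p : Ideal R) [p.IsPrime] (q : Ideal S) [q.IsPrime] [q.LiesOver p] (hflat : FlatCA.FlatAt R q N)
    (Q : Type u) [AddCommGroup Q] [Module R Q] (x : N ⊗[R] Q) (hx : q ∈ (ann S x).minimalPrimes) :
    q ∈ associatedPrimes S (FlatCA.fiberMod p S N) := by
  obtain ⟨q₂, hq₂, h1, h2⟩ := exists_ass N p q hflat Q x hx.1.2
  have h3 : q ≤ q₂ := hx.2 ⟨hq₂.1, h1⟩ h2
  rwa [← le_antisymm h2 h3]

/-- Universal injectivity of `N → S' ⊗ N` (Stacks 05DH). -/
theorem univInj_mk {R S S' : Type u} [CommRing R] [CommRing S] [CommRing S'] [Algebra R S] [Algebra S S']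
    [Algebra R S'] [IsScalarTower R S S'] [Algebra.FinitePresentation R S] [Module.Flat S S']
    (N : Type u) [AddCommGroup N] [Module S N] [Module R N] [IsScalarTower R S N] [Module.FinitePresentation S N]
    [Module.Flat R N]
    (h : ∀ (p : Ideal R) (q : Ideal S) [p.IsPrime] [q.IsPrime] [q.LiesOver p],
      FlatCA.fiberIdeal p q ∈ associatedPrimes (p.Fiber S) (FlatCA.fiberMod p S N) →
      ∃ q' : Ideal S', q'.IsPrime ∧ q'.comap (algebraMap S S') = q) :
    FlatCA.UnivInj R ((TensorProduct.mk S S' N 1).restrictScalars R) := by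
  refine univInj_mk_of_forall N ?_
  intro Q _ _ x hx
  by_contra hx0
  have hne : ann S x ≠ ⊤ := by
    intro h1
    apply hx0
    have h2 : (1 : S) ∈ ann S x := by rw [h1]; trivial
    rw [mem_ann, one_smul] at h2
    exact h2
  obtain ⟨q, hq, hle⟩ := Ideal.exists_le_maximal _ hne
  have hqp : q.IsPrime := hq.isPrime
  let p : Ideal R := q.under R
  have hflat : FlatCA.FlatAt R q N := flat_localizedModule q.primeCompl N
  obtain ⟨q₂, hq₂, h1, h2⟩ := exists_ass N p q hflat Q x hle
  rw [mem_associatedPrimes_fiberMod_iff] at hq₂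
  obtain ⟨hq₂p, hq₂o, hq₂a⟩ := hq₂
  obtain ⟨q', hq', hq'c⟩ := h p q₂ hq₂a
  have h2 : (ann S x).map (algebraMap S S') ≤ q' := by
    rw [Ideal.map_le_iff_le_comap, hq'c]
    exact h1
  rw [hx] at h2
  exact hq'.ne_top (top_le_iff.mp h2)

end Groth.Agent.Flat2A.KeyLemma2
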