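import Groth.Agent.Flat2A.LocFun
import Groth.Agent.S1277
import Groth.Agent.S1278

/-!
# The local flatness functor along flat local and finite local maps
-/

set_option autoImplicit false
universe u

namespace Groth.Agent.Flat2A.LocFun

open IsLocalRing TensorProduct

attribute [local instance] Algebra.TensorProduct.rightAlgebra in
theorem exists_pushout (A B A' : Type u) [CommRing A] [CommRing B] [CommRing A'] [Algebra A B]
    [Algebra A A'] :
    ∃ (B' : Type u) (_ : CommRing B') (_ : Algebra B B') (_ : Algebra A' B') (_ : Algebra A B')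
      (_ : IsScalarTower A B B') (_ : IsScalarTower A A' B'), Algebra.IsPushout A B A' B' :=
  ⟨A' ⊗[A] B, inferInstance, inferInstance, inferInstance, inferInstance, inferInstance,
    inferInstance, inferInstance⟩

theorem corep_of_flat {A B C : Type u} [CommRing A] [IsLocalRing A] [CommRing B] [IsLocalRing B]
    [CommRing C] [IsLocalRing C] [Algebra A B] [IsLocalHom (algebraMap A B)] [Algebra B C]
    [IsLocalHom (algebraMap B C)] [Algebra A C] [IsScalarTower A B C] [Module.Flat B C]
    (M : Type u) [AddCommGroup M] [Module B M] (I : Ideal A)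
    (h : Corep A C (C ⊗[B] M) I) : Corep A B M I := by
  intro A' B' M' _ _ _ _ _ _ _ _ _ _ _ _ _ _ _ _ _ f hf
  obtain ⟨C', i1, i2, i3, i4, i5, i6, i7⟩ := exists_pushout A C A'
  rw [← h A' C' (C' ⊗[C] (C ⊗[B] M)) (TensorProduct.mk C C' (C ⊗[B] M) 1)
    (TensorProduct.isBaseChange C (C ⊗[B] M) C')]
  exact S1277.result (A := A) (B := B) (C := C) M (C ⊗[B] M) (TensorProduct.mk B C M 1) (TensorProduct.isBaseChange B M C)
    A' B' M' f hf C' (C' ⊗[C] (C ⊗[B] M)) (TensorProduct.mk C C' (C ⊗[B] M) 1)
    (TensorProduct.isBaseChange C (C ⊗[B] M) C')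

theorem corep_iff_of_finite {A B C : Type u} [CommRing A] [IsLocalRing A] [CommRing B]
    [IsLocalRing B] [CommRing C] [IsLocalRing C] [Algebra A B] [IsLocalHom (algebraMap A B)]
    [Algebra B C] [IsLocalHom (algebraMap B C)] [Algebra A C] [IsScalarTower A B C]
    [Module.Finite B C] (N : Type u) [AddCommGroup N] [Module C N] [Module B N]
    [IsScalarTower B C N] (I : Ideal A) : Corep A B N I ↔ Corep A C N I := by
  constructor
  · intro h A' C' N' _ _ _ _ _ _ _ _ _ _ _ _ _ _ _ _ _ f hf
    obtain ⟨B', i1, i2, i3, i4, i5, i6, i7⟩ := exists_pushout A B A'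
    rw [← h A' B' (B' ⊗[B] N) (TensorProduct.mk B B' N 1) (TensorProduct.isBaseChange B N B')]
    exact (S1278.result (A := A) (B := B) (C := C) N A' B' (B' ⊗[B] N) (TensorProduct.mk B B' N 1)
      (TensorProduct.isBaseChange B N B') C' N' f hf).symm
  · intro h A' B' M' _ _ _ _ _ _ _ _ _ _ _ _ _ _ _ _ _ f hf
    obtain ⟨C', i1, i2, i3, i4, i5, i6, i7⟩ := exists_pushout A C A'
    rw [← h A' C' (C' ⊗[C] N) (TensorProduct.mk C C' N 1) (TensorProduct.isBaseChange C N C')]
    exact S1278.result (A := A) (B := B) (C := C) N A' B' M' f hf C' (C' ⊗[C] N) (TensorProduct.mk C C' N 1)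
      (TensorProduct.isBaseChange C N C')

end Groth.Agent.Flat2A.LocFun
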