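import Mathlib.RingTheory.LocalRing.Module
import Mathlib.RingTheory.LocalRing.ResidueField.Ideal
import Mathlib.RingTheory.KrullDimension.NonZeroDivisors
import Mathlib.RingTheory.Support
import Mathlib.LinearAlgebra.LinearIndependent.Lemmas
import Mathlib.RingTheory.TensorProduct.Finite
import Mathlib.LinearAlgebra.TensorProduct.Quotient

/-!
# Auxiliary lemmas for the induction step
-/

set_option autoImplicit false
universe u

namespace Groth.Agent.Flat2A.LocStep

open IsLocalRing TensorProduct

section residue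

variable {A : Type u} [CommRing A] [IsLocalRing A] {N N' : Type u} [AddCommGroup N] [Module A N]
  [AddCommGroup N'] [Module A N']

theorem one_tmul_eq_zero_iff (n : N) :
    (1 : ResidueField A) ⊗ₜ[A] n = 0 ↔ n ∈ (maximalIdeal A • ⊤ : Submodule A N) := by
  have h := TensorProduct.quotTensorEquivQuotSMul_mk_tmul (M := N) (maximalIdeal A) (1 : A) n
  rw [one_smul] at h
  rw [← Submodule.Quotient.mk_eq_zero, ← h]
  exact (LinearEquiv.map_eq_zero_iff _).symm

theorem exists_one_tmul (x : ResidueField A ⊗[A] N) :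
    ∃ n : N, (1 : ResidueField A) ⊗ₜ[A] n = x := by
  obtain ⟨n, hn⟩ := Submodule.Quotient.mk_surjective _
    (TensorProduct.quotTensorEquivQuotSMul N (maximalIdeal A) x)
  refine ⟨n, ?_⟩
  apply (TensorProduct.quotTensorEquivQuotSMul N (maximalIdeal A)).injective
  rw [← hn]
  have h := TensorProduct.quotTensorEquivQuotSMul_mk_tmul (M := N) (maximalIdeal A) (1 : A) n
  rw [one_smul] at h
  exact h

theorem lTensor_injective_of_forall (f : N →ₗ[A] N')
    (h : ∀ n, f n ∈ (maximalIdeal A • ⊤ : Submodule A N') →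
      n ∈ (maximalIdeal A • ⊤ : Submodule A N)) :
    Function.Injective (f.lTensor (ResidueField A)) := by
  rw [injective_iff_map_eq_zero]
  intro x hx
  obtain ⟨n, rfl⟩ := exists_one_tmul x
  rw [LinearMap.lTensor_tmul, one_tmul_eq_zero_iff] at hx
  exact (one_tmul_eq_zero_iff n).mpr (h n hx)

end residue

/-- The map `α : D^r → M` bijective at the generic point of the closed fibre. -/
theorem exists_alpha {A D : Type u} [CommRing A] [IsLocalRing A] [CommRing D] [Algebra A D]
    [hp : ((maximalIdeal A).map (algebraMap A D)).IsPrime]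
    (M : Type u) [AddCommGroup M] [Module D M] [Module A M] [IsScalarTower A D M]
    [Module.Finite D M] :
    ∃ (r : ℕ) (α : (Fin r → D) →ₗ[D] M),
      Function.Injective ((α.restrictScalars A).lTensor (ResidueField A)) ∧
      ¬ (Module.annihilator D (M ⧸ LinearMap.range α) ≤
        (maximalIdeal A).map (algebraMap A D)) := by
  set p : Ideal D := (maximalIdeal A).map (algebraMap A D) with hpdef
  let κ := p.ResidueField
  obtain ⟨b, hbsub, hbspan, hbli⟩ :=
    exists_linearIndependent κ (Set.range fun m : M => (1 : κ) ⊗ₜ[D] m)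
  have hspan : Submodule.span κ b = ⊤ := by
    rw [hbspan, eq_top_iff]
    intro x _
    induction x using TensorProduct.induction_on with
    | zero => exact Submodule.zero_mem _
    | tmul c m =>
      have h1 : c ⊗ₜ[D] m = c • ((1 : κ) ⊗ₜ[D] m) := by
        rw [TensorProduct.smul_tmul', smul_eq_mul, mul_one]
      rw [h1]
      exact Submodule.smul_mem _ _ (Submodule.subset_span ⟨m, rfl⟩)
    | add x y hx hy => exact Submodule.add_mem _ (hx trivial) (hy trivial)
  have hfin : Finite b := hbli.finite
  obtain ⟨r, ⟨e⟩⟩ := Finite.exists_equiv_fin b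
  have hm : ∀ i : Fin r, ∃ m : M, (1 : κ) ⊗ₜ[D] m = (e.symm i : κ ⊗[D] M) := fun i =>
    hbsub (e.symm i).2
  choose m hm using hm
  have hli : LinearIndependent κ (fun i => (1 : κ) ⊗ₜ[D] m i) := by
    have h := hbli.comp e.symm e.symm.injective
    have h' : (fun i => (1 : κ) ⊗ₜ[D] m i) = Subtype.val ∘ e.symm := funext hm
    rw [h']
    exact h
  let α : (Fin r → D) →ₗ[D] M := Fintype.linearCombination D m
  refine ⟨r, α, ?_, ?_⟩
  · apply lTensor_injective_of_forall
    intro v hv
    have h1 : ∀ w : M, w ∈ (maximalIdeal A • ⊤ : Submodule A M) → (1 : κ) ⊗ₜ[D] w = 0 := by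
      intro w hw
      induction hw using Submodule.smul_induction_on' with
      | smul a ha w _ =>
        have h2 : a • w = algebraMap A D a • w := (algebraMap_smul D a w).symm
        rw [h2, TensorProduct.tmul_smul, TensorProduct.smul_tmul', ← algebraMap_smul κ]
        have h3 : algebraMap D κ (algebraMap A D a) = 0 := by
          rw [Ideal.algebraMap_residueField_eq_zero]
          exact Ideal.mem_map_of_mem _ ha
        rw [h3, zero_smul, TensorProduct.zero_tmul]
      | add x _ y _ hx hy => rw [TensorProduct.tmul_add, hx, hy, add_zero]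
    have h2 := h1 _ hv
    have h3 : (1 : κ) ⊗ₜ[D] (α v) = ∑ i, algebraMap D κ (v i) • ((1 : κ) ⊗ₜ[D] m i) := by
      change (1 : κ) ⊗ₜ[D] (Fintype.linearCombination D m v) = _
      rw [Fintype.linearCombination_apply, TensorProduct.tmul_sum]
      refine Finset.sum_congr rfl fun i _ => ?_
      rw [TensorProduct.tmul_smul, algebraMap_smul]
    have h4 : ∑ i, algebraMap D κ (v i) • ((1 : κ) ⊗ₜ[D] m i) = 0 := by
      rw [← h3]; exact h2
    have h5 := Fintype.linearIndependent_iff.mp hli _ h4
    have h6 : ∀ i, v i ∈ p := fun i => Ideal.algebraMap_residueField_eq_zero.mp (h5 i)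
    have h7 : ∀ i, v i ∈ (maximalIdeal A • ⊤ : Submodule A D) := by
      intro i
      rw [Ideal.smul_top_eq_map]
      exact h6 i
    have h8 : v = ∑ i, Pi.single i (v i) := (Finset.univ_sum_single v).symm
    rw [h8]
    refine Submodule.sum_mem _ fun i _ => ?_
    have h9 : Pi.single i (v i) ∈
        (maximalIdeal A • ⊤ : Submodule A D).map (LinearMap.single A (fun _ : Fin r => D) i) :=
      ⟨v i, h7 i, rfl⟩
    rw [Submodule.map_smul''] at h9
    exact Submodule.smul_mono le_rfl le_top h9
  · intro hle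
    let P : PrimeSpectrum D := ⟨p, hp⟩
    have h1 : P ∈ Module.support D (M ⧸ LinearMap.range α) :=
      Module.mem_support_iff_of_finite.mpr hle
    rw [Module.mem_support_iff_nontrivial_residueField_tensorProduct,
      ← not_subsingleton_iff_nontrivial] at h1
    apply h1
    have h2 : (LinearMap.range α).mkQ.baseChange κ = 0 := by
      apply LinearMap.ext_on hspan
      intro x hx
      obtain ⟨i, hi⟩ : ∃ i, e.symm i = ⟨x, hx⟩ := ⟨e ⟨x, hx⟩, by simp⟩
      have h3 := hm i
      rw [hi] at h3
      change (1 : κ) ⊗ₜ[D] m i = x at h3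
      rw [← h3, LinearMap.baseChange_tmul]
      have h4 : (LinearMap.range α).mkQ (m i) = 0 := by
        rw [Submodule.mkQ_apply, Submodule.Quotient.mk_eq_zero]
        exact ⟨Pi.single i 1, by
          change Fintype.linearCombination D m (Pi.single i 1) = m i
          rw [Fintype.linearCombination_apply_single, one_smul]⟩
      rw [h4, TensorProduct.tmul_zero]
      rfl
    have h3 : Function.Surjective ((LinearMap.range α).mkQ.baseChange κ) :=
      LinearMap.lTensor_surjective κ (Submodule.mkQ_surjective _)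
    refine ⟨fun x y => ?_⟩
    obtain ⟨x, rfl⟩ := h3 x
    obtain ⟨y, rfl⟩ := h3 y
    rw [h2]
    rfl

theorem dim_drop {D : Type u} [CommRing D] (p : Ideal D) [p.IsPrime] (I : Ideal D)
    (h : ¬ I ≤ p) : ringKrullDim (D ⧸ (I ⊔ p)) + 1 ≤ ringKrullDim (D ⧸ p) := by
  obtain ⟨a, haI, hap⟩ := SetLike.not_le_iff_exists.mp h
  have h1 : Ideal.Quotient.mk p a ∈ nonZeroDivisors (D ⧸ p) := by
    rw [mem_nonZeroDivisors_iff_ne_zero, Ne, Ideal.Quotient.eq_zero_iff_mem]
    exact hap
  refine le_trans ?_ (ringKrullDim_quotient_succ_le_of_nonZeroDivisor h1)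
  gcongr
  let f : (D ⧸ p) ⧸ Ideal.span {Ideal.Quotient.mk p a} →+* D ⧸ (I ⊔ p) :=
    Ideal.Quotient.lift _ (Ideal.Quotient.factor (le_sup_right : p ≤ I ⊔ p)) (by
      intro x hx
      rw [← RingHom.mem_ker]
      refine (Ideal.span_le.mpr ?_ : _ ≤ RingHom.ker (Ideal.Quotient.factor _)) hx
      rintro _ rfl
      rw [SetLike.mem_coe, RingHom.mem_ker, Ideal.Quotient.factor_mk]
      exact Ideal.Quotient.eq_zero_iff_mem.mpr (Ideal.mem_sup_left haI))
  apply ringKrullDim_le_of_surjective f
  apply Ideal.Quotient.lift_surjective_of_surjective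
  exact Ideal.Quotient.factor_surjective _

end Groth.Agent.Flat2A.LocStep
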