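import Groth.Agent.Flat2A.LocDev
import Groth.Agent.Flat2A.LocStepAux
import Mathlib.RingTheory.TensorProduct.Basic
import Mathlib.RingTheory.Support
import Mathlib.Algebra.Module.Torsion.Basic

/-!
# The induction principle for finite modules over local rings essentially of finite type
-/

set_option autoImplicit false
universe u

namespace Groth.Agent.Flat2A.LocStep

open IsLocalRing TensorProduct

/-- Induction principle: to prove a property `Φ B M` of finite modules `M` over local rings `B`
essentially of finite type over the local ring `A`, it suffices to descend it along flat local maps,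
to transfer it along finite local maps, and to pass from the cokernel to the target of a
map `α : D^r → M` which is injective modulo `m_A`, where `D` is a local ring of an algebra etale
over a polynomial ring over `A`. -/
theorem induction {A : Type u} [CommRing A] [IsLocalRing A]
    (Φ : ∀ (B M : Type u) [CommRing B] [IsLocalRing B] [Algebra A B] [IsLocalHom (algebraMap A B)]
      [AddCommGroup M] [Module B M] [Module A M] [IsScalarTower A B M], Prop)
    (hzero : ∀ (B M : Type u) [CommRing B] [IsLocalRing B] [Algebra A B]
      [IsLocalHom (algebraMap A B)] [AddCommGroup M] [Module B M] [Module A M]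
      [IsScalarTower A B M] [Subsingleton M], Φ B M)
    (hfin : ∀ (B C N : Type u) [CommRing B] [IsLocalRing B] [CommRing C] [IsLocalRing C]
      [Algebra A B] [IsLocalHom (algebraMap A B)] [Algebra A C] [IsLocalHom (algebraMap A C)]
      [Algebra B C] [IsScalarTower A B C] [IsLocalHom (algebraMap B C)] [Module.Finite B C]
      [AddCommGroup N] [Module C N] [Module B N] [Module A N] [IsScalarTower B C N]
      [IsScalarTower A C N] [IsScalarTower A B N] [Module.Finite C N], Φ B N ↔ Φ C N)
    (hflat : ∀ (B C M : Type u) [CommRing B] [IsLocalRing B] [CommRing C] [IsLocalRing C]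
      [Algebra A B] [IsLocalHom (algebraMap A B)] [Algebra A C] [IsLocalHom (algebraMap A C)]
      [Algebra B C] [IsScalarTower A B C] [IsLocalHom (algebraMap B C)] [Module.Flat B C]
      [AddCommGroup M] [Module B M] [Module A M] [IsScalarTower A B M] [Module.Finite B M],
      Φ C (C ⊗[B] M) → Φ B M)
    (hstep : ∀ (N : ℕ) (D₁ : Type u) [CommRing D₁] [Algebra A D₁]
      [Algebra (MvPolynomial (Fin N) A) D₁] [IsScalarTower A (MvPolynomial (Fin N) A) D₁]
      [Algebra.Etale (MvPolynomial (Fin N) A) D₁]
      (z : Ideal D₁) [z.IsPrime] [z.LiesOver (maximalIdeal A)]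
      [IsLocalHom (algebraMap A (Localization.AtPrime z))]
      (M : Type u) [AddCommGroup M] [Module (Localization.AtPrime z) M] [Module A M]
      [IsScalarTower A (Localization.AtPrime z) M] [Module.Finite (Localization.AtPrime z) M]
      (r : ℕ) (α : (Fin r → Localization.AtPrime z) →ₗ[Localization.AtPrime z] M),
      Function.Injective ((α.restrictScalars A).lTensor (ResidueField A)) →
      Φ (Localization.AtPrime z) (M ⧸ LinearMap.range α) → Φ (Localization.AtPrime z) M)
    (B M : Type u) [CommRing B] [IsLocalRing B] [Algebra A B] [IsLocalHom (algebraMap A B)]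
    [AddCommGroup M] [Module B M] [Module A M] [IsScalarTower A B M]
    [Algebra.EssFiniteType A B] [Module.Finite B M] : Φ B M := by
  -- induction on the dimension of the support of the closed fibre
  have H : ∀ (n : ℕ) (B M : Type u) [CommRing B] [IsLocalRing B] [Algebra A B]
      [IsLocalHom (algebraMap A B)] [AddCommGroup M] [Module B M] [Module A M]
      [IsScalarTower A B M] [Algebra.EssFiniteType A B] [Module.Finite B M],
      ringKrullDim (B ⧸ (Module.annihilator B M ⊔ (maximalIdeal A).map (algebraMap A B))) <
        (n : WithBot ℕ∞) → Φ B M := by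
    intro n
    induction n with
    | zero =>
      intro B M _ _ _ _ _ _ _ _ _ _ hn
      have hle : (maximalIdeal A).map (algebraMap A B) ≤ maximalIdeal B :=
        Ideal.map_le_iff_le_comap.mpr ((maximalIdeal B).over_def (maximalIdeal A)).le
      have h1 : ¬ Nontrivial
          (B ⧸ (Module.annihilator B M ⊔ (maximalIdeal A).map (algebraMap A B))) := by
        intro hnt
        exact absurd ringKrullDim_nonneg_of_nontrivial (not_le.mpr hn)
      have h2 : Module.annihilator B M ⊔ (maximalIdeal A).map (algebraMap A B) = ⊤ := by
        by_contra hne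
        exact h1 (Ideal.Quotient.nontrivial_iff.mpr hne)
      have h3 : Module.annihilator B M = ⊤ := by
        by_contra hne
        have h4 := sup_le (le_maximalIdeal hne) hle
        rw [h2, top_le_iff] at h4
        exact (maximalIdeal.isMaximal B).ne_top h4
      have h4 : Subsingleton M := Module.annihilator_eq_top_iff.mp h3
      exact hzero B M
    | succ n ih =>
      intro B M _ _ _ _ _ _ _ _ _ _ hn
      rcases subsingleton_or_nontrivial M with hM | hM
      · exact hzero B M
      let Ann := Module.annihilator B M
      let B₁ := B ⧸ Ann
      have hAnn : Ann ≠ ⊤ := by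
        intro h
        have := Module.annihilator_eq_top_iff.mp h
        exact not_subsingleton M this
      have hB₁nt : Nontrivial B₁ := Ideal.Quotient.nontrivial_iff.mpr hAnn
      have hB₁loc : IsLocalRing B₁ :=
        IsLocalRing.of_surjective' (Ideal.Quotient.mk Ann) Ideal.Quotient.mk_surjective
      have hBB₁ : IsLocalHom (algebraMap B B₁) :=
        IsLocalHom.of_surjective _ Ideal.Quotient.mk_surjective
      have hAB₁ : IsLocalHom (algebraMap A B₁) := by
        rw [IsScalarTower.algebraMap_eq A B B₁]
        infer_instance
      let modB₁ : Module B₁ M := Module.quotientAnnihilator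
      have towB : IsScalarTower B B₁ M := IsScalarTower.of_algebraMap_smul (fun _ _ => rfl)
      have towA : IsScalarTower A B₁ M := IsScalarTower.of_algebraMap_smul (fun a m => by
        rw [IsScalarTower.algebraMap_apply A B B₁, algebraMap_smul, algebraMap_smul])
      have finB₁ : Module.Finite B₁ M := Module.Finite.of_restrictScalars_finite B B₁ M
      have efB₁ : Algebra.EssFiniteType A B₁ := inferInstance
      obtain ⟨N, D₁, i1, i2, i3, i4, i5, z, i6, i7, X, i8, i9, i10, i11, i12, i13, i14,
        hDX, hDXloc, hflatX, hB₁X, hprime, hdim⟩ := LocDev.exists_locDev A B₁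
      let D := Localization.AtPrime z
      have hAD : IsLocalHom (algebraMap A D) := LocDev.isLocalHom_et A z
      have efD : Algebra.EssFiniteType A D := LocDev.essFiniteType_et A (N := N) z
      have hAX : IsLocalHom (algebraMap A X) := by
        rw [IsScalarTower.algebraMap_eq A B₁ X]
        infer_instance
      let M₁ := X ⊗[B₁] M
      have towD : IsScalarTower D X M₁ := inferInstance
      have towAD : IsScalarTower A D M₁ := inferInstance
      have finX : Module.Finite X M₁ := inferInstance
      have finD : Module.Finite D M₁ := Module.Finite.trans X M₁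
      obtain ⟨r, α, hα, hann⟩ := exists_alpha (A := A) (D := D) M₁
      have hC : Φ D (M₁ ⧸ LinearMap.range α) := by
        apply ih
        have h1 := dim_drop ((maximalIdeal A).map (algebraMap A D)) _ hann
        have h2 : ringKrullDim (B₁ ⧸ (maximalIdeal A).map (algebraMap A B₁)) ≤
            ringKrullDim (B ⧸ (Ann ⊔ (maximalIdeal A).map (algebraMap A B))) := by
          let f : B ⧸ (Ann ⊔ (maximalIdeal A).map (algebraMap A B)) →+*
              B₁ ⧸ (maximalIdeal A).map (algebraMap A B₁) :=
            Ideal.Quotient.lift _ ((Ideal.Quotient.mk _).comp (Ideal.Quotient.mk Ann)) (by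
              intro x hx
              rw [← RingHom.mem_ker]
              refine (sup_le ?_ ?_ : _ ≤ RingHom.ker ((Ideal.Quotient.mk
                ((maximalIdeal A).map (algebraMap A B₁))).comp (Ideal.Quotient.mk Ann))) hx
              · intro y hy
                rw [RingHom.mem_ker, RingHom.comp_apply, Ideal.Quotient.eq_zero_iff_mem.mpr hy,
                  map_zero]
              · rw [Ideal.map_le_iff_le_comap]
                intro a ha
                rw [Ideal.mem_comap, RingHom.mem_ker, RingHom.comp_apply]
                exact Ideal.Quotient.eq_zero_iff_mem.mpr (Ideal.mem_map_of_mem _ ha))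
          apply ringKrullDim_le_of_surjective f
          apply Ideal.Quotient.lift_surjective_of_surjective
          exact Ideal.Quotient.mk_surjective.comp Ideal.Quotient.mk_surjective
        have h3 := (h1.trans (hdim.trans h2)).trans_lt hn
        rw [Nat.cast_succ] at h3
        exact lt_of_add_lt_add_right h3
      have h1 : Φ D M₁ := hstep N D₁ z M₁ r α hα hC
      have h2 : Φ X M₁ := (hfin D X M₁).mp h1
      have h3 : Φ B₁ M := hflat B₁ X M h2
      exact (hfin B B₁ M).mpr h3
  -- the dimension is finite
  have hle : (maximalIdeal A).map (algebraMap A B) ≤ maximalIdeal B :=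
    Ideal.map_le_iff_le_comap.mpr ((maximalIdeal B).over_def (maximalIdeal A)).le
  have h1 : IsNoetherianRing (B ⧸ (maximalIdeal A).map (algebraMap A B)) :=
    LocDev.isNoetherianRing_fiber A B
  have h2 : Nontrivial (B ⧸ (maximalIdeal A).map (algebraMap A B)) :=
    Ideal.Quotient.nontrivial_iff.mpr
      (fun h => (maximalIdeal.isMaximal B).ne_top (top_le_iff.mp (h ▸ hle)))
  have h3 : IsLocalRing (B ⧸ (maximalIdeal A).map (algebraMap A B)) :=
    IsLocalRing.of_surjective' (Ideal.Quotient.mk _) Ideal.Quotient.mk_surjective
  have h4 : ringKrullDim (B ⧸ (Module.annihilator B M ⊔ (maximalIdeal A).map (algebraMap A B))) ≤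
      ringKrullDim (B ⧸ (maximalIdeal A).map (algebraMap A B)) :=
    ringKrullDim_le_of_surjective (Ideal.Quotient.factor le_sup_right)
      (Ideal.Quotient.factor_surjective _)
  have h5 := h4.trans_lt (ringKrullDim_lt_top (R := B ⧸ (maximalIdeal A).map (algebraMap A B)))
  obtain ⟨n, hn⟩ : ∃ n : ℕ,
      ringKrullDim (B ⧸ (Module.annihilator B M ⊔ (maximalIdeal A).map (algebraMap A B))) <
        (n : WithBot ℕ∞) := by
    generalize ringKrullDim
      (B ⧸ (Module.annihilator B M ⊔ (maximalIdeal A).map (algebraMap A B))) = d at h5
    induction d using WithBot.recBotCoe with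
    | bot => exact ⟨0, WithBot.bot_lt_coe _⟩
    | coe d =>
      induction d using WithTop.recTopCoe with
      | top => exact absurd h5 (lt_irrefl _)
      | coe d =>
        refine ⟨d + 1, ?_⟩
        have h6 : ((d : ℕ∞) : WithBot ℕ∞) < ((d + 1 : ℕ) : WithBot ℕ∞) := by
          exact_mod_cast Nat.lt_succ_self d
        exact h6
  exact H n B M hn

end Groth.Agent.Flat2A.LocStep
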