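import Groth.Agent.Flat2A.LocCorepAsm
import Groth.Agent.Flat2A.LocFunFin
import Groth.Agent.Flat2A.LocStep
import Groth.Agent.Flat2A.LocML
import Groth.Agent.S1215

/-!
# The local flatness functor is corepresented by an ideal (henselian base)
-/

set_option autoImplicit false
universe u

namespace Groth.Agent.Flat2A.LocFun

open IsLocalRing TensorProduct

theorem corep_of_subsingleton {A B : Type u} [CommRing A] [CommRing B] [IsLocalRing B]
    [Algebra A B] (M : Type u) [AddCommGroup M] [Module B M] [Subsingleton M] :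
    Corep A B M ⊥ := by
  intro A' B' M' _ _ _ _ _ _ _ _ _ _ _ _ _ _ _ _ _ f hf
  have h1 : Subsingleton (B' ⊗[B] M) := inferInstance
  have h2 : Subsingleton M' := hf.equiv.symm.injective.subsingleton
  refine ⟨fun _ => Ideal.map_bot, fun _ => ?_⟩
  have h3 : Module.Flat A' M' := inferInstance
  exact flatAbove_of_flat

theorem exists_corep {A : Type u} [CommRing A] [HenselianLocalRing A]
    (B M : Type u) [CommRing B] [IsLocalRing B] [Algebra A B] [IsLocalHom (algebraMap A B)]
    [AddCommGroup M] [Module B M] [Module A M] [IsScalarTower A B M]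
    [Algebra.EssFiniteType A B] [Module.Finite B M] : ∃ I : Ideal A, Corep A B M I := by
  refine LocStep.induction (A := A) (fun B M _ _ _ _ _ _ _ _ => ∃ I : Ideal A, Corep A B M I)
    ?_ ?_ ?_ ?_ B M
  · intro B M _ _ _ _ _ _ _ _ _
    exact ⟨⊥, corep_of_subsingleton M⟩
  · intro B C N _ _ _ _ _ _ _ _ _ _ _ _ _ _ _ _ _ _ _ _
    constructor
    · rintro ⟨I, hI⟩
      exact ⟨I, (corep_iff_of_finite N I).mp hI⟩
    · rintro ⟨I, hI⟩
      exact ⟨I, (corep_iff_of_finite N I).mpr hI⟩
  · intro B C M _ _ _ _ _ _ _ _ _ _ _ _ _ _ _ _ _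
    rintro ⟨I, hI⟩
    exact ⟨I, corep_of_flat M I hI⟩
  · intro N D₁ _ _ _ _ _ z _ _ _ M _ _ _ _ _ r α hα
    rintro ⟨J, hJ⟩
    have hef : Algebra.EssFiniteType A (Localization.AtPrime z) :=
      LocDev.essFiniteType_et A (N := N) z
    have hfl : Module.Flat A (Localization.AtPrime z) := LocDev.flat_et A (N := N) z
    have hML : CAlg.IsMittagLeffler A (Localization.AtPrime z) :=
      S1215.result (A := A) (B := Localization.AtPrime z) (Localization.AtPrime z)
    have hMLr : CAlg.IsMittagLeffler A (Fin r → Localization.AtPrime z) :=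
      LocML.isMittagLeffler_pi hML r
    have hflr : Module.Flat A (Fin r → Localization.AtPrime z) :=
      Module.Flat.trans A (Localization.AtPrime z) (Fin r → Localization.AtPrime z)
    exact exists_corep_of_coker hMLr α hα J hJ

end Groth.Agent.Flat2A.LocFun
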