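import Groth.Agent.Flat2A.LocCorepStep
import Groth.Agent.CalgA.ML8

/-!
# Passing from the cokernel to the target for the local flatness functor
-/

set_option autoImplicit false
universe u

namespace Groth.Agent.Flat2A.LocFun

open IsLocalRing TensorProduct

/-- Base change of Mittag-Leffler modules. -/
theorem isMittagLeffler_baseChange {A A' P : Type u} [CommRing A] [CommRing A'] [Algebra A A']
    [AddCommGroup P] [Module A P] (h : CAlg.IsMittagLeffler A P) :
    CAlg.IsMittagLeffler A' (A' ⊗[A] P) := by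
  intro ι Q _ _
  let _ : ∀ i, Module A (Q i) := fun i => Module.compHom (Q i) (algebraMap A A')
  have hQ : ∀ i, IsScalarTower A A' (Q i) := fun i =>
    IsScalarTower.of_algebraMap_smul (fun _ _ => rfl)
  let θ : ∀ (N : Type u) [AddCommGroup N] [Module A N] [Module A' N] [IsScalarTower A A' N],
      (A' ⊗[A] P) ⊗[A'] N ≃+ P ⊗[A] N := fun N _ _ _ _ =>
    ((TensorProduct.comm A' (A' ⊗[A] P) N).toAddEquiv.trans
      (AlgebraTensorModule.cancelBaseChange A A' A' N P).toAddEquiv).trans
      (TensorProduct.comm A N P).toAddEquiv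
  have hθ : ∀ (N : Type u) [AddCommGroup N] [Module A N] [Module A' N] [IsScalarTower A A' N]
      (a : A') (p : P) (n : N), θ N ((a ⊗ₜ p) ⊗ₜ n) = p ⊗ₜ (a • n) := fun _ _ _ _ _ _ _ _ => rfl
  have key : ∀ x i, TensorProduct.piRightHom A A P Q (θ (∀ i, Q i) x) i =
      θ (Q i) (TensorProduct.piRightHom A' A' (A' ⊗[A] P) Q x i) := by
    intro x i
    induction x using TensorProduct.induction_on with
    | zero => simp
    | add x y hx hy => rw [map_add, map_add, Pi.add_apply, hx, hy, map_add, Pi.add_apply, map_add]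
    | tmul y q =>
      induction y using TensorProduct.induction_on with
      | zero => simp
      | add x y hx hy =>
        rw [TensorProduct.add_tmul, map_add, map_add, Pi.add_apply, hx, hy, map_add, Pi.add_apply,
          map_add]
      | tmul a p =>
        rw [hθ, TensorProduct.piRightHom_tmul, TensorProduct.piRightHom_tmul, hθ]
        rfl
  rw [injective_iff_map_eq_zero]
  intro x hx
  have h1 : TensorProduct.piRightHom A A P Q (θ (∀ i, Q i) x) = 0 := by
    funext i
    rw [key, hx]
    simp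
  have h2 : θ (∀ i, Q i) x = 0 := h ι Q (by rw [h1, map_zero])
  exact (AddEquiv.map_eq_zero_iff _).mp h2

theorem isMittagLeffler_of_equiv {R M K : Type u} [CommRing R] [AddCommGroup M] [Module R M]
    [AddCommGroup K] [Module R K] (e : K ≃ₗ[R] M) (h : CAlg.IsMittagLeffler R M) :
    CAlg.IsMittagLeffler R K :=
  CalgA.ML8.isMittagLeffler_of_retract e.toLinearMap e.symm.toLinearMap (by ext x; simp) h

theorem flat_of_flatAt_maximalIdeal {R S N : Type u} [CommRing R] [CommRing S] [IsLocalRing S]
    [Algebra R S] [AddCommGroup N] [Module S N] [Module R N] [IsScalarTower R S N]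
    (h : FlatCA.FlatAt R (maximalIdeal S) N) : Module.Flat R N := by
  rw [Flat2C.FlatAtCriterion.flatAt_iff] at h
  rw [Module.Flat.iff_lTensor_injective']
  intro I
  rw [injective_iff_map_eq_zero]
  intro x hx
  obtain ⟨t, ht, htx⟩ := h I x hx
  have hu : IsUnit t := by
    by_contra hnu
    exact ht ((mem_maximalIdeal _).mpr hnu)
  obtain ⟨u, rfl⟩ := hu
  have h1 : (↑(u⁻¹) : S) • ((u : S) • x) = x := by
    rw [← mul_smul, Units.inv_mul, one_smul]
  rw [← h1, htx, smul_zero]

theorem exists_corep_baseChange {A D Ab Db : Type u} [CommRing A] [IsLocalRing A] [CommRing D]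
    [IsLocalRing D] [Algebra A D] [IsLocalHom (algebraMap A D)] [Algebra.EssFiniteType A D]
    [CommRing Ab] [IsLocalRing Ab] [CommRing Db] [IsLocalRing Db] [Algebra A Ab] [Algebra Ab Db]
    [Algebra D Db] [Algebra A Db] [IsScalarTower A Ab Db] [IsScalarTower A D Db]
    [Algebra.IsPushout A D Ab Db] [IsLocalHom (algebraMap A Ab)] [IsLocalHom (algebraMap Ab Db)]
    [IsLocalHom (algebraMap D Db)]
    {P M : Type u} [AddCommGroup P] [Module A P] [Module D P] [IsScalarTower A D P]
    [Module.Finite D P] [Module.Flat A P] (hML : CAlg.IsMittagLeffler A P)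
    [AddCommGroup M] [Module A M] [Module D M] [IsScalarTower A D M]
    (α : P →ₗ[D] M) (hα : Function.Injective ((α.restrictScalars A).lTensor (ResidueField A)))
    (J : Ideal A) (hJ : Corep A D (M ⧸ LinearMap.range α) J)
    (hJAb : J.map (algebraMap A Ab) = ⊥) : ∃ I : Ideal Ab, Corep Ab Db (Db ⊗[D] M) I := by
  have hpo : Algebra.IsPushout A Ab D Db := Algebra.IsPushout.symm inferInstance
  have hef : Algebra.EssFiniteType Ab Db := LocStep.essFiniteType_of_isPushout A D Ab Db
  have hPflat : Module.Flat Ab (Db ⊗[D] P) :=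
    Module.Flat.of_linearEquiv (Algebra.IsPushout.cancelBaseChange A Ab D Db P)
  have hPML : CAlg.IsMittagLeffler Ab (Db ⊗[D] P) :=
    isMittagLeffler_of_equiv (Algebra.IsPushout.cancelBaseChange A Ab D Db P)
      (isMittagLeffler_baseChange hML)
  have hαb : Function.Injective
      (((α.baseChange Db).restrictScalars Ab).lTensor (ResidueField Ab)) :=
    LocStep.lTensor_baseChange_injective (A := A) (A' := Ab) (D' := Db) α hα
  have hCflat : Module.Flat Ab (Db ⊗[D] (M ⧸ LinearMap.range α)) := by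
    have h1 : FlatCA.FlatAboveClosedPoints D Ab Db (Db ⊗[D] (M ⧸ LinearMap.range α)) :=
      (hJ Ab Db (Db ⊗[D] (M ⧸ LinearMap.range α))
        (TensorProduct.mk D Db (M ⧸ LinearMap.range α) 1)
        (TensorProduct.isBaseChange D (M ⧸ LinearMap.range α) Db)).mpr hJAb
    apply flat_of_flatAt_maximalIdeal (S := Db)
    apply h1
    refine sup_le ?_ ?_
    · exact Ideal.map_le_iff_le_comap.mpr ((maximalIdeal Db).over_def (maximalIdeal Ab)).le
    · exact Ideal.map_le_iff_le_comap.mpr ((maximalIdeal Db).over_def (maximalIdeal D)).le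
  have hCbflat : Module.Flat Ab ((Db ⊗[D] M) ⧸ LinearMap.range (α.baseChange Db)) := by
    have hex : Function.Exact α (LinearMap.range α).mkQ := by
      rw [LinearMap.exact_iff, Submodule.ker_mkQ]
    have h2 : Function.Exact (α.baseChange Db) ((LinearMap.range α).mkQ.baseChange Db) :=
      lTensor_exact Db hex (Submodule.mkQ_surjective _)
    have h3 : Function.Surjective ((LinearMap.range α).mkQ.baseChange Db) :=
      LinearMap.lTensor_surjective Db (Submodule.mkQ_surjective _)
    let e : ((Db ⊗[D] M) ⧸ LinearMap.range (α.baseChange Db)) ≃ₗ[Db]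
        Db ⊗[D] (M ⧸ LinearMap.range α) :=
      (Submodule.quotEquivOfEq _ _ (LinearMap.exact_iff.mp h2).symm) ≪≫ₗ
        LinearMap.quotKerEquivOfSurjective _ h3
    exact Module.Flat.of_linearEquiv (e.restrictScalars Ab)
  exact exists_corep_of_flat_coker (A := Ab) (D := Db) hPML (α.baseChange Db) hαb

attribute [local instance] Algebra.TensorProduct.rightAlgebra

theorem local_quotient (A D : Type u) [CommRing A] [IsLocalRing A] [CommRing D]
    [IsLocalRing D] [Algebra A D] [IsLocalHom (algebraMap A D)] (J : Ideal A) (htop : J ≠ ⊤) :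
    IsLocalRing (A ⧸ J) ∧ IsLocalHom (algebraMap A (A ⧸ J)) ∧
      IsLocalRing ((A ⧸ J) ⊗[A] D) ∧ IsLocalHom (algebraMap D ((A ⧸ J) ⊗[A] D)) ∧
      IsLocalHom (algebraMap (A ⧸ J) ((A ⧸ J) ⊗[A] D)) := by
  have hnt : Nontrivial (A ⧸ J) := Ideal.Quotient.nontrivial_iff.mpr htop
  have hloc : IsLocalRing (A ⧸ J) :=
    IsLocalRing.of_surjective' (Ideal.Quotient.mk J) Ideal.Quotient.mk_surjective
  have hAAb : IsLocalHom (algebraMap A (A ⧸ J)) :=
    IsLocalHom.of_surjective _ Ideal.Quotient.mk_surjective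
  have hpo' : Algebra.IsPushout A D (A ⧸ J) ((A ⧸ J) ⊗[A] D) := inferInstance
  have hDs : Function.Surjective (algebraMap D ((A ⧸ J) ⊗[A] D)) :=
    algebraMap_surjective_of_isPushout (A := A) (Ab := A ⧸ J) Ideal.Quotient.mk_surjective
  have hDnt : Nontrivial ((A ⧸ J) ⊗[A] D) := by
    have hle : J ≤ RingHom.ker (algebraMap A (ResidueField D)) := by
      intro a ha
      rw [RingHom.mem_ker, IsScalarTower.algebraMap_apply A D (ResidueField D)]
      apply (residue_eq_zero_iff _).mpr
      have h1 : a ∈ maximalIdeal A := le_maximalIdeal htop ha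
      rw [(maximalIdeal D).over_def (maximalIdeal A)] at h1
      exact h1
    let f : (A ⧸ J) →ₐ[A] ResidueField D :=
      Ideal.Quotient.liftₐ J (Algebra.ofId A (ResidueField D)) (fun a ha => hle ha)
    let g : ((A ⧸ J) ⊗[A] D) →ₐ[A] ResidueField D :=
      Algebra.TensorProduct.lift f (IsScalarTower.toAlgHom A D (ResidueField D))
        (fun _ _ => mul_comm _ _)
    exact g.toRingHom.domain_nontrivial
  have hDloc : IsLocalRing ((A ⧸ J) ⊗[A] D) :=
    IsLocalRing.of_surjective' (algebraMap D ((A ⧸ J) ⊗[A] D)) hDs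
  have hDDb : IsLocalHom (algebraMap D ((A ⧸ J) ⊗[A] D)) := IsLocalHom.of_surjective _ hDs
  have hAbDb : IsLocalHom (algebraMap (A ⧸ J) ((A ⧸ J) ⊗[A] D)) := by
    refine ⟨fun x hx => ?_⟩
    obtain ⟨a, rfl⟩ := Ideal.Quotient.mk_surjective x
    have h1 : algebraMap (A ⧸ J) ((A ⧸ J) ⊗[A] D) (Ideal.Quotient.mk J a) =
        algebraMap D ((A ⧸ J) ⊗[A] D) (algebraMap A D a) := by
      rw [← IsScalarTower.algebraMap_apply A D ((A ⧸ J) ⊗[A] D),
        IsScalarTower.algebraMap_apply A (A ⧸ J) ((A ⧸ J) ⊗[A] D)]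
      rfl
    rw [h1] at hx
    exact (isUnit_of_map_unit (algebraMap A D) a
      (isUnit_of_map_unit (algebraMap D ((A ⧸ J) ⊗[A] D)) _ hx)).map _
  exact ⟨hloc, hAAb, hDloc, hDDb, hAbDb⟩

theorem exists_local_quotient (A D : Type u) [CommRing A] [IsLocalRing A] [CommRing D]
    [IsLocalRing D] [Algebra A D] [IsLocalHom (algebraMap A D)] (J : Ideal A) (htop : J ≠ ⊤) :
    ∃ (_ : IsLocalRing (A ⧸ J)) (_ : IsLocalHom (algebraMap A (A ⧸ J)))
      (Db : Type u) (_ : CommRing Db) (_ : IsLocalRing Db) (_ : Algebra (A ⧸ J) Db)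
      (_ : Algebra D Db) (_ : Algebra A Db) (_ : IsScalarTower A (A ⧸ J) Db)
      (_ : IsScalarTower A D Db) (_ : IsLocalHom (algebraMap (A ⧸ J) Db))
      (_ : IsLocalHom (algebraMap D Db)), Algebra.IsPushout A D (A ⧸ J) Db := by
  obtain ⟨hloc, hAAb, hDloc, hDDb, hAbDb⟩ := local_quotient A D J htop
  exact ⟨hloc, hAAb, (A ⧸ J) ⊗[A] D, inferInstance, hDloc, inferInstance, inferInstance,
    inferInstance, inferInstance, inferInstance, hAbDb, hDDb, inferInstance⟩

theorem map_eq_bot_of_flatAbove {A D : Type u} [CommRing A] [IsLocalRing A] [CommRing D]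
    [IsLocalRing D] [Algebra A D] [IsLocalHom (algebraMap A D)] [Algebra.EssFiniteType A D]
    {P M : Type u} [AddCommGroup P] [Module A P] [Module D P] [IsScalarTower A D P]
    [Module.Finite D P] [AddCommGroup M] [Module A M] [Module D M] [IsScalarTower A D M]
    (α : P →ₗ[D] M) (hα : Function.Injective ((α.restrictScalars A).lTensor (ResidueField A)))
    (J : Ideal A) (hJ : Corep A D (M ⧸ LinearMap.range α) J)
    (A' B' M' : Type u) [CommRing A'] [IsLocalRing A'] [Algebra A A']
    [IsLocalHom (algebraMap A A')]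
    [CommRing B'] [Algebra D B'] [Algebra A' B'] [Algebra A B'] [IsScalarTower A D B']
    [IsScalarTower A A' B'] [Algebra.IsPushout A D A' B']
    [AddCommGroup M'] [Module B' M'] [Module D M'] [IsScalarTower D B' M'] [Module A' M']
    [IsScalarTower A' B' M'] (f : M →ₗ[D] M') (hf : IsBaseChange B' f)
    (h : FlatCA.FlatAboveClosedPoints D A' B' M') : J.map (algebraMap A A') = ⊥ := by
  rw [flatAbove_iff_tensor f hf] at h
  apply (hJ A' B' (B' ⊗[D] (M ⧸ LinearMap.range α))
    (TensorProduct.mk D B' (M ⧸ LinearMap.range α) 1)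
    (TensorProduct.isBaseChange D (M ⧸ LinearMap.range α) B')).mp
  intro q _ hq
  exact (LocStep.flatAt_coker (A := A) (A' := A') (D' := B') α hα q
    (le_sup_left.trans hq) (h q hq)).2

/-- If the local flatness functor of the cokernel is corepresented by an ideal, so is that of the
target. -/
theorem exists_corep_of_coker {A D : Type u} [CommRing A] [IsLocalRing A] [CommRing D]
    [IsLocalRing D] [Algebra A D] [IsLocalHom (algebraMap A D)] [Algebra.EssFiniteType A D]
    {P M : Type u} [AddCommGroup P] [Module A P] [Module D P] [IsScalarTower A D P]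
    [Module.Finite D P] [Module.Flat A P] (hML : CAlg.IsMittagLeffler A P)
    [AddCommGroup M] [Module A M] [Module D M] [IsScalarTower A D M]
    (α : P →ₗ[D] M) (hα : Function.Injective ((α.restrictScalars A).lTensor (ResidueField A)))
    (J : Ideal A) (hJ : Corep A D (M ⧸ LinearMap.range α) J) : ∃ I : Ideal A, Corep A D M I := by
  by_cases htop : J = ⊤
  · refine ⟨⊤, ?_⟩
    intro A' B' M' _ _ _ _ _ _ _ _ _ _ _ _ _ _ _ _ _ f hf
    constructor
    · intro h
      have := map_eq_bot_of_flatAbove α hα J hJ A' B' M' f hf h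
      rwa [htop] at this
    · intro h
      rw [Ideal.map_top] at h
      exact absurd h top_ne_bot
  obtain ⟨i1, i2, Db, i3, i4, i5, i6, i7, i8, i9, i10, i11, i12⟩ := exists_local_quotient A D J htop
  obtain ⟨Ib, hIb⟩ := exists_corep_baseChange (A := A) (D := D) (Ab := A ⧸ J)
    (Db := Db) hML α hα J hJ (Ideal.map_quotient_self J)
  refine ⟨Ib.comap (Ideal.Quotient.mk J), ?_⟩
  refine corep_of_quotient M J ?_ Db (Db ⊗[D] M) (TensorProduct.mk D Db M 1)
    (TensorProduct.isBaseChange D M Db) Ib hIb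
  intro A' B' M' _ _ _ _ _ _ _ _ _ _ _ _ _ _ _ _ _ f hf h
  exact map_eq_bot_of_flatAbove α hα J hJ A' B' M' f hf h

end Groth.Agent.Flat2A.LocFun
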