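import Groth.Agent.Flat2A.LocCorepAsm
import Groth.Agent.Flat2A.FlatFGIdeal

/-!
# The corepresenting ideal is finitely generated
-/

set_option autoImplicit false
universe u

namespace Groth.Agent.Flat2A.LocFun

open IsLocalRing TensorProduct

theorem flat_quotient_of_corep {A B : Type u} [CommRing A] [IsLocalRing A] [CommRing B]
    [IsLocalRing B] [Algebra A B] [IsLocalHom (algebraMap A B)]
    (M : Type u) [AddCommGroup M] [Module B M] [Module A M] [IsScalarTower A B M]
    (I : Ideal A) (h : Corep A B M I) : Module.Flat (A ⧸ I) ((A ⧸ I) ⊗[A] M) := by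
  by_cases htop : I = ⊤
  · have : Subsingleton (A ⧸ I) := Ideal.Quotient.subsingleton_iff.mpr htop
    have : Subsingleton ((A ⧸ I) ⊗[A] M) := Module.subsingleton (A ⧸ I) _
    infer_instance
  obtain ⟨i1, i2, Bb, i3, i4, i5, i6, i7, i8, i9, i10, i11, i12⟩ := exists_local_quotient A B I htop
  have hpo : Algebra.IsPushout A (A ⧸ I) B Bb := Algebra.IsPushout.symm inferInstance
  have h1 : FlatCA.FlatAboveClosedPoints B (A ⧸ I) Bb (Bb ⊗[B] M) :=
    (h (A ⧸ I) Bb (Bb ⊗[B] M) (TensorProduct.mk B Bb M 1)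
      (TensorProduct.isBaseChange B M Bb)).mpr (Ideal.map_quotient_self I)
  have h2 : Module.Flat (A ⧸ I) (Bb ⊗[B] M) := by
    apply flat_of_flatAt_maximalIdeal (S := Bb)
    apply h1
    refine sup_le ?_ ?_
    · exact Ideal.map_le_iff_le_comap.mpr ((maximalIdeal Bb).over_def (maximalIdeal (A ⧸ I))).le
    · exact Ideal.map_le_iff_le_comap.mpr ((maximalIdeal Bb).over_def (maximalIdeal B)).le
  exact Module.Flat.of_linearEquiv (Algebra.IsPushout.cancelBaseChange A (A ⧸ I) B Bb M).symm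

theorem le_of_flat_quotient {A B : Type u} [CommRing A] [IsLocalRing A] [CommRing B]
    [IsLocalRing B] [Algebra A B] [IsLocalHom (algebraMap A B)]
    (M : Type u) [AddCommGroup M] [Module B M] [Module A M] [IsScalarTower A B M]
    (I : Ideal A) (h : Corep A B M I) (I₀ : Ideal A) (htop : I₀ ≠ ⊤)
    (hflat : Module.Flat (A ⧸ I₀) ((A ⧸ I₀) ⊗[A] M)) : I ≤ I₀ := by
  obtain ⟨i1, i2, Bb, i3, i4, i5, i6, i7, i8, i9, i10, i11, i12⟩ :=
    exists_local_quotient A B I₀ htop
  have hpo : Algebra.IsPushout A (A ⧸ I₀) B Bb := Algebra.IsPushout.symm inferInstance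
  have h2 : Module.Flat (A ⧸ I₀) (Bb ⊗[B] M) :=
    Module.Flat.of_linearEquiv (Algebra.IsPushout.cancelBaseChange A (A ⧸ I₀) B Bb M)
  have h1 : I.map (algebraMap A (A ⧸ I₀)) = ⊥ :=
    (h (A ⧸ I₀) Bb (Bb ⊗[B] M) (TensorProduct.mk B Bb M 1)
      (TensorProduct.isBaseChange B M Bb)).mp flatAbove_of_flat
  intro a ha
  have h3 := Ideal.mem_map_of_mem (algebraMap A (A ⧸ I₀)) ha
  rw [h1] at h3
  exact Ideal.Quotient.eq_zero_iff_mem.mp h3

theorem corep_fg {A B : Type u} [CommRing A] [IsLocalRing A] [CommRing B] [IsLocalRing B]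
    [Algebra A B] [IsLocalHom (algebraMap A B)] (hB : FlatCA.EssFinitePresentation A B)
    (M : Type u) [AddCommGroup M] [Module B M] [Module A M] [IsScalarTower A B M]
    [Module.FinitePresentation B M] (I : Ideal A) (h : Corep A B M I) : I.FG := by
  by_cases htop : I = ⊤
  · rw [htop]
    exact ⟨{1}, by simp⟩
  obtain ⟨I₀, hle, hfg, hflat⟩ := FlatFGIdeal.exists_fg hB I (flat_quotient_of_corep M I h)
  have h1 : I ≤ I₀ := le_of_flat_quotient M I h I₀ (fun h0 => htop (top_le_iff.mp (h0 ▸ hle))) hflat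
  rw [le_antisymm h1 hle]
  exact hfg

end Groth.Agent.Flat2A.LocFun
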