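import Groth.Agent.Flat2A.LocFun
import Groth.Agent.Flat2A.FunctionalsQuot

/-!
# The local flatness functor and quotients of the base
-/

set_option autoImplicit false
universe u

namespace Groth.Agent.Flat2A.LocFun

open IsLocalRing TensorProduct

/-- If `A → A⁻` is surjective and `B⁻ = B ⊗_A A⁻` then `B → B⁻` is surjective. -/
theorem algebraMap_surjective_of_isPushout {A B Ab Bb : Type u} [CommRing A] [CommRing B] [CommRing Ab]
    [CommRing Bb] [Algebra A B] [Algebra A Ab] [Algebra B Bb] [Algebra Ab Bb] [Algebra A Bb]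
    [IsScalarTower A B Bb] [IsScalarTower A Ab Bb] [Algebra.IsPushout A B Ab Bb]
    (hs : Function.Surjective (algebraMap A Ab)) : Function.Surjective (algebraMap B Bb) := by
  intro x
  refine (Algebra.IsPushout.out (R := A) (S := B) (R' := Ab) (S' := Bb)).inductionOn x
    (fun x => ∃ a, algebraMap B Bb a = x) ⟨0, map_zero _⟩ ?_ ?_ ?_
  · intro m
    obtain ⟨a, rfl⟩ := hs m
    refine ⟨algebraMap A B a, ?_⟩
    rw [← IsScalarTower.algebraMap_apply, IsScalarTower.algebraMap_apply A Ab Bb]
    rfl
  · rintro s n ⟨a, rfl⟩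
    exact ⟨s * a, by rw [map_mul, Algebra.smul_def]⟩
  · rintro _ _ ⟨a, rfl⟩ ⟨b, rfl⟩
    exact ⟨a + b, map_add _ _ _⟩

theorem flatAbove_iff_of_surjective {A Ab B Bb A' B' M Mb M' : Type u} [CommRing A] [CommRing Ab]
    [CommRing B] [IsLocalRing B] [CommRing Bb] [IsLocalRing Bb] [CommRing A'] [IsLocalRing A']
    [CommRing B'] [Algebra A Ab] [Algebra A B] [Algebra A Bb] [Algebra A A'] [Algebra A B']
    [Algebra Ab Bb] [Algebra Ab A'] [Algebra Ab B'] [Algebra B Bb] [Algebra B B'] [Algebra Bb B']
    [Algebra A' B']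
    [IsScalarTower A B Bb] [IsScalarTower A Ab Bb] [IsScalarTower A B B'] [IsScalarTower A A' B']
    [IsScalarTower A Ab A'] [IsScalarTower A Ab B'] [IsScalarTower A Bb B']
    [IsScalarTower Ab A' B'] [IsScalarTower Ab Bb B'] [IsScalarTower B Bb B']
    [IsLocalHom (algebraMap Ab A')]
    [Algebra.IsPushout A B Ab Bb] [Algebra.IsPushout A B A' B']
    (hs : Function.Surjective (algebraMap A Ab))
    [AddCommGroup M] [Module B M] [AddCommGroup Mb] [Module B Mb] [Module Bb Mb]
    [IsScalarTower B Bb Mb] [AddCommGroup M'] [Module B M'] [Module B' M'] [IsScalarTower B B' M']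
    [Module A' M'] [IsScalarTower A' B' M'] [Module Bb M'] [IsScalarTower Bb B' M']
    [IsScalarTower B Bb M']
    (g : M →ₗ[B] Mb) (hg : IsBaseChange Bb g) (f : M →ₗ[B] M') (hf : IsBaseChange B' f)
    (Ib : Ideal Ab) (h : Corep Ab Bb Mb Ib) :
    FlatCA.FlatAboveClosedPoints B A' B' M' ↔ Ib.map (algebraMap Ab A') = ⊥ := by
  have hpo : Algebra.IsPushout Ab Bb A' B' := by
    have h1 : Algebra.IsPushout A Ab B Bb := Algebra.IsPushout.symm inferInstance
    have h2 : Algebra.IsPushout A A' B B' := Algebra.IsPushout.symm inferInstance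
    exact ((Algebra.IsPushout.comp_iff A Ab B Bb).1 h2).symm
  have hf' : IsBaseChange B' (hg.lift f) := by
    apply IsBaseChange.of_comp hg
    rw [IsBaseChange.lift_comp]
    exact hf
  rw [← h A' B' M' (hg.lift f) hf']
  have hm : (maximalIdeal Bb).map (algebraMap Bb B') = (maximalIdeal B).map (algebraMap B B') := by
    rw [← FunctionalsQuot.map_maximalIdeal_of_surjective
      (algebraMap_surjective_of_isPushout (A := A) (B := B) (Ab := Ab) (Bb := Bb) hs), Ideal.map_map,
      ← IsScalarTower.algebraMap_eq]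
  unfold FlatCA.FlatAboveClosedPoints
  rw [hm]

theorem corep_of_quotient {A B : Type u} [CommRing A] [IsLocalRing A] [CommRing B] [IsLocalRing B]
    [Algebra A B] [IsLocalHom (algebraMap A B)] (M : Type u) [AddCommGroup M] [Module B M]
    (J : Ideal A) [IsLocalRing (A ⧸ J)]
    (hJ : ∀ (A' B' M' : Type u) [CommRing A'] [IsLocalRing A'] [Algebra A A']
      [IsLocalHom (algebraMap A A')]
      [CommRing B'] [Algebra B B'] [Algebra A' B'] [Algebra A B'] [IsScalarTower A B B']
      [IsScalarTower A A' B'] [Algebra.IsPushout A B A' B']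
      [AddCommGroup M'] [Module B' M'] [Module B M'] [IsScalarTower B B' M'] [Module A' M']
      [IsScalarTower A' B' M'] (f : M →ₗ[B] M'), IsBaseChange B' f →
      FlatCA.FlatAboveClosedPoints B A' B' M' → J.map (algebraMap A A') = ⊥)
    (Bb Mb : Type u) [CommRing Bb] [IsLocalRing Bb] [Algebra (A ⧸ J) Bb] [Algebra B Bb]
    [Algebra A Bb] [IsScalarTower A B Bb] [IsScalarTower A (A ⧸ J) Bb]
    [Algebra.IsPushout A B (A ⧸ J) Bb] [AddCommGroup Mb] [Module Bb Mb] [Module B Mb]
    [IsScalarTower B Bb Mb] (g : M →ₗ[B] Mb) (hg : IsBaseChange Bb g)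
    (Ib : Ideal (A ⧸ J)) (h : Corep (A ⧸ J) Bb Mb Ib) :
    Corep A B M (Ib.comap (Ideal.Quotient.mk J)) := by
  intro A' B' M' _ _ _ _ _ _ _ _ _ _ _ _ _ _ _ _ _ f hf
  have key : J.map (algebraMap A A') = ⊥ →
      (FlatCA.FlatAboveClosedPoints B A' B' M' ↔
        (Ib.comap (Ideal.Quotient.mk J)).map (algebraMap A A') = ⊥) := by
    intro hJA
    have hJA' : ∀ a ∈ J, algebraMap A A' a = 0 := fun a ha => by
      have := Ideal.mem_map_of_mem (algebraMap A A') ha
      rwa [hJA] at this
    let : Algebra (A ⧸ J) A' := (Ideal.Quotient.lift J (algebraMap A A') hJA').toAlgebra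
    have : IsScalarTower A (A ⧸ J) A' := IsScalarTower.of_algebraMap_eq fun a => rfl
    have : IsLocalHom (algebraMap (A ⧸ J) A') := by
      constructor
      intro x hx
      obtain ⟨a, rfl⟩ := Ideal.Quotient.mk_surjective x
      have : IsUnit (algebraMap A A' a) := hx
      have h2 : IsUnit a := (isUnit_map_iff (algebraMap A A') a).1 this
      exact h2.map _
    let : Algebra (A ⧸ J) B' := ((algebraMap A' B').comp (algebraMap (A ⧸ J) A')).toAlgebra
    have : IsScalarTower (A ⧸ J) A' B' := IsScalarTower.of_algebraMap_eq fun a => rfl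
    have : IsScalarTower A (A ⧸ J) B' := IsScalarTower.of_algebraMap_eq fun a => by
      rw [IsScalarTower.algebraMap_apply A A' B']
      rfl
    let φ : Bb →ₐ[A] B' := Algebra.pushoutDesc Bb (IsScalarTower.toAlgHom A B B')
      (IsScalarTower.toAlgHom A (A ⧸ J) B') (fun x y => mul_comm _ _)
    let : Algebra Bb B' := φ.toRingHom.toAlgebra
    have : IsScalarTower B Bb B' := IsScalarTower.of_algebraMap_eq fun b => by
      exact (Algebra.pushoutDesc_left Bb (IsScalarTower.toAlgHom A B B')
        (IsScalarTower.toAlgHom A (A ⧸ J) B') (fun x y => mul_comm _ _) b).symm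
    have : IsScalarTower (A ⧸ J) Bb B' := IsScalarTower.of_algebraMap_eq fun b => by
      exact (Algebra.pushoutDesc_right Bb (IsScalarTower.toAlgHom A B B')
        (IsScalarTower.toAlgHom A (A ⧸ J) B') (fun x y => mul_comm _ _) b).symm
    have : IsScalarTower A Bb B' := IsScalarTower.of_algebraMap_eq fun a => by
      rw [IsScalarTower.algebraMap_apply A B Bb, ← IsScalarTower.algebraMap_apply B Bb B',
        ← IsScalarTower.algebraMap_apply A B B']
    let : Module Bb M' := Module.compHom M' (algebraMap Bb B')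
    have : IsScalarTower Bb B' M' := ⟨fun x y z => by
      rw [Algebra.smul_def, mul_smul]
      rfl⟩
    have : IsScalarTower B Bb M' := ⟨fun x y z => by
      change algebraMap Bb B' (x • y) • z = x • (algebraMap Bb B' y • z)
      rw [Algebra.smul_def, map_mul, ← IsScalarTower.algebraMap_apply, mul_smul, algebraMap_smul]⟩
    rw [flatAbove_iff_of_surjective (A := A) (Ab := A ⧸ J) (B := B) (Bb := Bb) (M' := M')
      Ideal.Quotient.mk_surjective g hg f hf Ib h]
    have hI : Ib = (Ib.comap (Ideal.Quotient.mk J)).map (Ideal.Quotient.mk J) :=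
      (Ideal.map_comap_of_surjective _ Ideal.Quotient.mk_surjective Ib).symm
    have h3 : Ib.map (algebraMap (A ⧸ J) A') =
        (Ib.comap (Ideal.Quotient.mk J)).map (algebraMap A A') := by
      conv_lhs => rw [hI]
      rw [Ideal.map_map]
      rfl
    rw [h3]
  constructor
  · intro hF
    exact (key (hJ A' B' M' f hf hF)).1 hF
  · intro hI
    refine (key ?_).2 hI
    rw [eq_bot_iff, ← hI]
    apply Ideal.map_mono
    intro a ha
    rw [Ideal.mem_comap, Ideal.Quotient.eq_zero_iff_mem.2 ha]
    exact Ib.zero_mem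

end Groth.Agent.Flat2A.LocFun
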