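import Groth.Agent.Flat2A.LocFlatCoker
import Groth.Agent.Flat2A.ContentIdeal
import Groth.Agent.Flat2A.LocFunQuot
import Groth.Agent.Divis.FlatExt
import Groth.Agent.Flat2C.FlatAtCriterion

/-!
# The step theorem for the local flatness functor
-/

set_option autoImplicit false
universe u

namespace Groth.Agent.Flat2A.LocFun

open IsLocalRing TensorProduct

theorem lTensor_injective_of_ker {A P M : Type u} [CommRing A] [AddCommGroup P] [Module A P]
    [AddCommGroup M] [Module A M] (α : P →ₗ[A] M) [Module.Flat A (M ⧸ LinearMap.range α)]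
    (Q : Type u) [AddCommGroup Q] [Module A Q]
    (hK : ∀ x, α x = 0 → ∀ c : Q, c ⊗ₜ[A] x = 0) : Function.Injective (α.lTensor Q) := by
  have h1 : Function.Injective ((LinearMap.range α).subtype.lTensor Q) :=
    Divis.FlatExt.lTensor_injective_of_flat (Submodule.subtype_injective _)
      (LinearMap.exact_subtype_mkQ _) (Submodule.mkQ_surjective _) Q
  have h2 : Function.Injective (α.rangeRestrict.lTensor Q) := by
    have hex : Function.Exact (LinearMap.ker α).subtype α.rangeRestrict := by
      rw [LinearMap.exact_iff, LinearMap.ker_rangeRestrict, Submodule.range_subtype]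
    have hex' := lTensor_exact Q hex α.surjective_rangeRestrict
    rw [injective_iff_map_eq_zero]
    intro x hx
    obtain ⟨y, rfl⟩ := (hex' x).mp hx
    induction y using TensorProduct.induction_on with
    | zero => exact map_zero _
    | add y z hy hz =>
      have h3 : (LinearMap.ker α).subtype.lTensor Q y = 0 := by
        apply hy
        rw [← LinearMap.comp_apply, ← LinearMap.lTensor_comp]
        have : α.rangeRestrict ∘ₗ (LinearMap.ker α).subtype = 0 := by
          ext w
          exact w.2
        rw [this, LinearMap.lTensor_zero, LinearMap.zero_apply]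
      have h4 : (LinearMap.ker α).subtype.lTensor Q z = 0 := by
        apply hz
        rw [← LinearMap.comp_apply, ← LinearMap.lTensor_comp]
        have : α.rangeRestrict ∘ₗ (LinearMap.ker α).subtype = 0 := by
          ext w
          exact w.2
        rw [this, LinearMap.lTensor_zero, LinearMap.zero_apply]
      rw [map_add, h3, h4, add_zero]
    | tmul c w =>
      rw [LinearMap.lTensor_tmul]
      exact hK w w.2 c
  have h3 : α.lTensor Q = ((LinearMap.range α).subtype.lTensor Q) ∘ₗ
      (α.rangeRestrict.lTensor Q) := by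
    rw [← LinearMap.lTensor_comp]
    rfl
  rw [h3, LinearMap.coe_comp]
  exact h1.comp h2

theorem flat_baseChange_of_ker {A P M A' : Type u} [CommRing A] [CommRing A'] [Algebra A A']
    [AddCommGroup P] [Module A P] [Module.Flat A P]
    [AddCommGroup M] [Module A M] (α : P →ₗ[A] M) [Module.Flat A (M ⧸ LinearMap.range α)]
    (hK : ∀ x, α x = 0 → ∀ c : A', c ⊗ₜ[A] x = 0) : Module.Flat A' (A' ⊗[A] M) := by
  have h1 : Function.Injective (α.baseChange A') := lTensor_injective_of_ker α A' hK
  have hex : Function.Exact α (LinearMap.range α).mkQ := by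
    rw [LinearMap.exact_iff, Submodule.ker_mkQ]
  have h2 : Function.Exact (α.baseChange A') ((LinearMap.range α).mkQ.baseChange A') :=
    lTensor_exact A' hex (Submodule.mkQ_surjective _)
  have h3 : Function.Surjective ((LinearMap.range α).mkQ.baseChange A') :=
    LinearMap.lTensor_surjective A' (Submodule.mkQ_surjective _)
  exact Divis.FlatExt.flat_of_exact h1 h2 h3

theorem tmul_eq_zero_of_mem {A P A' : Type u} [CommRing A] [CommRing A'] [Algebra A A']
    [AddCommGroup P] [Module A P] (I : Ideal A) (hI : I.map (algebraMap A A') = ⊥) (x : P)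
    (hx : x ∈ (I • ⊤ : Submodule A P)) (c : A') : c ⊗ₜ[A] x = 0 := by
  induction hx using Submodule.smul_induction_on' with
  | smul a ha m _ =>
    have h3 : algebraMap A A' a = 0 := by
      have h4 := Ideal.mem_map_of_mem (algebraMap A A') ha
      rw [hI] at h4
      exact h4
    rw [TensorProduct.tmul_smul, TensorProduct.smul_tmul', Algebra.smul_def, h3, zero_mul,
      TensorProduct.zero_tmul]
  | add y _ z _ hy hz => rw [TensorProduct.tmul_add, hy, hz, add_zero]

theorem flatAbove_of_flat {B A' B' M' : Type u} [CommRing B] [IsLocalRing B] [CommRing A']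
    [IsLocalRing A'] [CommRing B'] [Algebra A' B'] [Algebra B B'] [AddCommGroup M'] [Module B' M']
    [Module A' M'] [IsScalarTower A' B' M'] [Module.Flat A' M'] :
    FlatCA.FlatAboveClosedPoints B A' B' M' := by
  intro q _ _
  rw [Flat2C.FlatAtCriterion.flatAt_iff]
  intro I x hx
  refine ⟨1, q.one_notMem, ?_⟩
  rw [one_smul]
  have h := Module.Flat.lTensor_preserves_injective_linearMap (M := M') I.subtype
    (Submodule.subtype_injective I)
  exact h (by rw [hx, map_zero])

theorem flatAbove_iff_tensor {B A' B' M M' : Type u} [CommRing B] [IsLocalRing B] [CommRing A']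
    [IsLocalRing A'] [CommRing B'] [Algebra A' B'] [Algebra B B'] [AddCommGroup M] [Module B M]
    [AddCommGroup M'] [Module B' M'] [Module B M'] [IsScalarTower B B' M']
    [Module A' M'] [IsScalarTower A' B' M'] (f : M →ₗ[B] M') (hf : IsBaseChange B' f) :
    FlatCA.FlatAboveClosedPoints B A' B' M' ↔
      FlatCA.FlatAboveClosedPoints B A' B' (B' ⊗[B] M) := by
  constructor
  · intro h q _ hq
    exact (Flat2C.FlatAtCriterion.flatAt_congr q hf.equiv).mpr (h q hq)
  · intro h q _ hq
    exact (Flat2C.FlatAtCriterion.flatAt_congr q hf.equiv).mp (h q hq)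

/-- The step theorem: the cokernel is flat. -/
theorem exists_corep_of_flat_coker {A D : Type u} [CommRing A] [IsLocalRing A] [CommRing D]
    [IsLocalRing D] [Algebra A D] [IsLocalHom (algebraMap A D)] [Algebra.EssFiniteType A D]
    {P M : Type u} [AddCommGroup P] [Module A P] [Module D P] [IsScalarTower A D P]
    [Module.Finite D P] [Module.Flat A P] (hML : CAlg.IsMittagLeffler A P)
    [AddCommGroup M] [Module A M] [Module D M] [IsScalarTower A D M]
    (α : P →ₗ[D] M) (hα : Function.Injective ((α.restrictScalars A).lTensor (ResidueField A)))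
    [hC : Module.Flat A (M ⧸ LinearMap.range α)] : ∃ I : Ideal A, Corep A D M I := by
  have hcont := fun x : P => ContentIdeal.exists_content (A := A) (D := D) (P := P) hML x
  choose I hIfg hxI hI using hcont
  refine ⟨⨆ x : LinearMap.ker α, I x, ?_⟩
  intro A' D' M' _ _ _ _ _ _ _ _ _ _ _ _ _ _ _ _ _ f hf
  rw [flatAbove_iff_tensor f hf]
  constructor
  · intro h
    rw [Ideal.map_iSup, iSup_eq_bot]
    intro x
    refine hI x A' D' (D' ⊗[D] P) (TensorProduct.mk D D' P 1)
      (TensorProduct.isBaseChange D P D') ?_
    intro q _ hq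
    obtain ⟨h1, -⟩ := LocStep.flatAt_coker (A := A) (A' := A') (D' := D') α hα q
      (le_sup_left.trans hq) (h q hq)
    refine h1 _ ?_
    rw [TensorProduct.mk_apply, LinearMap.baseChange_tmul, x.2, TensorProduct.tmul_zero]
  · intro h
    have hpo : Algebra.IsPushout A A' D D' := Algebra.IsPushout.symm inferInstance
    have hK : ∀ x, (α.restrictScalars A) x = 0 → ∀ c : A', c ⊗ₜ[A] x = 0 := by
      intro x hx c
      have h1 : (I x).map (algebraMap A A') = ⊥ := by
        rw [eq_bot_iff, ← h]
        exact Ideal.map_mono (le_iSup (fun x : LinearMap.ker α => I x) ⟨x, hx⟩)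
      exact tmul_eq_zero_of_mem (I x) h1 x (hxI x) c
    have hC' : Module.Flat A (M ⧸ LinearMap.range (α.restrictScalars A)) := by
      exact hC
    have h1 : Module.Flat A' (A' ⊗[A] M) := flat_baseChange_of_ker (α.restrictScalars A) hK
    have h2 : Module.Flat A' (D' ⊗[D] M) :=
      Module.Flat.of_linearEquiv (Algebra.IsPushout.cancelBaseChange A A' D D' M)
    exact flatAbove_of_flat

end Groth.Agent.Flat2A.LocFun
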