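import Mathlib.RingTheory.Etale.QuasiFinite
import Mathlib.RingTheory.Etale.Basic
import Mathlib.RingTheory.Smooth.Flat
import Mathlib.RingTheory.RingHom.Flat
import Mathlib.RingTheory.Flat.Localization
import Mathlib.RingTheory.Localization.Integral
import Mathlib.RingTheory.Ideal.GoingUp
import Mathlib.RingTheory.LocalRing.RingHom.Basic

/-!
# Splitting off a finite local algebra after an etale extension

If `P → S` is quasi-finite at `q` (over `y`) and `B = S_q`, there is an etale `P`-algebra `D₁` with a
prime `z` over `y`, and a local ring `X` finite over `D = (D₁)_z` and flat local over `B`.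
-/

set_option autoImplicit false
universe u

namespace Groth.Agent.Flat2A.LocDev

open IsLocalRing TensorProduct

theorem exists_etale_finite {P S B : Type u} [CommRing P] [CommRing S] [CommRing B]
    [IsLocalRing B] [Algebra P S] [Algebra S B] [Algebra P B] [IsScalarTower P S B]
    [Algebra.FiniteType P S] (y : Ideal P) [y.IsPrime] (q : Ideal S) [q.IsPrime] [q.LiesOver y]
    [IsLocalization.AtPrime B q] [Algebra.QuasiFiniteAt P q] :
    ∃ (D₁ : Type u) (_ : CommRing D₁) (_ : Algebra P D₁) (_ : Algebra.Etale P D₁)
      (z : Ideal D₁) (_ : z.IsPrime) (_ : z.LiesOver y)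
      (X : Type u) (_ : CommRing X) (_ : IsLocalRing X) (_ : Algebra (Localization.AtPrime z) X)
      (_ : Algebra P X) (_ : Algebra B X) (_ : IsScalarTower P B X)
      (_ : IsScalarTower P (Localization.AtPrime z) X),
      Module.Finite (Localization.AtPrime z) X ∧
      IsLocalHom (algebraMap (Localization.AtPrime z) X) ∧
      Module.Flat B X ∧ IsLocalHom (algebraMap B X) := by
  obtain ⟨R', i1, i2, i3, P₁, i4, i5, e, he, P', i6, i7, hP'q, heP', hbij, hfin, huniq⟩ :=
    Algebra.exists_etale_isIdempotentElem_forall_liesOver_eq y q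
  let W := R' ⊗[P] S
  let E := Localization.Away e
  let M : Submonoid E := Algebra.algebraMapSubmonoid E P₁.primeCompl
  let X := Localization M
  let D := Localization.AtPrime P₁
  have hfinX : Module.Finite D X := Module.Finite.of_isLocalization R' E P₁.primeCompl
  -- `X` is nontrivial
  have hnt : Nontrivial X := by
    let κ := P'.ResidueField
    let f₀ : W →+* κ := algebraMap W κ
    have hf₀ : IsUnit (f₀ e) := by
      rw [isUnit_iff_ne_zero]
      intro h0
      exact heP' (by rwa [← Ideal.algebraMap_residueField_eq_zero])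
    let f₁ : E →+* κ := IsLocalization.Away.lift e hf₀
    have hf₁ : ∀ m : M, IsUnit (f₁ m) := by
      rintro ⟨_, r, hr, rfl⟩
      rw [isUnit_iff_ne_zero]
      intro h0
      apply hr
      have h1 : f₁ (algebraMap W E (algebraMap R' W r)) = f₀ (algebraMap R' W r) :=
        IsLocalization.Away.lift_eq e hf₀ _
      have h2 : f₀ (algebraMap R' W r) = 0 := by
        rw [← h1, ← h0]; rfl
      have h3 : algebraMap R' W r ∈ P' := by
        rwa [← Ideal.algebraMap_residueField_eq_zero]
      rw [SetLike.mem_coe, P'.over_def P₁]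
      exact h3
    exact (IsLocalization.lift (M := M) (S := X) hf₁).domain_nontrivial
  -- prime ideals of `X` over the maximal ideal of `D`
  have hprime : ∀ Q : Ideal X, Q.IsPrime → Q.comap (algebraMap D X) = maximalIdeal D →
      (Q.comap (algebraMap E X)).comap (algebraMap W E) = P' := by
    intro Q hQ hQD
    refine huniq _ inferInstance ⟨?_⟩ ?_
    · have h1 : Ideal.comap (algebraMap R' D) (maximalIdeal D) = P₁ :=
        Localization.AtPrime.under_maximalIdeal
      rw [← h1, ← hQD]
      ext r
      rw [Ideal.mem_comap, Ideal.mem_comap, ← IsScalarTower.algebraMap_apply R' D X]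
      rfl
    · intro hmem
      have hu : IsUnit (algebraMap E X (algebraMap W E e)) :=
        (IsLocalization.Away.algebraMap_isUnit e).map _
      exact hQ.ne_top (Ideal.eq_top_of_isUnit_mem _ hmem hu)
  have hmaxcomap : ∀ Q : Ideal X, Q.IsMaximal → Q.comap (algebraMap D X) = maximalIdeal D := by
    intro Q hQ
    have : Algebra.IsIntegral D X := inferInstance
    have : (Q.comap (algebraMap D X)).IsMaximal :=
      Ideal.isMaximal_comap_of_isIntegral_of_isMaximal (R := D) Q
    exact IsLocalRing.eq_maximalIdeal this
  have hinj : ∀ Q Q' : Ideal X, Q.IsPrime → Q'.IsPrime →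
      (Q.comap (algebraMap E X)).comap (algebraMap W E) =
        (Q'.comap (algebraMap E X)).comap (algebraMap W E) → Q = Q' := by
    intro Q Q' hQ hQ' h
    have h1 := PrimeSpectrum.localization_comap_injective E (.powers e)
      (a₁ := ⟨Q.comap (algebraMap E X), inferInstance⟩)
      (a₂ := ⟨Q'.comap (algebraMap E X), inferInstance⟩) (PrimeSpectrum.ext h)
    have h2 := PrimeSpectrum.localization_comap_injective X M
      (a₁ := ⟨Q, inferInstance⟩)
      (a₂ := ⟨Q', inferInstance⟩) (PrimeSpectrum.ext (congrArg PrimeSpectrum.asIdeal h1))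
    exact congrArg PrimeSpectrum.asIdeal h2
  have hloc : IsLocalRing X := by
    obtain ⟨Q₀, hQ₀⟩ := Ideal.exists_maximal X
    refine IsLocalRing.of_unique_max_ideal ⟨Q₀, hQ₀, fun Q hQ => ?_⟩
    exact hinj _ _ hQ.isPrime hQ₀.isPrime
      ((hprime _ hQ.isPrime (hmaxcomap _ hQ)).trans
        (hprime _ hQ₀.isPrime (hmaxcomap _ hQ₀)).symm)
  have hmD : (maximalIdeal X).comap (algebraMap D X) = maximalIdeal D :=
    hmaxcomap _ (maximalIdeal.isMaximal X)
  have hmW : ((maximalIdeal X).comap (algebraMap E X)).comap (algebraMap W E) = P' :=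
    hprime _ (maximalIdeal.isMaximal X).isPrime hmD
  have hDX : IsLocalHom (algebraMap D X) := by
    refine ⟨fun d hd => ?_⟩
    by_contra hnu
    have : d ∈ (maximalIdeal X).comap (algebraMap D X) := by
      rw [hmD]; exact (mem_maximalIdeal _).mpr hnu
    exact (mem_maximalIdeal _).mp this hd
  -- the map from `S` and from `B`
  let fS : S →+* X :=
    ((algebraMap E X).comp (algebraMap W E)).comp
      (Algebra.TensorProduct.includeRight : S →ₐ[P] W).toRingHom
  have hfS : ∀ s : S, fS s ∈ maximalIdeal X ↔ s ∈ q := by
    intro s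
    rw [← hP'q, ← hmW]
    rfl
  have hfSu : ∀ s : q.primeCompl, IsUnit (fS s) := by
    intro s
    by_contra hnu
    exact s.2 ((hfS s).mp ((mem_maximalIdeal _).mpr hnu))
  let g : B →+* X := IsLocalization.lift hfSu
  have hg : ∀ s : S, g (algebraMap S B s) = fS s := fun s => IsLocalization.lift_eq hfSu s
  let : Algebra S X := fS.toAlgebra
  let : Algebra B X := g.toAlgebra
  have hSBX : IsScalarTower S B X := IsScalarTower.of_algebraMap_eq (fun s => (hg s).symm)
  have hPBX : IsScalarTower P B X := by
    refine IsScalarTower.of_algebraMap_eq (fun x => ?_)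
    change algebraMap P X x = g (algebraMap P B x)
    rw [IsScalarTower.algebraMap_apply P S B, hg]
    change algebraMap P X x = algebraMap E X (algebraMap W E (1 ⊗ₜ[P] algebraMap P S x))
    have h1 : (1 : R') ⊗ₜ[P] algebraMap P S x = algebraMap P W x := by
      rw [Algebra.TensorProduct.algebraMap_apply, Algebra.algebraMap_eq_smul_one,
        Algebra.algebraMap_eq_smul_one, TensorProduct.tmul_smul, TensorProduct.smul_tmul']
    rw [h1]
    rfl
  have hPDX : IsScalarTower P D X := by
    refine IsScalarTower.of_algebraMap_eq (fun x => ?_)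
    rw [IsScalarTower.algebraMap_apply P R' D, ← IsScalarTower.algebraMap_apply R' D X,
      ← IsScalarTower.algebraMap_apply P R' X]
  have hflatS : Module.Flat S X := by
    change fS.Flat
    have hflatR' : Module.Flat P R' := inferInstance
    have h1 : (Algebra.TensorProduct.includeRight : S →ₐ[P] W).toRingHom.Flat := by
      have h2 : (algebraMap S (S ⊗[P] R')).Flat := by
        rw [RingHom.flat_algebraMap_iff]
        infer_instance
      have h3 : ((Algebra.TensorProduct.comm P S R').toRingEquiv : S ⊗[P] R' →+* W).Flat :=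
        RingHom.Flat.of_bijective (Algebra.TensorProduct.comm P S R').bijective
      have h4 : (Algebra.TensorProduct.includeRight : S →ₐ[P] W).toRingHom =
          ((Algebra.TensorProduct.comm P S R').toRingEquiv : S ⊗[P] R' →+* W).comp
            (algebraMap S (S ⊗[P] R')) := by
        ext s
        rfl
      rw [h4]
      exact RingHom.Flat.comp h2 h3
    have h5 : (algebraMap W E).Flat := by
      rw [RingHom.flat_algebraMap_iff]
      exact IsLocalization.flat E (.powers e)
    have h6 : (algebraMap E X).Flat := by
      rw [RingHom.flat_algebraMap_iff]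
      exact IsLocalization.flat X M
    exact RingHom.Flat.comp h1 (RingHom.Flat.comp h5 h6)
  have hflatB : Module.Flat B X :=
    (Module.flat_iff_of_isLocalization B q.primeCompl X).mpr hflatS
  have hBX : IsLocalHom (algebraMap B X) := by
    refine ⟨fun b hb => ?_⟩
    obtain ⟨s, t, rfl⟩ := IsLocalization.exists_mk'_eq q.primeCompl b
    by_contra hnu
    have hs : s ∈ q := by
      by_contra hs
      exact hnu ((IsLocalization.AtPrime.isUnit_mk'_iff B q s t).mpr hs)
    have h1 : fS s ∈ maximalIdeal X := (hfS s).mpr hs
    apply (mem_maximalIdeal _).mp h1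
    have h2 : g (IsLocalization.mk' B s t) * fS t = fS s := by
      rw [← hg, ← map_mul, IsLocalization.mk'_spec, hg]
    rw [← h2]
    exact hb.mul (hfSu t)
  exact ⟨R', i1, i2, i3, P₁, i4, i5, X, inferInstance, hloc, inferInstance, inferInstance,
    g.toAlgebra, hPBX, hPDX, hfinX, hDX, hflatB, hBX⟩

end Groth.Agent.Flat2A.LocDev
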