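import Mathlib.RingTheory.EssentialFiniteness
import Mathlib.RingTheory.LocalRing.ResidueField.Basic
import Mathlib.RingTheory.LocalRing.RingHom.Basic
import Mathlib.RingTheory.Localization.AtPrime.Basic
import Mathlib.RingTheory.AlgebraicIndependent.TranscendenceBasis
import Mathlib.RingTheory.Polynomial.Basic
import Mathlib.Algebra.Polynomial.Lifts

/-!
# Finite type models and polynomial rings of parameters
-/

set_option autoImplicit false
universe u

namespace Groth.Agent.Flat2A.LocDev

open IsLocalRing

/-- A finite type subalgebra containing a given finite set, with localization the whole ring. -/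
theorem exists_model (A B : Type u) [CommRing A] [CommRing B] [IsLocalRing B] [Algebra A B]
    [Algebra.EssFiniteType A B] (s : Set B) (hs : s.Finite) :
    ∃ S : Subalgebra A B, s ⊆ S ∧ Algebra.FiniteType A S ∧
      IsLocalization.AtPrime B ((maximalIdeal B).comap (algebraMap S B)) := by
  classical
  let σ : Finset B := Algebra.EssFiniteType.finset A B ∪ hs.toFinset
  have h0 := (Algebra.essFiniteType_cond_iff A B (Algebra.EssFiniteType.finset A B)).mp
    (Algebra.EssFiniteType.isLocalization (R := A) (S := B))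
  have hle : Algebra.adjoin A (Algebra.EssFiniteType.finset A B : Set B) ≤
      Algebra.adjoin A (σ : Set B) :=
    Algebra.adjoin_mono (by simp [σ])
  have h1 : IsLocalization
      ((IsUnit.submonoid B).comap (algebraMap (Algebra.adjoin A (σ : Set B)) B)) B := by
    rw [Algebra.essFiniteType_cond_iff]
    intro x
    obtain ⟨t, ht, htu, hxt⟩ := h0 x
    exact ⟨t, hle ht, htu, hle hxt⟩
  refine ⟨Algebra.adjoin A (σ : Set B), ?_, ?_, ?_⟩
  · intro x hx
    exact Algebra.subset_adjoin (by simp [σ, hx])
  · exact (Subalgebra.fg_iff_finiteType _).mp ⟨σ, rfl⟩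
  · have h2 : ((maximalIdeal B).comap
        (algebraMap (Algebra.adjoin A (σ : Set B)) B)).primeCompl =
        (IsUnit.submonoid B).comap (algebraMap (Algebra.adjoin A (σ : Set B)) B) := by
      ext x
      change ¬ (algebraMap _ B x ∈ maximalIdeal B) ↔ IsUnit (algebraMap _ B x)
      rw [mem_maximalIdeal, mem_nonunits_iff, not_not]
    change IsLocalization _ B
    rw [h2]
    exact h1

section

variable {A B : Type u} [CommRing A] [IsLocalRing A] [CommRing B] [IsLocalRing B] [Algebra A B]
  [IsLocalHom (algebraMap A B)]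

/-- Elements of the residue field of `B` are algebraic over the polynomial ring of parameters. -/
theorem exists_poly {d N : ℕ} (b : Fin d → B) (T : Fin N → B) (hbT : ∀ i, ∃ j, T j = b i)
    (hb : IsTranscendenceBasis (ResidueField A) (fun i => residue B (b i)))
    (z : ResidueField B) :
    ∃ p : Polynomial (MvPolynomial (Fin N) A),
      p.map ((residue B).comp ((MvPolynomial.aeval T : MvPolynomial (Fin N) A →ₐ[A] B) :
        MvPolynomial (Fin N) A →+* B)) ≠ 0 ∧
      Polynomial.eval₂ ((residue B).comp ((MvPolynomial.aeval T : MvPolynomial (Fin N) A →ₐ[A] B) :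
        MvPolynomial (Fin N) A →+* B)) z p = 0 := by
  set ψ : MvPolynomial (Fin N) A →+* ResidueField B :=
    (residue B).comp ((MvPolynomial.aeval T : MvPolynomial (Fin N) A →ₐ[A] B) :
        MvPolynomial (Fin N) A →+* B) with hψ
  let R : Subalgebra (ResidueField A) (ResidueField B) :=
    { ψ.range with
      algebraMap_mem' := by
        intro r
        obtain ⟨a, rfl⟩ := residue_surjective r
        refine ⟨MvPolynomial.C a, ?_⟩
        change residue B (MvPolynomial.aeval T (MvPolynomial.C a)) = _
        rw [MvPolynomial.aeval_C]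
        rfl }
  have hR : Algebra.adjoin (ResidueField A) (Set.range (fun i => residue B (b i))) ≤ R := by
    rw [Algebra.adjoin_le_iff]
    rintro _ ⟨i, rfl⟩
    obtain ⟨j, hj⟩ := hbT i
    refine ⟨MvPolynomial.X j, ?_⟩
    change residue B (MvPolynomial.aeval T (MvPolynomial.X j)) = _
    rw [MvPolynomial.aeval_X, hj]
  have halg := hb.isAlgebraic
  obtain ⟨p₀, hp₀, hz⟩ := halg.isAlgebraic z
  let S := Algebra.adjoin (ResidueField A) (Set.range (fun i => residue B (b i)))
  have hmem : p₀.map (algebraMap S (ResidueField B)) ∈ Polynomial.lifts ψ := by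
    rw [Polynomial.lifts_iff_coeff_lifts]
    intro n
    rw [Polynomial.coeff_map]
    exact hR (p₀.coeff n).2
  obtain ⟨p, hp⟩ := (Polynomial.mem_lifts _).mp hmem
  refine ⟨p, ?_, ?_⟩
  · rw [hp]
    rwa [Ne, Polynomial.map_eq_zero_iff (FaithfulSMul.algebraMap_injective S (ResidueField B))]
  · rw [← Polynomial.eval_map, hp, Polynomial.eval_map]
    exact hz

/-- The prime of the polynomial ring of parameters. -/
theorem comap_le {d n : ℕ} (b : Fin d → B) (c : Fin n → B)
    (hb : AlgebraicIndependent (ResidueField A) (fun i => residue B (b i)))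
    (hc : ∀ j, c j ∈ maximalIdeal B) :
    (maximalIdeal B).comap ((MvPolynomial.aeval (Sum.elim b c ∘ finSumFinEquiv.symm) :
        MvPolynomial (Fin (d + n)) A →ₐ[A] B) : MvPolynomial (Fin (d + n)) A →+* B) ≤
      (maximalIdeal A).map (algebraMap A (MvPolynomial (Fin (d + n)) A)) ⊔
        Ideal.span (Set.range (fun j : Fin n => MvPolynomial.X (finSumFinEquiv (Sum.inr j)))) := by
  set T : Fin (d + n) → B := Sum.elim b c ∘ finSumFinEquiv.symm with hT
  set J : Ideal (MvPolynomial (Fin (d + n)) A) :=
    Ideal.span (Set.range (fun j : Fin n => MvPolynomial.X (finSumFinEquiv (Sum.inr j)))) with hJ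
  let σ₁ : MvPolynomial (Fin (d + n)) A →ₐ[A] MvPolynomial (Fin d) A :=
    MvPolynomial.aeval (Sum.elim MvPolynomial.X (fun _ => 0) ∘ finSumFinEquiv.symm)
  let σ₂ : MvPolynomial (Fin d) A →ₐ[A] MvPolynomial (Fin (d + n)) A :=
    MvPolynomial.rename (finSumFinEquiv ∘ Sum.inl)
  have h1 : ∀ p, p - σ₂ (σ₁ p) ∈ J := by
    intro p
    have h : Ideal.Quotient.mkₐ A J = (Ideal.Quotient.mkₐ A J).comp (σ₂.comp σ₁) := by
      refine MvPolynomial.algHom_ext (fun i => ?_)
      obtain ⟨i, rfl⟩ := finSumFinEquiv.surjective i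
      rcases i with i | j
      · simp [σ₁, σ₂]
      · simp only [σ₁, σ₂, AlgHom.comp_apply, MvPolynomial.aeval_X, Function.comp_apply,
          Equiv.symm_apply_apply, Sum.elim_inr, map_zero]
        exact Ideal.Quotient.eq_zero_iff_mem.mpr (Ideal.subset_span ⟨j, rfl⟩)
    have h2 := AlgHom.congr_fun h p
    exact (Ideal.Quotient.mk_eq_mk_iff_sub_mem _ _).mp h2
  have hJy : ∀ p ∈ J, MvPolynomial.aeval T p ∈ maximalIdeal B := by
    have h : J ≤ (maximalIdeal B).comap ((MvPolynomial.aeval T :
        MvPolynomial (Fin (d + n)) A →ₐ[A] B) : MvPolynomial (Fin (d + n)) A →+* B) := by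
      rw [hJ, Ideal.span_le]
      rintro _ ⟨j, rfl⟩
      change MvPolynomial.aeval T (MvPolynomial.X (finSumFinEquiv (Sum.inr j))) ∈ maximalIdeal B
      rw [MvPolynomial.aeval_X]
      simpa [hT] using hc j
    exact fun p hp => h hp
  intro p hp
  change MvPolynomial.aeval T p ∈ maximalIdeal B at hp
  have h2 : MvPolynomial.aeval b (σ₁ p) ∈ maximalIdeal B := by
    have h3 : MvPolynomial.aeval T (σ₂ (σ₁ p)) = MvPolynomial.aeval b (σ₁ p) := by
      simp only [σ₂, MvPolynomial.aeval_rename]
      congr 1
      congr 1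
      funext i
      simp [hT]
    rw [← h3]
    have h4 := hJy _ (h1 p)
    rw [map_sub] at h4
    have h5 := Ideal.sub_mem _ hp h4
    rwa [sub_sub_cancel] at h5
  have h3 : MvPolynomial.map (residue A) (σ₁ p) = 0 := by
    rw [AlgebraicIndependent, injective_iff_map_eq_zero] at hb
    apply hb
    have h4 : ∀ q : MvPolynomial (Fin d) A,
        MvPolynomial.aeval (fun i => residue B (b i)) (MvPolynomial.map (residue A) q) =
        residue B (MvPolynomial.aeval b q) := by
      intro q
      induction q using MvPolynomial.induction_on with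
      | C a =>
        rw [MvPolynomial.map_C, MvPolynomial.aeval_C, MvPolynomial.aeval_C]
        rfl
      | add p q hp hq => rw [map_add, map_add, map_add, map_add, hp, hq]
      | mul_X p i hp => 
        rw [map_mul, map_mul, map_mul, map_mul, hp, MvPolynomial.map_X, MvPolynomial.aeval_X,
          MvPolynomial.aeval_X]
    rw [h4]
    exact (residue_eq_zero_iff _).mpr h2
  have h4 : σ₁ p ∈ (maximalIdeal A).map (MvPolynomial.C : A →+* MvPolynomial (Fin d) A) := by
    rw [MvPolynomial.mem_map_C_iff]
    intro m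
    have h5 := congrArg (MvPolynomial.coeff m) h3
    rw [MvPolynomial.coeff_map, MvPolynomial.coeff_zero] at h5
    exact (residue_eq_zero_iff _).mp h5
  have h5 : σ₂ (σ₁ p) ∈ (maximalIdeal A).map (algebraMap A (MvPolynomial (Fin (d + n)) A)) := by
    have h6 := Ideal.mem_map_of_mem
      (σ₂ : MvPolynomial (Fin d) A →+* MvPolynomial (Fin (d + n)) A) h4
    rw [Ideal.map_map] at h6
    have h7 : (σ₂ : MvPolynomial (Fin d) A →+* MvPolynomial (Fin (d + n)) A).comp
        MvPolynomial.C = algebraMap A (MvPolynomial (Fin (d + n)) A) := by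
      ext a
      simp
    rw [h7] at h6
    exact h6
  have h6 := Submodule.add_mem_sup h5 (h1 p)
  rwa [add_sub_cancel] at h6

end

end Groth.Agent.Flat2A.LocDev
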