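import Mathlib.RingTheory.ZariskisMainTheorem
import Mathlib.RingTheory.Finiteness.NilpotentKer
import Mathlib.FieldTheory.IntermediateField.Adjoin.Algebra
import Mathlib.RingTheory.EssentialFiniteness
import Mathlib.RingTheory.LocalRing.ResidueField.Basic
import Mathlib.RingTheory.LocalRing.ResidueField.Ideal
import Mathlib.RingTheory.LocalRing.RingHom.Basic

/-!
# Quasi-finiteness of a local ring over a polynomial ring of parameters
-/

set_option autoImplicit false
universe u

namespace Groth.Agent.Flat2A.LocDev

open IsLocalRing Polynomial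

/-- the quotient by the ideal generated by the prime `y` is quasi-finite -/
theorem quasiFinite_quotient {P B : Type u} [CommRing P] [CommRing B] [IsLocalRing B] [Algebra P B]
    [Algebra.EssFiniteType P B]
    (y : Ideal P) [y.IsPrime] (hy : y = (maximalIdeal B).comap (algebraMap P B))
    (hN : ((maximalIdeal B).map (Ideal.Quotient.mk (y.map (algebraMap P B)))).FG)
    (hnil : ∀ x ∈ maximalIdeal B, ∃ r : ℕ, x ^ r ∈ y.map (algebraMap P B))
    (halg : ∀ z : ResidueField B, ∃ p : P[X], p.map (algebraMap P (ResidueField B)) ≠ 0 ∧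
      eval₂ (algebraMap P (ResidueField B)) z p = 0) :
    Algebra.QuasiFinite P (B ⧸ y.map (algebraMap P B)) := by
  have hle : y.map (algebraMap P B) ≤ maximalIdeal B :=
    Ideal.map_le_iff_le_comap.mpr hy.le
  have hf₁ : y ≤ RingHom.ker (algebraMap P (B ⧸ y.map (algebraMap P B))) := by
    intro x hx
    rw [RingHom.mem_ker, IsScalarTower.algebraMap_apply P B (B ⧸ y.map (algebraMap P B))]
    exact Ideal.Quotient.eq_zero_iff_mem.mpr (Ideal.mem_map_of_mem _ hx)
  have hf₂ : y.primeCompl ≤
      (IsUnit.submonoid (B ⧸ y.map (algebraMap P B))).comap (algebraMap P _) := by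
    intro x hx
    change IsUnit (algebraMap P (B ⧸ y.map (algebraMap P B)) x)
    rw [IsScalarTower.algebraMap_apply P B (B ⧸ y.map (algebraMap P B))]
    refine IsUnit.map _ ?_
    by_contra hu
    exact hx (by rw [hy]; exact (mem_maximalIdeal _).mpr hu)
  let φ : y.ResidueField →+* (B ⧸ y.map (algebraMap P B)) :=
    Ideal.ResidueField.lift y (algebraMap P _) hf₁ hf₂
  let : Algebra y.ResidueField (B ⧸ y.map (algebraMap P B)) := φ.toAlgebra
  have : IsScalarTower P y.ResidueField (B ⧸ y.map (algebraMap P B)) :=
    IsScalarTower.of_algebraMap_eq (fun x =>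
      (Ideal.ResidueField.lift_algebraMap y (algebraMap P _) hf₁ hf₂ x).symm)
  let π : (B ⧸ y.map (algebraMap P B)) →+* ResidueField B :=
    Ideal.Quotient.lift _ (residue B) (fun a ha => (residue_eq_zero_iff a).mpr (hle ha))
  let : Algebra y.ResidueField (ResidueField B) := (π.comp φ).toAlgebra
  have : IsScalarTower P y.ResidueField (ResidueField B) :=
    IsScalarTower.of_algebraMap_eq (fun x => by
      change algebraMap P (ResidueField B) x = π (φ (algebraMap P y.ResidueField x))
      rw [show φ (algebraMap P y.ResidueField x) = _ from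
        Ideal.ResidueField.lift_algebraMap y (algebraMap P _) hf₁ hf₂ x,
        IsScalarTower.algebraMap_apply P B (B ⧸ y.map (algebraMap P B))]
      rfl)
  have : Algebra.EssFiniteType P (ResidueField B) :=
    inferInstanceAs (Algebra.EssFiniteType P (B ⧸ maximalIdeal B))
  have : Algebra.EssFiniteType y.ResidueField (ResidueField B) :=
    Algebra.EssFiniteType.of_comp P y.ResidueField (ResidueField B)
  have : Algebra.IsAlgebraic y.ResidueField (ResidueField B) := by
    refine ⟨fun z => ?_⟩
    obtain ⟨p, hp0, hp⟩ := halg z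
    refine ⟨p.map (algebraMap P y.ResidueField), fun h0 => hp0 ?_, ?_⟩
    · rw [IsScalarTower.algebraMap_eq P y.ResidueField (ResidueField B), ← Polynomial.map_map,
        h0, Polynomial.map_zero]
    · rw [Polynomial.aeval_def, Polynomial.eval₂_map, ← IsScalarTower.algebraMap_eq, hp]
  have : Module.Finite y.ResidueField (ResidueField B) :=
    Algebra.finite_of_essFiniteType_of_isAlgebraic
  let πa : (B ⧸ y.map (algebraMap P B)) →ₐ[y.ResidueField] ResidueField B :=
    { π with commutes' := fun _ => rfl }
  have hker : ∀ x : B ⧸ y.map (algebraMap P B), πa x = 0 →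
      ∃ b ∈ maximalIdeal B, Ideal.Quotient.mk _ b = x := by
    intro x hx
    obtain ⟨b, rfl⟩ := Ideal.Quotient.mk_surjective x
    exact ⟨b, (residue_eq_zero_iff b).mp hx, rfl⟩
  have : Module.Finite y.ResidueField (B ⧸ y.map (algebraMap P B)) := by
    refine Module.finite_of_surjective_of_ker_le_nilradical πa ?_ ?_ ?_
    · intro z
      obtain ⟨b, rfl⟩ := residue_surjective z
      exact ⟨Ideal.Quotient.mk _ b, rfl⟩
    · intro x hx
      obtain ⟨b, hb, rfl⟩ := hker x hx
      obtain ⟨r, hr⟩ := hnil b hb
      exact ⟨r, by rw [← map_pow]; exact Ideal.Quotient.eq_zero_iff_mem.mpr hr⟩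
    · have heq : RingHom.ker πa =
          (maximalIdeal B).map (Ideal.Quotient.mk (y.map (algebraMap P B))) := by
        apply le_antisymm
        · intro x hx
          obtain ⟨b, hb, rfl⟩ := hker x hx
          exact Ideal.mem_map_of_mem _ hb
        · rw [Ideal.map_le_iff_le_comap]
          intro b hb
          exact (residue_eq_zero_iff b).mpr hb
      rw [heq]
      exact hN
  exact Algebra.QuasiFinite.trans P y.ResidueField _

/-- Quasi-finiteness at a prime can be checked on any model of the localization. -/
theorem quasiFiniteAt_of_quotient {P S B : Type u} [CommRing P] [CommRing S] [CommRing B]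
    [Algebra P S] [Algebra S B] [Algebra P B] [IsScalarTower P S B] [Algebra.FiniteType P S]
    (q : Ideal S) [q.IsPrime] [IsLocalization.AtPrime B q]
    (h : Algebra.QuasiFinite P (B ⧸ (q.under P).map (algebraMap P B))) :
    Algebra.QuasiFiniteAt P q := by
  have : Algebra.WeaklyQuasiFiniteAt P q := by
    rw [Algebra.weaklyQuasiFiniteAt_iff]
    let e : B ≃ₐ[P] Localization.AtPrime q :=
      (IsLocalization.algEquiv q.primeCompl B (Localization.AtPrime q)).restrictScalars P
    refine (Algebra.QuasiFinite.iff_of_algEquiv (Ideal.quotientEquivAlg _ _ e ?_)).mp h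
    rw [Ideal.map_map]
    congr 1
    ext x
    exact (e.commutes x).symm
  exact Algebra.QuasiFiniteAt.of_weaklyQuasiFiniteAt q

end Groth.Agent.Flat2A.LocDev
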