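import Mathlib.FieldTheory.FinTrdeg
import Mathlib.RingTheory.EssentialFiniteness
import Mathlib.RingTheory.LocalRing.ResidueField.Basic
import Mathlib.RingTheory.Ideal.KrullsHeightTheorem
import Mathlib.RingTheory.KrullDimension.Basic
import Mathlib.RingTheory.LocalRing.RingHom.Basic

/-!
# Parameters of a local homomorphism essentially of finite type
-/

set_option autoImplicit false
universe u

namespace Groth.Agent.Flat2A.LocDev

open IsLocalRing

/-- A ring which is ess. of finite type over a field is Noetherian: the closed fibre. -/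
theorem isNoetherianRing_fiber (A B : Type u) [CommRing A] [IsLocalRing A] [CommRing B]
    [Algebra A B] [Algebra.EssFiniteType A B] :
    IsNoetherianRing (B ⧸ (maximalIdeal A).map (algebraMap A B)) := by
  have : Algebra.EssFiniteType (A ⧸ maximalIdeal A)
      (B ⧸ (maximalIdeal A).map (algebraMap A B)) := inferInstance
  have : IsNoetherianRing (A ⧸ maximalIdeal A) := by
    change IsNoetherianRing (ResidueField A)
    infer_instance
  exact Algebra.EssFiniteType.isNoetherianRing (A ⧸ maximalIdeal A) _

theorem exists_tr_basis (A B : Type u) [CommRing A] [IsLocalRing A] [CommRing B] [IsLocalRing B]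
    [Algebra A B] [IsLocalHom (algebraMap A B)] [Algebra.EssFiniteType A B] :
    ∃ (d : ℕ) (b : Fin d → B),
      IsTranscendenceBasis (ResidueField A) (fun i => residue B (b i)) := by
  have : Algebra.EssFiniteType A (ResidueField B) :=
    inferInstanceAs (Algebra.EssFiniteType A (B ⧸ maximalIdeal B))
  have : Algebra.EssFiniteType (ResidueField A) (ResidueField B) :=
    Algebra.EssFiniteType.of_comp A (ResidueField A) (ResidueField B)
  obtain ⟨s, hs⟩ := exists_finset_isTranscendenceBasis (ResidueField A) (ResidueField B)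
  let e : Fin s.card ≃ s := s.equivFin.symm
  have hb : ∀ i : Fin s.card, ∃ b : B, residue B b = (e i : ResidueField B) := fun i =>
    residue_surjective _
  choose b hb using hb
  refine ⟨s.card, b, ?_⟩
  have h := hs.comp_equiv e
  have hfun : (fun i => residue B (b i)) = Subtype.val ∘ e := funext hb
  rw [hfun]
  exact h

theorem exists_sop (A B : Type u) [CommRing A] [IsLocalRing A] [CommRing B] [IsLocalRing B]
    [Algebra A B] [IsLocalHom (algebraMap A B)] [Algebra.EssFiniteType A B] :
    ∃ (n : ℕ) (c : Fin n → B),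
      (∀ j, c j ∈ maximalIdeal B) ∧
      (∀ x ∈ maximalIdeal B, ∃ r : ℕ,
        x ^ r ∈ (maximalIdeal A).map (algebraMap A B) ⊔ Ideal.span (Set.range c)) ∧
      (n : WithBot ℕ∞) ≤ ringKrullDim (B ⧸ (maximalIdeal A).map (algebraMap A B)) := by
  set J := (maximalIdeal A).map (algebraMap A B) with hJ
  have hJle : J ≤ maximalIdeal B := Ideal.map_le_iff_le_comap.mpr (by
    intro x hx
    exact (mem_maximalIdeal _).mpr (fun h => (mem_maximalIdeal _).mp hx
      (isUnit_of_map_unit (algebraMap A B) x h)))
  have : IsNoetherianRing (B ⧸ J) := isNoetherianRing_fiber A B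
  have : Nontrivial (B ⧸ J) := Ideal.Quotient.nontrivial_iff.mpr
    (fun h => (IsLocalRing.maximalIdeal.isMaximal B).ne_top (top_le_iff.mp (h ▸ hJle)))
  have : IsLocalRing (B ⧸ J) :=
    IsLocalRing.of_surjective' (Ideal.Quotient.mk J) Ideal.Quotient.mk_surjective
  obtain ⟨s, hs, hcard⟩ :=
    (maximalIdeal (B ⧸ J)).exists_finset_card_eq_height_of_isNoetherianRing
  let e : Fin s.card ≃ s := s.equivFin.symm
  have hc : ∀ i : Fin s.card, ∃ b : B, Ideal.Quotient.mk J b = (e i : B ⧸ J) := fun i =>
    Ideal.Quotient.mk_surjective _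
  choose c hc using hc
  have hmax : ∀ b : B, Ideal.Quotient.mk J b ∈ maximalIdeal (B ⧸ J) ↔ b ∈ maximalIdeal B := by
    intro b
    rw [mem_maximalIdeal, mem_maximalIdeal, mem_nonunits_iff, mem_nonunits_iff, not_iff_not]
    constructor
    · intro h
      have : IsLocalHom (Ideal.Quotient.mk J) :=
        IsLocalHom.of_surjective _ Ideal.Quotient.mk_surjective
      exact isUnit_of_map_unit _ _ h
    · exact fun h => h.map _
  refine ⟨s.card, c, fun j => ?_, fun x hx => ?_, ?_⟩
  · rw [← hmax, hc]
    exact hs.1.2 (Ideal.subset_span (e j).2)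
  · have hrad : maximalIdeal (B ⧸ J) ≤ (Ideal.span (s : Set (B ⧸ J))).radical := by
      rw [Ideal.radical_eq_sInf]
      refine le_sInf fun p hp => ?_
      have := hp.2
      exact hs.2 ⟨hp.2, hp.1⟩ (IsLocalRing.le_maximalIdeal hp.2.ne_top)
    obtain ⟨r, hr⟩ := hrad ((hmax x).mpr hx)
    refine ⟨r, ?_⟩
    rw [← map_pow] at hr
    have himg : (s : Set (B ⧸ J)) = Ideal.Quotient.mk J '' (Set.range c) := by
      ext z
      constructor
      · intro hz
        refine ⟨c (e.symm ⟨z, hz⟩), ⟨_, rfl⟩, ?_⟩
        rw [hc]; simp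
      · rintro ⟨_, ⟨j, rfl⟩, rfl⟩
        rw [hc]; exact (e j).2
    rw [himg, ← Ideal.map_span] at hr
    rw [sup_comm]
    exact (Ideal.mem_quotient_iff_mem_sup).mp hr
  · rw [← IsLocalRing.maximalIdeal_height_eq_ringKrullDim, ← hcard]
    rfl

end Groth.Agent.Flat2A.LocDev
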