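import Groth.Agent.VarietyA.RegSmooth
import Groth.Agent.CalgA.RegBasic
import Groth.Agent.Flat2A.LocDevParam
import Mathlib.RingTheory.Unramified.LocalRing
import Mathlib.RingTheory.Etale.Basic
import Mathlib.RingTheory.Smooth.Flat
import Mathlib.RingTheory.Polynomial.Quotient
import Mathlib.RingTheory.Flat.Localization

/-!
# Local rings of algebras etale over a polynomial ring over a local ring
-/

set_option autoImplicit false
universe u

namespace Groth.Agent.Flat2A.LocDev

open IsLocalRing TensorProduct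

section

variable (A : Type u) [CommRing A] {N : ℕ} {D₁ : Type u} [CommRing D₁] [Algebra A D₁]
  [Algebra (MvPolynomial (Fin N) A) D₁] [IsScalarTower A (MvPolynomial (Fin N) A) D₁]
  [Algebra.Etale (MvPolynomial (Fin N) A) D₁] (z : Ideal D₁) [z.IsPrime]

include N in
theorem essFiniteType_et : Algebra.EssFiniteType A (Localization.AtPrime z) := by
  have : Algebra.FiniteType A D₁ := Algebra.FiniteType.trans (S := MvPolynomial (Fin N) A)
    inferInstance inferInstance
  infer_instance

include N in
theorem flat_et : Module.Flat A (Localization.AtPrime z) := by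
  have : Module.Flat (MvPolynomial (Fin N) A) D₁ := inferInstance
  have : Module.Flat A D₁ := Module.Flat.trans A (MvPolynomial (Fin N) A) D₁
  infer_instance

theorem isLocalHom_et [IsLocalRing A] [z.LiesOver (maximalIdeal A)] :
    IsLocalHom (algebraMap A (Localization.AtPrime z)) := by
  refine ⟨fun a ha => ?_⟩
  by_contra hnu
  have h1 : a ∈ maximalIdeal A := (mem_maximalIdeal _).mpr hnu
  have h2 : algebraMap A D₁ a ∈ z := by
    rw [z.over_def (maximalIdeal A)] at h1
    exact h1
  rw [IsScalarTower.algebraMap_apply A D₁ (Localization.AtPrime z)] at ha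
  exact (IsLocalization.AtPrime.isUnit_to_map_iff (Localization.AtPrime z) z _).mp ha h2

end

/-- The kernel of `D₁_z → (D₁/I)_z̄`. -/
theorem isPrime_map_of_isDomain {D₁ : Type u} [CommRing D₁] (z : Ideal D₁) [z.IsPrime]
    (I : Ideal D₁) (hI : I ≤ z)
    (h : ∀ (zb : Ideal (D₁ ⧸ I)) [zb.IsPrime], IsDomain (Localization.AtPrime zb)) :
    (I.map (algebraMap D₁ (Localization.AtPrime z))).IsPrime := by
  have hzb : (z.map (Ideal.Quotient.mk I)).IsPrime := Ideal.isPrime_map_quotientMk_of_isPrime hI
  have hz : z = (z.map (Ideal.Quotient.mk I)).comap (Ideal.Quotient.mk I) := by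
    rw [Ideal.comap_map_of_surjective _ Ideal.Quotient.mk_surjective]
    refine (sup_eq_left.mpr ?_).symm
    rw [← RingHom.ker_eq_comap_bot, Ideal.mk_ker]
    exact hI
  have hdom := h (z.map (Ideal.Quotient.mk I))
  let f := Localization.localRingHom z (z.map (Ideal.Quotient.mk I)) (Ideal.Quotient.mk I) hz
  have hker : I.map (algebraMap D₁ (Localization.AtPrime z)) = RingHom.ker f := by
    ext x
    obtain ⟨a, s, rfl⟩ := IsLocalization.exists_mk'_eq z.primeCompl x
    rw [IsLocalization.mk'_mem_map_algebraMap_iff, RingHom.mem_ker,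
      Localization.localRingHom_mk', IsLocalization.mk'_eq_zero_iff]
    constructor
    · rintro ⟨t, ht, hta⟩
      refine ⟨⟨Ideal.Quotient.mk I t, fun hmem => ht ?_⟩, ?_⟩
      · rw [SetLike.mem_coe, hz]
        exact hmem
      · rw [← map_mul]
        exact Ideal.Quotient.eq_zero_iff_mem.mpr hta
    · rintro ⟨⟨t, ht⟩, hta⟩
      obtain ⟨t, rfl⟩ := Ideal.Quotient.mk_surjective t
      refine ⟨t, fun hmem => ht (Ideal.mem_map_of_mem _ hmem), ?_⟩
      rw [← map_mul] at hta
      exact Ideal.Quotient.eq_zero_iff_mem.mp hta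
  rw [hker]
  exact RingHom.ker_isPrime f

theorem isRegularRing_fiber (A : Type u) [CommRing A] [IsLocalRing A] (N : ℕ) (D₁ : Type u)
    [CommRing D₁] [Algebra A D₁] [Algebra (MvPolynomial (Fin N) A) D₁]
    [IsScalarTower A (MvPolynomial (Fin N) A) D₁] [Algebra.Etale (MvPolynomial (Fin N) A) D₁] :
    IsRegularRing (D₁ ⧸ (maximalIdeal A).map (algebraMap A D₁)) := by
  let P := MvPolynomial (Fin N) A
  let J : Ideal P := (maximalIdeal A).map (algebraMap A P)
  have h1 : IsRegularRing (MvPolynomial (Fin N) (A ⧸ maximalIdeal A)) := by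
    have : IsRegularRing (A ⧸ maximalIdeal A) :=
      inferInstanceAs (IsRegularRing (ResidueField A))
    infer_instance
  have h2 : IsRegularRing (P ⧸ J) :=
    IsRegularRing.of_ringEquiv
      (MvPolynomial.quotientEquivQuotientMvPolynomial (σ := Fin N) (maximalIdeal A)).toRingEquiv
  have h3 : IsRegularRing ((P ⧸ J) ⊗[P] D₁) :=
    Groth.Agent.VarietyA.RegSmooth.isRegularRing_of_etale (R := P ⧸ J)
  have h4 : J.map (algebraMap P D₁) = (maximalIdeal A).map (algebraMap A D₁) := by
    rw [Ideal.map_map, ← IsScalarTower.algebraMap_eq]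
  rw [← h4]
  exact IsRegularRing.of_ringEquiv (R := (P ⧸ J) ⊗[P] D₁)
    ((Algebra.TensorProduct.comm P (P ⧸ J) D₁).toRingEquiv.trans
      (Algebra.TensorProduct.quotIdealMapEquivTensorQuot D₁ J).symm.toRingEquiv)

theorem isPrime_map_et (A : Type u) [CommRing A] [IsLocalRing A] (N : ℕ) (D₁ : Type u)
    [CommRing D₁] [Algebra A D₁] [Algebra (MvPolynomial (Fin N) A) D₁]
    [IsScalarTower A (MvPolynomial (Fin N) A) D₁] [Algebra.Etale (MvPolynomial (Fin N) A) D₁]
    (z : Ideal D₁) [z.IsPrime] [z.LiesOver (maximalIdeal A)] :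
    ((maximalIdeal A).map (algebraMap A (Localization.AtPrime z))).IsPrime := by
  have hreg := isRegularRing_fiber A N D₁
  have h := isPrime_map_of_isDomain z ((maximalIdeal A).map (algebraMap A D₁))
    (Ideal.map_le_iff_le_comap.mpr (z.over_def (maximalIdeal A)).le)
    (fun zb _ => Groth.Agent.CalgA.RegBasic.isDomain _)
  rwa [Ideal.map_map, ← IsScalarTower.algebraMap_eq] at h

theorem ringKrullDim_le_et (A : Type u) [CommRing A] [IsLocalRing A] (N : ℕ) (D₁ : Type u)
    [CommRing D₁] [Algebra A D₁] [Algebra (MvPolynomial (Fin N) A) D₁]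
    [IsScalarTower A (MvPolynomial (Fin N) A) D₁] [Algebra.Etale (MvPolynomial (Fin N) A) D₁]
    (z : Ideal D₁) [z.IsPrime] [z.LiesOver (maximalIdeal A)]
    (y : Ideal (MvPolynomial (Fin N) A)) [y.IsPrime] [z.LiesOver y] {n : ℕ}
    (t : Fin n → MvPolynomial (Fin N) A) (ht : ∀ j, t j ∈ y)
    (hy : y ≤ (maximalIdeal A).map (algebraMap A (MvPolynomial (Fin N) A)) ⊔
      Ideal.span (Set.range t)) :
    ringKrullDim (Localization.AtPrime z ⧸
      (maximalIdeal A).map (algebraMap A (Localization.AtPrime z))) ≤ n := by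
  let P := MvPolynomial (Fin N) A
  let D := Localization.AtPrime z
  have : Algebra.EssFiniteType A D := essFiniteType_et A (N := N) z
  have hloc : IsLocalHom (algebraMap A D) := isLocalHom_et A z
  let J : Ideal D := (maximalIdeal A).map (algebraMap A D)
  have : IsNoetherianRing (D ⧸ J) := isNoetherianRing_fiber A D
  have hJle : J ≤ maximalIdeal D := Ideal.map_le_iff_le_comap.mpr (by
    intro x hx
    exact (mem_maximalIdeal _).mpr (fun h => (mem_maximalIdeal _).mp hx
      (isUnit_of_map_unit (algebraMap A D) x h)))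
  have hnt : Nontrivial (D ⧸ J) := Ideal.Quotient.nontrivial_iff.mpr
    (fun h => (IsLocalRing.maximalIdeal.isMaximal D).ne_top (top_le_iff.mp (h ▸ hJle)))
  have hlocal : IsLocalRing (D ⧸ J) :=
    IsLocalRing.of_surjective' (Ideal.Quotient.mk J) Ideal.Quotient.mk_surjective
  refine (ringKrullDim_le_spanFinrank_maximalIdeal (D ⧸ J)).trans ?_
  let := Localization.AtPrime.algebraOfLiesOver y z
  have h1 : y.map (algebraMap P D) = maximalIdeal D :=
    ((Algebra.isUnramifiedAt_iff_map_eq P y z).mp inferInstance).2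
  have h2 : maximalIdeal (D ⧸ J) = Ideal.span
      (Set.range (fun j => Ideal.Quotient.mk J (algebraMap P D (t j)))) := by
    apply le_antisymm
    · intro x hx
      obtain ⟨d, rfl⟩ := Ideal.Quotient.mk_surjective x
      have hd : d ∈ maximalIdeal D := by
        rw [mem_maximalIdeal] at hx ⊢
        exact fun hu => hx (hu.map _)
      rw [← h1] at hd
      have h3 := Ideal.map_mono (f := algebraMap P D) hy hd
      rw [Ideal.map_sup, Ideal.map_map, ← IsScalarTower.algebraMap_eq, Ideal.map_span,
        ← Set.range_comp, sup_comm] at h3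
      have h4 := (Ideal.mem_quotient_iff_mem_sup).mpr h3
      rw [Ideal.map_span, ← Set.range_comp] at h4
      exact h4
    · rw [Ideal.span_le]
      rintro _ ⟨j, rfl⟩
      have h3 : algebraMap P D (t j) ∈ maximalIdeal D := by
        rw [← h1]
        exact Ideal.mem_map_of_mem _ (ht j)
      rw [SetLike.mem_coe, mem_maximalIdeal, mem_nonunits_iff]
      intro hu
      have : IsLocalHom (Ideal.Quotient.mk J) :=
        IsLocalHom.of_surjective _ Ideal.Quotient.mk_surjective
      exact (mem_maximalIdeal _).mp h3 (isUnit_of_map_unit _ _ hu)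
  rw [h2]
  have hfin : (Set.range (fun j => Ideal.Quotient.mk J (algebraMap P D (t j)))).Finite :=
    Set.finite_range _
  have h3 := Submodule.spanFinrank_span_le_ncard_of_finite (R := D ⧸ J) hfin
  have h4 : (Set.range (fun j => Ideal.Quotient.mk J (algebraMap P D (t j)))).ncard ≤ n := by
    rw [← Set.image_univ]
    refine (Set.ncard_image_le (Set.toFinite _)).trans ?_
    rw [Set.ncard_univ, Nat.card_eq_fintype_card, Fintype.card_fin]
  exact_mod_cast h3.trans h4

end Groth.Agent.Flat2A.LocDev
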