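import Groth.Agent.Flat2A.LocDevParam
import Groth.Agent.Flat2A.LocDevQF
import Groth.Agent.Flat2A.LocDevEt
import Groth.Agent.Flat2A.LocDevSm
import Groth.Agent.Flat2A.LocDevModel

/-!
# Local devissage

Let `A → B` be a local homomorphism of local rings, essentially of finite type. There is
an algebra `D₁`, etale over a polynomial ring `A[T]`, a prime `z` of `D₁` over `m_A`, and a local
ring `X` which is finite over `D = (D₁)_z` and flat local over `B`, with
`dim D/m_A D ≤ dim B/m_A B`, and `m_A D` is a prime ideal.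
-/

set_option autoImplicit false
universe u

namespace Groth.Agent.Flat2A.LocDev

open IsLocalRing TensorProduct

theorem exists_locDev (A B : Type u) [CommRing A] [IsLocalRing A] [CommRing B] [IsLocalRing B]
    [Algebra A B] [IsLocalHom (algebraMap A B)] [Algebra.EssFiniteType A B] :
    ∃ (N : ℕ) (D₁ : Type u) (_ : CommRing D₁) (_ : Algebra A D₁)
      (_ : Algebra (MvPolynomial (Fin N) A) D₁) (_ : IsScalarTower A (MvPolynomial (Fin N) A) D₁)
      (_ : Algebra.Etale (MvPolynomial (Fin N) A) D₁)
      (z : Ideal D₁) (_ : z.IsPrime) (_ : z.LiesOver (maximalIdeal A))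
      (X : Type u) (_ : CommRing X) (_ : IsLocalRing X) (_ : Algebra (Localization.AtPrime z) X)
      (_ : Algebra B X) (_ : Algebra A X) (_ : IsScalarTower A B X)
      (_ : IsScalarTower A (Localization.AtPrime z) X),
      Module.Finite (Localization.AtPrime z) X ∧
      IsLocalHom (algebraMap (Localization.AtPrime z) X) ∧
      Module.Flat B X ∧ IsLocalHom (algebraMap B X) ∧
      ((maximalIdeal A).map (algebraMap A (Localization.AtPrime z))).IsPrime ∧
      ringKrullDim (Localization.AtPrime z ⧸
        (maximalIdeal A).map (algebraMap A (Localization.AtPrime z))) ≤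
      ringKrullDim (B ⧸ (maximalIdeal A).map (algebraMap A B)) := by
  obtain ⟨d, b, hb⟩ := exists_tr_basis A B
  obtain ⟨n, c, hc, hpow, hdim⟩ := exists_sop A B
  let T : Fin (d + n) → B := Sum.elim b c ∘ finSumFinEquiv.symm
  obtain ⟨S, hTS, hft, hloc⟩ := exists_model A B (Set.range T) (Set.finite_range T)
  let P := MvPolynomial (Fin (d + n)) A
  let φS : P →ₐ[A] S := MvPolynomial.aeval (fun i => (⟨T i, hTS ⟨i, rfl⟩⟩ : S))
  let φB : P →ₐ[A] B := MvPolynomial.aeval T
  have hφ : S.val.comp φS = φB := by
    refine MvPolynomial.algHom_ext (fun i => ?_)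
    simp [φS, φB]
  let algPS : Algebra P S := φS.toRingHom.toAlgebra
  let algPB : Algebra P B := φB.toRingHom.toAlgebra
  have tPSB : IsScalarTower P S B := IsScalarTower.of_algebraMap_eq (fun x =>
    (AlgHom.congr_fun hφ x).symm)
  have tAPS : IsScalarTower A P S := IsScalarTower.of_algebraMap_eq (fun a => (φS.commutes a).symm)
  have tAPB : IsScalarTower A P B := IsScalarTower.of_algebraMap_eq (fun a => (φB.commutes a).symm)
  have ftPS : Algebra.FiniteType P S := Algebra.FiniteType.of_restrictScalars_finiteType A P S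
  have efPB : Algebra.EssFiniteType P B := Algebra.EssFiniteType.of_comp A P B
  let q : Ideal S := (maximalIdeal B).comap (algebraMap S B)
  have hq : q.IsPrime := inferInstance
  let y : Ideal P := q.under P
  have hy : y = (maximalIdeal B).comap (algebraMap P B) := by
    change ((maximalIdeal B).comap (algebraMap S B)).comap (algebraMap P S) = _
    rw [Ideal.comap_comap, ← IsScalarTower.algebraMap_eq]
  have hqy : q.LiesOver y := ⟨rfl⟩
  have hyA : y.comap (algebraMap A P) = maximalIdeal A := by
    rw [hy, Ideal.comap_comap, ← IsScalarTower.algebraMap_eq]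
    exact ((maximalIdeal B).over_def (maximalIdeal A)).symm
  have hAy : (maximalIdeal A).map (algebraMap A B) ≤ y.map (algebraMap P B) := by
    rw [IsScalarTower.algebraMap_eq A P B, ← Ideal.map_map]
    exact Ideal.map_mono (Ideal.map_le_iff_le_comap.mpr hyA.ge)
  have hXmem : ∀ j : Fin n, (MvPolynomial.X (finSumFinEquiv (Sum.inr j)) : P) ∈ y := by
    intro j
    rw [hy]
    change MvPolynomial.aeval T (MvPolynomial.X (finSumFinEquiv (Sum.inr j))) ∈ maximalIdeal B
    rw [MvPolynomial.aeval_X]
    simpa [T] using hc j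
  have hyB : (maximalIdeal A).map (algebraMap A B) ⊔ Ideal.span (Set.range c) ≤
      y.map (algebraMap P B) := by
    refine sup_le hAy ?_
    rw [Ideal.span_le]
    rintro _ ⟨j, rfl⟩
    have h1 := Ideal.mem_map_of_mem (algebraMap P B) (hXmem j)
    have h2 : algebraMap P B (MvPolynomial.X (finSumFinEquiv (Sum.inr j))) = c j := by
      change MvPolynomial.aeval T (MvPolynomial.X (finSumFinEquiv (Sum.inr j))) = c j
      rw [MvPolynomial.aeval_X]
      simp [T]
    rwa [h2] at h1
  have hNoeth : IsNoetherianRing (B ⧸ y.map (algebraMap P B)) := by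
    have := isNoetherianRing_fiber A B
    exact isNoetherianRing_of_surjective _ _ (Ideal.Quotient.factor hAy)
      (Ideal.Quotient.factor_surjective hAy)
  have hqf : Algebra.QuasiFinite P (B ⧸ (q.under P).map (algebraMap P B)) := by
    refine quasiFinite_quotient y hy (IsNoetherian.noetherian _) ?_ ?_
    · intro x hx
      obtain ⟨r, hr⟩ := hpow x hx
      exact ⟨r, hyB hr⟩
    · intro w
      obtain ⟨p, hp0, hp⟩ := exists_poly (A := A) b T
        (fun i => ⟨finSumFinEquiv (Sum.inl i), by simp [T]⟩) hb w
      exact ⟨p, hp0, hp⟩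
  have hqfa : Algebra.QuasiFiniteAt P q := quasiFiniteAt_of_quotient (B := B) q hqf
  obtain ⟨D₁, i1, i2, i3, z, i4, i5, X, i6, i7, i8, i9, i10, i11, i12, hfin, hDX, hflat, hBX⟩ :=
    exists_etale_finite (B := B) y q
  let algAD₁ : Algebra A D₁ := ((algebraMap P D₁).comp (algebraMap A P)).toAlgebra
  have tAPD₁ : IsScalarTower A P D₁ := IsScalarTower.of_algebraMap_eq' rfl
  have hz : z.LiesOver (maximalIdeal A) := by
    refine ⟨?_⟩
    rw [Ideal.under_def, IsScalarTower.algebraMap_eq A P D₁, ← Ideal.comap_comap, ← hyA]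
    congr 1
    exact z.over_def y
  let algAX : Algebra A X := ((algebraMap P X).comp (algebraMap A P)).toAlgebra
  have tAPX : IsScalarTower A P X := IsScalarTower.of_algebraMap_eq' rfl
  have tABX : IsScalarTower A B X := IsScalarTower.of_algebraMap_eq (fun a => by
    rw [IsScalarTower.algebraMap_apply A P X, IsScalarTower.algebraMap_apply P B X,
      ← IsScalarTower.algebraMap_apply A P B])
  have tADX : IsScalarTower A (Localization.AtPrime z) X :=
    IsScalarTower.of_algebraMap_eq (fun a => by
      rw [IsScalarTower.algebraMap_apply A P X,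
        IsScalarTower.algebraMap_apply P (Localization.AtPrime z) X,
        IsScalarTower.algebraMap_apply A D₁ (Localization.AtPrime z),
        IsScalarTower.algebraMap_apply A P D₁,
        ← IsScalarTower.algebraMap_apply P D₁ (Localization.AtPrime z)])
  refine ⟨d + n, D₁, i1, algAD₁, i2, tAPD₁, i3, z, i4, hz, X, i6, i7, i8, i10, algAX, tABX, tADX,
    hfin, hDX, hflat, hBX, isPrime_map_et A (d + n) D₁ z, ?_⟩
  refine (ringKrullDim_le_et A (d + n) D₁ z y
    (fun j => MvPolynomial.X (finSumFinEquiv (Sum.inr j))) hXmem ?_).trans hdim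
  rw [hy]
  exact comap_le b c hb.1 hc

end Groth.Agent.Flat2A.LocDev
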