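import Groth.Prelude.Def_FlatCA
import Groth.Prelude.Def_Found
import Mathlib.RingTheory.EssentialFiniteness
import Mathlib.RingTheory.LocalRing.RingHom.Basic

/-!
# The local flatness functor

`Corep A B M I`: the ideal `I` of the local ring `A` corepresents the local flatness functor of `M`
(the property in Stacks Tag 05PG).
-/

set_option autoImplicit false
universe u

namespace Groth.Agent.Flat2A.LocFun

open IsLocalRing TensorProduct

/-- The ideal `I` corepresents the local flatness functor of the `B`-module `M` over `A`. -/
def Corep (A B M : Type u) [CommRing A] [CommRing B] [IsLocalRing B] [Algebra A B]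
    [AddCommGroup M] [Module B M] (I : Ideal A) : Prop :=
  ∀ (A' B' M' : Type u) [CommRing A'] [IsLocalRing A'] [Algebra A A'] [IsLocalHom (algebraMap A A')]
    [CommRing B'] [Algebra B B'] [Algebra A' B'] [Algebra A B'] [IsScalarTower A B B']
    [IsScalarTower A A' B'] [Algebra.IsPushout A B A' B']
    [AddCommGroup M'] [Module B' M'] [Module B M'] [IsScalarTower B B' M'] [Module A' M']
    [IsScalarTower A' B' M'] (f : M →ₗ[B] M'), IsBaseChange B' f →
    (FlatCA.FlatAboveClosedPoints B A' B' M' ↔ I.map (algebraMap A A') = ⊥)

end Groth.Agent.Flat2A.LocFun
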