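import Groth.Agent.Flat2A.ModInj
import Groth.Agent.Flat2A.LocML
import Groth.Agent.Flat2A.LocStepAux
import Groth.Agent.Flat2A.LocFun
import Mathlib.RingTheory.IsTensorProduct
import Mathlib.Algebra.Module.LocalizedModule.Exact

/-!
# Base change and localization of a map injective modulo the maximal ideal
-/

set_option autoImplicit false
universe u

namespace Groth.Agent.Flat2A.LocStep

open IsLocalRing TensorProduct

section elementwise

variable {A : Type u} [CommRing A] [IsLocalRing A] {N N' : Type u} [AddCommGroup N] [Module A N]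
  [AddCommGroup N'] [Module A N']

theorem forall_of_lTensor_injective (f : N →ₗ[A] N')
    (h : Function.Injective (f.lTensor (ResidueField A))) (n : N)
    (hn : f n ∈ (maximalIdeal A • ⊤ : Submodule A N')) :
    n ∈ (maximalIdeal A • ⊤ : Submodule A N) := by
  rw [← one_tmul_eq_zero_iff] at hn ⊢
  rw [← LinearMap.lTensor_tmul] at hn
  exact h (by rw [hn, map_zero])

end elementwise

section baseChange

variable {A A' : Type u} [CommRing A] [IsLocalRing A] [CommRing A'] [IsLocalRing A'] [Algebra A A']
  [IsLocalHom (algebraMap A A')]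

theorem lTensor_residueField_injective {P Q : Type u} [AddCommGroup P] [Module A P]
    [AddCommGroup Q] [Module A Q] (g : P →ₗ[A] Q)
    (hg : Function.Injective (g.lTensor (ResidueField A))) :
    Function.Injective (g.lTensor (ResidueField A')) := by
  let k := ResidueField A
  let k' := ResidueField A'
  have h1 : Function.Injective (g.baseChange k) := hg
  have h2 : Function.Injective ((g.baseChange k).lTensor k') :=
    Module.Flat.lTensor_preserves_injective_linearMap _ h1
  let ΘP := AlgebraTensorModule.cancelBaseChange A k k k' P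
  let ΘQ := AlgebraTensorModule.cancelBaseChange A k k k' Q
  have h3 : ∀ x, g.lTensor k' (ΘP x) = ΘQ ((g.baseChange k).lTensor k' x) := by
    intro x
    induction x using TensorProduct.induction_on with
    | zero => simp
    | add x y hx hy => rw [map_add, map_add, hx, hy, map_add, map_add]
    | tmul c y =>
      induction y using TensorProduct.induction_on with
      | zero => simp
      | add x y hx hy => rw [tmul_add, map_add, map_add, hx, hy, map_add, map_add]
      | tmul a p =>
        rw [AlgebraTensorModule.cancelBaseChange_tmul, LinearMap.lTensor_tmul,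
          LinearMap.lTensor_tmul, LinearMap.baseChange_tmul,
          AlgebraTensorModule.cancelBaseChange_tmul]
  intro x y hxy
  obtain ⟨x, rfl⟩ := ΘP.surjective x
  obtain ⟨y, rfl⟩ := ΘP.surjective y
  rw [h3, h3] at hxy
  rw [h2 (ΘQ.injective hxy)]

variable {D D' : Type u} [CommRing D] [Algebra A D] [CommRing D'] [Algebra D D'] [Algebra A' D']
  [Algebra A D'] [IsScalarTower A D D'] [IsScalarTower A A' D'] [Algebra.IsPushout A D A' D']

theorem lTensor_baseChange_injective {P Q : Type u} [AddCommGroup P] [Module A P] [Module D P]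
    [IsScalarTower A D P] [AddCommGroup Q] [Module A Q] [Module D Q] [IsScalarTower A D Q]
    (α : P →ₗ[D] Q) (hα : Function.Injective ((α.restrictScalars A).lTensor (ResidueField A))) :
    Function.Injective
      (((α.baseChange D').restrictScalars A').lTensor (ResidueField A')) := by
  let k' := ResidueField A'
  have hpo : Algebra.IsPushout A A' D D' := Algebra.IsPushout.symm inferInstance
  have h1 : Function.Injective ((α.restrictScalars A).lTensor k') :=
    lTensor_residueField_injective _ hα
  let ΨP : k' ⊗[A'] (D' ⊗[D] P) ≃ₗ[A'] k' ⊗[A] P :=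
    (LinearEquiv.lTensor k' (Algebra.IsPushout.cancelBaseChange A A' D D' P)) ≪≫ₗ
      AlgebraTensorModule.cancelBaseChange A A' A' k' P
  let ΨQ : k' ⊗[A'] (D' ⊗[D] Q) ≃ₗ[A'] k' ⊗[A] Q :=
    (LinearEquiv.lTensor k' (Algebra.IsPushout.cancelBaseChange A A' D D' Q)) ≪≫ₗ
      AlgebraTensorModule.cancelBaseChange A A' A' k' Q
  have hP : ∀ (c : k') (p : P), ΨP.symm (c ⊗ₜ p) = c ⊗ₜ ((1 : D') ⊗ₜ[D] p) := by
    intro c p
    rw [LinearEquiv.symm_apply_eq]
    change _ = AlgebraTensorModule.cancelBaseChange A A' A' k' P
      ((LinearEquiv.lTensor k' (Algebra.IsPushout.cancelBaseChange A A' D D' P)) _)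
    rw [LinearEquiv.lTensor_tmul, Algebra.IsPushout.cancelBaseChange_tmul,
      AlgebraTensorModule.cancelBaseChange_tmul, one_smul]
  have hQ : ∀ (c : k') (p : Q), ΨQ.symm (c ⊗ₜ p) = c ⊗ₜ ((1 : D') ⊗ₜ[D] p) := by
    intro c p
    rw [LinearEquiv.symm_apply_eq]
    change _ = AlgebraTensorModule.cancelBaseChange A A' A' k' Q
      ((LinearEquiv.lTensor k' (Algebra.IsPushout.cancelBaseChange A A' D D' Q)) _)
    rw [LinearEquiv.lTensor_tmul, Algebra.IsPushout.cancelBaseChange_tmul,
      AlgebraTensorModule.cancelBaseChange_tmul, one_smul]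
  have h3 : ∀ x, ((α.baseChange D').restrictScalars A').lTensor k' (ΨP.symm x) =
      ΨQ.symm ((α.restrictScalars A).lTensor k' x) := by
    intro x
    induction x using TensorProduct.induction_on with
    | zero => simp
    | add x y hx hy => rw [map_add, map_add, hx, hy, map_add, map_add]
    | tmul c p =>
      rw [hP, LinearMap.lTensor_tmul, LinearMap.lTensor_tmul, hQ]
      rfl
  intro x y hxy
  obtain ⟨x, rfl⟩ := ΨP.symm.surjective x
  obtain ⟨y, rfl⟩ := ΨP.symm.surjective y
  rw [h3, h3] at hxy
  rw [h1 (ΨQ.symm.injective hxy)]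

end baseChange

section localization

variable {A D : Type u} [CommRing A] [CommRing D] [Algebra A D]
  {P Q : Type u} [AddCommGroup P] [Module A P] [Module D P]
  [IsScalarTower A D P] [AddCommGroup Q] [Module A Q] [Module D Q] [IsScalarTower A D Q]

theorem smul_mem_smul_top (I : Ideal A) (d : D) (w : Q) (hw : w ∈ (I • ⊤ : Submodule A Q)) :
    d • w ∈ (I • ⊤ : Submodule A Q) := by
  induction hw using Submodule.smul_induction_on' with
  | smul a ha m _ =>
    rw [smul_comm]
    exact Submodule.smul_mem_smul ha trivial
  | add x _ y _ hx hy => rw [smul_add]; exact Submodule.add_mem _ hx hy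

theorem exists_of_mem_smul_top_localized (I : Ideal A) (S : Submonoid D) (y : LocalizedModule S Q)
    (hy : y ∈ (I • ⊤ : Submodule A (LocalizedModule S Q))) :
    ∃ s : S, ∃ w ∈ (I • ⊤ : Submodule A Q), (s : D) • y = LocalizedModule.mk w 1 := by
  induction hy using Submodule.smul_induction_on' with
  | smul a ha m _ =>
    induction m using LocalizedModule.induction_on with
    | _ m s =>
    refine ⟨s, a • m, Submodule.smul_mem_smul ha trivial, ?_⟩
    have h1 : LocalizedModule.mk ((s : D) • m) s = LocalizedModule.mk m 1 :=
      LocalizedModule.mk_cancel s m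
    rw [smul_comm, LocalizedModule.smul'_mk, h1]
    rw [← algebraMap_smul D a (LocalizedModule.mk m (1 : S)), LocalizedModule.smul'_mk,
      algebraMap_smul]
  | add x _ y _ hx hy =>
    obtain ⟨s, w, hw, h1⟩ := hx
    obtain ⟨t, v, hv, h2⟩ := hy
    refine ⟨s * t, (t : D) • w + (s : D) • v, Submodule.add_mem _ (smul_mem_smul_top I _ _ hw)
      (smul_mem_smul_top I _ _ hv), ?_⟩
    rw [smul_add, Submonoid.coe_mul, mul_smul, smul_comm (s : D) (t : D) x, h1, mul_smul, h2,
      LocalizedModule.smul'_mk, LocalizedModule.smul'_mk, LocalizedModule.mk_add_mk]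
    simp

theorem lTensor_localized_injective [IsLocalRing A] (S : Submonoid D) (β : P →ₗ[D] Q)
    (hβ : Function.Injective ((β.restrictScalars A).lTensor (ResidueField A))) :
    Function.Injective
      (((LocalizedModule.map S β).restrictScalars A).lTensor (ResidueField A)) := by
  apply lTensor_injective_of_forall
  intro x hx
  induction x using LocalizedModule.induction_on with
  | _ p s =>
  change LocalizedModule.map S β (LocalizedModule.mk p s) ∈ _ at hx
  rw [LocalizedModule.map_mk] at hx
  obtain ⟨t, w, hw, h1⟩ := exists_of_mem_smul_top_localized _ S _ hx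
  rw [LocalizedModule.smul'_mk, LocalizedModule.mk_eq] at h1
  obtain ⟨c, hc⟩ := h1
  have h2 : (β.restrictScalars A) ((c : D) • (t : D) • p) ∈
      (maximalIdeal A • ⊤ : Submodule A Q) := by
    change β ((c : D) • (t : D) • p) ∈ _
    rw [map_smul, map_smul]
    have h3 : (c : D) • (t : D) • β p = (c : D) • (s : D) • w := by
      have h4 := hc
      simp only [one_smul, Submonoid.smul_def] at h4
      exact h4
    rw [h3]
    exact smul_mem_smul_top _ _ _ (smul_mem_smul_top _ _ _ hw)
  have h3 := forall_of_lTensor_injective _ hβ _ h2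
  have h4 : LocalizedModule.mk p s = Localization.mk (1 : D) (c * t * s) •
      LocalizedModule.mkLinearMap S P ((c : D) • (t : D) • p) := by
    rw [LocalizedModule.mkLinearMap_apply, LocalizedModule.mk_smul_mk, one_smul, mul_one,
      LocalizedModule.mk_eq]
    refine ⟨1, ?_⟩
    simp only [one_smul, Submonoid.smul_def, mul_smul]
    rw [smul_comm (s : D) (c : D), smul_comm (s : D) (t : D)]
  rw [h4]
  apply smul_mem_smul_top
  have h5 : (LocalizedModule.mkLinearMap S P).restrictScalars A ((c : D) • (t : D) • p) ∈
      (maximalIdeal A • ⊤ : Submodule A P).map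
        ((LocalizedModule.mkLinearMap S P).restrictScalars A) := ⟨_, h3, rfl⟩
  rw [Submodule.map_smul''] at h5
  exact Submodule.smul_mono le_rfl le_top h5

end localization

theorem essFiniteType_of_isPushout (A D A' D' : Type u) [CommRing A] [CommRing A'] [Algebra A A']
    [CommRing D] [Algebra A D] [CommRing D'] [Algebra D D'] [Algebra A' D']
    [Algebra A D'] [IsScalarTower A D D'] [IsScalarTower A A' D'] [Algebra.IsPushout A D A' D']
    [Algebra.EssFiniteType A D] : Algebra.EssFiniteType A' D' := by
  have hpo : Algebra.IsPushout A A' D D' := Algebra.IsPushout.symm inferInstance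
  have h : Algebra.EssFiniteType A' (A' ⊗[A] D) := inferInstance
  exact (Algebra.EssFiniteType.iff_of_algEquiv (Algebra.IsPushout.equiv A A' D D')).mp h

/-- Theorem A after base change and localization. -/
theorem flatAt_coker {A A' D D' : Type u} [CommRing A] [IsLocalRing A] [CommRing A']
    [IsLocalRing A'] [Algebra A A'] [IsLocalHom (algebraMap A A')]
    [CommRing D] [Algebra A D] [CommRing D'] [Algebra D D'] [Algebra A' D']
    [Algebra A D'] [IsScalarTower A D D'] [IsScalarTower A A' D'] [Algebra.IsPushout A D A' D']
    [Algebra.EssFiniteType A D]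
    {P M : Type u} [AddCommGroup P] [Module A P] [Module D P] [IsScalarTower A D P]
    [Module.Finite D P] [AddCommGroup M] [Module A M] [Module D M] [IsScalarTower A D M]
    (α : P →ₗ[D] M) (hα : Function.Injective ((α.restrictScalars A).lTensor (ResidueField A)))
    (q : Ideal D') [q.IsPrime] (hq : (maximalIdeal A').map (algebraMap A' D') ≤ q)
    (hflat : FlatCA.FlatAt A' q (D' ⊗[D] M)) :
    (∀ x : D' ⊗[D] P, α.baseChange D' x = 0 → ∃ s ∉ q, s • x = 0) ∧
      FlatCA.FlatAt A' q (D' ⊗[D] (M ⧸ LinearMap.range α)) := by
  have hef : Algebra.EssFiniteType A' D' := essFiniteType_of_isPushout A D A' D'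
  let S := Localization.AtPrime q
  have hloc : IsLocalHom (algebraMap A' S) := by
    refine ⟨fun a ha => ?_⟩
    by_contra hnu
    have h1 : a ∈ maximalIdeal A' := (mem_maximalIdeal _).mpr hnu
    have h2 : algebraMap A' D' a ∈ q := hq (Ideal.mem_map_of_mem _ h1)
    rw [IsScalarTower.algebraMap_apply A' D' S] at ha
    exact (IsLocalization.AtPrime.isUnit_to_map_iff S q _).mp ha h2
  let β := α.baseChange D'
  let u : LocalizedModule q.primeCompl (D' ⊗[D] P) →ₗ[S] LocalizedModule q.primeCompl (D' ⊗[D] M) :=
    LocalizedModule.map q.primeCompl β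
  have hβ : Function.Injective ((β.restrictScalars A').lTensor (ResidueField A')) :=
    lTensor_baseChange_injective α hα
  have hu : Function.Injective ((u.restrictScalars A').lTensor (ResidueField A')) :=
    lTensor_localized_injective q.primeCompl β hβ
  have hfl : Module.Flat A' (LocalizedModule q.primeCompl (D' ⊗[D] M)) := hflat
  have hfin : Module.Finite S (LocalizedModule q.primeCompl (D' ⊗[D] P)) := inferInstance
  have htow : IsScalarTower A' S (LocalizedModule q.primeCompl (D' ⊗[D] P)) := inferInstance
  have htow' : IsScalarTower A' S (LocalizedModule q.primeCompl (D' ⊗[D] M)) := inferInstance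
  have hmain := ModInj.main (R := A') (S := S) (N := LocalizedModule q.primeCompl (D' ⊗[D] P))
    (M := LocalizedModule q.primeCompl (D' ⊗[D] M)) u
  obtain ⟨-, huinj, -⟩ := hmain hu
  constructor
  · intro x hx
    have h1 : Function.Injective u := by
      have h2 := huinj A'
      have h3 : Function.Injective ((u.restrictScalars A') ∘ₗ
          (TensorProduct.lid A' (LocalizedModule q.primeCompl (D' ⊗[D] P))).toLinearMap) := by
        have h4 : (u.restrictScalars A') ∘ₗ
          (TensorProduct.lid A' (LocalizedModule q.primeCompl (D' ⊗[D] P))).toLinearMap =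
          (TensorProduct.lid A' (LocalizedModule q.primeCompl (D' ⊗[D] M))).toLinearMap ∘ₗ
            (u.restrictScalars A').lTensor A' := by
          ext x
          simp
        rw [h4]
        exact (TensorProduct.lid A' _).injective.comp h2
      intro a b hab
      have h5 := @h3 ((1 : A') ⊗ₜ a) ((1 : A') ⊗ₜ b) (by simpa using hab)
      simpa using congrArg (TensorProduct.lid A' _) h5
    have h2 : u (LocalizedModule.mkLinearMap q.primeCompl _ x) = 0 := by
      rw [LocalizedModule.mkLinearMap_apply]
      change LocalizedModule.map q.primeCompl β (LocalizedModule.mk x 1) = 0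
      rw [LocalizedModule.map_mk]
      change LocalizedModule.mk (α.baseChange D' x) 1 = 0
      rw [hx, LocalizedModule.zero_mk]
    have h3 : LocalizedModule.mkLinearMap q.primeCompl (D' ⊗[D] P) x = 0 :=
      h1 (by rw [h2, map_zero])
    obtain ⟨s, hs⟩ := (IsLocalizedModule.eq_zero_iff q.primeCompl
      (LocalizedModule.mkLinearMap q.primeCompl (D' ⊗[D] P))).mp h3
    exact ⟨s, s.2, hs⟩
  · let π := (LinearMap.range α).mkQ
    have hex : Function.Exact α π := by
      rw [LinearMap.exact_iff, Submodule.ker_mkQ]
    have hsurj : Function.Surjective π := Submodule.mkQ_surjective _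
    have hex' : Function.Exact β (π.baseChange D') := lTensor_exact D' hex hsurj
    have hsurj' : Function.Surjective (π.baseChange D') := LinearMap.lTensor_surjective D' hsurj
    let g : LocalizedModule q.primeCompl (D' ⊗[D] M) →ₗ[S]
        LocalizedModule q.primeCompl (D' ⊗[D] (M ⧸ LinearMap.range α)) :=
      LocalizedModule.map q.primeCompl (π.baseChange D')
    have h1 : Function.Exact (u.restrictScalars A') (g.restrictScalars A') :=
      LocalizedModule.map_exact q.primeCompl _ _ hex'
    have h2 : Function.Surjective (g.restrictScalars A') :=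
      LocalizedModule.map_surjective q.primeCompl _ hsurj'
    have h3 : Module.Flat A' (LocalizedModule q.primeCompl (D' ⊗[D] (M ⧸ LinearMap.range α))) :=
      LocML.flat_of_exact (R := A') (L := LocalizedModule q.primeCompl (D' ⊗[D] P))
        (M := LocalizedModule q.primeCompl (D' ⊗[D] M))
        (C := LocalizedModule q.primeCompl (D' ⊗[D] (M ⧸ LinearMap.range α)))
        (u.restrictScalars A') (g.restrictScalars A') huinj h1 h2
    exact h3

end Groth.Agent.Flat2A.LocStep
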