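import Groth.Agent.Flat2A.LocFunQuot
import Groth.Agent.Flat2A.FlatFGIdeal
import Groth.Agent.Flat2A.ProjPure

/-!
# An ideal corepresenting the local flatness functor is finitely generated

`corep_fg`: for `A → B` local and essentially of finite presentation and `M` finitely presented
over `B`, an ideal `I` of `A` corepresenting the local flatness functor of `M` is finitely
generated (last assertion of Stacks Tag 05PG).
-/

set_option autoImplicit false
universe u

namespace Groth.Agent.Flat2A.LocFunFG

open IsLocalRing TensorProduct Groth.Agent.Flat2A.LocFun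

section Aux

variable {A A' B B' M M' : Type u} [CommRing A] [IsLocalRing A] [CommRing A'] [IsLocalRing A']
  [CommRing B] [IsLocalRing B] [CommRing B'] [Algebra A A'] [Algebra A B] [Algebra B B']
  [Algebra A' B'] [Algebra A B'] [IsScalarTower A B B'] [IsScalarTower A A' B']
  [Algebra.IsPushout A B A' B'] [IsLocalHom (algebraMap A B)]

/-- elements outside a prime over the maximal ideal of `B` are units -/
theorem primeCompl_le_isUnit (hs : Function.Surjective (algebraMap B B')) (q : Ideal B') [q.IsPrime]
    (hq : (maximalIdeal B).map (algebraMap B B') ≤ q) :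
    ∀ t : q.primeCompl, IsUnit (t : B') := by
  rintro ⟨t, ht⟩
  obtain ⟨b, rfl⟩ := hs t
  refine IsUnit.map (algebraMap B B') ?_
  by_contra hb
  exact ht (hq (Ideal.mem_map_of_mem _ ((mem_maximalIdeal b).2 hb)))

omit [Algebra.IsPushout A B A' B'] in
theorem map_maximalIdeal_le (hs : Function.Surjective (algebraMap A A')) :
    (maximalIdeal A').map (algebraMap A' B') ≤ (maximalIdeal B).map (algebraMap B B') := by
  rw [Ideal.map_le_iff_le_comap]
  intro x hx
  obtain ⟨a, rfl⟩ := hs x
  have ha : a ∈ maximalIdeal A := by
    rw [mem_maximalIdeal] at hx ⊢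
    intro h
    exact hx (h.map (algebraMap A A'))
  rw [Ideal.mem_comap, ← IsScalarTower.algebraMap_apply, IsScalarTower.algebraMap_apply A B B']
  exact Ideal.mem_map_of_mem _ (map_nonunit (algebraMap A B) a ha)

variable [AddCommGroup M] [Module B M] [Module A M] [IsScalarTower A B M]
  [AddCommGroup M'] [Module B' M'] [Module B M'] [IsScalarTower B B' M'] [Module A' M']
  [IsScalarTower A' B' M']

omit [IsLocalRing A'] [IsLocalRing A] [IsLocalRing B] [IsLocalHom (algebraMap A B)] in
theorem flat_iff_tensor (f : M →ₗ[B] M') (hf : IsBaseChange B' f) :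
    Module.Flat A' M' ↔ Module.Flat A' (A' ⊗[A] M) := by
  letI : Module A M' := Module.compHom M' (algebraMap A A')
  haveI : IsScalarTower A A' M' := ⟨fun a b n => by
    rw [Algebra.smul_def, mul_smul]; rfl⟩
  haveI hABN' : IsScalarTower A B M' := ⟨fun a b n => by
    rw [Algebra.smul_def, mul_smul]
    change algebraMap A B a • b • n = algebraMap A A' a • b • n
    rw [← algebraMap_smul B' (algebraMap A B a), ← algebraMap_smul B' (algebraMap A A' a),
      ← IsScalarTower.algebraMap_apply, ← IsScalarTower.algebraMap_apply]⟩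
  have hbc : IsBaseChange A' (f.restrictScalars A) :=
    ProjPure.isBaseChange_of_isPushout inferInstance f hf
  exact Module.Flat.equiv_iff hbc.equiv.symm

theorem flatAbove_iff (hs : Function.Surjective (algebraMap A A'))
    (hne : (maximalIdeal B).map (algebraMap B B') ≠ ⊤) (f : M →ₗ[B] M') (hf : IsBaseChange B' f) :
    FlatCA.FlatAboveClosedPoints B A' B' M' ↔ Module.Flat A' (A' ⊗[A] M) := by
  have hsB : Function.Surjective (algebraMap B B') :=
    algebraMap_surjective_of_isPushout (A := A) (Ab := A') hs
  have key : ∀ (q : Ideal B') [q.IsPrime], (maximalIdeal B).map (algebraMap B B') ≤ q →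
      (FlatCA.FlatAt A' q M' ↔ Module.Flat A' M') := by
    intro q _ hq
    haveI : IsLocalizedModule q.primeCompl (LinearMap.id : M' →ₗ[B'] M') := by
      constructor
      · intro x
        rw [Module.End.isUnit_iff]
        obtain ⟨u, hu⟩ := primeCompl_le_isUnit (B := B) hsB q hq x
        rw [← hu]
        constructor
        · intro a b hab
          have : u⁻¹ • (u • a) = u⁻¹ • (u • b) := congrArg (fun y => u⁻¹ • y) hab
          rwa [inv_smul_smul, inv_smul_smul] at this
        · intro a
          exact ⟨u⁻¹ • a, smul_inv_smul u a⟩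
      · intro y
        exact ⟨⟨y, 1⟩, by simp⟩
      · intro a b hab
        exact ⟨1, by simpa using hab⟩
    exact Module.Flat.equiv_iff
      ((IsLocalizedModule.iso q.primeCompl (LinearMap.id : M' →ₗ[B'] M')).restrictScalars A')
  rw [← flat_iff_tensor (A := A) f hf]
  constructor
  · intro h
    obtain ⟨q, hq, hle⟩ := Ideal.exists_le_maximal _ hne
    haveI := hq.isPrime
    exact (key q hle).1 (h q (sup_le ((map_maximalIdeal_le (A := A) hs).trans hle) hle))
  · intro h q _ hq
    exact (key q (le_sup_right.trans hq)).2 h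

end Aux

section Main

theorem exists_ring (A A' B : Type u) [CommRing A] [CommRing A'] [CommRing B] [Algebra A A']
    [Algebra A B] :
    ∃ (B' : Type u) (_ : CommRing B') (_ : Algebra B B') (_ : Algebra A' B') (_ : Algebra A B')
      (_ : IsScalarTower A B B') (_ : IsScalarTower A A' B'), Algebra.IsPushout A B A' B' := by
  letI : Algebra A' (B ⊗[A] A') := Algebra.TensorProduct.rightAlgebra
  exact ⟨B ⊗[A] A', inferInstance, inferInstance, inferInstance, inferInstance, inferInstance,
    inferInstance, inferInstance⟩

theorem exists_mod (A' B B' M : Type u) [CommRing A'] [CommRing B] [CommRing B'] [Algebra B B']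
    [Algebra A' B'] [AddCommGroup M] [Module B M] :
    ∃ (M' : Type u) (_ : AddCommGroup M') (_ : Module B' M') (_ : Module B M')
      (_ : IsScalarTower B B' M') (_ : Module A' M') (_ : IsScalarTower A' B' M')
      (f : M →ₗ[B] M'), IsBaseChange B' f := by
  exact ⟨B' ⊗[B] M, inferInstance, inferInstance, inferInstance, inferInstance, inferInstance,
    inferInstance, TensorProduct.mk B B' M 1, TensorProduct.isBaseChange B M B'⟩

variable {A A' B B' : Type u} [CommRing A] [IsLocalRing A] [CommRing A'] [IsLocalRing A']
  [CommRing B] [IsLocalRing B] [CommRing B'] [Algebra A A'] [Algebra A B] [Algebra B B']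
  [Algebra A' B'] [Algebra A B'] [IsScalarTower A B B'] [IsScalarTower A A' B']
  [Algebra.IsPushout A B A' B'] [IsLocalHom (algebraMap A B)]

theorem map_ne_top (hs : Function.Surjective (algebraMap A A')) :
    (maximalIdeal B).map (algebraMap B B') ≠ ⊤ := by
  intro htop
  have hker : ∀ a, algebraMap A A' a = 0 → algebraMap A (ResidueField B) a = 0 := by
    intro a ha
    have h0 : a ∈ maximalIdeal A := by
      rw [mem_maximalIdeal]
      intro h
      exact not_isUnit_zero (ha ▸ h.map (algebraMap A A'))
    have h1 : algebraMap A B a ∈ maximalIdeal B := map_nonunit (algebraMap A B) a h0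
    rw [IsScalarTower.algebraMap_apply A B (ResidueField B)]
    exact (residue_eq_zero_iff _).2 h1
  let g : A' →ₐ[A] ResidueField B := AlgHom.liftOfSurjective (Algebra.ofId A A') hs
    (Algebra.ofId A (ResidueField B)) hker
  let φ : B' →ₐ[A] ResidueField B :=
    Algebra.pushoutDesc B' (IsScalarTower.toAlgHom A B (ResidueField B)) g
      (fun _ _ => mul_comm _ _)
  have hle : (maximalIdeal B).map (algebraMap B B') ≤ RingHom.ker φ.toRingHom := by
    rw [Ideal.map_le_iff_le_comap]
    intro b hb
    show φ (algebraMap B B' b) = 0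
    rw [Algebra.pushoutDesc_left]
    exact (residue_eq_zero_iff _).2 hb
  rw [htop] at hle
  have h1 : φ 1 = 0 := hle Submodule.mem_top
  rw [map_one] at h1
  exact one_ne_zero h1

theorem corep_iff_aux (M M' : Type u) [AddCommGroup M] [Module B M] [Module A M]
    [IsScalarTower A B M] [AddCommGroup M'] [Module B' M'] [Module B M'] [IsScalarTower B B' M']
    [Module A' M'] [IsScalarTower A' B' M'] (f : M →ₗ[B] M') (hf : IsBaseChange B' f)
    (I : Ideal A) (h : Corep A B M I) (hs : Function.Surjective (algebraMap A A')) :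
    Module.Flat A' (A' ⊗[A] M) ↔ I ≤ RingHom.ker (algebraMap A A') := by
  haveI : IsLocalHom (algebraMap A A') := IsLocalHom.of_surjective _ hs
  rw [← flatAbove_iff (A := A) (B := B) (B' := B') hs (map_ne_top (A := A) (A' := A') hs) f hf,
    h A' B' M' f hf, ← le_bot_iff, Ideal.map_le_iff_le_comap]
  rfl

theorem corep_iff (M : Type u) [AddCommGroup M] [Module B M] [Module A M] [IsScalarTower A B M]
    (I : Ideal A) (h : Corep A B M I) (J : Ideal A) (hJ : J ≠ ⊤) :
    Module.Flat (A ⧸ J) ((A ⧸ J) ⊗[A] M) ↔ I ≤ J := by
  haveI : Nontrivial (A ⧸ J) := Ideal.Quotient.nontrivial_iff.2 hJ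
  have hs : Function.Surjective (algebraMap A (A ⧸ J)) := Ideal.Quotient.mk_surjective
  haveI : IsLocalRing (A ⧸ J) := IsLocalRing.of_surjective' _ hs
  obtain ⟨B', _, _, _, _, _, _, _⟩ := exists_ring A (A ⧸ J) B
  obtain ⟨M', _, _, _, _, _, _, f, hf⟩ := exists_mod (A ⧸ J) B B' M
  have := corep_iff_aux M M' f hf I h hs
  rwa [Ideal.Quotient.algebraMap_eq, Ideal.mk_ker] at this

end Main

/-- An ideal corepresenting the local flatness functor of a finitely presented module is finitely
generated. -/
theorem corep_fg {A B : Type u} [CommRing A] [IsLocalRing A] [CommRing B] [IsLocalRing B]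
    [Algebra A B] [IsLocalHom (algebraMap A B)] (hB : FlatCA.EssFinitePresentation A B)
    (M : Type u) [AddCommGroup M] [Module B M] [Module A M] [IsScalarTower A B M]
    [Module.FinitePresentation B M] (I : Ideal A) (h : Corep A B M I) : I.FG := by
  by_cases hI : I = ⊤
  · rw [hI]
    exact ⟨{1}, by simp⟩
  obtain ⟨I₀, hle, hfg, hflat⟩ := FlatFGIdeal.exists_fg hB I
    ((corep_iff M I h I hI).2 le_rfl)
  have hI₀ : I₀ ≠ ⊤ := fun h0 => hI (top_le_iff.1 (h0 ▸ hle))
  have := (corep_iff M I h I₀ hI₀).1 hflat
  rwa [le_antisymm this hle]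

end Groth.Agent.Flat2A.LocFunFG
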