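import Groth.Prelude.Def_FlatCA
import Mathlib.RingTheory.Flat.Localization
import Mathlib.RingTheory.Support
import Groth.Agent.Flat2C.FlatAtCriterion

/-!
# Elementwise criteria for (universal) injectivity of localized maps

* `map_injective_iff`, `univInj_map_iff` : elementwise criteria.
* `flatAt_coker`, `flatAt_of_coker` : flatness at a prime of the cokernel of a map from a flat module.
-/

set_option autoImplicit false
universe u

namespace Groth.Agent.Flat2A.LocUnivInj

open TensorProduct

section

variable {S : Type u} [CommRing S] (T : Submonoid S)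
  {N N' : Type u} [AddCommGroup N] [Module S N] [AddCommGroup N'] [Module S N']

theorem map_injective_iff' {L L' : Type*} [AddCommGroup L] [Module S L] [AddCommGroup L']
    [Module S L'] (g : N →ₗ[S] L) (g' : N' →ₗ[S] L') [IsLocalizedModule T g]
    [IsLocalizedModule T g'] (f : N →ₗ[S] N') :
    Function.Injective (IsLocalizedModule.map T g g' f) ↔ ∀ x, f x = 0 → ∃ t ∈ T, t • x = 0 := by
  constructor
  · intro h x hx
    have h1 : g x = 0 := by
      apply h
      rw [IsLocalizedModule.map_apply, hx, map_zero, map_zero]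
    obtain ⟨t, ht⟩ := (IsLocalizedModule.eq_zero_iff T g).mp h1
    exact ⟨t, t.2, ht⟩
  · intro h
    rw [injective_iff_map_eq_zero]
    intro y hy
    obtain ⟨⟨x, t⟩, hx⟩ := IsLocalizedModule.mk'_surjective T g y
    simp only [Function.uncurry_apply_pair] at hx
    subst hx
    rw [IsLocalizedModule.map_mk', IsLocalizedModule.mk'_eq_zero'] at hy
    obtain ⟨s, hs⟩ := hy
    have h3 : f (s.1 • x) = 0 := by rw [map_smul]; exact hs
    obtain ⟨t', ht', h4⟩ := h (s.1 • x) h3
    rw [IsLocalizedModule.mk'_eq_zero']
    exact ⟨⟨t', ht'⟩ * s, by rw [mul_smul]; exact h4⟩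

theorem map_injective_iff (f : N →ₗ[S] N') :
    Function.Injective (LocalizedModule.map T f) ↔ ∀ x, f x = 0 → ∃ t ∈ T, t • x = 0 :=
  map_injective_iff' T (LocalizedModule.mkLinearMap T N) (LocalizedModule.mkLinearMap T N') f

theorem map_surjective_iff (f : N →ₗ[S] N') :
    Function.Surjective (LocalizedModule.map T f) ↔ ∀ x, ∃ t ∈ T, t • x ∈ LinearMap.range f := by
  constructor
  · intro h x
    obtain ⟨y, hy⟩ := h (LocalizedModule.mkLinearMap T N' x)
    obtain ⟨⟨z, t⟩, hz⟩ := IsLocalizedModule.mk'_surjective T (LocalizedModule.mkLinearMap T N) y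
    simp only [Function.uncurry_apply_pair] at hz
    subst hz
    have h1 : LocalizedModule.map T f (IsLocalizedModule.mk' (LocalizedModule.mkLinearMap T N) z t) =
      IsLocalizedModule.mk' (LocalizedModule.mkLinearMap T N') (f z) t :=
      IsLocalizedModule.map_mk' T _ _ f z t
    rw [h1, ← IsLocalizedModule.mk'_one T (LocalizedModule.mkLinearMap T N') x,
      IsLocalizedModule.mk'_eq_mk'_iff] at hy
    obtain ⟨s, hs⟩ := hy
    refine ⟨s.1 * t.1, (s * t).2, s.1 • z, ?_⟩
    rw [map_smul, mul_smul]
    simpa [Submonoid.smul_def] using hs.symm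
  · intro h y
    obtain ⟨⟨x, t⟩, rfl⟩ := IsLocalizedModule.mk'_surjective T (LocalizedModule.mkLinearMap T N') y
    obtain ⟨s, hs, z, hz⟩ := h x
    refine ⟨IsLocalizedModule.mk' (LocalizedModule.mkLinearMap T N) z (⟨s, hs⟩ * t), ?_⟩
    have h1 : LocalizedModule.map T f
        (IsLocalizedModule.mk' (LocalizedModule.mkLinearMap T N) z (⟨s, hs⟩ * t)) =
      IsLocalizedModule.mk' (LocalizedModule.mkLinearMap T N') (f z) (⟨s, hs⟩ * t) :=
      IsLocalizedModule.map_mk' T _ _ f z _
    rw [h1, hz]
    exact IsLocalizedModule.mk'_cancel_left (LocalizedModule.mkLinearMap T N') x ⟨s, hs⟩ t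

end

variable {R S : Type u} [CommRing R] [CommRing S] [Algebra R S] (T : Submonoid S)
  {N N' : Type u} [AddCommGroup N] [Module S N] [Module R N] [IsScalarTower R S N]
  [AddCommGroup N'] [Module S N'] [Module R N'] [IsScalarTower R S N']

theorem univInj_map_iff (f : N →ₗ[S] N') :
    FlatCA.UnivInj R ((LocalizedModule.map T f).restrictScalars R) ↔
      ∀ (Q : Type u) [AddCommGroup Q] [Module R Q] (x : N ⊗[R] Q),
        (f.restrictScalars R).rTensor Q x = 0 → ∃ t ∈ T, t • x = 0 := by
  unfold FlatCA.UnivInj
  refine forall_congr' fun Q => forall_congr' fun _ => forall_congr' fun _ => ?_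
  rw [LinearMap.lTensor_inj_iff_rTensor_inj]
  have key := map_injective_iff' T
    (AlgebraTensorModule.rTensor R Q (LocalizedModule.mkLinearMap T N))
    (AlgebraTensorModule.rTensor R Q (LocalizedModule.mkLinearMap T N'))
    (AlgebraTensorModule.rTensor R Q f)
  have h2 : (IsLocalizedModule.map T
    (AlgebraTensorModule.rTensor R Q (LocalizedModule.mkLinearMap T N))
    (AlgebraTensorModule.rTensor R Q (LocalizedModule.mkLinearMap T N'))
    (AlgebraTensorModule.rTensor R Q f)) = AlgebraTensorModule.rTensor R Q
      ((LocalizedModule.map T f).restrictScalars S) := by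
    apply IsLocalizedModule.ext T
      (AlgebraTensorModule.rTensor R Q (LocalizedModule.mkLinearMap T N))
    · exact IsLocalizedModule.map_units
        (AlgebraTensorModule.rTensor R Q (LocalizedModule.mkLinearMap T N'))
    · refine TensorProduct.AlgebraTensorModule.curry_injective ?_
      ext n q
      simp only [AlgebraTensorModule.curry_apply, curry_apply,
        LinearMap.coe_comp, Function.comp_apply, LinearMap.coe_restrictScalars,
        AlgebraTensorModule.rTensor_tmul, LocalizedModule.mkLinearMap_apply]
      rw [LocalizedModule.map_mk]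
      exact IsLocalizedModule.map_apply T
        (AlgebraTensorModule.rTensor R Q (LocalizedModule.mkLinearMap T N))
        (AlgebraTensorModule.rTensor R Q (LocalizedModule.mkLinearMap T N'))
        (AlgebraTensorModule.rTensor R Q f) (n ⊗ₜ q)
  rw [h2] at key
  exact key

section Coker

variable (q : Ideal S) [q.IsPrime] (α : N →ₗ[S] N')

theorem smul_rTensor (Q : Type u) [AddCommGroup Q] [Module R Q] (t : S) (x : N ⊗[R] Q) :
    (α.restrictScalars R).rTensor Q (t • x) = t • (α.restrictScalars R).rTensor Q x :=
  (AlgebraTensorModule.rTensor R Q α).map_smul t x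

theorem smul_lTensor {Q Q' : Type u} [AddCommGroup Q] [Module R Q] [AddCommGroup Q'] [Module R Q']
    (g : Q →ₗ[R] Q') (t : S) (x : N ⊗[R] Q) :
    g.lTensor N (t • x) = t • g.lTensor N x :=
  (AlgebraTensorModule.lTensor S N g).map_smul t x

theorem lTensor_rTensor_comm {Q Q' : Type u} [AddCommGroup Q] [Module R Q] [AddCommGroup Q']
    [Module R Q'] (g : Q →ₗ[R] Q') (x : N ⊗[R] Q) :
    g.lTensor N' ((α.restrictScalars R).rTensor Q x) =
      (α.restrictScalars R).rTensor Q' (g.lTensor N x) := by
  rw [← LinearMap.comp_apply, ← LinearMap.comp_apply, LinearMap.lTensor_comp_rTensor,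
    LinearMap.rTensor_comp_lTensor]

theorem exact_rTensor_coker (Q : Type u) [AddCommGroup Q] [Module R Q] :
    Function.Exact ((α.restrictScalars R).rTensor Q)
      (((LinearMap.range α).mkQ.restrictScalars R).rTensor Q) := by
  have h1 : Function.Exact (α.restrictScalars R) ((LinearMap.range α).mkQ.restrictScalars R) :=
    fun x => LinearMap.exact_map_mkQ_range α x
  have h2 : Function.Surjective ((LinearMap.range α).mkQ.restrictScalars R) := fun x =>
    Submodule.mkQ_surjective (LinearMap.range α) x
  exact rTensor_exact Q h1 h2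

theorem surjective_rTensor_coker (Q : Type u) [AddCommGroup Q] [Module R Q] :
    Function.Surjective (((LinearMap.range α).mkQ.restrictScalars R).rTensor Q) := by
  have h2 : Function.Surjective ((LinearMap.range α).mkQ.restrictScalars R) := fun x =>
    Submodule.mkQ_surjective (LinearMap.range α) x
  exact LinearMap.rTensor_surjective Q h2

/-- The cokernel of a map which is universally injective at `q`, into a module flat at `q`, is flat
at `q`. -/
theorem flatAt_coker (hN : FlatCA.FlatAt R q N')
    (h : ∀ (Q : Type u) [AddCommGroup Q] [Module R Q] (x : N ⊗[R] Q),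
      (α.restrictScalars R).rTensor Q x = 0 → ∃ t ∉ q, t • x = 0) :
    FlatCA.FlatAt R q (N' ⧸ LinearMap.range α) := by
  rw [Flat2C.FlatAtCriterion.flatAt_iff] at hN ⊢
  intro I x hx
  obtain ⟨n, rfl⟩ := surjective_rTensor_coker (R := R) α I x
  rw [lTensor_rTensor_comm] at hx
  obtain ⟨s, hs⟩ := (exact_rTensor_coker (R := R) α R _).mp hx
  -- reduce mod `I`
  have h1 : (α.restrictScalars R).rTensor (R ⧸ I) ((I.mkQ).lTensor N s) = 0 := by
    rw [← lTensor_rTensor_comm, hs, ← LinearMap.comp_apply, ← LinearMap.lTensor_comp]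
    have : I.mkQ ∘ₗ I.subtype = 0 := by
      ext y
      exact Ideal.Quotient.eq_zero_iff_mem.mpr y.2
    rw [this, LinearMap.lTensor_zero, LinearMap.zero_apply]
  obtain ⟨t, ht, h2⟩ := h _ _ h1
  rw [← smul_lTensor] at h2
  have hex : Function.Exact (I.subtype.lTensor N) (I.mkQ.lTensor N) :=
    lTensor_exact N (LinearMap.exact_subtype_mkQ I) (Submodule.mkQ_surjective I)
  obtain ⟨s', hs'⟩ := (hex _).mp h2
  have h3 : I.subtype.lTensor N' (t • n - (α.restrictScalars R).rTensor I s') = 0 := by
    rw [map_sub, smul_lTensor, lTensor_rTensor_comm, hs', smul_rTensor, hs, sub_self]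
  obtain ⟨t', ht', h4⟩ := hN I _ h3
  refine ⟨t' * t, fun h => (‹q.IsPrime›.mem_or_mem h).elim ht' ht, ?_⟩
  have h5 : ((LinearMap.range α).mkQ.restrictScalars R).rTensor I
      (t' • (t • n - (α.restrictScalars R).rTensor I s')) = 0 := by rw [h4, map_zero]
  rw [smul_rTensor, map_sub, (exact_rTensor_coker (R := R) α I _).mpr ⟨s', rfl⟩, sub_zero,
    smul_rTensor, smul_smul] at h5
  exact h5

/-- If the source is flat and `α` is injective at `q` with cokernel flat at `q`, then the target is
flat at `q`. -/
theorem flatAt_of_coker [Module.Flat R N] (hα : ∀ x, α x = 0 → ∃ t ∉ q, t • x = 0)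
    (hC : FlatCA.FlatAt R q (N' ⧸ LinearMap.range α)) : FlatCA.FlatAt R q N' := by
  rw [Flat2C.FlatAtCriterion.flatAt_iff] at hC ⊢
  intro I n hn
  obtain ⟨t, ht, h1⟩ := hC I (((LinearMap.range α).mkQ.restrictScalars R).rTensor I n) (by
    rw [lTensor_rTensor_comm, hn, map_zero])
  rw [← smul_rTensor] at h1
  obtain ⟨s', hs'⟩ := (exact_rTensor_coker (R := R) α I _).mp h1
  have h2 : (α.restrictScalars R).rTensor R (I.subtype.lTensor N s') = 0 := by
    rw [← lTensor_rTensor_comm, hs', smul_lTensor, hn, smul_zero]
  have h3 : α (TensorProduct.rid R N (I.subtype.lTensor N s')) = 0 := by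
    have : TensorProduct.rid R N' ((α.restrictScalars R).rTensor R (I.subtype.lTensor N s')) =
        α (TensorProduct.rid R N (I.subtype.lTensor N s')) := by
      generalize I.subtype.lTensor N s' = y
      induction y using TensorProduct.induction_on with
      | zero => simp
      | tmul a b => simp
      | add a b ha hb => simp only [map_add, ha, hb]
    rw [← this, h2, map_zero]
  obtain ⟨t', ht', h4⟩ := hα _ h3
  have h5 : I.subtype.lTensor N (t' • s') = 0 := by
    rw [smul_lTensor]
    apply (TensorProduct.rid R N).injective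
    have : ∀ y : N ⊗[R] R, TensorProduct.rid R N (t' • y) = t' • TensorProduct.rid R N y := by
      intro y
      induction y using TensorProduct.induction_on with
      | zero => simp
      | tmul a b => rw [TensorProduct.smul_tmul', TensorProduct.rid_tmul, TensorProduct.rid_tmul,
          smul_comm]
      | add a b ha hb => simp only [smul_add, map_add, ha, hb]
    rw [this, h4, map_zero]
  have h6 : t' • s' = 0 := by
    have hinj := Module.Flat.lTensor_preserves_injective_linearMap (M := N) I.subtype
      I.injective_subtype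
    exact hinj (by rw [h5, map_zero])
  refine ⟨t' * t, fun h => (‹q.IsPrime›.mem_or_mem h).elim ht' ht, ?_⟩
  rw [mul_smul, ← hs', ← smul_rTensor, h6, map_zero]

end Coker

end Groth.Agent.Flat2A.LocUnivInj
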