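import Groth.Prelude.Def_FlatCA
import Groth.Agent.Flat2A.ModInj
import Mathlib.RingTheory.Localization.BaseChange
import Mathlib.RingTheory.Localization.AtPrime.Basic
import Mathlib.RingTheory.Flat.Localization
import Mathlib.RingTheory.FinitePresentation

/-!
# Flat local rings of finite type algebras are essentially of finite presentation
-/

set_option autoImplicit false
universe u

namespace Groth.Agent.Flat2A.LocalFlatEssFP

open TensorProduct

/-- descending a finitely generated kernel from the local ring -/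
theorem essFinitePresentation_of_fg_ker {R P T : Type u} [CommRing R] [CommRing P] [Algebra R P]
    [Algebra.FinitePresentation R P] (q' : Ideal P) [q'.IsPrime] [CommRing T] [Algebra P T] [Algebra R T]
    [IsScalarTower R P T] [Algebra (Localization.AtPrime q') T] [IsScalarTower P (Localization.AtPrime q') T]
    (hsurj : Function.Surjective (algebraMap (Localization.AtPrime q') T))
    (hfg : (RingHom.ker (algebraMap (Localization.AtPrime q') T)).FG) :
    FlatCA.EssFinitePresentation R T := by
  classical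
  set P₁ := Localization.AtPrime q'
  set K := RingHom.ker (algebraMap P₁ T) with hK
  obtain ⟨s, hs⟩ := hfg
  -- choose numerators in the kernel of `P → T`
  have h1 : ∀ k : P₁, k ∈ K → ∃ b : P, algebraMap P T b = 0 ∧ ∃ u : P₁, IsUnit u ∧ algebraMap P P₁ b = u * k := by
    intro k hk
    obtain ⟨⟨a, t⟩, hat⟩ := IsLocalization.surj q'.primeCompl k
    refine ⟨a, ?_, algebraMap P P₁ t, IsLocalization.map_units P₁ t, ?_⟩
    · rw [IsScalarTower.algebraMap_apply P P₁ T, ← hat, map_mul, RingHom.mem_ker.mp hk, zero_mul]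
    · rw [← hat, mul_comm]
  choose! b hb0 u hu hbu using h1
  let I₀ : Ideal P := Ideal.span (s.image b : Set P)
  have hI₀ : I₀.map (algebraMap P P₁) = K := by
    apply le_antisymm
    · rw [Ideal.map_le_iff_le_comap, Ideal.span_le]
      intro x hx
      obtain ⟨k, hk, rfl⟩ := Finset.mem_image.mp (Finset.mem_coe.mp hx)
      have hkK : k ∈ K := hs ▸ Ideal.subset_span hk
      change algebraMap P P₁ (b k) ∈ K
      rw [hK, RingHom.mem_ker, ← IsScalarTower.algebraMap_apply]
      exact hb0 k hkK
    · rw [← hs, Ideal.span_le]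
      intro k hk
      have hkK : k ∈ K := hs ▸ Ideal.subset_span hk
      have h2 : algebraMap P P₁ (b k) ∈ I₀.map (algebraMap P P₁) :=
        Ideal.mem_map_of_mem _ (Ideal.subset_span (Finset.mem_coe.mpr (Finset.mem_image_of_mem b hk)))
      rw [hbu k hkK] at h2
      exact (Ideal.unit_mul_mem_iff_mem _ (hu k hkK)).mp h2
  have hle : I₀ ≤ RingHom.ker (algebraMap P T) := by
    rw [Ideal.span_le]
    intro x hx
    obtain ⟨k, hk, rfl⟩ := Finset.mem_image.mp (Finset.mem_coe.mp hx)
    exact hb0 k (hs ▸ Ideal.subset_span hk)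
  let _ : Algebra (P ⧸ I₀) T := (Ideal.Quotient.lift I₀ (algebraMap P T) hle).toAlgebra
  have htower : IsScalarTower P (P ⧸ I₀) T := IsScalarTower.of_algebraMap_eq (fun _ => rfl)
  have htower' : IsScalarTower R (P ⧸ I₀) T := IsScalarTower.of_algebraMap_eq (fun x => by
    rw [IsScalarTower.algebraMap_apply R P T, IsScalarTower.algebraMap_apply P (P ⧸ I₀) T]
    rfl)
  refine ⟨P ⧸ I₀, inferInstance, inferInstance, inferInstance, htower',
    q'.primeCompl.map (algebraMap P (P ⧸ I₀)),
    Algebra.FinitePresentation.quotient ⟨s.image b, rfl⟩, ?_⟩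
  refine ⟨?_, ?_, ?_⟩
  · rintro ⟨_, t, ht, rfl⟩
    rw [← IsScalarTower.algebraMap_apply, IsScalarTower.algebraMap_apply P P₁ T]
    exact (IsLocalization.map_units P₁ (⟨t, ht⟩ : q'.primeCompl)).map _
  · intro z
    obtain ⟨z₁, rfl⟩ := hsurj z
    obtain ⟨⟨a, t⟩, hat⟩ := IsLocalization.surj q'.primeCompl z₁
    refine ⟨⟨algebraMap P (P ⧸ I₀) a, ⟨algebraMap P (P ⧸ I₀) t, t, t.2, rfl⟩⟩, ?_⟩
    change _ * algebraMap (P ⧸ I₀) T (algebraMap P (P ⧸ I₀) t) = algebraMap (P ⧸ I₀) T (algebraMap P (P ⧸ I₀) a)
    rw [← IsScalarTower.algebraMap_apply, ← IsScalarTower.algebraMap_apply,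
      IsScalarTower.algebraMap_apply P P₁ T, IsScalarTower.algebraMap_apply P P₁ T a, ← hat, map_mul]
  · intro x y hxy
    obtain ⟨x, rfl⟩ := Ideal.Quotient.mk_surjective x
    obtain ⟨y, rfl⟩ := Ideal.Quotient.mk_surjective y
    have h2 : algebraMap P T (x - y) = 0 := by
      rw [map_sub, sub_eq_zero]
      exact hxy
    have h3 : algebraMap P P₁ (x - y) ∈ I₀.map (algebraMap P P₁) := by
      rw [hI₀, hK, RingHom.mem_ker, ← IsScalarTower.algebraMap_apply, h2]
    rw [IsLocalization.mem_map_algebraMap_iff q'.primeCompl P₁] at h3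
    obtain ⟨⟨i, t⟩, hit⟩ := h3
    rw [← map_mul, IsLocalization.eq_iff_exists q'.primeCompl P₁] at hit
    obtain ⟨c, hc⟩ := hit
    refine ⟨⟨algebraMap P (P ⧸ I₀) (c * t), c * t, q'.primeCompl.mul_mem c.2 t.2, rfl⟩, ?_⟩
    change algebraMap P (P ⧸ I₀) (c * t) * algebraMap P (P ⧸ I₀) x = algebraMap P (P ⧸ I₀) (c * t) * algebraMap P (P ⧸ I₀) y
    rw [← sub_eq_zero, ← mul_sub, ← map_sub, ← map_mul]
    refine Ideal.Quotient.eq_zero_iff_mem.mpr ?_
    have h4 : (c : P) * t * (x - y) = c * i := by rw [← hc]; ring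
    rw [h4]
    exact I₀.mul_mem_left _ i.2

/-- Stacks 05I8. -/
theorem essFinitePresentation_of_flat {R S : Type u} [CommRing R] [CommRing S] [Algebra R S] [Algebra.FiniteType R S]
    (q : Ideal S) [q.IsPrime] [Module.Flat R (Localization.AtPrime q)] :
    FlatCA.EssFinitePresentation R (Localization.AtPrime q) := by
  obtain ⟨n, φ, hφ⟩ := Algebra.FiniteType.iff_quotient_mvPolynomial''.mp ‹Algebra.FiniteType R S›
  let P := MvPolynomial (Fin n) R
  let _ : Algebra P S := φ.toRingHom.toAlgebra
  have : IsScalarTower R P S := IsScalarTower.of_algebraMap_eq (fun x => (φ.commutes x).symm)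
  let q' : Ideal P := q.under P
  let p : Ideal R := q'.under R
  let R₁ := Localization.AtPrime p
  let P₁ := Localization.AtPrime q'
  let T := Localization.AtPrime q
  let _ : Algebra R₁ P₁ := Localization.AtPrime.algebraOfLiesOver p q'
  let _ : Algebra P₁ T := Localization.AtPrime.algebraOfLiesOver q' q
  let _ : Algebra R₁ T := ((algebraMap P₁ T).comp (algebraMap R₁ P₁)).toAlgebra
  have : IsScalarTower R₁ P₁ T := IsScalarTower.of_algebraMap_eq (fun _ => rfl)
  have : IsScalarTower P P₁ T := inferInstance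
  have : IsScalarTower R P T := IsScalarTower.of_algebraMap_eq (fun x => by
    rw [IsScalarTower.algebraMap_apply R S T, IsScalarTower.algebraMap_apply P S T,
      ← IsScalarTower.algebraMap_apply R P S])
  have : IsScalarTower R R₁ P₁ := inferInstance
  have : IsScalarTower R P₁ T := IsScalarTower.of_algebraMap_eq (fun x => by
    rw [IsScalarTower.algebraMap_apply R P T, IsScalarTower.algebraMap_apply P P₁ T,
      ← IsScalarTower.algebraMap_apply R P P₁])
  have : IsScalarTower R R₁ T := IsScalarTower.of_algebraMap_eq (fun x => by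
    rw [IsScalarTower.algebraMap_apply R P₁ T, IsScalarTower.algebraMap_apply R R₁ P₁]
    rfl)
  have : IsLocalHom (algebraMap R₁ P₁) := by
    rw [Localization.AtPrime.IsLiesOverAlgebra.algebraMap_eq]
    infer_instance
  have : Module.Flat R₁ T := (Module.flat_iff_of_isLocalization R₁ p.primeCompl T).mpr inferInstance
  have : Algebra.EssFiniteType R P₁ := by
    have : Algebra.EssFiniteType P P₁ := Algebra.EssFiniteType.of_isLocalization P₁ q'.primeCompl
    exact Algebra.EssFiniteType.comp R P P₁
  have : Algebra.EssFiniteType R₁ P₁ := Algebra.EssFiniteType.of_comp R R₁ P₁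
  have hsurj : Function.Surjective (algebraMap P₁ T) := by
    intro z
    obtain ⟨⟨a, t⟩, hat⟩ := IsLocalization.surj q.primeCompl z
    obtain ⟨a, rfl⟩ := hφ a
    obtain ⟨t, ht⟩ := t
    obtain ⟨t, rfl⟩ := hφ t
    have ht' : t ∈ q'.primeCompl := fun h => ht h
    refine ⟨IsLocalization.mk' P₁ a (⟨t, ht'⟩ : q'.primeCompl), ?_⟩
    have hu : IsUnit (algebraMap P T t) := by
      rw [IsScalarTower.algebraMap_apply P P₁ T]
      exact (IsLocalization.map_units P₁ (⟨t, ht'⟩ : q'.primeCompl)).map _
    apply hu.mul_right_cancel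
    rw [IsScalarTower.algebraMap_apply P P₁ T, ← map_mul, IsLocalization.mk'_spec,
      ← IsScalarTower.algebraMap_apply P P₁ T, ← IsScalarTower.algebraMap_apply P P₁ T]
    rw [IsScalarTower.algebraMap_apply P S T, IsScalarTower.algebraMap_apply P S T]
    exact hat.symm
  have : Module.Finite P₁ T := Module.Finite.of_surjective (Algebra.linearMap P₁ T) hsurj
  have hfp : Module.FinitePresentation P₁ T :=
    (ModInj.main (R := R₁) (S := P₁) (LinearMap.id : T →ₗ[P₁] T) (by
      have : (LinearMap.id : T →ₗ[P₁] T).restrictScalars R₁ = LinearMap.id := rfl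
      rw [this, LinearMap.lTensor_id]
      exact Function.injective_id)).2.2
  exact essFinitePresentation_of_fg_ker (P := P) q' hsurj
    (Module.FinitePresentation.fg_ker (Algebra.linearMap P₁ T) hsurj)

end Groth.Agent.Flat2A.LocalFlatEssFP
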