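import Groth.Prelude.Def_FlatCA
import Mathlib.RingTheory.LocalRing.Basic
import Mathlib.LinearAlgebra.TensorProduct.Basic
import Mathlib.RingTheory.Nakayama
import Mathlib.RingTheory.Finiteness.Nakayama
import Mathlib.LinearAlgebra.TensorProduct.RightExactness

/-!
# Nakayama argument for modules which are locally summands of finite modules (Stacks 05IU, 05FV)
-/

set_option autoImplicit false

universe u v w

namespace Groth.Agent.Flat2A.LocalSummand

open TensorProduct IsLocalRing

variable {R : Type u} [CommRing R]

/-- A surjectivity criterion: an endomorphism `φ` of a finite module over a local ring with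
`p - φ p ∈ 𝔪 P` for all `p` is bijective. -/
theorem bijective_of_sub_mem [IsLocalRing R] {P : Type v} [AddCommGroup P] [Module R P]
    [Module.Finite R P] (φ : P →ₗ[R] P)
    (h : ∀ p : P, p - φ p ∈ (maximalIdeal R • ⊤ : Submodule R P)) :
    Function.Bijective φ := by
  have hs : Function.Surjective φ := by
    rw [← LinearMap.range_eq_top]
    refine top_le_iff.mp ?_
    refine Submodule.le_of_le_smul_of_le_jacobson_bot (I := maximalIdeal R)
      Module.Finite.fg_top ?_ ?_
    · exact (IsLocalRing.jacobson_eq_maximalIdeal ⊥ bot_ne_top).ge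
    · intro p _
      have : p = φ p + (p - φ p) := by abel
      rw [this]
      exact Submodule.add_mem_sup (LinearMap.mem_range_self _ _) (h p)
  exact OrzechProperty.bijective_of_surjective_endomorphism φ hs

/-- The key lemma: `N` a module over a local ring `R` with an action of an `R`-algebra `S`,
`z ∈ N ⊗ M` an element which is fixed by a map `i ∘ e` factoring through a finite module.
If `f ∈ S` kills `z` and `1 - f ∈ 𝔪 S`, then `z = 0`. -/
theorem eq_zero_of_smul_eq_zero [IsLocalRing R] {S : Type v} [CommRing S] [Algebra R S]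
    {N : Type w} [AddCommGroup N] [Module S N] [Module R N] [IsScalarTower R S N]
    {M : Type*} [AddCommGroup M] [Module R M]
    {P : Type*} [AddCommGroup P] [Module R P] [Module.Finite R P]
    (i : P →ₗ[R] N) (e : N →ₗ[R] P) (z : N ⊗[R] M)
    (hz : (i ∘ₗ e).rTensor M z = z) (f : S)
    (hf : 1 - f ∈ (maximalIdeal R).map (algebraMap R S)) (hfz : f • z = 0) : z = 0 := by
  -- the endomorphism
  let F : N →ₗ[R] N := (LinearMap.lsmul S N f).restrictScalars R
  have hFz : F.rTensor M z = 0 := by
    have : ∀ y : N ⊗[R] M, F.rTensor M y = f • y := by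
      intro y
      induction y using TensorProduct.induction_on with
      | zero => simp
      | tmul n m => simp [F, TensorProduct.smul_tmul']
      | add a b ha hb => rw [map_add, ha, hb, smul_add]
    rw [this, hfz]
  let φ : P →ₗ[R] P := (LinearMap.id - e ∘ₗ i) + e ∘ₗ F ∘ₗ i
  have key : ∀ n : N, n - F n ∈ (maximalIdeal R • ⊤ : Submodule R N) := by
    intro n
    have h1 : n - F n = (1 - f) • n := by simp [F, sub_smul]
    rw [h1]
    have h2 : ∀ a ∈ (maximalIdeal R).map (algebraMap R S), a • n ∈
        (maximalIdeal R • ⊤ : Submodule R N) := by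
      intro a ha
      refine Submodule.span_induction (p := fun a _ => a • n ∈
        (maximalIdeal R • ⊤ : Submodule R N)) ?_ ?_ ?_ ?_ ha
      · rintro _ ⟨r, hr, rfl⟩
        rw [algebraMap_smul]
        exact Submodule.smul_mem_smul hr trivial
      · simp
      · intro x y _ _ hx hy
        rw [add_smul]
        exact Submodule.add_mem _ hx hy
      · intro a x _ hx
        rw [smul_eq_mul, mul_smul]
        -- multiplication by `a : S` preserves `𝔪 N`
        have : (maximalIdeal R • ⊤ : Submodule R N) ≤
            (maximalIdeal R • ⊤ : Submodule R N).comap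
              ((LinearMap.lsmul S N a).restrictScalars R) := by
          rw [Submodule.smul_le]
          intro r hr y _
          simp only [Submodule.mem_comap, LinearMap.coe_restrictScalars, LinearMap.lsmul_apply]
          rw [smul_comm]
          exact Submodule.smul_mem_smul hr trivial
        exact this hx
    exact h2 _ hf
  have hφ : Function.Bijective φ := by
    refine bijective_of_sub_mem φ ?_
    intro p
    have h1 : p - φ p = e (i p - F (i p)) := by
      simp only [φ, LinearMap.add_apply, LinearMap.sub_apply, LinearMap.id_apply,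
        LinearMap.comp_apply, map_sub]
      abel
    rw [h1]
    have : (maximalIdeal R • ⊤ : Submodule R N) ≤
        (maximalIdeal R • ⊤ : Submodule R P).comap e := by
      rw [Submodule.smul_le]
      intro r hr y _
      simp only [Submodule.mem_comap, map_smul]
      exact Submodule.smul_mem_smul hr trivial
    exact this (key _)
  let E : P ≃ₗ[R] P := LinearEquiv.ofBijective φ hφ
  have hinj : Function.Injective (φ.rTensor M) := by
    have h1 : (E.rTensor M : P ⊗[R] M →ₗ[R] P ⊗[R] M) = φ.rTensor M := by
      ext; simp [E]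
    rw [← h1]
    exact (E.rTensor M).injective
  have hz' : φ.rTensor M (e.rTensor M z) = 0 := by
    have h1 : φ.rTensor M (e.rTensor M z) =
        (e.rTensor M z - e.rTensor M ((i ∘ₗ e).rTensor M z)) +
          e.rTensor M (F.rTensor M ((i ∘ₗ e).rTensor M z)) := by
      have : φ ∘ₗ e = (e - e ∘ₗ (i ∘ₗ e)) + e ∘ₗ F ∘ₗ (i ∘ₗ e) := by
        ext n
        simp [φ]
      rw [← LinearMap.comp_apply, ← LinearMap.rTensor_comp, this, LinearMap.rTensor_add,
        LinearMap.rTensor_sub]
      simp only [LinearMap.rTensor_comp, LinearMap.add_apply, LinearMap.sub_apply,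
        LinearMap.comp_apply]
    rw [h1, hz, hFz]
    simp
  have h0 : e.rTensor M z = 0 := by
    apply hinj
    rw [hz', map_zero]
  rw [← hz, LinearMap.rTensor_comp, LinearMap.comp_apply, h0, map_zero]

/-- Consequence for annihilator primes. -/
theorem sup_ne_top_of_fixed [IsLocalRing R] {S : Type u} [CommRing S] [Algebra R S]
    {N : Type u} [AddCommGroup N] [Module S N] [Module R N] [IsScalarTower R S N]
    {M : Type u} [AddCommGroup M] [Module R M]
    (H : ∀ z : N ⊗[R] M, ∃ (P : Type u) (_ : AddCommGroup P) (_ : Module R P)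
      (_ : Module.Finite R P) (i : P →ₗ[R] N) (e : N →ₗ[R] P), (i ∘ₗ e).rTensor M z = z)
    (q : Ideal S) [q.IsPrime] (hq : q ∈ FlatCA.ass S (N ⊗[R] M)) :
    q ⊔ (maximalIdeal R).map (algebraMap R S) ≠ ⊤ := by
  intro htop
  obtain ⟨hqp, z, hz⟩ := hq
  obtain ⟨f, hf, g, hg, hfg⟩ := Submodule.mem_sup.mp ((Ideal.eq_top_iff_one _).mp htop)
  obtain ⟨P, _, _, _, i, e, hie⟩ := H z
  have hfz : f • z = 0 := by
    rw [hz] at hf
    exact (Submodule.mem_annihilator_span_singleton _ _).mp hf
  have h1 : 1 - f ∈ (maximalIdeal R).map (algebraMap R S) := by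
    rw [← hfg]; simpa using hg
  have h0 := eq_zero_of_smul_eq_zero i e z hie f h1 hfz
  apply hqp.ne_top
  rw [hz, h0]
  rw [Ideal.eq_top_iff_one, Submodule.mem_annihilator_span_singleton]
  simp

end Groth.Agent.Flat2A.LocalSummand
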