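import Groth.Agent.FlatA.LocalCriterion
import Mathlib.RingTheory.AdicCompletion.Basic
import Mathlib.RingTheory.HopkinsLevitzki
import Mathlib.RingTheory.IsTensorProduct
import Mathlib.RingTheory.Filtration
import Mathlib.Order.Zorn
import Mathlib.RingTheory.Ideal.Quotient.Noetherian
import Mathlib.RingTheory.TensorProduct.Basic
import Mathlib.RingTheory.Jacobson.Ideal
import Mathlib.RingTheory.Flat.Stability

/-!
# Minimal ideals `I` of a complete Noetherian local ring `L` with `N/IN` flat over `L/I`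
-/

set_option autoImplicit false
universe u v w

namespace Groth.Agent.Flat2A.MinFlatIdeal

open TensorProduct IsLocalRing

section chevalley

variable {L : Type*} [CommRing L] [IsLocalRing L] [IsNoetherianRing L]

/-- in a Noetherian local ring, every ideal is closed for the topology of the maximal ideal -/
theorem mem_of_forall_mem_sup_pow (I : Ideal L) (x : L)
    (h : ∀ n : ℕ, x ∈ I ⊔ maximalIdeal L ^ n) : x ∈ I := by
  have h1 : (⨅ i : ℕ, maximalIdeal L ^ i • (⊤ : Submodule L (L ⧸ I))) = ⊥ :=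
    Ideal.iInf_pow_smul_eq_bot_of_isLocalRing _ (Ideal.IsPrime.ne_top')
  have h2 : (Ideal.Quotient.mk I x) ∈ (⨅ i : ℕ, maximalIdeal L ^ i • (⊤ : Submodule L (L ⧸ I))) := by
    rw [Submodule.mem_iInf]
    intro n
    obtain ⟨y, hy, z, hz, hyz⟩ := Submodule.mem_sup.mp (h n)
    rw [← hyz, map_add, Ideal.Quotient.eq_zero_iff_mem.mpr hy, zero_add]
    have : Ideal.Quotient.mk I z = z • (1 : L ⧸ I) := by
      rw [Algebra.smul_def, mul_one]; rfl
    rw [this]
    exact Submodule.smul_mem_smul hz Submodule.mem_top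
  rw [h1, Submodule.mem_bot] at h2
  exact Ideal.Quotient.eq_zero_iff_mem.mp h2

theorem exists_le_sup_pow (c : Set (Ideal L)) (hc : IsChain (· ≤ ·) c) (hne : c.Nonempty) (n : ℕ) :
    ∃ I ∈ c, ∀ J ∈ c, I ≤ J ⊔ maximalIdeal L ^ n := by
  rcases Nat.eq_zero_or_pos n with rfl | hn
  · obtain ⟨I, hI⟩ := hne
    refine ⟨I, hI, fun J _ => ?_⟩
    simp
  have hart : IsArtinianRing (L ⧸ maximalIdeal L ^ n) := by
    have : Nontrivial (L ⧸ maximalIdeal L ^ n) := by
      apply Ideal.Quotient.nontrivial_iff.mpr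
      intro h
      have := Ideal.pow_le_self (I := maximalIdeal L) hn.ne'
      rw [h, top_le_iff] at this
      exact (Ideal.IsPrime.ne_top' this)
    have : IsLocalRing (L ⧸ maximalIdeal L ^ n) :=
      IsLocalRing.of_surjective' (Ideal.Quotient.mk _) Ideal.Quotient.mk_surjective
    rw [isArtinianRing_iff_isNilpotent_maximalIdeal]
    refine ⟨n, ?_⟩
    have h1 : maximalIdeal (L ⧸ maximalIdeal L ^ n) =
        (maximalIdeal L).map (Ideal.Quotient.mk (maximalIdeal L ^ n)) :=
      ((IsLocalRing.map_maximalIdeal_of_surjective _ Ideal.Quotient.mk_surjective)).symm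
    rw [h1, ← Ideal.map_pow]
    exact Ideal.map_quotient_self _
  let g : c → Ideal (L ⧸ maximalIdeal L ^ n) := fun I => I.1.map (Ideal.Quotient.mk (maximalIdeal L ^ n))
  obtain ⟨I₀, hI₀⟩ := hne
  have hwf : WellFounded (fun (a b : Ideal (L ⧸ maximalIdeal L ^ n)) => a < b) :=
    (inferInstance : IsArtinian (L ⧸ maximalIdeal L ^ n) (L ⧸ maximalIdeal L ^ n)).wf
  obtain ⟨K, ⟨I, rfl⟩, hK⟩ := hwf.has_min (Set.range g) ⟨_, ⟨⟨I₀, hI₀⟩, rfl⟩⟩
  refine ⟨I.1, I.2, fun J hJ => ?_⟩
  have key : g I ≤ g ⟨J, hJ⟩ := by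
    rcases hc.total I.2 hJ with h | h
    · exact Ideal.map_mono h
    · have h2 : g ⟨J, hJ⟩ ≤ g I := Ideal.map_mono h
      have h3 := hK (g ⟨J, hJ⟩) ⟨_, rfl⟩
      by_contra h4
      exact h3 (lt_of_le_not_ge h2 h4)
  have h5 : I.1 ≤ Ideal.comap (Ideal.Quotient.mk (maximalIdeal L ^ n)) (g ⟨J, hJ⟩) :=
    Ideal.map_le_iff_le_comap.mp key
  refine h5.trans ?_
  rw [Ideal.comap_map_of_surjective _ Ideal.Quotient.mk_surjective, ← RingHom.ker_eq_comap_bot,
    Ideal.mk_ker]

/-- Chevalley's theorem for chains of ideals of a complete Noetherian local ring. -/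
theorem chevalley [IsAdicComplete (maximalIdeal L) L] (c : Set (Ideal L))
    (hc : IsChain (· ≤ ·) c) (hne : c.Nonempty) (n : ℕ) :
    ∃ I ∈ c, I ≤ sInf c ⊔ maximalIdeal L ^ n := by
  choose I hI hI' using exists_le_sup_pow c hc hne
  refine ⟨I n, hI n, fun x hx => ?_⟩
  have step : ∀ (k : ℕ) (y : L), y ∈ I k → ∃ z ∈ I (k + 1), z - y ∈ maximalIdeal L ^ k := by
    intro k y hy
    obtain ⟨a, ha, b, hb, hab⟩ := Submodule.mem_sup.mp (hI' k _ (hI (k + 1)) hy)
    refine ⟨a, ha, ?_⟩
    rw [← hab, sub_add_cancel_left]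
    exact neg_mem hb
  choose! nx hnx hnx' using step
  let f : ℕ → L := fun i => Nat.rec x (fun j y => nx (n + j) y) i
  have hf0 : f 0 = x := rfl
  have hfs : ∀ i, f (i + 1) = nx (n + i) (f i) := fun i => rfl
  have hfI : ∀ i, f i ∈ I (n + i) := by
    intro i
    induction i with
    | zero => exact hx
    | succ i ih => rw [hfs]; exact hnx _ _ ih
  have hfd : ∀ i, f (i + 1) - f i ∈ maximalIdeal L ^ (n + i) := by
    intro i
    rw [hfs]
    exact hnx' _ _ (hfI i)
  have hfd' : ∀ i k, f (i + k) - f i ∈ maximalIdeal L ^ (n + i) := by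
    intro i k
    induction k with
    | zero => simp
    | succ k ih =>
      have : f (i + (k + 1)) - f i = (f (i + k + 1) - f (i + k)) + (f (i + k) - f i) := by ring_nf
      rw [this]
      exact add_mem (Ideal.pow_le_pow_right (by omega) (hfd (i + k))) ih
  obtain ⟨y, hy⟩ := IsPrecomplete.prec' (I := maximalIdeal L) (M := L) f (by
    intro a b hab
    obtain ⟨k, rfl⟩ := Nat.exists_eq_add_of_le hab
    rw [SModEq.sub_mem, ← neg_sub]
    apply neg_mem
    have := Ideal.pow_le_pow_right (I := maximalIdeal L) (show a ≤ n + a by omega) (hfd' a k)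
    simpa using this)
  have hy' : ∀ i, f i - y ∈ maximalIdeal L ^ i := by
    intro i
    have := hy i
    rw [SModEq.sub_mem] at this
    simpa using this
  have hyc : y ∈ sInf c := by
    rw [Submodule.mem_sInf]
    intro J hJ
    refine mem_of_forall_mem_sup_pow J y (fun i => ?_)
    have h0 : maximalIdeal L ^ (n + i) ≤ maximalIdeal L ^ i := Ideal.pow_le_pow_right (by omega)
    have h1 : f i ∈ J ⊔ maximalIdeal L ^ i :=
      (sup_le_sup_left h0 J : J ⊔ maximalIdeal L ^ (n + i) ≤ _) (hI' (n + i) J hJ (hfI i))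
    have h2 : y = f i - (f i - y) := by ring
    rw [h2]
    exact sub_mem h1 (Ideal.mem_sup_right (hy' i))
  have h3 : x = y + (x - y) := by ring
  rw [h3]
  refine add_mem (Ideal.mem_sup_left hyc) (Ideal.mem_sup_right ?_)
  have h4 : x - y = (f n - y) - (f (0 + n) - f 0) := by rw [hf0, zero_add]; ring
  rw [h4]
  exact sub_mem (hy' n) (by simpa using hfd' 0 n)

end chevalley

section flat

variable {A : Type u} {B : Type v} {N : Type w} [CommRing A] [CommRing B] [Algebra A B]
  [IsNoetherianRing A] [IsNoetherianRing B] [AddCommGroup N] [Module A N] [Module B N]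
  [IsScalarTower A B N] [Module.Finite B N]

/-- Local criterion of flatness, quotient form: for a local homomorphism of Noetherian local rings and a finite
module over the target, flatness of all `N/m^nN` over `A/m^n` gives flatness. -/
theorem flat_of_forall_quotient_pow [IsLocalRing A] [IsLocalRing B] [IsLocalHom (algebraMap A B)]
    (h : ∀ n : ℕ, 0 < n → Module.Flat (A ⧸ maximalIdeal A ^ n) ((A ⧸ maximalIdeal A ^ n) ⊗[A] N)) :
    Module.Flat A N := by
  have hloc : (maximalIdeal A).map (algebraMap A B) ≤ maximalIdeal B :=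
    ((IsLocalRing.local_hom_TFAE (algebraMap A B)).out 0 2).1 ‹_›
  exact Groth.Agent.FlatA.LocalCriterion.flat_of_forall_flat_quotient_pow (B := B) (maximalIdeal A)
    (hloc.trans (IsLocalRing.maximalIdeal_le_jacobson _)) h

attribute [local instance] Algebra.TensorProduct.rightAlgebra

/-- flatness of `N/IN` over `A/I` passes to `C ⊗ N` for all `A`-algebras `C` killed by `I` -/
theorem flat_baseChange_of_le_ker {A : Type u} {N : Type w} {C : Type v} [CommRing A] [AddCommGroup N] [Module A N]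
    [CommRing C] [Algebra A C] {I : Ideal A} (hI : I ≤ RingHom.ker (algebraMap A C))
    (h : Module.Flat (A ⧸ I) ((A ⧸ I) ⊗[A] N)) : Module.Flat C (C ⊗[A] N) := by
  let _ : Algebra (A ⧸ I) C := (Ideal.Quotient.lift I (algebraMap A C) hI).toAlgebra
  have _ : IsScalarTower A (A ⧸ I) C := IsScalarTower.of_algebraMap_eq (fun _ => rfl)
  exact Module.Flat.of_linearEquiv
    (TensorProduct.AlgebraTensorModule.cancelBaseChange A (A ⧸ I) C C N).symm

/-- flatness of `N/IN` over `A/I` passes to larger ideals -/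
theorem flat_quotient_mono {A : Type u} {N : Type w} [CommRing A] [AddCommGroup N] [Module A N] {I J : Ideal A} (hIJ : I ≤ J)
    (h : Module.Flat (A ⧸ I) ((A ⧸ I) ⊗[A] N)) : Module.Flat (A ⧸ J) ((A ⧸ J) ⊗[A] N) :=
  flat_baseChange_of_le_ker (by rwa [Ideal.Quotient.algebraMap_eq, Ideal.mk_ker]) h

theorem flat_sInf [IsLocalRing A] [IsLocalRing B] [IsLocalHom (algebraMap A B)] [IsAdicComplete (maximalIdeal A) A]
    (c : Set (Ideal A)) (hc : IsChain (· ≤ ·) c) (hne : c.Nonempty)
    (h : ∀ I ∈ c, Module.Flat (A ⧸ I) ((A ⧸ I) ⊗[A] N)) :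
    Module.Flat (A ⧸ sInf c) ((A ⧸ sInf c) ⊗[A] N) := by
  set J := sInf c with hJ
  let A' := A ⧸ J
  let B' := A' ⊗[A] B
  let N' := B' ⊗[B] N
  let e : N' ≃ₗ[A'] A' ⊗[A] N := Algebra.IsPushout.cancelBaseChange A A' B B' N
  suffices Module.Flat A' N' from Module.Flat.of_linearEquiv e.symm
  have hsurj : Function.Surjective (algebraMap B B') :=
    Algebra.TensorProduct.includeRight_surjective B Ideal.Quotient.mk_surjective
  have hB' : IsNoetherianRing B' := isNoetherianRing_of_surjective B B' (algebraMap B B') hsurj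
  have hloc : (maximalIdeal A).map (algebraMap A B) ≤ maximalIdeal B :=
    ((IsLocalRing.local_hom_TFAE (algebraMap A B)).out 0 2).1 ‹_›
  refine Groth.Agent.FlatA.LocalCriterion.flat_of_forall_flat_quotient_pow (A := A') (B := B') (N := N')
    ((maximalIdeal A).map (algebraMap A A')) ?_ ?_
  · have h1 : ((maximalIdeal A).map (algebraMap A A')).map (algebraMap A' B') =
        ((maximalIdeal A).map (algebraMap A B)).map (algebraMap B B') := by
      rw [Ideal.map_map, Ideal.map_map, ← IsScalarTower.algebraMap_eq, ← IsScalarTower.algebraMap_eq]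
    rw [h1]
    refine (Ideal.map_mono hloc).trans ?_
    intro x hx
    obtain ⟨y, hy, rfl⟩ := (Ideal.mem_map_iff_of_surjective _ hsurj).mp hx
    rw [Ideal.mem_jacobson_bot]
    intro z
    obtain ⟨w, rfl⟩ := hsurj z
    rw [← map_mul, ← map_one (algebraMap B B'), ← map_add]
    apply IsUnit.map
    have h2 : y * w ∈ maximalIdeal B := Ideal.mul_mem_right _ _ hy
    by_contra h3
    have h4 : y * w + 1 ∈ maximalIdeal B := h3
    have h5 : (1 : B) ∈ maximalIdeal B := by
      have := sub_mem h4 h2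
      rwa [add_sub_cancel_left] at this
    exact (Ideal.ne_top_iff_one _).mp (Ideal.IsPrime.ne_top') h5
  · intro n hn
    obtain ⟨I, hIc, hI⟩ := chevalley c hc hne n
    set In := (maximalIdeal A).map (algebraMap A A') ^ n with hIn
    have hker : I ≤ RingHom.ker (algebraMap A (A' ⧸ In)) := by
      refine hI.trans (sup_le ?_ ?_)
      · intro x hx
        rw [RingHom.mem_ker, IsScalarTower.algebraMap_apply A A' (A' ⧸ In)]
        have : algebraMap A A' x = 0 := Ideal.Quotient.eq_zero_iff_mem.mpr hx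
        rw [this, map_zero]
      · intro x hx
        rw [RingHom.mem_ker, IsScalarTower.algebraMap_apply A A' (A' ⧸ In), Ideal.Quotient.algebraMap_eq,
          Ideal.Quotient.eq_zero_iff_mem, hIn, ← Ideal.map_pow]
        exact Ideal.mem_map_of_mem _ hx
    have h1 := flat_baseChange_of_le_ker hker (h I hIc)
    refine Module.Flat.of_linearEquiv
      (TensorProduct.AlgebraTensorModule.congr (LinearEquiv.refl (A' ⧸ In) (A' ⧸ In)) e ≪≫ₗ
        TensorProduct.AlgebraTensorModule.cancelBaseChange A A' (A' ⧸ In) (A' ⧸ In) N)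

end flat

section main

theorem exists_minimal_flat_ideal {L S N : Type u} [CommRing L] [IsLocalRing L] [IsNoetherianRing L]
    [IsAdicComplete (maximalIdeal L) L] [CommRing S] [IsLocalRing S] [IsNoetherianRing S] [Algebra L S]
    [IsLocalHom (algebraMap L S)] [AddCommGroup N] [Module S N] [Module L N] [IsScalarTower L S N]
    [Module.Finite S N] :
    ∃ I : Ideal L, Minimal (fun I : Ideal L => Module.Flat (L ⧸ I) ((L ⧸ I) ⊗[L] N)) I := by
  obtain ⟨m, hm⟩ := zorn_le₀ (α := (Ideal L)ᵒᵈ)
    {I | Module.Flat (L ⧸ (OrderDual.ofDual I)) ((L ⧸ (OrderDual.ofDual I)) ⊗[L] N)} (by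
      intro c hc hchain
      by_cases hne : c.Nonempty
      · refine ⟨OrderDual.toDual (sInf (OrderDual.ofDual '' c)), ?_, ?_⟩
        · refine flat_sInf (B := S) (OrderDual.ofDual '' c) ?_ (hne.image _) ?_
          · rintro _ ⟨a, ha, rfl⟩ _ ⟨b, hb, rfl⟩ hab
            exact (hchain ha hb (fun h => hab (by rw [h]))).symm
          · rintro _ ⟨a, ha, rfl⟩
            exact hc ha
        · intro z hz
          change sInf (OrderDual.ofDual '' c) ≤ OrderDual.ofDual z
          exact sInf_le (Set.mem_image_of_mem _ hz)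
      · refine ⟨OrderDual.toDual (maximalIdeal L), ?_, ?_⟩
        · let _ : Field (L ⧸ maximalIdeal L) := Ideal.Quotient.field _
          exact (inferInstance : Module.Flat (L ⧸ maximalIdeal L) ((L ⧸ maximalIdeal L) ⊗[L] N))
        · intro z hz
          exact absurd (Set.nonempty_of_mem hz) hne)
  exact ⟨OrderDual.ofDual m, hm.1, fun I hI hle => hm.2 (y := OrderDual.toDual I) hI hle⟩

end main

end Groth.Agent.Flat2A.MinFlatIdeal
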