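import Mathlib.RingTheory.Flat.Basic
import Mathlib.RingTheory.Flat.Stability
import Mathlib.RingTheory.LocalRing.Module
import Mathlib.RingTheory.LocalRing.ResidueField.Basic
import Mathlib.RingTheory.Nakayama
import Mathlib.LinearAlgebra.Dual.Lemmas
import Mathlib.RingTheory.Finiteness.Ideal
import Mathlib.RingTheory.TensorProduct.IsBaseChangeFree
import Groth.Agent.FlatA.TorVanish

/-!
# Core of the "injective modulo the maximal ideal" theorem (Stacks 05U9 for linear maps over the top ring)

`L → R` local homomorphism, `N` an `L`-module, `M` a flat `R`-module, `v : N → M` an `L`-linear map such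
that `k ⊗_L N → k ⊗_R M` is injective (`k` the residue field of `R`).

* `map_eq_bot_of_minimal`: if `I` is minimal among the ideals of `L` such that `N/I` is flat over `L/I`
  and `I` is finitely generated then `I R = 0`.
* `injective_of_functionals`: if `N` has a family of functionals which is injective after tensoring with
  any `R`-module, then `N ⊗_L Q → M ⊗_R Q` is injective for all `R`-modules `Q`.
-/

set_option autoImplicit false
set_option linter.style.haveILetI false
set_option linter.unusedSimpArgs false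
set_option linter.unusedSectionVars false
universe u

open TensorProduct IsLocalRing

namespace Groth.Agent.Flat2A.ModInjCore

section general

variable {L R : Type u} [CommRing L] [CommRing R] [Algebra L R]
variable {N M : Type u} [AddCommGroup N] [Module L N] [AddCommGroup M] [Module L M] [Module R M]
  [IsScalarTower L R M]

/-- `Q ⊗_L N → Q ⊗_R M` for `v : N → M` linear over `L` and `Q` an `R`-module. -/
noncomputable def bc (v : N →ₗ[L] M) (Q : Type u) [AddCommGroup Q] [Module L Q] [Module R Q]
    [IsScalarTower L R Q] : Q ⊗[L] N →ₗ[R] Q ⊗[R] M :=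
  TensorProduct.AlgebraTensorModule.lift
    { toFun := fun q => ((TensorProduct.mk R Q M q).restrictScalars L) ∘ₗ v
      map_add' := fun a b => by ext; simp [add_tmul]
      map_smul' := fun r a => by ext; simp [smul_tmul'] }

@[simp]
theorem bc_tmul (v : N →ₗ[L] M) (Q : Type u) [AddCommGroup Q] [Module L Q] [Module R Q]
    [IsScalarTower L R Q] (q : Q) (n : N) : bc (R := R) v Q (q ⊗ₜ n) = q ⊗ₜ v n := rfl

theorem bc_naturality (v : N →ₗ[L] M) {Q Q' : Type u} [AddCommGroup Q] [Module L Q] [Module R Q]
    [IsScalarTower L R Q] [AddCommGroup Q'] [Module L Q'] [Module R Q']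
    [IsScalarTower L R Q'] (f : Q →ₗ[R] Q') (z : Q ⊗[L] N) :
    bc (R := R) v Q' ((f.restrictScalars L).rTensor N z) = f.rTensor M (bc (R := R) v Q z) := by
  induction z using TensorProduct.induction_on with
  | zero => simp
  | tmul q n => simp
  | add x y hx hy => simp only [map_add, hx, hy]

end general

/-- An injective map of `L`-modules killed by the maximal ideal has a retraction, hence stays injective
after tensoring. -/
theorem rTensor_injective_of_torsion {L V K N : Type u} [CommRing L] [IsLocalRing L] [AddCommGroup V]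
    [Module L V] [AddCommGroup K] [Module L K] [AddCommGroup N] [Module L N] (l : V →ₗ[L] K)
    (hl : Function.Injective l) (hK : ∀ a ∈ maximalIdeal L, ∀ x : K, a • x = 0) :
    Function.Injective (l.rTensor N) := by
  have hK' : Module.IsTorsionBySet L K (maximalIdeal L) := fun x a => hK a a.2 x
  have hV' : Module.IsTorsionBySet L V (maximalIdeal L) := by
    intro x a
    apply hl
    rw [map_smul, map_zero]
    exact hK a a.2 _
  letI : Module (ResidueField L) K := hK'.module
  letI : Module (ResidueField L) V := hV'.module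
  have : IsScalarTower L (ResidueField L) K := hK'.isScalarTower
  have : IsScalarTower L (ResidueField L) V := hV'.isScalarTower
  let l' : V →ₗ[ResidueField L] K :=
    { toFun := l, map_add' := l.map_add, map_smul' := by
        intro c x
        obtain ⟨c, rfl⟩ := IsLocalRing.residue_surjective c
        change l (algebraMap L (ResidueField L) c • x) = algebraMap L (ResidueField L) c • l x
        rw [algebraMap_smul, algebraMap_smul, map_smul] }
  obtain ⟨r, hr⟩ := l'.exists_leftInverse_of_injective (LinearMap.ker_eq_bot.2 (fun a b h => hl h))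
  have h2 : (r.restrictScalars L) ∘ₗ l = LinearMap.id := by
    ext x
    exact LinearMap.congr_fun hr x
  refine Function.LeftInverse.injective (g := (r.restrictScalars L).rTensor N) ?_
  intro z
  rw [← LinearMap.rTensor_comp_apply, h2, LinearMap.rTensor_id, LinearMap.id_apply]

theorem flat_of_le {L N : Type u} [CommRing L] [AddCommGroup N] [Module L N] {I : Ideal L}
    (hI : Module.Flat (L ⧸ I) ((L ⧸ I) ⊗[L] N)) (B : Type u) [CommRing B] [Algebra L B]
    (hB : ∀ a ∈ I, algebraMap L B a = 0) : Module.Flat B (B ⊗[L] N) := by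
  letI : Algebra (L ⧸ I) B := (Ideal.Quotient.lift I (algebraMap L B) hB).toAlgebra
  haveI : IsScalarTower L (L ⧸ I) B := IsScalarTower.of_algebraMap_eq (fun x => rfl)
  exact Module.Flat.of_linearEquiv (AlgebraTensorModule.cancelBaseChange L (L ⧸ I) B B N).symm

/-- change of rings for the injectivity condition. -/
theorem rTensor_baseChange_injective {L A N : Type u} [CommRing L] [CommRing A] [Algebra L A]
    [AddCommGroup N] [Module L N] {V W : Type u} [AddCommGroup V] [Module L V] [Module A V]
    [IsScalarTower L A V] [AddCommGroup W] [Module L W] [Module A W] [IsScalarTower L A W]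
    (k : V →ₗ[A] W) (hk : Function.Injective ((k.restrictScalars L).rTensor N)) :
    Function.Injective (k.rTensor (A ⊗[L] N)) := by
  have : ∀ x, (k.restrictScalars L).rTensor N
      (AlgebraTensorModule.cancelBaseChange L A A V N x) =
      AlgebraTensorModule.cancelBaseChange L A A W N (k.rTensor (A ⊗[L] N) x) := by
    intro x
    induction x with
    | zero => simp
    | add a b ha hb => simp [ha, hb]
    | tmul a b =>
      induction b with
      | zero => simp
      | add c d hc hd => simp [tmul_add, hc, hd]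
      | tmul c d => simp
  intro x y hxy
  apply (AlgebraTensorModule.cancelBaseChange L A A V N).injective
  apply hk
  rw [this, this, hxy]

theorem le_maximalIdeal_of_minimal {L N : Type u} [CommRing L] [IsLocalRing L] [AddCommGroup N] [Module L N]
    {I : Ideal L} (hI : Minimal (fun I : Ideal L => Module.Flat (L ⧸ I) ((L ⧸ I) ⊗[L] N)) I) :
    I ≤ maximalIdeal L := by
  by_contra hne
  have h1 : I = ⊤ := by
    by_contra h
    exact hne (IsLocalRing.le_maximalIdeal h)
  have h2 : Module.Flat (L ⧸ maximalIdeal L) ((L ⧸ maximalIdeal L) ⊗[L] N) :=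
    inferInstanceAs (Module.Flat (ResidueField L) (ResidueField L ⊗[L] N))
  have := hI.2 h2 (by rw [h1]; exact le_top)
  exact hne this

section core1

theorem residue_algebraMap_eq_zero {L R : Type u} [CommRing L] [IsLocalRing L] [CommRing R] [IsLocalRing R]
    [Algebra L R] [h : IsLocalHom (algebraMap L R)] {a : L} (ha : a ∈ maximalIdeal L) :
    algebraMap R (ResidueField R) (algebraMap L R a) = 0 := by
  apply (IsLocalRing.residue_eq_zero_iff _).2
  have h2 : (maximalIdeal L).map (algebraMap L R) ≤ maximalIdeal R :=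
    ((IsLocalRing.local_hom_TFAE (algebraMap L R)).out 0 2).1 h
  exact h2 (Ideal.mem_map_of_mem _ ha)

variable {L R N : Type u} [CommRing L] [IsLocalRing L] [CommRing R] [IsLocalRing R] [Algebra L R]
  [IsLocalHom (algebraMap L R)] [AddCommGroup N] [Module L N]

theorem map_eq_bot_of_minimal
    (H : ∀ (J : Ideal R) (θ : ResidueField R →ₗ[R] R ⧸ J), Function.Injective θ →
      Function.Injective ((θ.restrictScalars L).rTensor N))
    (I : Ideal L) (hfg : I.FG)
    (hI : Minimal (fun I : Ideal L => Module.Flat (L ⧸ I) ((L ⧸ I) ⊗[L] N)) I) :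
    I.map (algebraMap L R) = ⊥ := by
  have hIm : I ≤ maximalIdeal L := le_maximalIdeal_of_minimal hI
  set 𝔞 : Ideal R := I.map (algebraMap L R) with h𝔞
  have h𝔞fg : 𝔞.FG := Ideal.FG.map hfg _
  haveI : Module.Finite R 𝔞 := Module.Finite.iff_fg.2 h𝔞fg
  by_contra hne
  -- a nonzero functional
  have hns : ¬ Subsingleton (ResidueField R ⊗[R] 𝔞) := by
    rw [IsLocalRing.subsingleton_tensorProduct]
    intro h
    exact hne ((Submodule.eq_bot_iff _).2 fun x hx => congrArg Subtype.val
      (Subsingleton.elim (⟨x, hx⟩ : 𝔞) 0))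
  obtain ⟨w, hw⟩ : ∃ w : ResidueField R ⊗[R] 𝔞, w ≠ 0 := by
    by_contra h
    push Not at h
    exact hns ⟨fun a b => by rw [h a, h b]⟩
  obtain ⟨ℓ, hℓ⟩ : ∃ ℓ : Module.Dual (ResidueField R) (ResidueField R ⊗[R] 𝔞), ℓ w ≠ 0 := by
    by_contra h
    push Not at h
    exact hw ((Module.forall_dual_apply_eq_zero_iff _ w).1 h)
  let g : 𝔞 →ₗ[R] ResidueField R := (ℓ.restrictScalars R) ∘ₗ (TensorProduct.mk R (ResidueField R) 𝔞 1)
  have hg0 : ∃ x, g x ≠ 0 := by
    by_contra h
    push Not at h
    apply hℓ
    have : ∀ z, ℓ z = 0 := by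
      intro z
      induction z using TensorProduct.induction_on with
      | zero => simp
      | tmul c x =>
        have h1 : c ⊗ₜ[R] x = c • ((1 : ResidueField R) ⊗ₜ[R] x) := by
          rw [smul_tmul', smul_eq_mul, mul_one]
        rw [h1, map_smul]
        have := h x
        simp only [g, LinearMap.comp_apply, TensorProduct.mk_apply, LinearMap.restrictScalars_apply] at this
        rw [this, smul_zero]
      | add x y hx hy => rw [map_add, hx, hy, add_zero]
    exact this w
  obtain ⟨x₀, hx₀⟩ := hg0
  -- normalise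
  obtain ⟨x, hx⟩ : ∃ x : 𝔞, g x = 1 := by
    obtain ⟨r, hr⟩ := IsLocalRing.residue_surjective ((g x₀)⁻¹)
    refine ⟨r • x₀, ?_⟩
    rw [map_smul]
    change algebraMap R (ResidueField R) r * g x₀ = 1
    have : algebraMap R (ResidueField R) r = (g x₀)⁻¹ := hr
    rw [this, inv_mul_cancel₀ hx₀]
  let J : Ideal R := (LinearMap.ker g).map 𝔞.subtype
  have hJ : ∀ a : 𝔞, (a : R) ∈ J ↔ g a = 0 := by
    intro a
    constructor
    · rintro ⟨b, hb, hba⟩
      have : b = a := Subtype.ext hba
      rw [← this]; exact hb
    · intro h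
      exact ⟨a, h, rfl⟩
  let θ : ResidueField R →ₗ[R] R ⧸ J :=
    Submodule.liftQ (maximalIdeal R) (LinearMap.toSpanSingleton R (R ⧸ J) (Ideal.Quotient.mk J x)) (by
      intro r hr
      rw [LinearMap.mem_ker, LinearMap.toSpanSingleton_apply]
      change Ideal.Quotient.mk J (r * x) = 0
      rw [Ideal.Quotient.eq_zero_iff_mem]
      have : (r * (x : R)) = ((r • x : 𝔞) : R) := rfl
      rw [this, hJ, map_smul, hx]
      change algebraMap R (ResidueField R) r * 1 = 0
      rw [mul_one]
      exact (IsLocalRing.residue_eq_zero_iff r).2 hr)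
  have hθ : ∀ r : R, θ (algebraMap R (ResidueField R) r) = Ideal.Quotient.mk J (r * x) := fun r => rfl
  have hθg : ∀ a : 𝔞, θ (g a) = Ideal.Quotient.mk J a := by
    intro a
    obtain ⟨r, hr⟩ := IsLocalRing.residue_surjective (g a)
    have hr' : algebraMap R (ResidueField R) r = g a := hr
    rw [← hr', hθ, Ideal.Quotient.eq]
    have : (r * (x : R) - a) = ((r • x - a : 𝔞) : R) := rfl
    rw [this, hJ, map_sub, map_smul, hx]
    change algebraMap R (ResidueField R) r * 1 - g a = 0
    rw [mul_one, hr', sub_self]
  have hθinj : Function.Injective θ := by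
    rw [injective_iff_map_eq_zero]
    intro c hc
    obtain ⟨r, hr⟩ := IsLocalRing.residue_surjective c
    have hr' : algebraMap R (ResidueField R) r = c := hr
    rw [← hr', hθ, Ideal.Quotient.eq_zero_iff_mem] at hc
    have : (r * (x : R)) = ((r • x : 𝔞) : R) := rfl
    rw [this, hJ, map_smul, hx] at hc
    change algebraMap R (ResidueField R) r * 1 = 0 at hc
    rw [mul_one] at hc
    rw [← hr', hc]
  -- the smaller ideal
  let I₁ : Ideal L :=
    { carrier := {a | ∃ h : a ∈ I, g ⟨algebraMap L R a, Ideal.mem_map_of_mem _ h⟩ = 0}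
      add_mem' := by
        rintro a b ⟨ha, ha'⟩ ⟨hb, hb'⟩
        refine ⟨add_mem ha hb, ?_⟩
        have : (⟨algebraMap L R (a + b), Ideal.mem_map_of_mem _ (add_mem ha hb)⟩ : 𝔞) =
          ⟨algebraMap L R a, Ideal.mem_map_of_mem _ ha⟩ + ⟨algebraMap L R b, Ideal.mem_map_of_mem _ hb⟩ :=
          Subtype.ext (map_add _ _ _)
        rw [this, map_add, ha', hb', add_zero]
      zero_mem' := by
        refine ⟨zero_mem _, ?_⟩
        have : (⟨algebraMap L R 0, Ideal.mem_map_of_mem _ (zero_mem I)⟩ : 𝔞) = 0 :=
          Subtype.ext (map_zero _)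
        rw [this, map_zero]
      smul_mem' := by
        rintro c a ⟨ha, ha'⟩
        refine ⟨Ideal.mul_mem_left _ c ha, ?_⟩
        have : (⟨algebraMap L R (c • a), Ideal.mem_map_of_mem _ (Ideal.mul_mem_left _ c ha)⟩ : 𝔞) =
          (algebraMap L R c) • ⟨algebraMap L R a, Ideal.mem_map_of_mem _ ha⟩ :=
          Subtype.ext (map_mul _ _ _)
        rw [this, map_smul, ha', smul_zero] }
  have hI₁ : ∀ (a : L) (h : a ∈ I), a ∈ I₁ ↔ g ⟨algebraMap L R a, Ideal.mem_map_of_mem _ h⟩ = 0 :=
    fun a h => ⟨fun h' => h'.2, fun h' => ⟨h, h'⟩⟩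
  have hI₁I : I₁ ≤ I := fun a h => h.1
  have hmI : ∀ a ∈ maximalIdeal L, ∀ b ∈ I, a * b ∈ I₁ := by
    intro a ha b hb
    rw [hI₁ _ (Ideal.mul_mem_left _ a hb)]
    have : (⟨algebraMap L R (a * b), Ideal.mem_map_of_mem _ (Ideal.mul_mem_left _ a hb)⟩ : 𝔞) =
          (algebraMap L R a) • ⟨algebraMap L R b, Ideal.mem_map_of_mem _ hb⟩ :=
          Subtype.ext (map_mul _ _ _)
    rw [this, map_smul]
    change algebraMap R (ResidueField R) (algebraMap L R a) * _ = 0
    rw [residue_algebraMap_eq_zero ha, zero_mul]
  -- flatness over `L / I₁`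
  have hflat : Module.Flat (L ⧸ I₁) ((L ⧸ I₁) ⊗[L] N) := by
    let A := L ⧸ I₁
    let V : Ideal A := I.map (Ideal.Quotient.mk I₁)
    have hV : ∀ v : A, v ∈ V ↔ ∃ a ∈ I, Ideal.Quotient.mk I₁ a = v := fun v =>
      Ideal.mem_map_iff_of_surjective _ Ideal.Quotient.mk_surjective
    have hnil : IsNilpotent V := by
      refine ⟨2, ?_⟩
      rw [pow_two, ← Ideal.map_mul, Ideal.zero_eq_bot, Ideal.map_eq_bot_iff_le_ker, Ideal.mk_ker]
      rw [Ideal.mul_le]
      intro a ha b hb
      exact hmI a (hIm ha) b hb
    haveI : Module.Flat (A ⧸ V) ((A ⧸ V) ⊗[A] (A ⊗[L] N)) := by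
      haveI : Module.Flat (A ⧸ V) ((A ⧸ V) ⊗[L] N) := by
        refine flat_of_le hI.1 (A ⧸ V) ?_
        intro a ha
        change Ideal.Quotient.mk V (Ideal.Quotient.mk I₁ a) = 0
        rw [Ideal.Quotient.eq_zero_iff_mem, hV]
        exact ⟨a, ha, rfl⟩
      exact Module.Flat.of_linearEquiv (AlgebraTensorModule.cancelBaseChange L A (A ⧸ V) (A ⧸ V) N)
    refine FlatA.TorVanish.flat_of_isNilpotent hnil ?_
    apply rTensor_baseChange_injective
    -- the map `A → R / J`
    let ρ : A →ₗ[L] R ⧸ J :=
      Submodule.liftQ I₁ (Algebra.linearMap L (R ⧸ J)) (by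
        intro a ha
        rw [LinearMap.mem_ker, Algebra.linearMap_apply]
        change Ideal.Quotient.mk J (algebraMap L R a) = 0
        rw [Ideal.Quotient.eq_zero_iff_mem]
        exact (hJ ⟨algebraMap L R a, Ideal.mem_map_of_mem _ (hI₁I ha)⟩).2 ha.2)
    have hρ : ∀ (a : L) (h : a ∈ I), ρ (Ideal.Quotient.mk I₁ a) =
        θ (g ⟨algebraMap L R a, Ideal.mem_map_of_mem _ h⟩) := by
      intro a h
      rw [hθg]
      rfl
    have hρV : ∀ v : V, ρ v ∈ LinearMap.range (θ.restrictScalars L) := by
      rintro ⟨v, hv⟩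
      obtain ⟨a, ha, rfl⟩ := (hV v).1 hv
      rw [hρ a ha]
      exact ⟨_, rfl⟩
    let lam : V →ₗ[L] ResidueField R :=
      (LinearEquiv.ofInjective (θ.restrictScalars L) hθinj).symm.toLinearMap ∘ₗ
        (LinearMap.codRestrict (LinearMap.range (θ.restrictScalars L))
          (ρ ∘ₗ (V.subtype.restrictScalars L)) hρV)
    have hlam : ∀ v : V, θ (lam v) = ρ v := by
      intro v
      have := congrArg Subtype.val
        ((LinearEquiv.ofInjective (θ.restrictScalars L) hθinj).apply_symm_apply
          ((LinearMap.codRestrict (LinearMap.range (θ.restrictScalars L))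
          (ρ ∘ₗ (V.subtype.restrictScalars L)) hρV) v))
      exact this
    have hlaminj : Function.Injective lam := by
      rw [injective_iff_map_eq_zero]
      rintro ⟨v, hv⟩ h0
      obtain ⟨a, ha, rfl⟩ := (hV v).1 hv
      have h1 := hlam ⟨_, hv⟩
      rw [h0, map_zero, hρ a ha] at h1
      have h2 := hθinj (h1.symm.trans (map_zero θ).symm)
      apply Subtype.ext
      change Ideal.Quotient.mk I₁ a = 0
      rw [Ideal.Quotient.eq_zero_iff_mem]
      exact (hI₁ a ha).2 h2
    have h3 : Function.Injective (lam.rTensor N) := by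
      apply rTensor_injective_of_torsion lam hlaminj
      intro a ha c
      rw [← algebraMap_smul R a c, Algebra.smul_def, residue_algebraMap_eq_zero ha, zero_mul]
    have h4 : Function.Injective ((θ.restrictScalars L).rTensor N ∘ lam.rTensor N) :=
      (H J θ hθinj).comp h3
    have h5 : (θ.restrictScalars L).rTensor N ∘ lam.rTensor N =
        ρ.rTensor N ∘ ((V.subtype).restrictScalars L).rTensor N := by
      have : (θ.restrictScalars L) ∘ₗ lam = ρ ∘ₗ (V.subtype.restrictScalars L) := by
        ext v
        exact hlam v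
      rw [← LinearMap.coe_comp, ← LinearMap.rTensor_comp, this, LinearMap.rTensor_comp,
        LinearMap.coe_comp]
    rw [h5] at h4
    exact h4.of_comp
  -- contradiction
  have hle : I ≤ I₁ := hI.2 hflat hI₁I
  have hgz : ∀ a : 𝔞, g a = 0 := by
    rintro ⟨a, ha⟩
    have hsub : 𝔞 ≤ J := by
      rw [h𝔞, Ideal.map_le_iff_le_comap]
      intro b hb
      exact (hJ ⟨algebraMap L R b, Ideal.mem_map_of_mem _ hb⟩).2 (hle hb).2
    exact (hJ ⟨a, ha⟩).1 (hsub ha)
  rw [hgz x] at hx
  exact zero_ne_one hx

end core1

/-- The hypothesis `H` of `map_eq_bot_of_minimal` holds as soon as `N` maps to a flat `R`-module with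
`k ⊗ N → k ⊗ M` injective. -/
theorem socle_injective {L R N M : Type u} [CommRing L] [CommRing R] [IsLocalRing R] [Algebra L R]
    [AddCommGroup N] [Module L N] [AddCommGroup M] [Module L M] [Module R M] [IsScalarTower L R M]
    [Module.Flat R M] (v : N →ₗ[L] M) (hv : Function.Injective (bc (R := R) v (ResidueField R)))
    (J : Ideal R) (θ : ResidueField R →ₗ[R] R ⧸ J) (hθ : Function.Injective θ) :
    Function.Injective ((θ.restrictScalars L).rTensor N) := by
  have h1 : Function.Injective (θ.rTensor M) := Module.Flat.rTensor_preserves_injective_linearMap θ hθ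
  have h2 : Function.Injective (θ.rTensor M ∘ bc (R := R) v (ResidueField R)) := h1.comp hv
  have h3 : θ.rTensor M ∘ bc (R := R) v (ResidueField R) =
      bc (R := R) v (R ⧸ J) ∘ ((θ.restrictScalars L).rTensor N) := by
    ext z
    exact (bc_naturality v θ z).symm
  rw [h3] at h2
  exact h2.of_comp

section core2

variable {L R N M : Type u} [CommRing L] [CommRing R] [IsLocalRing R] [Algebra L R]
    [AddCommGroup N] [Module L N] [AddCommGroup M] [Module L M] [Module R M] [IsScalarTower L R M]

/-- `bc` is injective on `k`-vector spaces as soon as it is on `k`. -/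
theorem bc_injective_of_residue (v : N →ₗ[L] M)
    (hv : Function.Injective (bc (R := R) v (ResidueField R)))
    (Q : Type u) [AddCommGroup Q] [Module L Q] [Module R Q]
    [IsScalarTower L R Q] (hQ : ∀ a ∈ maximalIdeal R, ∀ x : Q, a • x = 0) :
    Function.Injective (bc (R := R) v Q) := by
  have hQ' : Module.IsTorsionBySet R Q (maximalIdeal R) := fun x a => hQ a a.2 x
  letI : Module (ResidueField R) Q := hQ'.module
  have : IsScalarTower R (ResidueField R) Q := hQ'.isScalarTower
  let b := Module.Free.chooseBasis (ResidueField R) Q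
  let e : Q ≃ₗ[R] (Module.Free.ChooseBasisIndex (ResidueField R) Q →₀ ResidueField R) :=
    b.repr.restrictScalars R
  rw [injective_iff_map_eq_zero]
  intro z hz
  -- coordinates
  have h1 : ∀ i, (((Finsupp.lapply i ∘ₗ e.toLinearMap).restrictScalars L).rTensor N) z = 0 := by
    intro i
    apply hv
    rw [bc_naturality, hz, map_zero, map_zero]
  have h2 : (e.restrictScalars L).toLinearMap.rTensor N z = 0 := by
    apply (TensorProduct.finsuppLeft L L (ResidueField R) N _).injective
    rw [map_zero]
    ext i
    rw [TensorProduct.finsuppLeft_apply, ← LinearMap.rTensor_comp_apply]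
    exact h1 i
  have h3 : Function.Injective ((e.restrictScalars L).toLinearMap.rTensor N) :=
    (LinearEquiv.rTensor N (e.restrictScalars L)).injective
  exact h3 (h2.trans (map_zero _).symm)

variable {α : Type u}

/-- the coordinates of an element of `Q ⊗_L N` with respect to a family of `L`-linear maps `N → R`. -/
noncomputable def psi (c : α → (N →ₗ[L] R)) (Q : Type u) [AddCommGroup Q] [Module L Q] [Module R Q]
    [IsScalarTower L R Q] (z : Q ⊗[L] N) (a : α) : Q :=
  TensorProduct.rid R Q (bc (R := R) (c a) Q z)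

theorem psi_zero (c : α → (N →ₗ[L] R)) (Q : Type u) [AddCommGroup Q] [Module L Q] [Module R Q]
    [IsScalarTower L R Q] (a : α) : psi c Q 0 a = 0 := by simp [psi]

theorem psi_add (c : α → (N →ₗ[L] R)) (Q : Type u) [AddCommGroup Q] [Module L Q] [Module R Q]
    [IsScalarTower L R Q] (z z' : Q ⊗[L] N) (a : α) : psi c Q (z + z') a = psi c Q z a + psi c Q z' a := by
  simp [psi]

@[simp]
theorem psi_tmul (c : α → (N →ₗ[L] R)) (Q : Type u) [AddCommGroup Q] [Module L Q] [Module R Q]
    [IsScalarTower L R Q] (q : Q) (n : N) (a : α) : psi c Q (q ⊗ₜ n) a = c a n • q := by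
  simp [psi]

theorem psi_naturality (c : α → (N →ₗ[L] R)) {Q Q' : Type u} [AddCommGroup Q] [Module L Q] [Module R Q]
    [IsScalarTower L R Q] [AddCommGroup Q'] [Module L Q'] [Module R Q']
    [IsScalarTower L R Q'] (f : Q →ₗ[R] Q') (z : Q ⊗[L] N) (a : α) :
    psi c Q' ((f.restrictScalars L).rTensor N z) a = f (psi c Q z a) := by
  induction z using TensorProduct.induction_on with
  | zero => simp [psi_zero]
  | tmul q n => simp
  | add x y hx hy => rw [map_add, psi_add, psi_add, hx, hy, map_add]

theorem exists_finset_psi (c : α → (N →ₗ[L] R)) (Q : Type u) [AddCommGroup Q] [Module L Q] [Module R Q]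
    [IsScalarTower L R Q] (z : Q ⊗[L] N) :
    ∃ F : Set Q, F.Finite ∧ ∀ a, psi c Q z a ∈ Submodule.span R F := by
  induction z using TensorProduct.induction_on with
  | zero => exact ⟨∅, Set.finite_empty, fun a => by rw [psi_zero]; exact zero_mem _⟩
  | tmul q n =>
    refine ⟨{q}, Set.finite_singleton q, fun a => ?_⟩
    rw [psi_tmul]
    exact Submodule.smul_mem _ _ (Submodule.mem_span_singleton_self q)
  | add x y hx hy =>
    obtain ⟨F, hF, hF'⟩ := hx
    obtain ⟨G, hG, hG'⟩ := hy
    refine ⟨F ∪ G, hF.union hG, fun a => ?_⟩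
    rw [psi_add]
    exact add_mem (Submodule.span_mono Set.subset_union_left (hF' a))
      (Submodule.span_mono Set.subset_union_right (hG' a))

/-- Universal injectivity from functionals. -/
theorem bc_injective_of_functionals [Module.Flat R M] (v : N →ₗ[L] M)
    (hv : Function.Injective (bc (R := R) v (ResidueField R)))
    (c : α → (N →ₗ[L] R))
    (hc : ∀ (Q : Type u) [AddCommGroup Q] [Module L Q] [Module R Q] [IsScalarTower L R Q]
      (z : Q ⊗[L] N), (∀ a, psi c Q z a = 0) → z = 0)
    (Q : Type u) [AddCommGroup Q] [Module L Q] [Module R Q] [IsScalarTower L R Q] :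
    Function.Injective (bc (R := R) v Q) := by
  rw [injective_iff_map_eq_zero]
  intro z hz
  let Qz : Submodule R Q := Submodule.span R (Set.range fun a => psi c Q z a)
  -- `z` comes from `Qz ⊗ N`
  obtain ⟨z', hz'⟩ : ∃ z' : Qz ⊗[L] N, (Qz.subtype.restrictScalars L).rTensor N z' = z := by
    have hex : Function.Exact (Qz.subtype.restrictScalars L) (Qz.mkQ.restrictScalars L) := by
      intro x
      exact LinearMap.exact_subtype_mkQ Qz x
    have hsurj : Function.Surjective (Qz.mkQ.restrictScalars L) := Submodule.mkQ_surjective Qz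
    have := (rTensor_exact N hex hsurj z).1 (by
      apply hc
      intro a
      rw [psi_naturality]
      simp only [Submodule.mkQ_apply, Submodule.Quotient.mk_eq_zero]
      exact Submodule.subset_span ⟨a, rfl⟩)
    exact this
  have hpsi : ∀ a, ((psi c Qz z' a : Qz) : Q) = psi c Q z a := by
    intro a
    rw [← hz', psi_naturality]
    rfl
  have hspan : Submodule.span R (Set.range fun a => psi c Qz z' a) = ⊤ := by
    apply Submodule.map_injective_of_injective (f := Qz.subtype) Subtype.val_injective
    rw [Submodule.map_span, ← Set.range_comp, Submodule.map_top, Submodule.range_subtype]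
    have : (Qz.subtype ∘ fun a => psi c Qz z' a) = fun a => psi c Q z a := by
      ext a
      exact hpsi a
    rw [this]
  haveI hfin : Module.Finite R Qz := by
    obtain ⟨F, hF, hF'⟩ := exists_finset_psi c Qz z'
    refine ⟨Submodule.fg_def.2 ⟨F, hF, ?_⟩⟩
    rw [eq_top_iff, ← hspan, Submodule.span_le]
    rintro _ ⟨a, rfl⟩
    exact hF' a
  -- reduce modulo the maximal ideal
  have hz0 : z' = 0 := by
    have h1 : bc (R := R) v Qz z' = 0 := by
      have h2 : Function.Injective (Qz.subtype.rTensor M) :=
        Module.Flat.rTensor_preserves_injective_linearMap Qz.subtype Subtype.val_injective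
      apply h2
      rw [← bc_naturality, hz', hz, map_zero]
    let mQ : Submodule R Qz := maximalIdeal R • ⊤
    have h3 : (mQ.mkQ.restrictScalars L).rTensor N z' = 0 := by
      apply bc_injective_of_residue v hv (Qz ⧸ mQ)
      · intro a ha x
        obtain ⟨x, rfl⟩ := mQ.mkQ_surjective x
        rw [← map_smul, ← LinearMap.mem_ker, Submodule.ker_mkQ]
        exact Submodule.smul_mem_smul ha trivial
      · rw [bc_naturality, h1, map_zero, map_zero]
    have h4 : (⊤ : Submodule R Qz) ≤ mQ := by
      rw [← hspan, Submodule.span_le]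
      rintro _ ⟨a, rfl⟩
      have := psi_naturality c mQ.mkQ z' a
      rw [h3, psi_zero] at this
      change psi c Qz z' a ∈ mQ
      rw [← Submodule.ker_mkQ mQ, LinearMap.mem_ker]
      exact this.symm
    have h5 : (⊤ : Submodule R Qz) = ⊥ :=
      Submodule.eq_bot_of_le_smul_of_le_jacobson_bot (maximalIdeal R) ⊤ hfin.1 h4
        (IsLocalRing.maximalIdeal_le_jacobson ⊥)
    haveI : Subsingleton Qz := (Submodule.subsingleton_iff R).1 (subsingleton_of_bot_eq_top h5.symm)
    exact Subsingleton.elim _ _
  rw [← hz', hz0, map_zero]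

end core2

end Groth.Agent.Flat2A.ModInjCore
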