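import Groth.Agent.Flat2A.ModInjCore
import Groth.Agent.Flat2A.MinFlatIdeal
import Groth.Agent.Flat2A.FunctionalsQuot

/-!
# Base over a complete Noetherian local ring: injective mod `m` implies universally injective
-/

set_option autoImplicit false
set_option linter.style.haveILetI false
set_option linter.unusedSectionVars false
universe u

open TensorProduct IsLocalRing

namespace Groth.Agent.Flat2A.ModInjMain

open ModInjCore

theorem bc_injective {L SL N R M : Type u} [CommRing L] [IsLocalRing L] [IsNoetherianRing L]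
    [IsAdicComplete (maximalIdeal L) L] [CommRing SL] [IsLocalRing SL] [IsNoetherianRing SL]
    [Algebra L SL] [IsLocalHom (algebraMap L SL)] [AddCommGroup N] [Module SL N] [Module L N]
    [IsScalarTower L SL N] [Module.Finite SL N] [CommRing R] [IsLocalRing R] [Algebra L R]
    [IsLocalHom (algebraMap L R)] [AddCommGroup M] [Module L M] [Module R M] [IsScalarTower L R M]
    [Module.Flat R M] (v : N →ₗ[L] M) (hv : Function.Injective (bc (R := R) v (ResidueField R)))
    (Q : Type u) [AddCommGroup Q] [Module L Q] [Module R Q] [IsScalarTower L R Q] :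
    Function.Injective (bc (R := R) v Q) := by
  obtain ⟨I, hI⟩ := MinFlatIdeal.exists_minimal_flat_ideal (L := L) (S := SL) (N := N)
  have hIm : I ≤ maximalIdeal L := le_maximalIdeal_of_minimal hI
  have hIR : I.map (algebraMap L R) = ⊥ :=
    map_eq_bot_of_minimal (fun J θ hθ => socle_injective v hv J θ hθ) I (IsNoetherian.noetherian I) hI
  have hI0 : ∀ a ∈ I, algebraMap L R a = 0 := fun a ha => by
    have := Ideal.mem_map_of_mem (algebraMap L R) ha
    rwa [hIR] at this
  haveI : Module.Flat (L ⧸ I) ((L ⧸ I) ⊗[L] N) := hI.1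
  obtain ⟨α, c, hc⟩ := FunctionalsQuot.exists_functionals_quot (L := L) (S := SL) (N := N) I hIm
  letI : Algebra (L ⧸ I) R := (Ideal.Quotient.lift I (algebraMap L R) hI0).toAlgebra
  haveI : IsScalarTower L (L ⧸ I) R := IsScalarTower.of_algebraMap_eq (fun x => rfl)
  let c' : α → (N →ₗ[L] R) := fun a => (IsScalarTower.toAlgHom L (L ⧸ I) R).toLinearMap ∘ₗ c a
  refine bc_injective_of_functionals v hv c' ?_ Q
  intro Q _ _ _ _ z hz
  letI : Module (L ⧸ I) Q := Module.compHom Q (algebraMap (L ⧸ I) R)
  haveI : IsScalarTower (L ⧸ I) R Q := IsScalarTower.of_compHom _ _ _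
  haveI : IsScalarTower L (L ⧸ I) Q := IsScalarTower.to₁₂₄ L (L ⧸ I) R Q
  apply (TensorProduct.comm L Q N).injective
  rw [map_zero]
  apply hc
  intro a
  rw [← hz a]
  clear hz
  induction z using TensorProduct.induction_on with
  | zero => simp [psi_zero]
  | tmul q n =>
    simp only [TensorProduct.comm_tmul, FunctionalsQuot.evalMap_tmul, psi_tmul, c',
      LinearMap.comp_apply, AlgHom.toLinearMap_apply, IsScalarTower.coe_toAlgHom', algebraMap_smul]
  | add x y hx hy => rw [map_add, map_add, psi_add, hx, hy]

end Groth.Agent.Flat2A.ModInjMain
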