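import Groth.Prelude.Def_FlatCA
import Groth.Agent.Flat2E.PolyModel
import Mathlib.Algebra.Module.FinitePresentation
import Mathlib.RingTheory.Localization.AtPrime.Basic

/-!
# Matrix presentations of finitely presented modules over essentially f.p. local algebras

`exists_presentation`: `B` local, essentially of finite presentation over `A`, `M` finitely
presented over `B`: there is a matrix `v` over `A[x_1..x_n]` with `M = (coker v)_q`, `q` the
contraction of the maximal ideal of `B`.
-/

set_option autoImplicit false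
universe u

open TensorProduct

namespace Groth.Agent.Flat2A.PolyPres

open Flat2E.PolyModel

/-- Clearing denominators of a vector. -/
theorem exists_smul_vec {P B : Type*} [CommRing P] [CommRing B] [Algebra P B] (T : Submonoid P)
    (hsurj : ∀ b : B, ∃ p : P, ∃ s ∈ T, algebraMap P B s * b = algebraMap P B p)
    {κ : Type*} [Finite κ] (w : κ → B) :
    ∃ (p : κ → P) (s : P), s ∈ T ∧ ∀ k, algebraMap P B s * w k = algebraMap P B (p k) := by
  classical
  have := Fintype.ofFinite κ
  choose p s hs h using fun k => hsurj (w k)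
  refine ⟨fun k => (∏ j ∈ Finset.univ.erase k, s j) * p k, ∏ j, s j,
    Submonoid.prod_mem _ fun j _ => hs j, fun k => ?_⟩
  rw [← Finset.prod_erase_mul Finset.univ s (Finset.mem_univ k), map_mul, map_mul, mul_assoc, h]

/-- The general presentation lemma: `P → B` with `B` a localization of `P / J`. -/
theorem isLocalizedModule_of_presentation {P B M : Type*} [CommRing P] [CommRing B] [Algebra P B]
    (T : Submonoid P) (hT : ∀ t ∈ T, IsUnit (algebraMap P B t))
    (hsurj : ∀ b : B, ∃ p : P, ∃ s ∈ T, algebraMap P B s * b = algebraMap P B p)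
    {l₂ : ℕ} (j : Fin l₂ → P) (hj : ∀ i, algebraMap P B (j i) = 0)
    (hker : ∀ p : P, algebraMap P B p = 0 → ∃ s ∈ T, s * p ∈ Submodule.span P (Set.range j))
    [AddCommGroup M] [Module P M] [Module B M] [IsScalarTower P B M]
    {m : ℕ} (K : Submodule B (Fin m → B)) (e : M ≃ₗ[B] (Fin m → B) ⧸ K)
    {l₁ : ℕ} (w : Fin l₁ → Fin m → B) (hw : Submodule.span B (Set.range w) = K) :
    ∃ (v : (Fin l₁ ⊕ Fin l₂ × Fin m) → Fin m → P)
      (g : ((Fin m → P) ⧸ Submodule.span P (Set.range v)) →ₗ[P] M), IsLocalizedModule T g := by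
  classical
  choose p s hs hp using fun i => exists_smul_vec T hsurj (w i)
  let v : (Fin l₁ ⊕ Fin l₂ × Fin m) → Fin m → P :=
    Sum.elim p (fun ij => Pi.single ij.2 (j ij.1))
  let c : (Fin m → P) →ₗ[P] (Fin m → B) := (Algebra.linearMap P B).compLeft (Fin m)
  have hc : ∀ d k, c d k = algebraMap P B (d k) := fun d k => rfl
  let g0 : (Fin m → P) →ₗ[P] M :=
    (e.symm.toLinearMap.restrictScalars P) ∘ₗ (K.mkQ.restrictScalars P) ∘ₗ c
  have hg0 : ∀ d, g0 d = e.symm (K.mkQ (c d)) := fun d => rfl
  have hcp : ∀ i, c (p i) ∈ K := by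
    intro i
    have : c (p i) = algebraMap P B (s i) • w i := by
      funext k
      rw [hc, Pi.smul_apply, smul_eq_mul, hp]
    rw [this, ← hw]
    exact Submodule.smul_mem _ _ (Submodule.subset_span ⟨i, rfl⟩)
  have hle : Submodule.span P (Set.range v) ≤ LinearMap.ker g0 := by
    rw [Submodule.span_le]
    rintro _ ⟨i | ij, rfl⟩
    · show g0 (p i) = 0
      rw [hg0, Submodule.mkQ_apply, (Submodule.Quotient.mk_eq_zero K).2 (hcp i), map_zero]
    · show g0 (Pi.single ij.2 (j ij.1)) = 0
      have : c (Pi.single ij.2 (j ij.1)) = 0 := by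
        funext k
        rw [hc]
        by_cases hk : k = ij.2
        · subst hk
          rw [Pi.single_eq_same, hj]; rfl
        · rw [Pi.single_eq_of_ne hk, map_zero]; rfl
      rw [hg0, this, map_zero, map_zero]
  refine ⟨v, (Submodule.span P (Set.range v)).liftQ g0 hle, ?_⟩
  have hunit : ∀ t ∈ T, ∃ b : B, b * algebraMap P B t = 1 := by
    intro t ht
    obtain ⟨b, hb⟩ := (hT t ht).exists_left_inv
    exact ⟨b, hb⟩
  constructor
  · intro t
    rw [Module.End.isUnit_iff]
    obtain ⟨b, hb⟩ := hunit t t.2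
    constructor
    · intro x y hxy
      have hxy' : (t : P) • x = (t : P) • y := hxy
      rw [← algebraMap_smul B (t : P) x, ← algebraMap_smul B (t : P) y] at hxy'
      calc x = (b * algebraMap P B t) • x := by rw [hb, one_smul]
        _ = b • algebraMap P B t • x := mul_smul _ _ _
        _ = b • algebraMap P B t • y := by rw [hxy']
        _ = (b * algebraMap P B t) • y := (mul_smul _ _ _).symm
        _ = y := by rw [hb, one_smul]
    · intro y
      refine ⟨b • y, ?_⟩
      show (t : P) • b • y = y
      rw [← algebraMap_smul B (t : P) (b • y), smul_smul, mul_comm, hb, one_smul]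
  · intro y
    obtain ⟨z, hz⟩ := K.mkQ_surjective (e y)
    obtain ⟨q, t, ht, hq⟩ := exists_smul_vec T hsurj z
    refine ⟨(Submodule.Quotient.mk q, ⟨t, ht⟩), ?_⟩
    show t • y = g0 q
    have h1 : c q = algebraMap P B t • z := by
      funext k
      rw [hc, Pi.smul_apply, smul_eq_mul, hq]
    rw [hg0, h1, map_smul, hz, map_smul, LinearEquiv.symm_apply_apply, algebraMap_smul]
  · intro x₁ x₂ h
    obtain ⟨d₁, rfl⟩ := Submodule.mkQ_surjective _ x₁
    obtain ⟨d₂, rfl⟩ := Submodule.mkQ_surjective _ x₂
    have h' : g0 (d₁ - d₂) = 0 := by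
      rw [map_sub, sub_eq_zero]
      exact h
    suffices hs : ∃ t ∈ T, t • (d₁ - d₂) ∈ Submodule.span P (Set.range v) by
      obtain ⟨t, ht, ht'⟩ := hs
      refine ⟨⟨t, ht⟩, ?_⟩
      rw [Submonoid.smul_def, Submonoid.smul_def]
      rw [← sub_eq_zero, ← map_smul, ← map_smul, ← map_sub, ← smul_sub, Submodule.mkQ_apply,
        Submodule.Quotient.mk_eq_zero]
      exact ht'
    generalize d₁ - d₂ = d at h'
    have h1 : c d ∈ K := by
      rw [hg0, LinearEquiv.map_eq_zero_iff, Submodule.mkQ_apply,
        Submodule.Quotient.mk_eq_zero] at h'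
      exact h'
    rw [← hw, Submodule.mem_span_range_iff_exists_fun] at h1
    obtain ⟨b, hb⟩ := h1
    choose u hu using fun i => hunit (s i) (hs i)
    obtain ⟨q, t, ht, hq⟩ := exists_smul_vec T hsurj (fun i => b i * u i)
    have h2 : ∀ k, algebraMap P B ((t • d - ∑ i, q i • p i) k) = 0 := by
      intro k
      rw [Pi.sub_apply, Pi.smul_apply, smul_eq_mul, map_sub, map_mul, ← hc d k, ← hb,
        Finset.sum_apply, Finset.sum_apply, map_sum, Finset.mul_sum, sub_eq_zero]
      refine Finset.sum_congr rfl fun i _ => ?_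
      rw [Pi.smul_apply, Pi.smul_apply, smul_eq_mul, smul_eq_mul, map_mul, ← hq, ← hp]
      have := hu i
      calc algebraMap P B t * (b i * w i k)
          = algebraMap P B t * (b i * w i k) * (u i * algebraMap P B (s i)) := by
            rw [this, mul_one]
        _ = _ := by ring
    choose r hr hr' using fun k => hker _ (h2 k)
    let R := ∏ k, r k
    have hR : R ∈ T := Submonoid.prod_mem _ fun k _ => hr k
    have h3 : R • (t • d - ∑ i, q i • p i) ∈ Submodule.span P (Set.range v) := by
      have h4 : R • (t • d - ∑ i, q i • p i) =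
          ∑ k, Pi.single k (R * (t • d - ∑ i, q i • p i) k) := by
        rw [Finset.univ_sum_single (fun k => R * (t • d - ∑ i, q i • p i) k)]
        rfl
      rw [h4]
      refine Submodule.sum_mem _ fun k _ => ?_
      have h5 : R * (t • d - ∑ i, q i • p i) k ∈ Submodule.span P (Set.range j) := by
        have : R = (∏ k' ∈ Finset.univ.erase k, r k') * r k :=
          (Finset.prod_erase_mul Finset.univ r (Finset.mem_univ k)).symm
        rw [this, mul_assoc]
        exact Submodule.smul_mem _ _ (hr' k)
      rw [Submodule.mem_span_range_iff_exists_fun] at h5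
      obtain ⟨a, ha⟩ := h5
      rw [← ha]
      have h6 : (Pi.single k (∑ i, a i • j i) : Fin m → P) =
          ∑ i, a i • (Pi.single k (j i) : Fin m → P) := by
        funext k'
        rw [Finset.sum_apply]
        by_cases hk : k' = k
        · subst hk
          rw [Pi.single_eq_same]
          refine Finset.sum_congr rfl fun i _ => ?_
          rw [Pi.smul_apply, Pi.single_eq_same]
        · rw [Pi.single_eq_of_ne hk]
          symm
          refine Finset.sum_eq_zero fun i _ => ?_
          rw [Pi.smul_apply, Pi.single_eq_of_ne hk, smul_zero]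
      rw [h6]
      refine Submodule.sum_mem _ fun i _ => Submodule.smul_mem _ _ (Submodule.subset_span ?_)
      exact ⟨Sum.inr (i, k), rfl⟩
    refine ⟨R * t, T.mul_mem hR ht, ?_⟩
    have h7 : (R * t) • d = R • (t • d - ∑ i, q i • p i) + R • ∑ i, q i • p i := by
      rw [mul_smul, smul_sub, sub_add_cancel]
    rw [h7]
    refine Submodule.add_mem _ h3 (Submodule.smul_mem _ _ (Submodule.sum_mem _ fun i _ =>
      Submodule.smul_mem _ _ (Submodule.subset_span ⟨Sum.inl i, rfl⟩)))

variable {A : Type u} [CommRing A]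

theorem range_phi {σ ι κ : Type*} [Fintype ι] {C : Type*} [CommRing C]
    (v : ι → κ → MvPolynomial σ C) :
    LinearMap.range (phi v) = Submodule.span (MvPolynomial σ C) (Set.range v) :=
  Fintype.range_linearCombination _ v

theorem exists_presentation {B M : Type u} [CommRing B] [IsLocalRing B] [Algebra A B]
    (hB : FlatCA.EssFinitePresentation A B) [AddCommGroup M] [Module B M]
    [Module.FinitePresentation B M] :
    ∃ (n m : ℕ) (_ : Algebra (MvPolynomial (Fin n) A) B)
      (_ : IsScalarTower A (MvPolynomial (Fin n) A) B)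
      (_ : Module (MvPolynomial (Fin n) A) M)
      (_ : IsScalarTower (MvPolynomial (Fin n) A) B M)
      (ι : Type) (_ : Fintype ι) (v : ι → Fin m → MvPolynomial (Fin n) A)
      (g : Mod v →ₗ[MvPolynomial (Fin n) A] M),
      IsLocalizedModule ((IsLocalRing.maximalIdeal B).comap
        (algebraMap (MvPolynomial (Fin n) A) B)).primeCompl g := by
  classical
  obtain ⟨S₀, _, _, _, _, T, hfp, hloc⟩ := hB
  obtain ⟨n, π, hπ, hJ⟩ := hfp
  let P := MvPolynomial (Fin n) A
  let φ : P →ₐ[A] B := (IsScalarTower.toAlgHom A S₀ B).comp π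
  let alg : Algebra P B := φ.toRingHom.toAlgebra
  have hφ : ∀ p : P, algebraMap P B p = algebraMap S₀ B (π p) := fun p => rfl
  have htow : IsScalarTower A P B := IsScalarTower.of_algebraMap_eq' (φ.comp_algebraMap).symm
  let mod : Module P M := Module.compHom M (algebraMap P B)
  have htow2 : IsScalarTower P B M := IsScalarTower.of_algebraMap_smul fun r x => rfl
  let q : Ideal P := (IsLocalRing.maximalIdeal B).comap (algebraMap P B)
  have hq : ∀ t, t ∈ q.primeCompl ↔ IsUnit (algebraMap P B t) := by
    intro t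
    show ¬ (algebraMap P B t ∈ IsLocalRing.maximalIdeal B) ↔ _
    rw [IsLocalRing.mem_maximalIdeal, mem_nonunits_iff, not_not]
  have hsurj : ∀ b : B, ∃ p : P, ∃ s ∈ q.primeCompl, algebraMap P B s * b = algebraMap P B p := by
    intro b
    obtain ⟨⟨x, y⟩, hxy⟩ := IsLocalization.surj T b
    obtain ⟨p, hp⟩ := hπ x
    obtain ⟨s, hs⟩ := hπ y
    refine ⟨p, s, ?_, ?_⟩
    · rw [hq, hφ, hs]
      exact IsLocalization.map_units B y
    · rw [hφ, hφ, hs, hp, mul_comm]
      exact hxy
  have hker : ∀ p : P, algebraMap P B p = 0 → ∃ s ∈ q.primeCompl, s * p ∈ RingHom.ker π.toRingHom := by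
    intro p hp
    rw [hφ, IsLocalization.map_eq_zero_iff T B] at hp
    obtain ⟨t, ht⟩ := hp
    obtain ⟨s, hs⟩ := hπ t
    refine ⟨s, ?_, ?_⟩
    · rw [hq, hφ, hs]
      exact IsLocalization.map_units B t
    · rw [RingHom.mem_ker]
      show π (s * p) = 0
      rw [map_mul, hs, ht]
  obtain ⟨l₂, j, hj⟩ := Submodule.fg_iff_exists_fin_generating_family.1 hJ
  obtain ⟨m, K, e, hK⟩ := Module.FinitePresentation.exists_fin B M
  obtain ⟨l₁, w, hw⟩ := Submodule.fg_iff_exists_fin_generating_family.1 hK
  have hj0 : ∀ i, algebraMap P B (j i) = 0 := by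
    intro i
    have h1 : j i ∈ RingHom.ker π.toRingHom := by
      rw [← hj]
      exact Submodule.subset_span ⟨i, rfl⟩
    have h2 : π (j i) = 0 := h1
    rw [hφ, h2, map_zero]
  obtain ⟨v, g, hg⟩ := isLocalizedModule_of_presentation (P := P) (B := B) (M := M) q.primeCompl
    (fun t ht => (hq t).1 ht) hsurj j hj0 (by
      intro p hp
      obtain ⟨s, hs, hs'⟩ := hker p hp
      exact ⟨s, hs, by rw [hj]; exact hs'⟩) K e w hw
  refine ⟨n, m, alg, htow, mod, htow2, _, inferInstance, v,
    g.comp (Submodule.quotEquivOfEq _ _ (range_phi v)).toLinearMap, ?_⟩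
  exact IsLocalizedModule.of_linearEquiv_right q.primeCompl g
    (Submodule.quotEquivOfEq _ _ (range_phi v))

end Groth.Agent.Flat2A.PolyPres
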