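import Groth.Agent.S0584
import Mathlib.Algebra.DirectSum.Module

/-!
# Countably generated flat Mittag-Leffler modules are projective
-/

set_option autoImplicit false
universe u
open scoped Classical

namespace Groth.Agent.Flat2A.ProjML

/-- A countably generated flat Mittag-Leffler module is projective. -/
theorem projective_of_flat_mittagLeffler (R : Type u) [CommRing R] (M : Type u) [AddCommGroup M]
    [Module R M] [Module.Flat R M] (hML : CAlg.IsMittagLeffler R M)
    (hc : CAlg.IsCountablyGenerated R M) : Module.Projective R M := by
  refine (Groth.Agent.S0584.result R M).mpr ⟨inferInstance, hML, PUnit.{u + 1}, fun _ => ⊤, ?_, ?_⟩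
  · convert (DirectSum.isInternal_submodule_iff_iSupIndep_and_iSup_eq_top
      (fun _ : PUnit.{u + 1} => (⊤ : Submodule R M))).mpr ⟨iSupIndep_subsingleton _, by simp⟩
  · rintro -
    obtain ⟨s, hs, hspan⟩ := hc
    refine ⟨(Submodule.topEquiv (R := R) (M := M)).symm '' s, hs.image _, ?_⟩
    have := Submodule.map_span ((Submodule.topEquiv (R := R) (M := M)).symm.toLinearMap) s
    rw [hspan] at this
    refine Eq.trans this.symm ?_
    simp

end Groth.Agent.Flat2A.ProjML
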