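import Groth.Agent.Flat2A.RelAss
import Groth.Agent.S1201
import Groth.Agent.S1236
import Mathlib.RingTheory.TensorProduct.Quotient
import Mathlib.RingTheory.Spectrum.Prime.RingHom

/-!
# Universal injectivity of `N → C ⊗ N` when `Spec C` hits all relative associated points
-/

set_option autoImplicit false
set_option linter.style.haveILetI false

universe u v w

namespace Groth.Agent.Flat2A.PureCore

open TensorProduct Flat2A.Fiber Flat2A.FiberAss Flat2A.FiberEquiv

/-- `C` flat over `B`, `z` an element of a module `X` which dies in `C ⊗ X`. Then the annihilator of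
`z` generates the unit ideal of `C`. -/
theorem map_annihilator_eq_top {B : Type u} {C : Type v} [CommRing B] [CommRing C] [Algebra B C]
    [Module.Flat B C] {X : Type w} [AddCommGroup X] [Module B X] (z : X)
    (h : (1 : C) ⊗ₜ[B] z = 0) :
    ((Submodule.span B {z}).annihilator).map (algebraMap B C) = ⊤ := by
  set J : Ideal B := (Submodule.span B {z}).annihilator with hJ
  let ψ : B →ₗ[B] X := LinearMap.toSpanSingleton B X z
  have hker : LinearMap.ker ψ = J := by
    ext b
    rw [LinearMap.mem_ker, LinearMap.toSpanSingleton_apply, hJ,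
      Submodule.mem_annihilator_span_singleton]
  let ψ' : (B ⧸ J) →ₗ[B] X := J.liftQ ψ hker.ge
  have hψ' : Function.Injective ψ' := by
    rw [← LinearMap.ker_eq_bot]
    exact Submodule.ker_liftQ_eq_bot _ _ _ hker.le
  have hinj := Module.Flat.lTensor_preserves_injective_linearMap (M := C) ψ' hψ'
  have h0 : (1 : C) ⊗ₜ[B] (Ideal.Quotient.mk J 1 : B ⧸ J) = 0 := by
    apply hinj
    rw [map_zero, LinearMap.lTensor_tmul]
    have : ψ' (Ideal.Quotient.mk J 1) = z := by
      change ψ 1 = z
      simp [ψ]
    rw [this, h]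
  have h1 : (1 : C ⊗[B] (B ⧸ J)) = 0 := by
    rw [Algebra.TensorProduct.one_def]
    simpa using h0
  have hs : Subsingleton (C ⊗[B] (B ⧸ J)) := subsingleton_of_zero_eq_one h1.symm
  have hs' : Subsingleton (C ⧸ J.map (algebraMap B C)) :=
    (Algebra.TensorProduct.quotIdealMapEquivTensorQuot C J).toEquiv.subsingleton
  exact Ideal.Quotient.subsingleton_iff.mp hs'

/-- Kernel elements are weakly associated to primes outside the image of `Spec C`. -/
theorem eq_zero_of_weakAss {B C : Type u} [CommRing B] [CommRing C] [Algebra B C]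
    [Module.Flat B C] {X : Type u} [AddCommGroup X] [Module B X] (z : X)
    (h : (1 : C) ⊗ₜ[B] z = 0)
    (H : ∀ Q : Ideal B, Q.IsPrime → Q ∈ FlatCA.weakAss B X →
      ∃ Q' : Ideal C, Q'.IsPrime ∧ Q'.comap (algebraMap B C) = Q) : z = 0 := by
  by_contra hz
  have hne : (Submodule.span B {z}).annihilator ≠ ⊤ := by
    intro htop
    apply hz
    have : (1 : B) ∈ (Submodule.span B {z}).annihilator := by rw [htop]; trivial
    simpa using (Submodule.mem_annihilator_span_singleton _ _).mp this
  obtain ⟨Q, hQ⟩ := (Submodule.span B {z}).annihilator.nonempty_minimalPrimes hne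
  have hQp : Q.IsPrime := hQ.1.1
  obtain ⟨Q', hQ', hcomap⟩ := H Q hQp ⟨z, hQ⟩
  apply hQ'.ne_top
  rw [← top_le_iff, ← map_annihilator_eq_top z h, Ideal.map_le_iff_le_comap, hcomap]
  exact hQ.1.2

/-- The key statement: `N` finite over a finite type algebra `B` over `A`, `C` flat over `B`, such that
every relative associated prime of `N` is in the image of `Spec C`, and `N` is flat over `A` at
the relative associated primes. Then `N → C ⊗ N` is universally injective over `A`. -/
theorem univInj_of_relAss {A B C : Type u} [CommRing A] [CommRing B] [CommRing C] [Algebra A B]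
    [Algebra B C] [Algebra.FiniteType A B] [Module.Flat B C]
    (N : Type u) [AddCommGroup N] [Module B N] [Module A N] [IsScalarTower A B N]
    [Module.Finite B N]
    (hflat : ∀ (t : Ideal A) [t.IsPrime] (Q : Ideal B) [Q.IsPrime] [Q.LiesOver t],
      FlatCA.fiberIdeal t Q ∈ associatedPrimes (t.Fiber B) (FlatCA.fiberMod t B N) →
      FlatCA.FlatAt A Q N)
    (hcov : ∀ (t : Ideal A) [t.IsPrime] (Q : Ideal B) [Q.IsPrime] [Q.LiesOver t],
      FlatCA.fiberIdeal t Q ∈ associatedPrimes (t.Fiber B) (FlatCA.fiberMod t B N) →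
      ∃ Q' : Ideal C, Q'.IsPrime ∧ Q'.comap (algebraMap B C) = Q)
    (M : Type u) [AddCommGroup M] [Module A M] (z : N ⊗[A] M)
    (hz : (1 : C) ⊗ₜ[B] z = 0) : z = 0 := by
  refine eq_zero_of_weakAss z hz ?_
  intro Q hQ hass
  let t : Ideal A := Q.under A
  haveI : Q.LiesOver t := ⟨rfl⟩
  have hfl : FlatCA.FlatAt A Q N := by
    refine (Groth.Agent.S1201.result N t Q).mpr ?_
    intro Q₁ hQ₁ hle hover hrel
    exact hflat t Q₁ hrel
  have hrel := ((Groth.Agent.S1236.result N M t Q hfl).mp hass).2
  exact hcov t Q hrel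

end Groth.Agent.Flat2A.PureCore
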