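import Groth.Agent.Flat2A.RelAss
import Groth.Agent.Flat2B.FlatLocusAux
import Mathlib.RingTheory.Localization.BaseChange

/-!
# Purity and specializations of relative associated points over the local ring of an elementary
etale neighbourhood
-/

set_option autoImplicit false
set_option linter.style.haveILetI false

universe u v w

namespace Groth.Agent.Flat2A.PureEtSpec

open TensorProduct Flat2A.Fiber Flat2A.FiberAss Flat2A.FiberEquiv

/-- Flatness at a prime passes to smaller primes. -/
theorem flatAt_mono {A B : Type u} [CommRing A] [CommRing B] [Algebra A B]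
    (N : Type u) [AddCommGroup N] [Module B N] [Module A N] [IsScalarTower A B N]
    (Q Q₁ : Ideal B) [Q.IsPrime] [Q₁.IsPrime] (hle : Q ≤ Q₁) (h : FlatCA.FlatAt A Q₁ N) :
    FlatCA.FlatAt A Q N := by
  have hle' : Q₁.primeCompl ≤ Q.primeCompl := fun s hs hsQ => hs (hle hsQ)
  have : Module.Flat A (LocalizedModule Q₁.primeCompl N) := h
  exact Flat2B.FlatLocusAux.flat_of_isLocalizedModule_source Q.primeCompl
    (LocalizedModule.liftOfLE Q₁.primeCompl Q.primeCompl hle' (M := N))

/-- Existence of a model of the tensor product with all structure maps. -/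
theorem exists_pushout (A B A' : Type u) [CommRing A] [CommRing B] [CommRing A'] [Algebra A B]
    [Algebra A A'] :
    ∃ (B' : Type u) (_ : CommRing B') (_ : Algebra B B') (_ : Algebra A' B') (_ : Algebra A B')
      (_ : IsScalarTower A B B') (_ : IsScalarTower A A' B'), Algebra.IsPushout A B A' B' := by
  letI : Algebra A' (B ⊗[A] A') := Algebra.TensorProduct.rightAlgebra
  exact ⟨B ⊗[A] A', inferInstance, inferInstance, inferInstance, inferInstance, inferInstance,
    inferInstance, inferInstance⟩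

section

variable {A A' Λ B B' BΛ : Type u} [CommRing A] [CommRing A'] [CommRing Λ] [CommRing B]
  [CommRing B'] [CommRing BΛ] [Algebra A A'] [Algebra A' Λ]
  [Algebra A B] [Algebra B B'] [Algebra A' B'] [Algebra A B'] [IsScalarTower A B B']
  [IsScalarTower A A' B'] [Algebra B' BΛ] [Algebra Λ BΛ] [Algebra A' BΛ]
  [IsScalarTower A' B' BΛ] [IsScalarTower A' Λ BΛ]

/-- Let `Λ` be the local ring of `A'` at `p'`, `A → A'` an elementary etale neighbourhood of `p`. If
`N` is pure along the fibre over `p`, then every relative associated prime of `N_Λ` is contained in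
a prime over the maximal ideal of `Λ`. -/
theorem exists_over_of_isPureAlong (p : Ideal A) [p.IsPrime] (p' : Ideal A') [p'.IsPrime]
    [IsLocalRing Λ] [IsLocalization.AtPrime Λ p']
    (hEt : FlatCA.IsEtaleNhd A A' p p')
    (hpush : Algebra.IsPushout A B A' B') (hpush' : Algebra.IsPushout A' B' Λ BΛ)
    {N N' NΛ : Type u} [AddCommGroup N] [Module B N]
    [AddCommGroup N'] [Module B' N'] [Module B N'] [IsScalarTower B B' N'] [Module A' N']
    [IsScalarTower A' B' N'] (f : N →ₗ[B] N') (hf : IsBaseChange B' f)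
    [AddCommGroup NΛ] [Module BΛ NΛ] [Module B' NΛ] [IsScalarTower B' BΛ NΛ] [Module Λ NΛ]
    [IsScalarTower Λ BΛ NΛ] (g : N' →ₗ[B'] NΛ) (hg : IsBaseChange BΛ g)
    (hpure : FlatCA.IsPureAlong A B N p)
    (t : Ideal Λ) [t.IsPrime] (Q : Ideal BΛ) [Q.IsPrime] [Q.LiesOver t]
    [IsNoetherianRing (t.Fiber BΛ)]
    (hQ : FlatCA.fiberIdeal t Q ∈ associatedPrimes (t.Fiber BΛ) (FlatCA.fiberMod t BΛ NΛ)) :
    ∃ Q₁ : Ideal BΛ, Q₁.IsPrime ∧ Q ≤ Q₁ ∧ Q₁.LiesOver (IsLocalRing.maximalIdeal Λ) := by
  haveI hloc : IsLocalization (Algebra.algebraMapSubmonoid B' p'.primeCompl) BΛ :=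
    (Algebra.isLocalization_iff_isPushout p'.primeCompl Λ).mpr hpush'.symm.symm
  let t₁ : Ideal A' := t.under A'
  haveI : t.LiesOver t₁ := ⟨rfl⟩
  let P : Ideal B' := Q.under B'
  haveI : Q.LiesOver P := ⟨rfl⟩
  haveI hPt : P.LiesOver t₁ := ⟨by
    have h1 : t₁ = (Q.under Λ).under A' := by
      rw [← (Ideal.LiesOver.over : t = Q.under Λ)]
    rw [h1]
    ext a
    simp only [P, Ideal.mem_comap, Ideal.under]
    rw [← IsScalarTower.algebraMap_apply, ← IsScalarTower.algebraMap_apply]⟩
  have hP := RelAss.of_baseChange hpush' g hg t₁ t P Q hQ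
  have ht₁ : t₁ ≤ p' := by
    intro a ha
    by_contra hap
    have hu : IsUnit (algebraMap A' Λ a) := IsLocalization.map_units Λ (⟨a, hap⟩ : p'.primeCompl)
    exact (inferInstance : t.IsPrime).ne_top (Ideal.eq_top_of_isUnit_mem _ ha hu)
  have himp := hpure A' B' N' f t₁ p' P hEt
  have hex : ∃ P' : Ideal B', P'.IsPrime ∧ P ≤ P' ∧ P'.LiesOver p' := by
    by_contra hcon
    push Not at hcon
    exact himp ⟨hpush, hf, ht₁, hEt.2.1, hPt, hP, fun P' hP' hle => hcon P' hP' hle⟩
  obtain ⟨P', hP', hle, hover⟩ := hex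
  have hdisj : Disjoint (Algebra.algebraMapSubmonoid B' p'.primeCompl : Set B') (P' : Set B') := by
    rw [Set.disjoint_left]
    rintro _ ⟨a, ha, rfl⟩ haP
    apply ha
    rw [(Ideal.LiesOver.over : p' = P'.under A')]
    exact haP
  refine ⟨P'.map (algebraMap B' BΛ), IsLocalization.isPrime_of_isPrime_disjoint _ BΛ P' hP' hdisj,
    ?_, ⟨?_⟩⟩
  · rw [← IsLocalization.map_under (Algebra.algebraMapSubmonoid B' p'.primeCompl) BΛ Q]
    exact Ideal.map_mono hle
  · have hc : (P'.map (algebraMap B' BΛ)).comap (algebraMap B' BΛ) = P' :=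
      IsLocalization.under_map_of_isPrime_disjoint _ BΛ hP' hdisj
    have hpr : (P'.map (algebraMap B' BΛ)).IsPrime :=
      IsLocalization.isPrime_of_isPrime_disjoint _ BΛ P' hP' hdisj
    symm
    have h1 : ((P'.map (algebraMap B' BΛ)).under Λ).under A' = p' := by
      rw [(Ideal.LiesOver.over : p' = P'.under A')]
      conv_rhs => rw [← hc]
      ext a
      simp only [Ideal.mem_comap, Ideal.under]
      rw [← IsScalarTower.algebraMap_apply, ← IsScalarTower.algebraMap_apply]
    haveI : ((P'.map (algebraMap B' BΛ)).under Λ).IsPrime := inferInstance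
    have h2 : ((P'.map (algebraMap B' BΛ)).under Λ) =
        (((P'.map (algebraMap B' BΛ)).under Λ).under A').map (algebraMap A' Λ) :=
      (IsLocalization.map_under p'.primeCompl Λ _).symm
    rw [h2, h1]
    exact IsLocalization.AtPrime.map_eq_maximalIdeal p' Λ

end

end Groth.Agent.Flat2A.PureEtSpec
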