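import Groth.Agent.Flat2A.FibreInj
import Groth.Agent.Flat2A.FiberEquiv

/-!
# Constructibility of the set of points over which the relative assassin lies in an open set

Ring form of Stacks 05KR.
-/

set_option autoImplicit false

open TensorProduct Module Topology

namespace Groth.Agent.Flat2A.RelAssCons

universe u

open Flat2A.Fiber Flat2A.FiberAss Flat2A.FiberEquiv Flat2A.FibreInj

/-- A constructible set containing all generizations of `p` contains a basic open neighbourhood of
`p`. -/
theorem exists_basicOpen_subset {A : Type u} [CommRing A] (E : Set (PrimeSpectrum A))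
    (hE : IsConstructible E) (p : Ideal A) [p.IsPrime]
    (h : ∀ t : PrimeSpectrum A, t.asIdeal ≤ p → t ∈ E) :
    ∃ a : A, a ∉ p ∧ ∀ t : PrimeSpectrum A, a ∉ t.asIdeal → t ∈ E := by
  obtain ⟨S, _, f, hf⟩ := PrimeSpectrum.exists_range_eq_of_isConstructible hE.compl
  by_contra hcon
  push Not at hcon
  have h0 : (0 : S) ∉ p.primeCompl.map f := by
    rintro ⟨a, ha, ha'⟩
    obtain ⟨t, hat, ht⟩ := hcon a ha
    have ht' : t ∈ Eᶜ := ht
    rw [← hf] at ht'
    obtain ⟨Q, rfl⟩ := ht'
    apply hat
    change f a ∈ Q.asIdeal
    rw [ha']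
    exact Q.asIdeal.zero_mem
  obtain ⟨Q, hQ, -, hd⟩ := Ideal.exists_le_prime_disjoint (⊥ : Ideal S) (p.primeCompl.map f) (by
    rw [Set.disjoint_left]
    intro x hx hx'
    rw [SetLike.mem_coe, Ideal.mem_bot] at hx
    exact h0 (hx ▸ hx'))
  have h1 : PrimeSpectrum.comap f ⟨Q, hQ⟩ ∈ Eᶜ := by
    rw [← hf]
    exact ⟨_, rfl⟩
  apply h1
  apply h
  intro a ha
  by_contra hap
  exact Set.disjoint_left.mp hd (show f a ∈ (Q : Set S) from ha) ⟨a, hap, rfl⟩

section

variable {A B : Type u} [CommRing A] [CommRing B] [Algebra A B]

/-- Multiplication by a finite family of elements. -/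
def mulFamily (N : Type u) [AddCommGroup N] [Module B N] {l : ℕ} (g : Fin l → B) :
    N →ₗ[B] (Fin l → N) :=
  LinearMap.pi (fun i => LinearMap.lsmul B N (g i))

theorem injOn_mulFamily_iff (N : Type u) [AddCommGroup N] [Module B N] [Module A N]
    [IsScalarTower A B N] {l : ℕ} (g : Fin l → B) (L : Type u) [CommRing L] [Algebra A L] :
    InjOn ((mulFamily N g).restrictScalars A) L ↔
      ∀ z : N ⊗[A] L, (∀ i, g i • z = 0) → z = 0 := by
  have key : ∀ (z : L ⊗[A] N) (i : Fin l),
      ((LinearMap.proj (R := A) (φ := fun _ : Fin l => N) i).lTensor L)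
        (((mulFamily N g).restrictScalars A).lTensor L z) =
      (TensorProduct.comm A N L) (g i • (TensorProduct.comm A L N z)) := by
    intro z i
    induction z with
    | zero => simp
    | add x y hx hy => simp only [map_add, smul_add, hx, hy]
    | tmul a n =>
      simp [mulFamily, TensorProduct.smul_tmul']
  have key2 : ∀ w : L ⊗[A] (Fin l → N),
      (∀ i, (LinearMap.proj (R := A) (φ := fun _ : Fin l => N) i).lTensor L w = 0) → w = 0 := by
    intro w hw
    apply (TensorProduct.piRight A A L (fun _ : Fin l => N)).injective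
    rw [map_zero]
    funext i
    have h1 : ∀ w : L ⊗[A] (Fin l → N), (TensorProduct.piRight A A L (fun _ : Fin l => N)) w i =
        (LinearMap.proj (R := A) (φ := fun _ : Fin l => N) i).lTensor L w := by
      intro w
      induction w with
      | zero => simp
      | add x y hx hy => rw [map_add, Pi.add_apply, hx, hy, map_add]
      | tmul a n => simp
    rw [h1, hw]
    rfl
  unfold InjOn
  rw [injective_iff_map_eq_zero]
  constructor
  · intro H z hz
    have h1 := H (TensorProduct.comm A N L z) (key2 _ fun i => by
      rw [key]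
      have : (TensorProduct.comm A L N) ((TensorProduct.comm A N L) z) = z :=
        (TensorProduct.comm A N L).symm_apply_apply z
      rw [this, hz i, map_zero])
    exact (TensorProduct.comm A N L).map_eq_zero_iff.mp h1
  · intro H z hz
    have h1 := H (TensorProduct.comm A L N z) (fun i => by
      have h2 := key z i
      rw [hz, map_zero] at h2
      exact (TensorProduct.comm A N L).map_eq_zero_iff.mp h2.symm)
    exact (TensorProduct.comm A L N).map_eq_zero_iff.mp h1

/-- The relative assassin over `t` lies in `⋃ D(g i)` iff multiplication by the family `g` is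
injective on the fibre module. -/
theorem relAss_subset_iff [Algebra.FiniteType A B] (N : Type u) [AddCommGroup N] [Module B N]
    [Module A N] [IsScalarTower A B N] [Module.Finite B N] {l : ℕ} (g : Fin l → B)
    (t : Ideal A) [t.IsPrime] :
    (∀ (q : Ideal B) [q.IsPrime], q.LiesOver t →
      FlatCA.fiberIdeal t q ∈ associatedPrimes (t.Fiber B) (FlatCA.fiberMod t B N) →
        ∃ i, g i ∉ q) ↔
      InjOn ((mulFamily N g).restrictScalars A) t.ResidueField := by
  have hN : IsNoetherianRing (t.Fiber B) := fiber_isNoetherianRing t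
  have hF : Module.Finite (t.Fiber B) (FlatCA.fiberMod t B N) := fiberMod_finite N t
  rw [injOn_mulFamily_iff]
  constructor
  · intro H z hz
    by_contra hz0
    let y := (fiberModEquiv B t N).symm z
    have hy0 : y ≠ 0 := by
      intro h
      exact hz0 ((fiberModEquiv B t N).symm.map_eq_zero_iff.mp h)
    obtain ⟨Q, hQ, hle⟩ := exists_le_isAssociatedPrime_of_isNoetherianRing (t.Fiber B) y hy0
    let q := Q.comap (toFiber t B)
    have hqass : q ∈ associatedPrimes B (FlatCA.fiberMod t B N) := by
      rw [mem_associatedPrimes_fiberMod_iff]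
      have hover := liesOver_of_comap t (S := B) Q hQ.isPrime.ne_top
      have hqp : q.IsPrime := Ideal.IsPrime.comap _ (hK := hQ.isPrime)
      exact ⟨hqp, hover, by rw [show FlatCA.fiberIdeal t q = Q from fiberIdeal_comap t Q]; exact hQ⟩
    obtain ⟨hq1, hq2, hq3⟩ := (mem_associatedPrimes_fiberMod_iff t N q).mp hqass
    obtain ⟨i, hi⟩ := H q hq2 hq3
    apply hi
    change toFiber t B (g i) ∈ Q
    apply hle
    rw [Submodule.mem_colon_singleton, Submodule.mem_bot, ← smul_fiberMod, ← map_smul, hz i,
      map_zero]
  · intro H q hq hover hass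
    by_contra hcon
    push Not at hcon
    obtain ⟨z, hz⟩ := exists_annihilator t N q hass
    have hz0 : z = 0 := H z fun i => (hz (g i)).mp (hcon i)
    apply hq.ne_top
    rw [Ideal.eq_top_iff_one, hz, hz0, smul_zero]

/-- Ring form of Stacks 05KR. -/
theorem isConstructible_relAss_subset [Algebra.FinitePresentation A B] (N : Type u)
    [AddCommGroup N] [Module B N] [Module A N] [IsScalarTower A B N]
    [Module.FinitePresentation B N] {l : ℕ} (g : Fin l → B) :
    IsConstructible {t : PrimeSpectrum A | ∀ (q : Ideal B) [q.IsPrime], q.LiesOver t.asIdeal →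
      FlatCA.fiberIdeal t.asIdeal q ∈
        associatedPrimes (t.asIdeal.Fiber B) (FlatCA.fiberMod t.asIdeal B N) →
        ∃ i, g i ∉ q} := by
  have := isConstructible_injOn (A := A) (B := B) (mulFamily N g)
  convert this using 1
  ext t
  exact relAss_subset_iff N g t.asIdeal

end

end Groth.Agent.Flat2A.RelAssCons
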