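import Groth.Agent.S1195
import Groth.Agent.Flat2B.CoverProj
import Groth.Agent.Flat2A.ImpurityBC
import Groth.Agent.Flat2A.RelAssCons
import Groth.Agent.Flat2A.MLProj
import Groth.Agent.Flat2A.MLPass
import Mathlib.RingTheory.Etale.Basic

/-!
# Finitely presented flat pure modules are projective after an elementary etale base change

Key lemma for Stacks 05MC and 05MD.
-/

set_option autoImplicit false

open TensorProduct

namespace Groth.Agent.Flat2A.PureProj

universe u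

open Flat2A.Fiber Flat2A.FiberAss

attribute [local instance] Algebra.TensorProduct.rightAlgebra

section final

variable {A B : Type u} [CommRing A] [CommRing B] [Algebra A B] [Algebra.FinitePresentation A B]
  (N : Type u) [AddCommGroup N] [Module B N] [Module A N] [IsScalarTower A B N]
  [Module.FinitePresentation B N] [Module.Flat A N]

/-- Final step: if the relative assassin of `A₁ ⊗ N` is hit by the étale `B`-algebra `S₁` such that
`S₁ ⊗ N` is projective over `A₁`, then `A₁ ⊗ N` is projective over `A₁`. -/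
theorem projective_of_cover (A₁ S₁ : Type u) [CommRing A₁] [CommRing S₁] [Algebra A A₁]
    [Algebra B S₁] [Algebra A₁ S₁] [Algebra A S₁] [IsScalarTower A A₁ S₁] [IsScalarTower A B S₁]
    [Algebra.Etale A A₁] [Algebra.Etale B S₁] (ψ : A₁ ⊗[A] B →+* S₁)
    (hψ₁ : ψ.comp (algebraMap A₁ (A₁ ⊗[A] B)) = algebraMap A₁ S₁)
    (hψ₂ : ψ.comp (algebraMap B (A₁ ⊗[A] B)) = algebraMap B S₁)
    (hproj : Module.Projective A₁ (S₁ ⊗[B] N))
    (h : ∀ (t : Ideal A₁) [t.IsPrime], ∀ Q ∈ associatedPrimes (A₁ ⊗[A] B)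
      (FlatCA.fiberMod t (A₁ ⊗[A] B) ((A₁ ⊗[A] B) ⊗[B] N)),
      ∃ q' : Ideal S₁, q'.IsPrime ∧ q'.comap ψ = Q) :
    Module.Projective A₁ (A₁ ⊗[A] N) := by
  let iψ : Algebra (A₁ ⊗[A] B) S₁ := ψ.toAlgebra
  have t1 : IsScalarTower A₁ (A₁ ⊗[A] B) S₁ := IsScalarTower.of_algebraMap_eq' hψ₁.symm
  have t2 : IsScalarTower B (A₁ ⊗[A] B) S₁ := IsScalarTower.of_algebraMap_eq' hψ₂.symm
  have po : Algebra.IsPushout A B A₁ (A₁ ⊗[A] B) := inferInstance
  have et1 : Algebra.Etale B (A₁ ⊗[A] B) := by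
    have := Algebra.Etale.baseChange A A₁ B
    exact Algebra.Etale.of_equiv (Algebra.IsPushout.equiv A B A₁ (A₁ ⊗[A] B))
  have et2 : Algebra.Etale (A₁ ⊗[A] B) S₁ := Algebra.Etale.of_restrictScalars B (A₁ ⊗[A] B) S₁
  have fl : Module.Flat (A₁ ⊗[A] B) S₁ := inferInstance
  let e : (A₁ ⊗[A] B) ⊗[B] N ≃ₗ[A₁] A₁ ⊗[A] N :=
    Algebra.IsPushout.cancelBaseChange A A₁ B (A₁ ⊗[A] B) N
  have fl2 : Module.Flat A₁ ((A₁ ⊗[A] B) ⊗[B] N) := Module.Flat.of_linearEquiv e
  have hUI := Groth.Agent.S1195.result (R := A₁) (S := A₁ ⊗[A] B) (S' := S₁)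
    ((A₁ ⊗[A] B) ⊗[B] N) (by
      intro t Q _ _ _ hQ
      exact h t Q ((mem_associatedPrimes_fiberMod_iff _ _ _).mpr ⟨inferInstance, inferInstance, hQ⟩))
  let e1 : S₁ ⊗[A₁ ⊗[A] B] ((A₁ ⊗[A] B) ⊗[B] N) ≃ₗ[A₁] S₁ ⊗[B] N :=
    { AlgebraTensorModule.cancelBaseChange B (A₁ ⊗[A] B) S₁ S₁ N with
      map_smul' := by
        intro r x
        change AlgebraTensorModule.cancelBaseChange B (A₁ ⊗[A] B) S₁ S₁ N (r • x) =
          r • AlgebraTensorModule.cancelBaseChange B (A₁ ⊗[A] B) S₁ S₁ N x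
        rw [← algebraMap_smul S₁ r x, map_smul, algebraMap_smul] }
  have hp : Module.Projective A₁ (S₁ ⊗[A₁ ⊗[A] B] ((A₁ ⊗[A] B) ⊗[B] N)) :=
    Module.Projective.of_equiv e1.symm
  have hfin : Module.Projective A₁ ((A₁ ⊗[A] B) ⊗[B] N) :=
    MLProj.projective_of_lTensor_injective
      (MLPass.isCountablyGenerated_of_finite A₁ (A₁ ⊗[A] B)
        (MLPass.isCountablyGenerated_of_finiteType A₁ (A₁ ⊗[A] B)) ((A₁ ⊗[A] B) ⊗[B] N)) _ hUI
      (MLProj.isMittagLeffler_of_projective _)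
  exact Module.Projective.of_equiv e

end final

/-- `Spec (A₁ ⊗ B) → Spec (R' ⊗ B)` is injective when `A₁` is a localization of `R'`. -/
theorem eq_of_comap_eq {A B R' A₁ : Type u} [CommRing A] [CommRing B] [Algebra A B] [CommRing R']
    [Algebra A R'] [CommRing A₁] [Algebra A A₁] [Algebra R' A₁] [IsScalarTower A R' A₁] (a : R')
    [IsLocalization.Away a A₁] (φ : R' ⊗[A] B →+* A₁ ⊗[A] B)
    (hφ₁ : φ.comp (algebraMap R' (R' ⊗[A] B)) = (algebraMap A₁ (A₁ ⊗[A] B)).comp (algebraMap R' A₁))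
    (hφ₂ : φ.comp (algebraMap B (R' ⊗[A] B)) = algebraMap B (A₁ ⊗[A] B))
    (Q₁ Q₂ : Ideal (A₁ ⊗[A] B)) [hQ₁ : Q₁.IsPrime] [hQ₂ : Q₂.IsPrime]
    (h : Q₁.comap φ = Q₂.comap φ) : Q₁ = Q₂ := by
  have hφ : ∀ (r : R') (b : B), φ (r ⊗ₜ b) = (algebraMap R' A₁ r) ⊗ₜ b := by
    intro r b
    have h1 : (r ⊗ₜ[A] b : R' ⊗[A] B) = algebraMap R' (R' ⊗[A] B) r * algebraMap B (R' ⊗[A] B) b := by
      change r ⊗ₜ[A] b = (r ⊗ₜ[A] 1) * (1 ⊗ₜ[A] b)
      rw [Algebra.TensorProduct.tmul_mul_tmul, mul_one, one_mul]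
    rw [h1, map_mul]
    have h2 := RingHom.congr_fun hφ₁ r
    have h3 := RingHom.congr_fun hφ₂ b
    simp only [RingHom.comp_apply] at h2 h3
    rw [h2, h3]
    change ((algebraMap R' A₁ r) ⊗ₜ[A] (1 : B)) * ((1 : A₁) ⊗ₜ[A] b) = _
    rw [Algebra.TensorProduct.tmul_mul_tmul, mul_one, one_mul]
  have hunit : IsUnit (algebraMap A₁ (A₁ ⊗[A] B) (algebraMap R' A₁ a)) :=
    (IsLocalization.Away.algebraMap_isUnit a).map _
  have key : ∀ z : A₁ ⊗[A] B, ∃ (n : ℕ) (w : R' ⊗[A] B),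
      (algebraMap A₁ (A₁ ⊗[A] B) (algebraMap R' A₁ a)) ^ n * z = φ w := by
    intro z
    induction z with
    | zero => exact ⟨0, 0, by simp⟩
    | tmul x b =>
      obtain ⟨n, r, hr⟩ := IsLocalization.Away.surj a x
      refine ⟨n, r ⊗ₜ b, ?_⟩
      rw [hφ, ← hr]
      change ((algebraMap R' A₁ a) ⊗ₜ[A] (1 : B)) ^ n * (x ⊗ₜ[A] b) = _
      rw [Algebra.TensorProduct.tmul_pow, Algebra.TensorProduct.tmul_mul_tmul, one_pow, one_mul,
        mul_comm]
    | add x y hx hy =>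
      obtain ⟨n, w, hw⟩ := hx
      obtain ⟨m, v, hv⟩ := hy
      refine ⟨n + m, (algebraMap R' (R' ⊗[A] B) a) ^ m * w + (algebraMap R' (R' ⊗[A] B) a) ^ n * v, ?_⟩
      have h2 := RingHom.congr_fun hφ₁ a
      simp only [RingHom.comp_apply] at h2
      rw [map_add, map_mul, map_mul, map_pow, map_pow, h2, ← hw, ← hv]
      ring
  have aux : ∀ (Q₁ Q₂ : Ideal (A₁ ⊗[A] B)) (_ : Q₁.IsPrime) (_ : Q₂.IsPrime)
      (_ : Q₁.comap φ = Q₂.comap φ), Q₁ ≤ Q₂ := by
    intro Q₁ Q₂ hQ₁ hQ₂ h z hz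
    obtain ⟨n, w, hw⟩ := key z
    have h1 : w ∈ Q₁.comap φ := by
      rw [Ideal.mem_comap, ← hw]
      exact Q₁.mul_mem_left _ hz
    rw [h, Ideal.mem_comap, ← hw] at h1
    rcases hQ₂.mem_or_mem h1 with h2 | h2
    · exact absurd (Ideal.eq_top_of_isUnit_mem _ h2 (hunit.pow n)) hQ₂.ne_top
    · exact h2
  exact le_antisymm (aux Q₁ Q₂ hQ₁ hQ₂ h) (aux Q₂ Q₁ hQ₂ hQ₁ h.symm)

/-- Localization of the base of a cover. -/
theorem projective_localized {A B R' S' : Type u} [CommRing A] [CommRing B] [CommRing R']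
    [CommRing S'] [Algebra A B] [Algebra.FinitePresentation A B] [Algebra A R'] [Algebra B S']
    [Algebra R' S'] [Algebra A S'] [IsScalarTower A R' S'] [IsScalarTower A B S']
    [Algebra.Etale A R'] [Algebra.Etale B S']
    (N : Type u) [AddCommGroup N] [Module B N] [Module A N] [IsScalarTower A B N]
    [Module.FinitePresentation B N] [Module.Flat A N]
    (hproj : Module.Projective R' (S' ⊗[B] N)) (a : R') (A₁ : Type u) [CommRing A₁] [Algebra A A₁]
    [Algebra R' A₁] [IsScalarTower A R' A₁] [IsLocalization.Away a A₁] (ψ : R' ⊗[A] B →+* S')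
    (hψ : ∀ (r : R') (b : B), ψ (r ⊗ₜ b) = algebraMap R' S' r * algebraMap B S' b)
    (himg : ∀ (t : Ideal R') [t.IsPrime], a ∉ t → ∀ Q ∈ associatedPrimes (R' ⊗[A] B)
      (FlatCA.fiberMod t (R' ⊗[A] B) ((R' ⊗[A] B) ⊗[B] N)),
      ∃ q' : Ideal S', q'.IsPrime ∧ q'.comap ψ = Q) : Module.Projective A₁ (A₁ ⊗[A] N) := by
  let T := S' ⊗[R'] A₁
  have tower1 : IsScalarTower A S' T := inferInstance
  have tower2 : IsScalarTower B S' T := inferInstance
  have tower3 : IsScalarTower R' A₁ T := inferInstance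
  have tower4 : IsScalarTower A B T := inferInstance
  have tower5 : IsScalarTower A A₁ T := by
    refine IsScalarTower.of_algebraMap_eq fun x => ?_
    rw [IsScalarTower.algebraMap_apply A R' T, IsScalarTower.algebraMap_apply A R' A₁,
      IsScalarTower.algebraMap_apply R' A₁ T]
  have po : Algebra.IsPushout R' S' A₁ T := inferInstance
  have etL : Algebra.Etale R' A₁ := Algebra.Etale.of_isLocalizationAway a
  have etA : Algebra.Etale A A₁ := Algebra.Etale.comp A R' A₁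
  have et1 : Algebra.Etale S' T := inferInstance
  have et2 : Algebra.Etale B T := Algebra.Etale.comp B S' T
  have e1 : T ⊗[S'] (S' ⊗[B] N) ≃ₗ[A₁] T ⊗[B] N :=
    { AlgebraTensorModule.cancelBaseChange B S' T T N with
      map_smul' := by
        intro r x
        change AlgebraTensorModule.cancelBaseChange B S' T T N (r • x) =
          r • AlgebraTensorModule.cancelBaseChange B S' T T N x
        rw [← algebraMap_smul T r x, map_smul, algebraMap_smul] }
  have e2 : T ⊗[S'] (S' ⊗[B] N) ≃ₗ[A₁] A₁ ⊗[R'] (S' ⊗[B] N) :=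
    Algebra.IsPushout.cancelBaseChange R' A₁ S' T (S' ⊗[B] N)
  have hproj1 : Module.Projective A₁ (T ⊗[B] N) := Module.Projective.of_equiv (e2.symm.trans e1)
  let ψ₁ : A₁ ⊗[A] B →+* T := (Algebra.TensorProduct.productMap (IsScalarTower.toAlgHom A A₁ T)
    (IsScalarTower.toAlgHom A B T)).toRingHom
  have hψ₁ : ∀ (r : A₁) (b : B), ψ₁ (r ⊗ₜ b) = algebraMap A₁ T r * algebraMap B T b := fun r b =>
    Algebra.TensorProduct.productMap_apply_tmul _ _ _ _
  refine projective_of_cover N A₁ T ψ₁ ?_ ?_ hproj1 ?_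
  · ext r
    change ψ₁ (r ⊗ₜ 1) = _
    rw [hψ₁, map_one, mul_one]
  · ext b
    change ψ₁ (1 ⊗ₜ b) = _
    rw [hψ₁, map_one, one_mul]
  intro t₁ _ Q₁ hQ₁
  obtain ⟨φ, f1, f2, -, -, h4⟩ := ImpurityBC.ass_transfer (A := A) (A' := A) (B := B) (B' := B)
    (N' := N) (A₁ := R') (A₂ := A₁) (B₁ := R' ⊗[A] B) (B₂ := A₁ ⊗[A] B)
    (Algebra.IsPushout.symm inferInstance) inferInstance inferInstance
    LinearMap.id (IsBaseChange.ofEquiv (LinearEquiv.refl B N)) (TensorProduct.mk B (R' ⊗[A] B) N 1)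
    (TensorProduct.isBaseChange _ _ _) (TensorProduct.mk B (A₁ ⊗[A] B) N 1)
    (TensorProduct.isBaseChange _ _ _)
  have hQ₁p : Q₁.IsPrime := hQ₁.1
  let t : Ideal R' := t₁.comap (algebraMap R' A₁)
  have hlt : t₁.LiesOver t := ⟨rfl⟩
  have hat : a ∉ t := fun h => ‹t₁.IsPrime›.ne_top
    (Ideal.eq_top_of_isUnit_mem _ h (IsLocalization.Away.algebraMap_isUnit a))
  obtain ⟨q', hq', hq⟩ := himg t hat (Q₁.comap φ) (h4 t t₁ Q₁ hQ₁)
  have h5 : q'.comap (algebraMap R' S') = t := by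
    have h6 : algebraMap R' S' = ψ.comp (algebraMap R' (R' ⊗[A] B)) := by
      ext r
      change _ = ψ (r ⊗ₜ 1)
      rw [hψ, map_one, mul_one]
    have h7 := ((mem_associatedPrimes_fiberMod_iff _ _ _).mp hQ₁).2.1
    rw [h6, ← Ideal.comap_comap, hq, Ideal.comap_comap, f1, ← Ideal.comap_comap]
    exact congrArg (Ideal.comap (algebraMap R' A₁)) h7.over.symm
  have hlq : q'.LiesOver t := ⟨h5.symm⟩
  obtain ⟨Q₂, hQ₂, hQ21, hQ22⟩ := Flat2B.EtaleNhd.exists_prime_of_isPushout (R := R') (R' := A₁)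
    (S := S') (S' := T) t q' t₁
  refine ⟨Q₂, hQ₂, ?_⟩
  refine eq_of_comap_eq (R' := R') a φ f1 (by rw [f2]; rfl) _ _ ?_
  rw [← hq, Ideal.comap_comap, hQ21.over, Ideal.under_def, Ideal.comap_comap]
  refine congrArg (fun f => Ideal.comap f Q₂) (RingHom.ext fun x => ?_)
  have hφ : ∀ (r : R') (b : B), φ (r ⊗ₜ b) = (algebraMap R' A₁ r) ⊗ₜ b := by
    intro r b
    have h1 : (r ⊗ₜ[A] b : R' ⊗[A] B) = algebraMap R' (R' ⊗[A] B) r * algebraMap B (R' ⊗[A] B) b := by
      change r ⊗ₜ[A] b = (r ⊗ₜ[A] 1) * (1 ⊗ₜ[A] b)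
      rw [Algebra.TensorProduct.tmul_mul_tmul, mul_one, one_mul]
    rw [h1, map_mul]
    have h2 := RingHom.congr_fun f1 r
    have h3 := RingHom.congr_fun f2 b
    simp only [RingHom.comp_apply] at h2 h3
    rw [h2, h3]
    change ((algebraMap R' A₁ r) ⊗ₜ[A] (1 : B)) * ((1 : A₁) ⊗ₜ[A] b) = _
    rw [Algebra.TensorProduct.tmul_mul_tmul, mul_one, one_mul]
  rw [RingHom.comp_apply, RingHom.comp_apply]
  induction x with
  | zero => rw [map_zero, map_zero, map_zero, map_zero]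
  | add x y hx hy => rw [map_add, map_add, map_add, map_add, hx, hy]
  | tmul r b =>
    rw [hφ, hψ₁, hψ, map_mul, ← IsScalarTower.algebraMap_apply R' S' T,
      ← IsScalarTower.algebraMap_apply R' A₁ T, ← IsScalarTower.algebraMap_apply B S' T]

/-- Key lemma: a finitely presented flat module which is pure along the fibre over `p` becomes
projective over an elementary étale neighbourhood of `p`. -/
theorem exists_etale_projective {A B : Type u} [CommRing A] [CommRing B] [Algebra A B]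
    [Algebra.FinitePresentation A B]
    (N : Type u) [AddCommGroup N] [Module B N] [Module A N] [IsScalarTower A B N]
    [Module.FinitePresentation B N] [Module.Flat A N] (p : Ideal A) [p.IsPrime]
    (hpure : FlatCA.IsPureAlong A B N p) :
    ∃ (A₁ : Type u) (_ : CommRing A₁) (_ : Algebra A A₁) (p₁ : Ideal A₁) (_ : p₁.IsPrime),
      FlatCA.IsEtaleNhd A A₁ p p₁ ∧ Module.Projective A₁ (A₁ ⊗[A] N) := by
  obtain ⟨R', S', _, _, _, _, _, _, _, _, p', _, het, hetS, hcov, hproj⟩ :=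
    Flat2B.CoverProj.exists_cover (R := A) (S := B) N p (fun q _ _ =>
      FlatA.FlatLocalize.flat_of_isLocalizedModule_tower q.primeCompl
        (LocalizedModule.mkLinearMap q.primeCompl N))
  have hetR : Algebra.Etale A R' := het.1
  have hover : p'.LiesOver p := het.2.1
  let ψ : R' ⊗[A] B →+* S' := (Algebra.TensorProduct.productMap (IsScalarTower.toAlgHom A R' S')
    (IsScalarTower.toAlgHom A B S')).toRingHom
  have hψ : ∀ (r : R') (b : B), ψ (r ⊗ₜ b) = algebraMap R' S' r * algebraMap B S' b := fun r b =>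
    Algebra.TensorProduct.productMap_apply_tmul _ _ _ _
  let iψ : Algebra (R' ⊗[A] B) S' := ψ.toAlgebra
  have t1 : IsScalarTower R' (R' ⊗[A] B) S' := IsScalarTower.of_algebraMap_eq fun r => by
    change _ = ψ (r ⊗ₜ 1)
    rw [hψ, map_one, mul_one]
  have t2 : IsScalarTower B (R' ⊗[A] B) S' := IsScalarTower.of_algebraMap_eq fun b => by
    change _ = ψ (1 ⊗ₜ b)
    rw [hψ, map_one, one_mul]
  have et1 : Algebra.Etale B (R' ⊗[A] B) := by
    have := Algebra.Etale.baseChange A R' B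
    exact Algebra.Etale.of_equiv (Algebra.IsPushout.equiv A B R' (R' ⊗[A] B))
  have et2 : Algebra.Etale (R' ⊗[A] B) S' := Algebra.Etale.of_restrictScalars B (R' ⊗[A] B) S'
  -- the image of `Spec S'`
  obtain ⟨s, hs⟩ := PrimeSpectrum.isCompact_isOpen_iff.mp
    ⟨isCompact_range (PrimeSpectrum.continuous_comap (algebraMap (R' ⊗[A] B) S')),
      (PrimeSpectrum.isOpenMap_comap_of_hasGoingDown_of_finitePresentation
        (R := R' ⊗[A] B) (S := S')).isOpen_range⟩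
  let g : Fin s.card → R' ⊗[A] B := fun i => (s.equivFin.symm i : R' ⊗[A] B)
  have hg : ∀ (Q : Ideal (R' ⊗[A] B)) (hQ : Q.IsPrime), (∃ i, g i ∉ Q) ↔
      ∃ q' : Ideal S', q'.IsPrime ∧ q'.comap ψ = Q := by
    intro Q hQ
    have h1 : (⟨Q, hQ⟩ : PrimeSpectrum (R' ⊗[A] B)) ∈ (PrimeSpectrum.zeroLocus (s : Set (R' ⊗[A] B)))ᶜ ↔
        ∃ i, g i ∉ Q := by
      rw [Set.mem_compl_iff, PrimeSpectrum.mem_zeroLocus, Set.not_subset]
      constructor
      · rintro ⟨x, hx, hxQ⟩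
        exact ⟨s.equivFin ⟨x, hx⟩, by simpa [g] using hxQ⟩
      · rintro ⟨i, hi⟩
        exact ⟨g i, (s.equivFin.symm i).2, hi⟩
    rw [← h1, hs]
    constructor
    · rintro ⟨x, hx⟩
      exact ⟨x.asIdeal, x.isPrime, congrArg PrimeSpectrum.asIdeal hx⟩
    · rintro ⟨q', hq', h2⟩
      exact ⟨⟨q', hq'⟩, PrimeSpectrum.ext h2⟩
  -- the constructible set
  have hE := RelAssCons.isConstructible_relAss_subset (A := R') (B := R' ⊗[A] B)
    ((R' ⊗[A] B) ⊗[B] N) g
  obtain ⟨a, ha, haE⟩ := RelAssCons.exists_basicOpen_subset _ hE p' (by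
    intro t ht
    rw [Set.mem_ofPred_eq]
    intro Q hQ hQt hQass
    have hno := (ImpurityBC.isPureAlong_iff (N := N) p).mp hpure R' t.asIdeal p' het
    have hex : ∃ Q' : Ideal (R' ⊗[A] B), Q'.IsPrime ∧ Q ≤ Q' ∧ Q'.LiesOver p' := by
      by_contra hcon
      push Not at hcon
      exact hno ⟨ht, Q, (mem_associatedPrimes_fiberMod_iff _ _ _).mpr ⟨hQ, hQt, hQass⟩,
        fun P' hP' hle hl => hcon P' hP' hle hl⟩
    obtain ⟨Q', hQ', hle, hl⟩ := hex
    have hqp : (Q'.comap (algebraMap B (R' ⊗[A] B))).LiesOver p := by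
      constructor
      rw [hover.over, hl.over]
      ext x
      simp only [Ideal.under_def, Ideal.mem_comap, ← IsScalarTower.algebraMap_apply]
    have hlB : Q'.LiesOver (Q'.comap (algebraMap B (R' ⊗[A] B))) := ⟨rfl⟩
    obtain ⟨q', hq', hq'1, hq'2⟩ := hcov (Q'.comap (algebraMap B (R' ⊗[A] B))) hqp
    have hl1 : (q'.comap ψ).LiesOver p' := by
      constructor
      rw [hq'2.over]
      ext x
      simp only [Ideal.under_def, Ideal.mem_comap]
      rw [IsScalarTower.algebraMap_apply R' (R' ⊗[A] B) S']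
      rfl
    have hl2 : (q'.comap ψ).LiesOver (Q'.comap (algebraMap B (R' ⊗[A] B))) := by
      constructor
      rw [hq'1.over]
      ext x
      simp only [Ideal.under_def, Ideal.mem_comap]
      rw [IsScalarTower.algebraMap_apply B (R' ⊗[A] B) S']
      rfl
    have heq : Q' = q'.comap ψ := (Flat2B.EtaleNhd.resTriv het).pushout_unique (R := A) (R' := R')
      (S := B) (S' := R' ⊗[A] B) (p' := p') (q := Q'.comap (algebraMap B (R' ⊗[A] B)))
    obtain ⟨i, hi⟩ := (hg Q' hQ').mpr ⟨q', hq', heq.symm⟩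
    exact ⟨i, fun h => hi (hle h)⟩)
  -- localize
  let A₁ := Localization.Away a
  obtain ⟨hp₁, hp₁'⟩ := Flat2B.EtaleNhd.liesOver_map_away (R' := A₁) a ha
  have het₁ : FlatCA.IsEtaleNhd A A₁ p (p'.map (algebraMap R' A₁)) :=
    Flat2B.EtaleNhd.isEtaleNhd_trans het
      (Flat2B.EtaleNhd.isEtaleNhd_of_isLocalization_away a ha)
  refine ⟨A₁, inferInstance, inferInstance, p'.map (algebraMap R' A₁), hp₁, het₁, ?_⟩
  refine projective_localized N hproj a A₁ ψ hψ ?_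
  intro t ht hat Q hQ
  obtain ⟨h1, h2, h3⟩ := (mem_associatedPrimes_fiberMod_iff _ _ _).mp hQ
  exact (hg Q h1).mp (haE ⟨t, ht⟩ hat Q h2 h3)

end Groth.Agent.Flat2A.PureProj
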