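import Groth.Prelude.Def_FlatCA
import Mathlib.RingTheory.IsTensorProduct

/-!
# Purity and specializations of relatively associated points

`exists_specialization_of_isPureAlong`: the degenerate étale neighbourhood `A' = A` in the definition of purity:
if `N` is pure along the fibre over `p`, every point of the relative assassin over a generization of `p`
specializes to a point over `p`.
-/

set_option autoImplicit false
universe u

namespace Groth.Agent.Flat2A.PureSpec

theorem liesOver_self (A : Type u) [CommRing A] (p : Ideal A) : p.LiesOver p :=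
  ⟨by rw [Ideal.under_def, Algebra.algebraMap_self, Ideal.comap_id]⟩

theorem isEtaleNhd_refl (A : Type u) [CommRing A] (p : Ideal A) [p.IsPrime] :
    FlatCA.IsEtaleNhd A A p p := by
  have := liesOver_self A p
  refine ⟨inferInstance, inferInstance, ?_⟩
  have h : Algebra.ofId A A = AlgHom.id A A := Subsingleton.elim _ _
  have h2 : Ideal.ResidueField.mapₐ p p (Algebra.ofId A A) (Ideal.LiesOver.over (p := p) (P := p)) =
      AlgHom.id A _ := by
    ext
  rw [h2]
  exact Function.bijective_id

theorem exists_specialization_of_isPureAlong {A B : Type u} [CommRing A] [CommRing B] [Algebra A B]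
    (N : Type u) [AddCommGroup N] [Module B N] [Module A N] [IsScalarTower A B N] (p : Ideal A) [p.IsPrime]
    (hpure : FlatCA.IsPureAlong A B N p) (p' : Ideal A) [p'.IsPrime] (hp' : p' ≤ p)
    (q' : Ideal B) [q'.IsPrime] [q'.LiesOver p']
    (hass : FlatCA.fiberIdeal p' q' ∈ associatedPrimes (p'.Fiber B) (FlatCA.fiberMod p' B N)) :
    ∃ t : Ideal B, t.IsPrime ∧ q' ≤ t ∧ t.LiesOver p := by
  by_contra hcon
  have := liesOver_self A p
  refine hpure A B N LinearMap.id p' p q' (isEtaleNhd_refl A p) ⟨inferInstance, ?_, hp',
    inferInstance, inferInstance, hass, ?_⟩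
  · exact IsBaseChange.ofEquiv (LinearEquiv.refl B N)
  · intro P' hP' hle hover
    exact hcon ⟨P', hP', hle, hover⟩

end Groth.Agent.Flat2A.PureSpec
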