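import Mathlib.RingTheory.Etale.QuasiFinite
import Mathlib.RingTheory.Smooth.Flat
import Mathlib.RingTheory.Ideal.MinimalPrime.Localization
import Mathlib.RingTheory.IntegralClosure.IsIntegral.Basic

set_option autoImplicit false
universe u

namespace Groth.Agent.Flat2A.QFinite

open TensorProduct

/-- The elements of Zariski's main theorem. -/
def zmtSet (A C : Type u) [CommRing A] [CommRing C] [Algebra A C] : Set C :=
  {r | IsIntegral A r ∧ ∀ x, ∃ m, IsIntegral A (r ^ m * x)}

theorem span_zmtSet (A C : Type u) [CommRing A] [CommRing C] [Algebra A C] [Algebra.FiniteType A C]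
    [Algebra.QuasiFinite A C] : Ideal.span (zmtSet A C) = ⊤ := by
  by_contra h
  obtain ⟨Q, hQ, hle⟩ := Ideal.exists_le_maximal _ h
  have := Algebra.ZariskisMainProperty.of_finiteType (R := A) Q
  rw [Algebra.zariskisMainProperty_iff] at this
  obtain ⟨r, hr, hi, hx⟩ := this
  exact hr (hle (Ideal.subset_span ⟨hi, hx⟩))

/-- If `A → C` is quasi-finite and of finite type, but not finite, there is a finite subalgebra `C₀` and a maximal
ideal of `C₀` containing a finite set `T` of elements generating the unit ideal of `C`. -/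
theorem exists_subalgebra {A C : Type u} [CommRing A] [CommRing C] [Algebra A C] [Algebra.FiniteType A C]
    [Algebra.QuasiFinite A C] (hnf : ¬ Module.Finite A C) :
    ∃ (C₀ : Subalgebra A C) (_ : Module.Finite A C₀) (m : Ideal C₀) (_ : m.IsMaximal),
      m.map C₀.val.toRingHom = ⊤ := by
  classical
  -- finitely many elements
  obtain ⟨T, hT, hT1⟩ : ∃ T : Finset C, (T : Set C) ⊆ zmtSet A C ∧ Ideal.span (T : Set C) = ⊤ := by
    have h1 : (1 : C) ∈ Ideal.span (zmtSet A C) := by rw [span_zmtSet]; trivial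
    obtain ⟨T, hT, h2⟩ := Submodule.mem_span_finite_of_mem_span h1
    exact ⟨T, hT, (Ideal.eq_top_iff_one _).mpr h2⟩
  obtain ⟨X, hX⟩ := (inferInstance : Algebra.FiniteType A C).out
  -- common exponent
  obtain ⟨N, hN⟩ : ∃ N : ℕ, ∀ r ∈ T, ∀ x ∈ X, IsIntegral A (r ^ N * x) := by
    have h0 : ∀ r : C, ∃ N : ℕ, r ∈ T → ∀ x ∈ X, IsIntegral A (r ^ N * x) := by
      intro r
      by_cases hr : r ∈ T
      · obtain ⟨hi, hx⟩ := hT hr
        choose m hm using hx
        refine ⟨X.sup m, fun _ x hxX => ?_⟩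
        obtain ⟨k, hk⟩ := Nat.exists_eq_add_of_le (Finset.le_sup (f := m) hxX)
        rw [hk, add_comm, pow_add, mul_assoc]
        exact (hi.pow k).mul (hm x)
      · exact ⟨0, fun h => absurd h hr⟩
    choose M hM using h0
    refine ⟨T.sup M, fun r hr x hx => ?_⟩
    obtain ⟨k, hk⟩ := Nat.exists_eq_add_of_le (Finset.le_sup (f := M) hr)
    rw [hk, add_comm, pow_add, mul_assoc]
    exact ((hT hr).1.pow k).mul (hM r hr x hx)
  let S : Finset C := T ∪ Finset.image₂ (fun r x => r ^ N * x) T X
  let C₀ : Subalgebra A C := Algebra.adjoin A (S : Set C)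
  have hS : ∀ s ∈ S, IsIntegral A s := by
    intro s hs
    rcases Finset.mem_union.mp hs with h | h
    · exact (hT h).1
    · obtain ⟨r, hr, x, hx, rfl⟩ := Finset.mem_image₂.mp h
      exact hN r hr x hx
  have hfin : Module.Finite A C₀ := by
    exact (Module.Finite.iff_fg (N := Subalgebra.toSubmodule C₀)).mpr (fg_adjoin_of_finite S.finite_toSet hS)
  have hTC₀ : ∀ r ∈ T, r ∈ C₀ := fun r hr => Algebra.subset_adjoin (Finset.mem_union_left _ hr)
  have hmem : ∀ r ∈ T, ∀ x : C, ∃ n, r ^ n * x ∈ C₀ := by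
    intro r hr x
    have hx : x ∈ Algebra.adjoin A (X : Set C) := by rw [hX]; trivial
    induction hx using Algebra.adjoin_induction with
    | mem x hx =>
      exact ⟨N, Algebra.subset_adjoin (Finset.mem_union_right _ (Finset.mem_image₂_of_mem hr hx))⟩
    | algebraMap a => exact ⟨0, by simp⟩
    | add x y _ _ h1 h2 =>
      obtain ⟨n, hn⟩ := h1
      obtain ⟨m, hm⟩ := h2
      refine ⟨n + m, ?_⟩
      have : r ^ (n + m) * (x + y) = r ^ m * (r ^ n * x) + r ^ n * (r ^ m * y) := by ring
      rw [this]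
      exact C₀.add_mem (C₀.mul_mem (C₀.pow_mem (hTC₀ r hr) _) hn) (C₀.mul_mem (C₀.pow_mem (hTC₀ r hr) _) hm)
    | mul x y _ _ h1 h2 =>
      obtain ⟨n, hn⟩ := h1
      obtain ⟨m, hm⟩ := h2
      refine ⟨n + m, ?_⟩
      have : r ^ (n + m) * (x * y) = (r ^ n * x) * (r ^ m * y) := by ring
      rw [this]
      exact C₀.mul_mem hn hm
  let J : Ideal C₀ := Ideal.span {r | (r : C) ∈ T}
  have hJ : J ≠ ⊤ := by
    intro hJ
    apply hnf
    have htop : C₀ = ⊤ := by
      rw [eq_top_iff]
      intro x _
      choose n hn using fun r : C₀ => fun hr : (r : C) ∈ T => hmem r hr x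
      -- the conductor ideal of `x`
      let I : Ideal C₀ := 
        { carrier := {c | (c : C) * x ∈ C₀}
          zero_mem' := by simp
          add_mem' := by
            intro a b ha hb
            simp only [Set.mem_ofPred_eq, Subalgebra.coe_add, add_mul] at *
            exact C₀.add_mem ha hb
          smul_mem' := by
            intro a b hb
            simp only [Set.mem_ofPred_eq, smul_eq_mul, Subalgebra.coe_mul, mul_assoc] at *
            exact C₀.mul_mem a.2 hb }
      have hI : J ≤ I.radical := by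
        rw [Ideal.span_le]
        intro r hr
        exact ⟨n r hr, by simpa [I] using hn r hr⟩
      have : I = ⊤ := by
        rw [← Ideal.radical_eq_top, eq_top_iff, ← hJ]
        exact hI
      have h1 : (1 : C₀) ∈ I := by rw [this]; trivial
      simpa [I] using h1
    have h2 : Module.Finite A (⊤ : Subalgebra A C) := htop ▸ hfin
    exact Module.Finite.equiv (Subalgebra.topEquiv (R := A) (A := C)).toLinearEquiv
  obtain ⟨m, hm, hle⟩ := Ideal.exists_le_maximal J hJ
  refine ⟨C₀, hfin, m, hm, ?_⟩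
  rw [eq_top_iff, ← hT1, Ideal.span_le]
  intro r hr
  have : (⟨r, hTC₀ r hr⟩ : C₀) ∈ m := hle (Ideal.subset_span hr)
  exact Ideal.mem_map_of_mem C₀.val.toRingHom this

/-- A quasi-finite finite type algebra `C` over `A` which is not finite has, after an elementary etale ring map
`(A, p) → (R', P)`, a prime `ξ` of `R' ⊗ C` over a prime contained in `P` such that no prime over `P` contains `ξ`. -/
theorem exists_bad_prime {A C : Type u} [CommRing A] [CommRing C] [Algebra A C] [Algebra.FiniteType A C]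
    [Algebra.QuasiFinite A C] (hnf : ¬ Module.Finite A C) :
    ∃ (p : Ideal A) (_ : p.IsPrime) (R' : Type u) (_ : CommRing R') (_ : Algebra A R') (_ : Algebra.Etale A R')
      (P : Ideal R') (_ : P.IsPrime) (_ : P.LiesOver p)
      (_ : Function.Bijective (Ideal.ResidueField.mapₐ p P (Algebra.ofId _ _) (P.over_def p)))
      (ξ : Ideal (R' ⊗[A] C)) (_ : ξ.IsPrime), ξ.comap (algebraMap R' (R' ⊗[A] C)) ≤ P ∧
        ∀ (Q : Ideal (R' ⊗[A] C)) [Q.IsPrime], ξ ≤ Q → ¬ Q.LiesOver P := by
  obtain ⟨C₀, hfin, m, hm, htop⟩ := exists_subalgebra hnf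
  let p : Ideal A := m.under A
  have hp : p.IsPrime := inferInstance
  have hover : m.LiesOver p := ⟨rfl⟩
  obtain ⟨R', _, _, _, P, _, _, e, he, P', _, hP'P, hP'm, heP', hbij, -, huniq⟩ :=
    Algebra.exists_etale_isIdempotentElem_forall_liesOver_eq p m
  let ι : R' ⊗[A] C₀ →ₐ[R'] R' ⊗[A] C := Algebra.TensorProduct.map (AlgHom.id R' R') C₀.val
  have hι : Function.Injective ι := by
    exact Module.Flat.lTensor_preserves_injective_linearMap (M := R') C₀.val.toLinearMap Subtype.val_injective
  obtain ⟨ξ₀, hξ₀, hξ₀P⟩ := Ideal.exists_minimalPrimes_le (I := (⊥ : Ideal (R' ⊗[A] C₀))) (J := P') bot_le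
  obtain ⟨ξ, hξ, hξc⟩ := Ideal.exists_comap_eq_of_mem_minimalPrimes_of_injective (f := ι.toRingHom) hι ξ₀ hξ₀
  refine ⟨p, hp, R', inferInstance, inferInstance, inferInstance, P, inferInstance, inferInstance, hbij, ξ, hξ, ?_, ?_⟩
  · intro x hx
    rw [hP'P.over]
    apply hξ₀P
    rw [← hξc, Ideal.mem_comap]
    have : ι.toRingHom (algebraMap R' (R' ⊗[A] C₀) x) = algebraMap R' (R' ⊗[A] C) x := ι.commutes x
    rw [this]
    exact hx
  · intro Q hQ hle hov
    have hξ₀p : ξ₀.IsPrime := hξ₀.1.1
    let Q₀ : Ideal (R' ⊗[A] C₀) := Q.comap ι.toRingHom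
    have h1 : Q₀.LiesOver P := by
      constructor
      rw [hov.over]
      ext x
      simp only [Ideal.under_def, Ideal.mem_comap, Q₀]
      have : ι.toRingHom (algebraMap R' (R' ⊗[A] C₀) x) = algebraMap R' (R' ⊗[A] C) x := ι.commutes x
      rw [this]
    have h2 : e ∉ Q₀ := by
      have h3 : e * (1 - e) ∈ ξ₀ := by
        have : e * (1 - e) = 0 := by rw [mul_sub, mul_one, he.eq, sub_self]
        rw [this]
        exact ξ₀.zero_mem
      have h4 : 1 - e ∈ ξ₀ := (hξ₀p.mem_or_mem h3).resolve_left (fun h => heP' (hξ₀P h))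
      have h5 : 1 - e ∈ Q₀ := by
        rw [← hξc] at h4
        exact Ideal.comap_mono hle h4
      intro h6
      have : (1 : R' ⊗[A] C₀) ∈ Q₀ := by
        have := Q₀.add_mem h5 h6
        simpa using this
      have hQ₀ : Q₀.IsPrime := inferInstance
      exact hQ₀.ne_top ((Ideal.eq_top_iff_one _).mpr this)
    have h3 : Q₀ = P' := huniq Q₀ inferInstance h1 h2
    -- now `m C = C` gives a contradiction
    have h4 : m.map C₀.val.toRingHom ≤ Q.comap (Algebra.TensorProduct.includeRight (R := A) (A := R') (B := C)).toRingHom := by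
      rw [Ideal.map_le_iff_le_comap]
      intro x hx
      rw [← hP'm, ← h3] at hx
      simp only [Ideal.mem_comap, Q₀] at hx ⊢
      have : ι.toRingHom ((Algebra.TensorProduct.includeRight (R := A) (A := R') (B := C₀)).toRingHom x) =
          (Algebra.TensorProduct.includeRight (R := A) (A := R') (B := C)).toRingHom (C₀.val.toRingHom x) := by
        change ι (1 ⊗ₜ x) = 1 ⊗ₜ (x : C)
        simp [ι]
      rw [← this]
      exact hx
    rw [htop, top_le_iff] at h4
    exact hQ.ne_top (by rwa [Ideal.comap_eq_top_iff] at h4)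

end Groth.Agent.Flat2A.QFinite
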