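import Groth.Agent.Flat2A.ProjPure
import Mathlib.LinearAlgebra.DirectSum.Finsupp
import Mathlib.LinearAlgebra.Basis.VectorSpace

/-!
# Relative associated primes: characterization by annihilators and images under base change
(Stacks 05DB, 05DC: the easy direction)
-/

set_option autoImplicit false
set_option linter.style.haveILetI false

universe u v w

namespace Groth.Agent.Flat2A.RelAss

open TensorProduct Flat2A.Fiber Flat2A.FiberAss Flat2A.FiberEquiv

section

variable {A B : Type u} [CommRing A] [CommRing B] [Algebra A B]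

/-- A prime over `t` which is the annihilator of an element of `N ⊗ κ(t)` is a relative associated
prime. -/
theorem of_annihilator (t : Ideal A) [t.IsPrime]
    (N : Type u) [AddCommGroup N] [Module B N] [Module A N] [IsScalarTower A B N]
    (q : Ideal B) [q.IsPrime] (z : N ⊗[A] t.ResidueField) (h : ∀ s : B, s ∈ q ↔ s • z = 0) :
    FlatCA.fiberIdeal t q ∈ associatedPrimes (t.Fiber B) (FlatCA.fiberMod t B N) := by
  refine ((mem_associatedPrimes_fiberMod_iff t N q).mp ?_).2.2
  refine ⟨inferInstance, (fiberModEquiv B t N).symm z, ?_⟩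
  have h1 : (⊥ : Submodule B (FlatCA.fiberMod t B N)).colon {(fiberModEquiv B t N).symm z} = q := by
    ext s
    rw [Submodule.mem_colon_singleton, Submodule.mem_bot, ← map_smul,
      LinearEquiv.map_eq_zero_iff, h]
  rw [h1, (inferInstance : q.IsPrime).radical]

end

section tensor

variable {A B : Type u} [CommRing A] [CommRing B] [Algebra A B]

/-- Write an element of `N ⊗ L` as a family of elements of `N ⊗ K`, `L/K` a field extension. -/
theorem exists_finsupp (N : Type u) [AddCommGroup N] [Module B N] [Module A N] [IsScalarTower A B N]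
    (K L : Type u) [Field K] [Field L] [Algebra A K] [Algebra A L] [Algebra K L]
    [IsScalarTower A K L] :
    ∃ (ι : Type u), Nonempty (N ⊗[A] L ≃ₗ[B] (ι →₀ N ⊗[A] K)) := by
  classical
  let b := Module.Basis.ofVectorSpace K L
  refine ⟨Module.Basis.ofVectorSpaceIndex K L, ⟨?_⟩⟩
  exact (TensorProduct.AlgebraTensorModule.congr (LinearEquiv.refl B N)
    (b.repr.restrictScalars A)) ≪≫ₗ (finsuppRight A B N K _)

/-- If a prime of `B` is the annihilator of an element of `N ⊗ L`, then it is the annihilator of an
element of `N ⊗ K`. -/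
theorem exists_annihilator_of_extension
    (N : Type u) [AddCommGroup N] [Module B N] [Module A N] [IsScalarTower A B N]
    (K L : Type u) [Field K] [Field L] [Algebra A K] [Algebra A L] [Algebra K L]
    [IsScalarTower A K L] (q : Ideal B) [hq : q.IsPrime] (z : N ⊗[A] L)
    (h : ∀ s : B, s ∈ q ↔ s • z = 0) :
    ∃ z' : N ⊗[A] K, ∀ s : B, s ∈ q ↔ s • z' = 0 := by
  obtain ⟨ι, ⟨e⟩⟩ := exists_finsupp (B := B) (A := A) N K L
  have h1 : ∀ s : B, s ∈ q ↔ ∀ i, s • (e z) i = 0 := by
    intro s
    rw [h, ← LinearEquiv.map_eq_zero_iff e, map_smul, DFunLike.ext_iff]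
    rfl
  -- the ideals
  let J : ι → Ideal B := fun i => (Submodule.span B {e z i}).annihilator
  have hJ : ∀ i (s : B), s ∈ J i ↔ s • (e z) i = 0 := fun i s =>
    Submodule.mem_annihilator_span_singleton _ _
  have h2 : (e z).support.inf J ≤ q := by
    intro s hs
    rw [h1]
    intro i
    by_cases hi : i ∈ (e z).support
    · rw [← hJ]
      exact (Finset.inf_le hi : (e z).support.inf J ≤ J i) hs
    · rw [Finsupp.notMem_support_iff] at hi
      rw [hi, smul_zero]
  obtain ⟨i, -, hi⟩ := (Ideal.IsPrime.inf_le' hq).mp h2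
  refine ⟨e z i, fun s => ?_⟩
  rw [← hJ]
  constructor
  · intro hs
    rw [hJ]
    exact (h1 s).mp hs i
  · intro hs
    exact hi hs

end tensor

section baseChange

variable {A B A' B' : Type u} [CommRing A] [CommRing B] [Algebra A B]
  [CommRing A'] [CommRing B'] [Algebra A A']
  [Algebra B B'] [Algebra A' B'] [Algebra A B'] [IsScalarTower A B B'] [IsScalarTower A A' B']

/-- The comparison `N ⊗_A L ≃ N' ⊗_{A'} L` for the base change `N'` of `N` along `A → A'`. -/
theorem exists_baseChange_equiv (hpush : Algebra.IsPushout A B A' B')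
    {N N' : Type u} [AddCommGroup N] [Module B N] [Module A N] [IsScalarTower A B N]
    [AddCommGroup N'] [Module B' N'] [Module B N'] [IsScalarTower B B' N'] [Module A' N']
    [IsScalarTower A' B' N'] (f : N →ₗ[B] N') (hf : IsBaseChange B' f)
    (L : Type u) [Field L] [Algebra A L] [Algebra A' L] [IsScalarTower A A' L] :
    ∃ e : (N ⊗[A] L) ≃+ (N' ⊗[A'] L), (∀ (n : N) (l : L), e (n ⊗ₜ l) = f n ⊗ₜ l) ∧
      ∀ (b : B) (x : N ⊗[A] L), e (b • x) = algebraMap B B' b • e x := by
  letI : Module A N' := Module.compHom N' (algebraMap A A')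
  haveI : IsScalarTower A A' N' := ⟨fun a b n => by
    rw [Algebra.smul_def, mul_smul]; rfl⟩
  haveI hABN' : IsScalarTower A B N' := ⟨fun a b n => by
    rw [Algebra.smul_def, mul_smul]
    change algebraMap A B a • b • n = algebraMap A A' a • b • n
    rw [← algebraMap_smul B' (algebraMap A B a), ← algebraMap_smul B' (algebraMap A A' a),
      ← IsScalarTower.algebraMap_apply, ← IsScalarTower.algebraMap_apply]⟩
  have hbc : IsBaseChange A' (f.restrictScalars A) :=
    ProjPure.isBaseChange_of_isPushout hpush f hf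
  have hbc' : IsBaseChange L ((TensorProduct.mk A' L N' 1).restrictScalars A ∘ₗ
      (f.restrictScalars A)) :=
    IsBaseChange.comp hbc (TensorProduct.isBaseChange A' N' L)
  let e₀ : (N ⊗[A] L) ≃+ (N' ⊗[A'] L) :=
    ((TensorProduct.comm A N L).toAddEquiv.trans hbc'.equiv.toAddEquiv).trans
      (TensorProduct.comm A' L N').toAddEquiv
  have h1 : ∀ (n : N) (l : L), e₀ (n ⊗ₜ l) = f n ⊗ₜ l := by
    intro n l
    change (TensorProduct.comm A' L N') (hbc'.equiv ((TensorProduct.comm A N L) (n ⊗ₜ l))) = _
    rw [TensorProduct.comm_tmul, IsBaseChange.equiv_tmul]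
    simp only [LinearMap.comp_apply, LinearMap.coe_restrictScalars, TensorProduct.mk_apply]
    rw [TensorProduct.smul_tmul', smul_eq_mul, mul_one, TensorProduct.comm_tmul]
  refine ⟨e₀, h1, ?_⟩
  intro b x
  induction x using TensorProduct.induction_on with
  | zero => simp
  | tmul n l =>
    rw [TensorProduct.smul_tmul', h1, h1, map_smul, TensorProduct.smul_tmul', algebraMap_smul]
  | add x y hx hy => rw [smul_add, map_add, hx, hy, map_add, smul_add]

/-- Relative associated primes lie over relative associated primes (Stacks 05DB). -/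
theorem of_baseChange (hpush : Algebra.IsPushout A B A' B')
    {N N' : Type u} [AddCommGroup N] [Module B N] [Module A N] [IsScalarTower A B N]
    [AddCommGroup N'] [Module B' N'] [Module B N'] [IsScalarTower B B' N'] [Module A' N']
    [IsScalarTower A' B' N'] (f : N →ₗ[B] N') (hf : IsBaseChange B' f)
    (t : Ideal A) [t.IsPrime] (t' : Ideal A') [t'.IsPrime] [t'.LiesOver t]
    (P : Ideal B) [P.IsPrime] (P' : Ideal B') [P'.IsPrime] [P'.LiesOver t'] [P'.LiesOver P]
    [IsNoetherianRing (t'.Fiber B')]
    (h : FlatCA.fiberIdeal t' P' ∈ associatedPrimes (t'.Fiber B') (FlatCA.fiberMod t' B' N')) :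
    FlatCA.fiberIdeal t P ∈ associatedPrimes (t.Fiber B) (FlatCA.fiberMod t B N) := by
  obtain ⟨z, hz⟩ := exists_annihilator t' N' P' h
  letI : Algebra t.ResidueField t'.ResidueField :=
    (Ideal.ResidueField.mapₐ t t' (Algebra.ofId A A') (Ideal.LiesOver.over)).toRingHom.toAlgebra
  haveI : IsScalarTower A t.ResidueField t'.ResidueField := IsScalarTower.of_algebraMap_eq fun a =>
    ((Ideal.ResidueField.mapₐ t t' (Algebra.ofId A A') (Ideal.LiesOver.over)).commutes a).symm
  obtain ⟨e, he1, he2⟩ := exists_baseChange_equiv hpush f hf t'.ResidueField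
  have hz' : ∀ s : B, s ∈ P ↔ s • e.symm z = 0 := by
    intro s
    rw [← EmbeddingLike.map_eq_zero_iff (f := e), he2, AddEquiv.apply_symm_apply, ← hz]
    rw [(Ideal.LiesOver.over : P = P'.under B)]
    rfl
  obtain ⟨z', hz''⟩ := exists_annihilator_of_extension N t.ResidueField t'.ResidueField P
    (e.symm z) hz'
  exact of_annihilator t N P z' hz''

end baseChange

end Groth.Agent.Flat2A.RelAss
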