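import Groth.Agent.Flat2A.FiberAss
import Mathlib.RingTheory.LocalRing.Module
import Mathlib.LinearAlgebra.TensorProduct.Vanishing
import Mathlib.LinearAlgebra.TensorProduct.Basis
import Mathlib.RingTheory.Flat.EquationalCriterion
import Mathlib.RingTheory.LocalRing.ResidueField.Ideal

/-!
# Universally injective maps out of projective modules over local rings

`R` local, `F` projective, `M` flat, `u : F → M` injective modulo the maximal ideal:
then `u` is universally injective.
-/

set_option autoImplicit false
universe u v w

namespace Groth.Agent.Flat2A.ResInj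

open TensorProduct

section

variable {R : Type u} [CommRing R] [IsLocalRing R]
variable {F : Type v} [AddCommGroup F] [Module R F]
variable {M : Type w} [AddCommGroup M] [Module R M]

omit [IsLocalRing R] in
theorem flat_prod (M : Type w) [AddCommGroup M] [Module R M] (M' : Type v) [AddCommGroup M'] [Module R M']
    [Module.Flat R M] [Module.Flat R M'] : Module.Flat R (M × M') := by
  rw [Module.Flat.iff_rTensor_preserves_injective_linearMap]
  intro N P _ _ _ _ f hf
  have h1 : (TensorProduct.prodRight R R P M M').toLinearMap ∘ₗ (f.rTensor (M × M')) =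
      ((f.rTensor M).prodMap (f.rTensor M')) ∘ₗ (TensorProduct.prodRight R R N M M').toLinearMap := by
    apply TensorProduct.ext'
    intro x y
    rfl
  have h2 : Function.Injective ((TensorProduct.prodRight R R P M M').toLinearMap ∘ₗ (f.rTensor (M × M'))) := by
    rw [h1]
    have h3 : Function.Injective ((f.rTensor M).prodMap (f.rTensor M')) :=
      Prod.map_injective.mpr ⟨Module.Flat.rTensor_preserves_injective_linearMap f hf,
        Module.Flat.rTensor_preserves_injective_linearMap f hf⟩
    exact h3.comp (TensorProduct.prodRight R R N M M').injective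
  exact Function.Injective.of_comp (f := (TensorProduct.prodRight R R P M M')) h2

/-- free source -/
theorem lTensor_injective_of_free [Module.Free R F] [Module.Flat R M] (u : F →ₗ[R] M)
    (h : Function.Injective (u.lTensor (IsLocalRing.ResidueField R)))
    (Q : Type*) [AddCommGroup Q] [Module R Q] : Function.Injective (u.lTensor Q) := by
  classical
  let b := Module.Free.chooseBasis R F
  rw [injective_iff_map_eq_zero]
  intro z hz
  obtain ⟨c, hc⟩ := TensorProduct.eq_repr_basis_right b z
  let s := c.support
  let q : s → Q := fun i => c i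
  have hz1 : z = ∑ i : s, q i ⊗ₜ[R] b i := by
    rw [← hc, Finsupp.sum, ← Finset.sum_coe_sort]
  have hz2 : ∑ i : s, q i ⊗ₜ[R] u (b i) = 0 := by
    rw [hz1, map_sum] at hz
    simpa using hz
  obtain ⟨k, a, y, hay, haq⟩ := TensorProduct.vanishesTrivially_of_sum_tmul_eq_zero_of_rTensor_injective R
    (m := q) (n := fun i : s => u (b i)) (Module.Flat.rTensor_preserves_injective_linearMap _
      (Submodule.injective_subtype _)) hz2
  let v : (s → R) →ₗ[R] (Fin k → R) := Fintype.linearCombination R (fun i => a i)
  let w : (Fin k → R) →ₗ[R] M := Fintype.linearCombination R y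
  let j : (s → R) →ₗ[R] F := Fintype.linearCombination R (fun i : s => b i)
  let j' : F →ₗ[R] (s → R) := LinearMap.pi (fun i : s => b.coord i)
  have hj : j' ∘ₗ j = LinearMap.id := by
    apply LinearMap.pi_ext'
    intro i
    ext i'
    simp only [LinearMap.comp_apply, LinearMap.single_apply, j, j', LinearMap.pi_apply,
      Fintype.linearCombination_apply_single, one_smul, Module.Basis.coord_apply, LinearMap.id_apply,
      Module.Basis.repr_self, Finsupp.single_apply, Pi.single_apply, Subtype.ext_iff]
    congr 1
    exact propext ⟨Eq.symm, Eq.symm⟩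
  have hwv : w ∘ₗ v = u ∘ₗ j := by
    apply LinearMap.pi_ext'
    intro i
    ext
    simp only [LinearMap.comp_apply, LinearMap.single_apply, j, v, w,
      Fintype.linearCombination_apply_single, one_smul, hay i]
    rw [Fintype.linearCombination_apply]
  have hvinj : Function.Injective (v.lTensor (IsLocalRing.ResidueField R)) := by
    have h1 : Function.Injective ((w ∘ₗ v).lTensor (IsLocalRing.ResidueField R)) := by
      rw [hwv, LinearMap.lTensor_comp]
      apply h.comp
      have h2 : (j'.lTensor (IsLocalRing.ResidueField R)) ∘ₗ (j.lTensor (IsLocalRing.ResidueField R)) = LinearMap.id := by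
        rw [← LinearMap.lTensor_comp, hj, LinearMap.lTensor_id]
      exact Function.HasLeftInverse.injective ⟨_, LinearMap.congr_fun h2⟩
    rw [LinearMap.lTensor_comp] at h1
    exact Function.Injective.of_comp h1
  obtain ⟨l, hl⟩ := (IsLocalRing.split_injective_iff_lTensor_residueField_injective v).mpr hvinj
  let z' : Q ⊗[R] (s → R) := ∑ i : s, q i ⊗ₜ[R] (Pi.single i (1 : R))
  have hz' : v.lTensor Q z' = 0 := by
    simp only [z', map_sum, LinearMap.lTensor_tmul, v, Fintype.linearCombination_apply_single, one_smul]
    have h3 : ∀ i : s, q i ⊗ₜ[R] a i = ∑ j : Fin k, (a i j • q i) ⊗ₜ[R] (Pi.single j (1 : R) : Fin k → R) := by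
      intro i
      conv_lhs => rw [← Finset.univ_sum_single (a i)]
      rw [TensorProduct.tmul_sum]
      apply Finset.sum_congr rfl
      intro j _
      rw [TensorProduct.smul_tmul, ← Pi.single_smul]
      simp
    rw [Finset.sum_congr rfl (fun i _ => h3 i), Finset.sum_comm]
    apply Finset.sum_eq_zero
    intro j _
    rw [← TensorProduct.sum_tmul, haq j, TensorProduct.zero_tmul]
  have hz'' : z' = 0 := by
    have h4 : (l.lTensor Q) (v.lTensor Q z') = z' := by
      rw [← LinearMap.comp_apply, ← LinearMap.lTensor_comp, hl, LinearMap.lTensor_id, LinearMap.id_apply]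
    rw [← h4, hz', map_zero]
  have hz3 : z = j.lTensor Q z' := by
    rw [hz1]
    simp only [z', map_sum, LinearMap.lTensor_tmul, j, Fintype.linearCombination_apply_single, one_smul]
  rw [hz3, hz'', map_zero]

/-- `R` local, `F` projective, `M` flat, `u : F → M` injective modulo the maximal ideal:
then `u` is universally injective. -/
theorem lTensor_injective_of_projective [Module.Projective R F] [Module.Flat R M] (u : F →ₗ[R] M)
    (h : Function.Injective (u.lTensor (IsLocalRing.ResidueField R)))
    (Q : Type*) [AddCommGroup Q] [Module R Q] : Function.Injective (u.lTensor Q) := by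
  classical
  -- `F` is a retract of a free module
  obtain ⟨i, hi⟩ := Module.projective_def'.mp ‹Module.Projective R F›
  generalize Finsupp.linearCombination R (id : F → F) = s at hi
  let U : (F →₀ R) →ₗ[R] (M × (F →₀ R)) := (u ∘ₗ s).prod (LinearMap.id - i ∘ₗ s)
  have hUi : U ∘ₗ i = (LinearMap.inl R M (F →₀ R)) ∘ₗ u := by
    apply LinearMap.ext
    intro x
    have h1 := LinearMap.congr_fun hi x
    simp only [LinearMap.comp_apply, LinearMap.id_apply] at h1
    simp [U, h1]
  have hU1 : (LinearMap.fst R M (F →₀ R)) ∘ₗ U = u ∘ₗ s := by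
    apply LinearMap.ext
    intro x
    rfl
  have hU2 : (LinearMap.snd R M (F →₀ R)) ∘ₗ U = LinearMap.id - i ∘ₗ s := by
    apply LinearMap.ext
    intro x
    rfl
  have hUinj : Function.Injective (U.lTensor (IsLocalRing.ResidueField R)) := by
    rw [injective_iff_map_eq_zero]
    intro z hz
    have h1 : (u.lTensor (IsLocalRing.ResidueField R)) ((s.lTensor (IsLocalRing.ResidueField R)) z) = 0 := by
      rw [← LinearMap.comp_apply, ← LinearMap.lTensor_comp, ← hU1, LinearMap.lTensor_comp,
        LinearMap.comp_apply, hz, map_zero]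
    have h2 : (s.lTensor (IsLocalRing.ResidueField R)) z = 0 := h (by rw [h1, map_zero])
    have h3 : ((LinearMap.id - i ∘ₗ s).lTensor (IsLocalRing.ResidueField R)) z = 0 := by
      rw [← hU2, LinearMap.lTensor_comp, LinearMap.comp_apply, hz, map_zero]
    rw [LinearMap.lTensor_sub, LinearMap.lTensor_comp, LinearMap.lTensor_id, LinearMap.sub_apply,
      LinearMap.comp_apply, h2, map_zero, sub_zero, LinearMap.id_apply] at h3
    exact h3
  have : Module.Flat R (M × (F →₀ R)) := flat_prod M (F →₀ R)
  have h7 := lTensor_injective_of_free U hUinj Q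
  rw [injective_iff_map_eq_zero]
  intro z hz
  have h8 : (U.lTensor Q) ((i.lTensor Q) z) = 0 := by
    rw [← LinearMap.comp_apply, ← LinearMap.lTensor_comp, hUi, LinearMap.lTensor_comp,
      LinearMap.comp_apply, hz, map_zero]
  have h9 : (i.lTensor Q) z = 0 := h7 (by rw [h8, map_zero])
  have h10 : (s.lTensor Q) ((i.lTensor Q) z) = z := by
    rw [← LinearMap.comp_apply, ← LinearMap.lTensor_comp, hi, LinearMap.lTensor_id, LinearMap.id_apply]
  rw [← h10, h9, map_zero]

/-- Same with the residue field of the maximal ideal written as `(maximalIdeal R).ResidueField`. -/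
theorem lTensor_residueField_injective_iff (u : F →ₗ[R] M) :
    Function.Injective (u.lTensor (IsLocalRing.maximalIdeal R).ResidueField) ↔
      Function.Injective (u.lTensor (IsLocalRing.ResidueField R)) := by
  let e : IsLocalRing.ResidueField R ≃ₗ[R] (IsLocalRing.maximalIdeal R).ResidueField :=
    LinearEquiv.ofBijective (Algebra.linearMap (R ⧸ IsLocalRing.maximalIdeal R)
      (IsLocalRing.maximalIdeal R).ResidueField |>.restrictScalars R)
      (Ideal.bijective_algebraMap_quotient_residueField _)
  have h1 : (e.rTensor M).toLinearMap ∘ₗ (u.lTensor (IsLocalRing.ResidueField R)) =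
      (u.lTensor (IsLocalRing.maximalIdeal R).ResidueField) ∘ₗ (e.rTensor F).toLinearMap := by
    apply TensorProduct.ext'
    intro x y
    rfl
  constructor
  · intro h
    have h2 : Function.Injective ((e.rTensor M).toLinearMap ∘ₗ (u.lTensor (IsLocalRing.ResidueField R))) := by
      rw [h1]
      exact h.comp (e.rTensor F).injective
    exact Function.Injective.of_comp (f := (e.rTensor M)) h2
  · intro h
    have h2 : Function.Injective ((u.lTensor (IsLocalRing.maximalIdeal R).ResidueField) ∘ₗ (e.rTensor F).toLinearMap) := by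
      rw [← h1]
      exact (e.rTensor M).injective.comp h
    exact (Function.Injective.of_comp_iff' _ (e.rTensor F).bijective).mp h2

end

/-- the fibre module is `N ⊗ κ(p)` -/
noncomputable def fiberModEquiv {R S : Type u} [CommRing R] [CommRing S] [Algebra R S]
    (p : Ideal R) [p.IsPrime] (N : Type u) [AddCommGroup N] [Module S N] [Module R N] [IsScalarTower R S N] :
    FlatCA.fiberMod p S N ≃ₗ[S] N ⊗[R] p.ResidueField :=
  letI : Algebra S (p.Fiber S) := Algebra.TensorProduct.rightAlgebra
  letI e1 : (p.Fiber S) ⊗[S] N ≃ₗ[S] (S ⊗[R] p.ResidueField) ⊗[S] N :=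
    TensorProduct.congr (Algebra.TensorProduct.commRight R S p.ResidueField).symm.toLinearEquiv (LinearEquiv.refl S N)
  letI e2 : (S ⊗[R] p.ResidueField) ⊗[S] N ≃ₗ[S] N ⊗[S] (S ⊗[R] p.ResidueField) := TensorProduct.comm S _ _
  letI e3 : N ⊗[S] (S ⊗[R] p.ResidueField) ≃ₗ[S] N ⊗[R] p.ResidueField :=
    TensorProduct.AlgebraTensorModule.cancelBaseChange R S S N p.ResidueField
  (e1 ≪≫ₗ e2 ≪≫ₗ e3)

theorem fiberModEquiv_toFiberMod {R S : Type u} [CommRing R] [CommRing S] [Algebra R S]
    (p : Ideal R) [p.IsPrime] (N : Type u) [AddCommGroup N] [Module S N] [Module R N] [IsScalarTower R S N] (n : N) :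
    fiberModEquiv p N (FlatCA.toFiberMod p S N n) = n ⊗ₜ 1 := by
  let _ : Algebra S (p.Fiber S) := Algebra.TensorProduct.rightAlgebra
  have h1 : FlatCA.toFiberMod p S N n = ((1 : p.ResidueField) ⊗ₜ[R] (1 : S) : p.Fiber S) ⊗ₜ[S] n := rfl
  rw [h1]
  change (TensorProduct.AlgebraTensorModule.cancelBaseChange R S S N p.ResidueField)
    (n ⊗ₜ[S] ((1 : S) ⊗ₜ[R] (1 : p.ResidueField))) = n ⊗ₜ 1
  rw [TensorProduct.AlgebraTensorModule.cancelBaseChange_tmul, one_smul]

end Groth.Agent.Flat2A.ResInj
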