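import Groth.Prelude.Def_FlatCA
import Groth.Agent.Flat2B.BCTools

/-!
# Smoothness of a given relative dimension and localization

`smoothRelDim_away`: if `R → B` is smooth of relative dimension `d`, so is `R_h → B_(hb)`.
-/

set_option autoImplicit false
universe u

open TensorProduct AlgebraicGeometry CategoryTheory

namespace Groth.Agent.Flat2A.SmoothRelLoc

/-- smoothness of relative dimension `d` of a composite with a localization away from an element upstairs -/
theorem smoothRelDim_upper {R B : Type u} [CommRing R] [CommRing B] [Algebra R B] (d : ℕ)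
    (h : FlatCA.SmoothRelDim d R B) (b : B) (Bb : Type u) [CommRing Bb] [Algebra B Bb] [Algebra R Bb]
    [IsScalarTower R B Bb] [IsLocalization.Away b Bb] : FlatCA.SmoothRelDim d R Bb := by
  have h' : SmoothOfRelativeDimension d (Spec.map (CommRingCat.ofHom (algebraMap R B))) := h
  have ho : IsOpenImmersion (Spec.map (CommRingCat.ofHom (algebraMap B Bb))) :=
    IsOpenImmersion.of_isLocalization b
  have e : Spec.map (CommRingCat.ofHom (algebraMap R Bb)) =
      Spec.map (CommRingCat.ofHom (algebraMap B Bb)) ≫
        Spec.map (CommRingCat.ofHom (algebraMap R B)) := by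
    rw [← Spec.map_comp, ← CommRingCat.ofHom_comp, ← IsScalarTower.algebraMap_eq]
  show SmoothOfRelativeDimension d (Spec.map (CommRingCat.ofHom (algebraMap R Bb)))
  rw [e]
  have := smoothOfRelativeDimension_comp 0 d (Spec.map (CommRingCat.ofHom (algebraMap B Bb)))
    (Spec.map (CommRingCat.ofHom (algebraMap R B)))
  rwa [Nat.zero_add] at this

/-- an algebra over a localization of the base is its own base change -/
theorem isPushout_of_localization {R C Rh : Type u} [CommRing R] [CommRing C] [CommRing Rh]
    [Algebra R C] [Algebra R Rh] [Algebra Rh C] [IsScalarTower R Rh C] (S : Submonoid R)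
    [IsLocalization S Rh] : Algebra.IsPushout R C Rh C := by
  have : IsLocalization (Algebra.algebraMapSubmonoid C S) C := by
    apply IsLocalization.self
    rintro _ ⟨s, hs, rfl⟩
    rw [IsUnit.mem_submonoid_iff]
    show IsUnit (algebraMap R C s)
    rw [IsScalarTower.algebraMap_apply R Rh C]
    exact (IsLocalization.map_units Rh ⟨s, hs⟩).map _
  exact Algebra.isPushout_of_isLocalization S Rh C C

theorem smoothRelDim_lower {R C Rh : Type u} [CommRing R] [CommRing C] [CommRing Rh]
    [Algebra R C] [Algebra R Rh] [Algebra Rh C] [IsScalarTower R Rh C] (S : Submonoid R)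
    [IsLocalization S Rh] (d : ℕ) (h : FlatCA.SmoothRelDim d R C) : FlatCA.SmoothRelDim d Rh C := by
  have := isPushout_of_localization (R := R) (C := C) (Rh := Rh) S
  exact Flat2B.BCTools.smoothRelDim_of_isPushout (R := R) (B := C) (R₁ := Rh) (B₁ := C) d h

theorem smoothRelDim_away {R B : Type u} [CommRing R] [CommRing B] [Algebra R B] (d : ℕ)
    (h : FlatCA.SmoothRelDim d R B) (h' : R) (b : B) (Rh Bh : Type u) [CommRing Rh] [CommRing Bh]
    [Algebra R Rh] [Algebra B Bh] [Algebra Rh Bh] [Algebra R Bh] [IsScalarTower R Rh Bh]
    [IsScalarTower R B Bh] [IsLocalization.Away h' Rh]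
    [IsLocalization.Away (algebraMap R B h' * b) Bh] : FlatCA.SmoothRelDim d Rh Bh :=
  smoothRelDim_lower (Submonoid.powers h') d
    (smoothRelDim_upper d h (algebraMap R B h' * b) Bh)

end Groth.Agent.Flat2A.SmoothRelLoc
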