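import Groth.Agent.Desc.SecDataGen
import Groth.Prelude.Def_Pi1

/-!
# Fully faithful module descent implies universally injective (half of Stacks 08XA)
-/

set_option autoImplicit false
set_option backward.isDefEq.respectTransparency false
set_option backward.isDefEq.respectTransparency.types false
open CategoryTheory Opposite TensorProduct
universe u
open _root_.Desc

namespace Groth.Agent.Flat2A.UIDConv494

open Groth.Agent.Desc.RingModPF

/-- A morphism of `R`-modules which becomes an isomorphism after pullback is an isomorphism on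
descent data. -/
theorem isIso_map {R S : CommRingCat.{u}} (φ : R ⟶ S) {M N : ModuleCat.{u} R} (π : M ⟶ N)
    [IsIso ((ringModPF.{u}.map φ.op.op.toLoc).toFunctor.map π)] :
    IsIso ((ringModPF.{u}.toDescentData (fun _ : PUnit.{u + 1} => φ.op)).map π) := by
  let e : (ringModPF.{u}.toDescentData (fun _ : PUnit.{u + 1} => φ.op)).obj M ≅
      (ringModPF.{u}.toDescentData (fun _ : PUnit.{u + 1} => φ.op)).obj N :=
    Pseudofunctor.DescentData.isoMk
      (fun _ => asIso ((ringModPF.{u}.map φ.op.op.toLoc).toFunctor.map π))
      (fun Y q i₁ i₂ f₁ f₂ hf₁ hf₂ =>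
        ((ringModPF.{u}.toDescentData (fun _ : PUnit.{u + 1} => φ.op)).map π).comm q f₁ f₂ hf₁ hf₂)
  exact (e.isIso_hom : IsIso e.hom)

open scoped ChangeOfRings in
/-- If `M → S ⊗ M` kills `ker (M → N)` and `M → N` is surjective, then `S ⊗ M ≅ S ⊗ N`. -/
theorem isIso_pb {R S : CommRingCat.{u}} (φ : R ⟶ S) {M N : ModuleCat.{u} R} (π : M ⟶ N)
    (hs : Function.Surjective π.hom)
    (hk : ∀ m : M, π.hom m = 0 → unit φ.op M m = 0) :
    IsIso ((ModuleCat.extendScalars φ.hom).map π) := by
  have hk2 : ∀ m m' : M, π.hom m = π.hom m' → unit φ.op M m = unit φ.op M m' := by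
    intro m m' h
    have h1 := hk (m - m') (by rw [map_sub, h, sub_self])
    have h2 := unit_add φ.op M (m - m') m'
    rw [sub_add_cancel, h1, zero_add] at h2
    exact h2
  let g : N → M := Function.surjInv hs
  have hg : ∀ n, π.hom (g n) = n := Function.surjInv_eq hs
  let s : N →+ pb φ.op M :=
    { toFun := fun n => unit φ.op M (g n)
      map_zero' := (hk2 (g 0) 0 (by rw [hg, map_zero])).trans (unit_zero _ _)
      map_add' := fun x y => (hk2 (g (x + y)) (g x + g y) (by rw [hg, map_add, hg, hg])).trans
        (unit_add _ _ _ _) }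
  obtain ⟨ψ, hψ⟩ := exists_hom φ.op N (pb φ.op M) s (fun a n =>
    (hk2 (g (a • n)) (a • g n) (by rw [hg, map_smul, hg])).trans (unit_smul _ _ _ _))
  refine ⟨ψ, ?_, ?_⟩
  · refine pb_ext φ.op M fun m => ?_
    change ψ.hom (((ModuleCat.extendScalars φ.hom).map π).hom (unit φ.op M m)) = unit φ.op M m
    have h1 : ((ModuleCat.extendScalars φ.hom).map π).hom (unit φ.op M m) =
      unit φ.op N (π.hom m) := map_unit φ.op π m
    rw [h1, hψ]
    exact hk2 _ _ (hg _)
  · refine pb_ext φ.op N fun n => ?_
    change ((ModuleCat.extendScalars φ.hom).map π).hom (ψ.hom (unit φ.op N n)) = unit φ.op N n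
    rw [hψ]
    have h1 : ((ModuleCat.extendScalars φ.hom).map π).hom (unit φ.op M (g n)) =
      unit φ.op N (π.hom (g n)) := map_unit φ.op π (g n)
    exact h1.trans (by rw [hg])

/-- Full faithfulness of module descent implies that `M → S ⊗ M` is injective. -/
theorem injective_unit {R S : CommRingCat.{u}} (φ : R ⟶ S)
    (h : (ringModPF.{u}.toDescentData (fun _ : PUnit.{u + 1} => φ.op)).FullyFaithful)
    (M : ModuleCat.{u} R) (m : M) (hm : unit φ.op M m = 0) : m = 0 := by
  let K : Submodule R M := LinearMap.ker (⟨⟨unit φ.op M, unit_add φ.op M⟩, fun a m => by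
    exact (unit_smul φ.op M a m)⟩ : M →ₗ[R] (ModuleCat.restrictScalars φ.hom).obj (pb φ.op M))
  let π : M ⟶ ModuleCat.of R (M ⧸ K) := ModuleCat.ofHom K.mkQ
  have h1 : IsIso ((ModuleCat.extendScalars φ.hom).map π) := by
    refine isIso_pb φ π K.mkQ_surjective (fun m hm => ?_)
    have : m ∈ K := (Submodule.Quotient.mk_eq_zero K).1 hm
    exact this
  have h2 : IsIso ((ringModPF.{u}.map φ.op.op.toLoc).toFunctor.map π) := h1
  have h3 := isIso_map φ π
  have h4 : IsIso π := h.isIso_of_isIso_map π
  have h5 : Function.Injective K.mkQ := ((ConcreteCategory.isIso_iff_bijective π).1 h4).1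
  have h6 : m ∈ K := hm
  have h7 : K.mkQ m = 0 := (Submodule.Quotient.mk_eq_zero K).2 h6
  exact h5 (h7.trans (map_zero _).symm)

/-- the comparison of `S ⊗[R] P` (for the given algebra structure) with the extension of scalars. -/
noncomputable def toPb (R S : Type u) [CommRing R] [CommRing S] [Algebra R S]
    (P : ModuleCat.{u} (CommRingCat.of R)) :
    S ⊗[R] P →+ pb (CommRingCat.ofHom (algebraMap R S)).op P :=
  TensorProduct.liftAddHom
    { toFun := fun s =>
        { toFun := fun p => (show (CommRingCat.of S) from s) •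
            unit (CommRingCat.ofHom (algebraMap R S)).op P p
          map_zero' := by rw [unit_zero, smul_zero]
          map_add' := fun x y => by rw [unit_add, smul_add] }
      map_zero' := by
        ext p
        exact zero_smul _ _
      map_add' := fun s t => by
        ext p
        exact add_smul _ _ _ }
    (fun r s p => by
      change (show (CommRingCat.of S) from (r • s : S)) •
        unit (CommRingCat.ofHom (algebraMap R S)).op P p =
        (show (CommRingCat.of S) from (s : S)) •
        unit (CommRingCat.ofHom (algebraMap R S)).op P (r • p)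
      have h1 := unit_smul (CommRingCat.ofHom (algebraMap R S)).op P r p
      refine Eq.trans ?_ (congrArg (fun z => (show (CommRingCat.of S) from (s : S)) • z) h1).symm
      refine Eq.trans ?_ (mul_smul (show (CommRingCat.of S) from (s : S))
        (show (CommRingCat.of S) from algebraMap R S r)
        (unit (CommRingCat.ofHom (algebraMap R S)).op P p))
      have h2 : (r • s : S) = s * algebraMap R S r := by rw [Algebra.smul_def, mul_comm]
      exact congrArg (fun t : S => (show (CommRingCat.of S) from t) •
        unit (CommRingCat.ofHom (algebraMap R S)).op P p) h2)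

theorem toPb_one_tmul (R S : Type u) [CommRing R] [CommRing S] [Algebra R S]
    (P : ModuleCat.{u} (CommRingCat.of R)) (p : P) :
    toPb R S P (1 ⊗ₜ p) = unit (CommRingCat.ofHom (algebraMap R S)).op P p :=
  one_smul (CommRingCat.of S) (unit (CommRingCat.ofHom (algebraMap R S)).op P p)

theorem univInjective_of_fullyFaithful (R S : Type u) [CommRing R] [CommRing S] [Algebra R S]
    (h : Nonempty (ringModPF.{u}.toDescentData (fun _ : PUnit.{u + 1} =>
      (CommRingCat.ofHom (algebraMap R S)).op)).FullyFaithful) : Pi1.UnivInjective R S := by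
  intro P _ _
  obtain ⟨h⟩ := h
  rw [injective_iff_map_eq_zero]
  intro x hx
  obtain ⟨p, rfl⟩ := (TensorProduct.rid R P).symm.surjective x
  rw [TensorProduct.rid_symm_apply, LinearMap.lTensor_tmul, Algebra.linearMap_apply, map_one] at hx
  have h1 := injective_unit (CommRingCat.ofHom (algebraMap R S)) h (ModuleCat.of R P) p ?_
  · rw [h1, map_zero]
  · have h2 := congrArg (TensorProduct.comm R P S) hx
    rw [TensorProduct.comm_tmul, map_zero] at h2
    rw [← toPb_one_tmul, h2, map_zero]

end Groth.Agent.Flat2A.UIDConv494
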