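import Groth.Agent.Flat2A.UIDConv494

/-!
# Universally injective ring maps are descent morphisms for modules (half of Stacks 08XA)
-/

set_option autoImplicit false
set_option backward.isDefEq.respectTransparency false
set_option backward.isDefEq.respectTransparency.types false
open CategoryTheory Opposite TensorProduct
universe u
open _root_.Desc

namespace Groth.Agent.Flat2A.UIDFF494

open Groth.Agent.Desc.RingModPF Groth.Agent.Desc.SecD

/-- Algebraic core. -/
theorem exists_of_mem_span {R A N M P : Type*} [CommRing R] [CommRing A]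
    [AddCommGroup N] [AddCommGroup M] [AddCommGroup P]
    {φ : R →+* A} {iN : Module R N} {iM : Module R M} {iP : Module A P}
    (j : N →ₗ[R] M) (u₂ : M →+ P) (hu₂ : IsBC φ iM iP u₂)
    (hinj : letI : Algebra R A := φ.toAlgebra
      ∀ c : M ⧸ LinearMap.range j, (1 : A) ⊗ₜ[R] c = 0 → c = 0)
    (y : M) (hy : u₂ y ∈ Submodule.span A (Set.range fun n => u₂ (j n))) : ∃ n, j n = y := by
  let _ : Algebra R A := φ.toAlgebra
  obtain ⟨hs, hb⟩ := hu₂
  let κ : A ⊗[R] M ≃ₗ[A] P := LinearEquiv.ofBijective (VarietyB.BCAlg.bc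
      (⟨⟨u₂, map_add u₂⟩, hs⟩ : M →ₛₗ[algebraMap R A] P)) hb
  have hκ : ∀ m, κ (1 ⊗ₜ[R] m) = u₂ m := by
    intro m
    change VarietyB.BCAlg.bc (⟨⟨u₂, map_add u₂⟩, hs⟩ : M →ₛₗ[algebraMap R A] P) (1 ⊗ₜ[R] m) = _
    rw [VarietyB.BCAlg.bc_tmul, one_smul]
    rfl
  let q : A ⊗[R] M →ₗ[A] A ⊗[R] (M ⧸ LinearMap.range j) :=
    (LinearMap.range j).mkQ.baseChange A
  have hq : ∀ p ∈ Submodule.span A (Set.range fun n => u₂ (j n)), q (κ.symm p) = 0 := by
    intro p hp
    induction hp using Submodule.span_induction with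
    | mem x hx =>
      obtain ⟨n, rfl⟩ := hx
      have : κ.symm (u₂ (j n)) = 1 ⊗ₜ[R] (j n) := by
        rw [LinearEquiv.symm_apply_eq, hκ]
      change q (κ.symm (u₂ (j n))) = 0
      rw [this, LinearMap.baseChange_tmul]
      have h0 : (LinearMap.range j).mkQ (j n) = 0 :=
        (Submodule.Quotient.mk_eq_zero _).2 ⟨n, rfl⟩
      rw [h0, TensorProduct.tmul_zero]
    | zero => rw [map_zero, map_zero]
    | add x y _ _ hx hy => rw [map_add, map_add, hx, hy, add_zero]
    | smul a x _ hx => rw [map_smul, map_smul, hx, smul_zero]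
  have h1 := hq _ hy
  have h2 : κ.symm (u₂ y) = 1 ⊗ₜ[R] y := by rw [LinearEquiv.symm_apply_eq, hκ]
  rw [h2, LinearMap.baseChange_tmul] at h1
  have h3 := hinj _ h1
  exact (Submodule.Quotient.mk_eq_zero _).1 h3

/-- universal injectivity in terms of extension of scalars -/
def UI {R S : CommRingCat.{u}} (φ : R ⟶ S) : Prop :=
  ∀ (M : ModuleCat.{u} R) (m : M), unit φ.op M m = 0 → m = 0

section

variable {R S B : CommRingCat.{u}} {φ : R ⟶ S} (hφ : UI φ) {ι₁ ι₂ : S ⟶ B}
  (hB : IsPushout φ φ ι₁ ι₂)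

include hφ in
theorem UI.tmul (C : Type u) [AddCommGroup C] [Module R C] (c : C) (hc :
    letI : Algebra R S := φ.hom.toAlgebra
    (1 : S) ⊗ₜ[R] c = 0) : c = 0 := by
  let _ : Algebra R S := φ.hom.toAlgebra
  exact hφ (ModuleCat.of R C) c hc

include hφ hB in
theorem exists_unit_eq (N : ModuleCat.{u} R) (y : pb φ.op N)
    (h₁ : ι₁.op ≫ φ.op = (φ ≫ ι₁).op) (h₂ : ι₂.op ≫ φ.op = (φ ≫ ι₁).op)
    (hy : (compHom φ.op ι₂.op (φ ≫ ι₁).op h₂ N).hom
      ((compInv φ.op ι₁.op (φ ≫ ι₁).op h₁ N).hom (unit ι₁.op _ y)) = unit ι₂.op _ y) :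
    ∃ n : N, unit φ.op N n = y := by
  have hbc : IsBC φ.hom (Module.compHom _ φ.hom) (Module.compHom _ ι₁.hom)
      (unitHom ι₂.op (pb φ.op N)) := (isBC_unitHom ι₂.op (pb φ.op N)).of_isPushout hB
  let iM : Module R (pb φ.op N) := Module.compHom _ φ.hom
  let iP : Module S (pb ι₂.op (pb φ.op N)) := Module.compHom _ ι₁.hom
  let j : N →ₗ[R] (pb φ.op N) :=
    { toFun := unit φ.op N
      map_add' := unit_add φ.op N
      map_smul' := fun r n => unit_smul φ.op N r n }
  refine exists_of_mem_span (iN := inferInstance) (iM := iM) (iP := iP) j (unitHom ι₂.op (pb φ.op N))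
    hbc (fun c hc => hφ.tmul _ c hc) y ?_
  have key : ∀ z : pb φ.op N, (compHom φ.op ι₂.op (φ ≫ ι₁).op h₂ N).hom
      ((compInv φ.op ι₁.op (φ ≫ ι₁).op h₁ N).hom (unit ι₁.op _ z)) ∈
      Submodule.span S (Set.range fun n => unitHom ι₂.op (pb φ.op N) (j n)) := by
    intro z
    induction z using pb_induction with
    | h0 =>
      rw [unit_zero, map_zero, map_zero]
      exact Submodule.zero_mem _
    | hadd x y hx hy =>
      rw [unit_add, map_add, map_add]
      exact Submodule.add_mem _ hx hy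
    | h b m =>
      rw [unit_smul, map_smul, map_smul, compInv_unit_unit, compHom_unit]
      exact Submodule.smul_mem _ b (Submodule.subset_span ⟨m, rfl⟩)
  have h3 := key y
  rw [hy] at h3
  exact h3

end

theorem UI.injective {R S : CommRingCat.{u}} {φ : R ⟶ S} (hφ : UI φ) (M : ModuleCat.{u} R)
    {x y : M} (h : unit φ.op M x = unit φ.op M y) : x = y := by
  have h1 := unit_add φ.op M (x - y) y
  rw [sub_add_cancel, h] at h1
  exact sub_eq_zero.1 (hφ M _ (by simpa using h1.symm))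

theorem faithful {R S : CommRingCat.{u}} {φ : R ⟶ S} (hφ : UI φ) :
    (ringModPF.{u}.toDescentData (fun _ : PUnit.{u + 1} => φ.op)).Faithful where
  map_injective {M N} a b h := by
    let M : ModuleCat.{u} R := M
    let N : ModuleCat.{u} R := N
    let a : M ⟶ N := a
    let b : M ⟶ N := b
    have h1 : (ModuleCat.extendScalars φ.hom).map a = (ModuleCat.extendScalars φ.hom).map b :=
      congrArg (fun t => Pseudofunctor.DescentData.Hom.hom t PUnit.unit) h
    change a = b
    refine ModuleCat.hom_ext (LinearMap.ext fun m => ?_)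
    apply hφ.injective N
    have h2 := map_unit φ.op a m
    have h3 := map_unit φ.op b m
    exact h2.symm.trans ((congrArg (fun t => t.hom (unit φ.op M m)) h1).trans h3)

theorem full {R S : CommRingCat.{u}} {φ : R ⟶ S} (hφ : UI φ) :
    (ringModPF.{u}.toDescentData (fun _ : PUnit.{u + 1} => φ.op)).Full where
  map_surjective {M N} ψ := by
    let M : ModuleCat.{u} R := M
    let N : ModuleCat.{u} R := N
    obtain ⟨B, ι₁, ι₂, hB⟩ : ∃ (B : CommRingCat.{u}) (ι₁ : S ⟶ B) (ι₂ : S ⟶ B),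
        IsPushout φ φ ι₁ ι₂ := ⟨_, _, _, IsPushout.of_hasPushout φ φ⟩
    have h₁ : ι₁.op ≫ φ.op = (φ ≫ ι₁).op := (op_comp ..).symm
    have h₂ : ι₂.op ≫ φ.op = (φ ≫ ι₁).op := by rw [hB.w, op_comp]
    let ψ₀ : pb φ.op M ⟶ pb φ.op N := ψ.hom PUnit.unit
    have hc : (ModuleCat.extendScalars ι₁.hom).map ψ₀ ≫ compInv φ.op ι₁.op _ h₁ N ≫
        compHom φ.op ι₂.op _ h₂ N = (compInv φ.op ι₁.op _ h₁ M ≫ compHom φ.op ι₂.op _ h₂ M) ≫
        (ModuleCat.extendScalars ι₂.hom).map ψ₀ :=
      ψ.comm (i₁ := PUnit.unit) (i₂ := PUnit.unit) (φ ≫ ι₁).op ι₁.op ι₂.op h₁ h₂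
    have key : ∀ m : M, ∃ n : N, unit φ.op N n = ψ₀.hom (unit φ.op M m) := by
      intro m
      refine exists_unit_eq hφ hB N _ h₁ h₂ ?_
      have h3 := congrArg (fun t => t.hom (unit ι₁.op _ (unit φ.op M m))) hc
      have h4 : ((ModuleCat.extendScalars ι₁.hom).map ψ₀).hom (unit ι₁.op _ (unit φ.op M m)) =
        unit ι₁.op _ (ψ₀.hom (unit φ.op M m)) := map_unit ι₁.op ψ₀ _
      have h5 : ((ModuleCat.extendScalars ι₂.hom).map ψ₀).hom (unit ι₂.op _ (unit φ.op M m)) =
        unit ι₂.op _ (ψ₀.hom (unit φ.op M m)) := map_unit ι₂.op ψ₀ _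
      rw [← h4, ← h5]
      refine h3.trans ?_
      change ((ModuleCat.extendScalars ι₂.hom).map ψ₀).hom ((compHom φ.op ι₂.op _ h₂ M).hom
        ((compInv φ.op ι₁.op _ h₁ M).hom (unit ι₁.op _ (unit φ.op M m)))) = _
      rw [compInv_unit_unit, compHom_unit]
    choose g hg using key
    refine ⟨ModuleCat.ofHom (X := M) (Y := N)
      { toFun := g
        map_add' := fun x y => hφ.injective N ?_
        map_smul' := fun r x => hφ.injective N ?_ }, ?_⟩
    · rw [hg, unit_add, unit_add, map_add, hg, hg]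
    · rw [hg, unit_smul, map_smul, RingHom.id_apply, unit_smul, hg]
    · refine Pseudofunctor.DescentData.hom_ext (fun i => ?_)
      obtain rfl : i = PUnit.unit := rfl
      refine pb_ext φ.op M (fun m => ?_)
      refine (map_unit φ.op _ m).trans ?_
      exact hg m

theorem fullyFaithful {R S : CommRingCat.{u}} {φ : R ⟶ S} (hφ : UI φ) :
    Nonempty (ringModPF.{u}.toDescentData (fun _ : PUnit.{u + 1} => φ.op)).FullyFaithful := by
  have h1 := faithful hφ
  have h2 := full hφ
  exact ⟨Functor.FullyFaithful.ofFullyFaithful _⟩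

theorem ui_of_univInjective (R S : Type u) [CommRing R] [CommRing S] [Algebra R S]
    (h : Pi1.UnivInjective R S) : UI (CommRingCat.ofHom (algebraMap R S)) := by
  intro M m hm
  let s : M →+ ModuleCat.of (CommRingCat.of S) (S ⊗[R] M) :=
    (TensorProduct.mk R S M 1).toAddMonoidHom
  obtain ⟨ψ, hψ⟩ := exists_hom (CommRingCat.ofHom (algebraMap R S)).op M
    (ModuleCat.of (CommRingCat.of S) (S ⊗[R] M)) s (fun a m => by
      change (1 : S) ⊗ₜ[R] (a • m) = (algebraMap R S a : S) • ((1 : S) ⊗ₜ[R] m)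
      rw [TensorProduct.tmul_smul, algebraMap_smul])
  have h1 := hψ m
  rw [hm, map_zero] at h1
  have h2 : (1 : S) ⊗ₜ[R] m = 0 := h1.symm
  have h3 : (LinearMap.lTensor M (Algebra.linearMap R S)) (m ⊗ₜ[R] (1 : R)) = 0 := by
    rw [LinearMap.lTensor_tmul, Algebra.linearMap_apply, map_one]
    have h4 := congrArg (TensorProduct.comm R S M) h2
    rwa [TensorProduct.comm_tmul, map_zero] at h4
  have h5 := h M (h3.trans (map_zero _).symm)
  have h6 := congrArg (TensorProduct.rid R M) h5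
  rwa [TensorProduct.rid_tmul, one_smul, map_zero] at h6

theorem fullyFaithful_of_univInjective (R S : Type u) [CommRing R] [CommRing S] [Algebra R S]
    (h : Pi1.UnivInjective R S) :
    Nonempty (ringModPF.{u}.toDescentData (fun _ : PUnit.{u + 1} =>
      (CommRingCat.ofHom (algebraMap R S)).op)).FullyFaithful :=
  fullyFaithful (ui_of_univInjective R S h)

end Groth.Agent.Flat2A.UIDFF494
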