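import Groth.Agent.Flat2A.FiberAss
import Mathlib.RingTheory.Flat.Basic

/-!
# Universal injectivity and flat covers (helpers for Stacks 05DF, 05DG, 05DH)
-/

set_option autoImplicit false
universe u v w

namespace Groth.Agent.Flat2A.UnivInj

open TensorProduct

/-- the annihilator of an element, as the kernel of `s ↦ s • x` -/
abbrev ann (S : Type u) {X : Type w} [CommRing S] [AddCommGroup X] [Module S X] (x : X) : Ideal S :=
  LinearMap.ker (LinearMap.toSpanSingleton S X x)

theorem mem_ann {S : Type u} {X : Type w} [CommRing S] [AddCommGroup X] [Module S X] (x : X) (s : S) :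
    s ∈ ann S x ↔ s • x = 0 := by
  rw [LinearMap.mem_ker, LinearMap.toSpanSingleton_apply]

/-- If `x` dies in `S' ⊗ X` with `S'` flat, then the annihilator of `x` generates the unit ideal of `S'`. -/
theorem map_ann_eq_top {S : Type u} {S' : Type v} {X : Type w} [CommRing S] [CommRing S'] [Algebra S S']
    [Module.Flat S S'] [AddCommGroup X] [Module S X] (x : X) (h : (1 : S') ⊗ₜ[S] x = 0) :
    (ann S x).map (algebraMap S S') = ⊤ := by
  let J : Ideal S := ann S x
  let g : (S ⧸ J) →ₗ[S] X := J.liftQ (LinearMap.toSpanSingleton S X x) le_rfl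
  have hg : Function.Injective g := by
    rw [← LinearMap.ker_eq_bot]
    exact Submodule.ker_liftQ_eq_bot' _ _ rfl
  have hg1 : g (Submodule.Quotient.mk 1) = x := by
    refine (Submodule.liftQ_apply _ _ _).trans ?_
    rw [LinearMap.toSpanSingleton_apply, one_smul]
  have h1 : (LinearMap.lTensor S' g) ((1 : S') ⊗ₜ[S] (Submodule.Quotient.mk 1 : S ⧸ J)) = 0 := by
    rw [LinearMap.lTensor_tmul, hg1, h]
  have h2 : (1 : S') ⊗ₜ[S] (Submodule.Quotient.mk 1 : S ⧸ J) = 0 :=
    Module.Flat.lTensor_preserves_injective_linearMap g hg (by rw [h1, map_zero])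
  have h3 := congrArg (tensorQuotEquivQuotSMul S' J) h2
  rw [map_zero] at h3
  have h4 : (1 : S') ∈ (J • ⊤ : Submodule S S') := by
    have h5 : (tensorQuotEquivQuotSMul S' J) ((1 : S') ⊗ₜ[S] (Submodule.Quotient.mk 1 : S ⧸ J)) =
        Submodule.Quotient.mk 1 := by
      have := tensorQuotEquivQuotSMul_tmul_mk (M := S') J 1 1
      rw [one_smul] at this
      exact this
    rw [h5] at h3
    exact (Submodule.Quotient.mk_eq_zero _).mp h3
  rw [Ideal.smul_top_eq_map] at h4
  exact (Ideal.eq_top_iff_one _).mpr h4

/-- The transport of `N → S' ⊗ N` tensored with `Q`. -/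
theorem one_tmul_eq_zero_of_lTensor {R : Type u} {S : Type u} {S' : Type u} [CommRing R] [CommRing S] [CommRing S']
    [Algebra R S] [Algebra S S'] [Algebra R S'] [IsScalarTower R S S']
    (N : Type u) [AddCommGroup N] [Module S N] [Module R N] [IsScalarTower R S N]
    (Q : Type u) [AddCommGroup Q] [Module R Q] (x : N ⊗[R] Q)
    (h : (((TensorProduct.mk S S' N 1).restrictScalars R).rTensor Q) x = 0) :
    (1 : S') ⊗ₜ[S] x = 0 := by
  have key : ∀ y : N ⊗[R] Q, (AlgebraTensorModule.assoc R S S' S' N Q)
      ((((TensorProduct.mk S S' N 1).restrictScalars R).rTensor Q) y) = (1 : S') ⊗ₜ[S] y := by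
    intro y
    induction y using TensorProduct.induction_on with
    | zero => simp
    | tmul n q => simp
    | add a b ha hb => rw [map_add, map_add, ha, hb, tmul_add]
  rw [← key, h, map_zero]

/-- reformulation of injectivity after tensoring with `Q`. -/
theorem univInj_mk_of_forall {R : Type u} {S : Type u} {S' : Type u} [CommRing R] [CommRing S] [CommRing S']
    [Algebra R S] [Algebra S S'] [Algebra R S'] [IsScalarTower R S S'] [Module.Flat S S']
    (N : Type u) [AddCommGroup N] [Module S N] [Module R N] [IsScalarTower R S N]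
    (H : ∀ (Q : Type u) [AddCommGroup Q] [Module R Q] (x : N ⊗[R] Q),
      (ann S x).map (algebraMap S S') = ⊤ → x = 0) :
    FlatCA.UnivInj R ((TensorProduct.mk S S' N 1).restrictScalars R) := by
  intro Q _ _
  rw [LinearMap.lTensor_inj_iff_rTensor_inj, injective_iff_map_eq_zero]
  intro x hx
  exact H Q x (map_ann_eq_top x (one_tmul_eq_zero_of_lTensor N Q x hx))

/-- reformulation of universal injectivity of multiplication by `s`. -/
theorem univInj_smul_iff {R : Type u} {S : Type u} [CommRing R] [CommRing S] [Algebra R S]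
    (N : Type u) [AddCommGroup N] [Module S N] [Module R N] [IsScalarTower R S N] (s : S) :
    FlatCA.UnivInj R ((LinearMap.lsmul S N s).restrictScalars R) ↔
      ∀ (Q : Type u) [AddCommGroup Q] [Module R Q] (x : N ⊗[R] Q), s • x = 0 → x = 0 := by
  have key : ∀ (Q : Type u) [AddCommGroup Q] [Module R Q] (x : N ⊗[R] Q),
      (((LinearMap.lsmul S N s).restrictScalars R).rTensor Q) x = s • x := by
    intro Q _ _ x
    induction x using TensorProduct.induction_on with
    | zero => simp
    | tmul n q => simp [TensorProduct.smul_tmul']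
    | add a b ha hb => rw [map_add, ha, hb, smul_add]
  constructor
  · intro h Q _ _ x hx
    have h1 := (LinearMap.lTensor_inj_iff_rTensor_inj _ _).mp (h Q)
    rw [injective_iff_map_eq_zero] at h1
    exact h1 x ((key Q x).trans hx)
  · intro h Q _ _
    rw [LinearMap.lTensor_inj_iff_rTensor_inj, injective_iff_map_eq_zero]
    intro x hx
    exact h Q x ((key Q x).symm.trans hx)

end Groth.Agent.Flat2A.UnivInj
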