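import Groth.Agent.Flat2A.UnivInj

/-!
# From nonzerodivisors on the fibre module to associated primes of the fibre module
-/

set_option autoImplicit false
universe u v w

namespace Groth.Agent.Flat2A.UnivInjAss

open TensorProduct Flat2A.Fiber Flat2A.FiberAss Flat2A.UnivInj

section

variable {R S : Type u} [CommRing R] [CommRing S] [Algebra R S] (p : Ideal R) [p.IsPrime]
  (q : Ideal S) [q.IsPrime] [q.LiesOver p]
  (N : Type u) [AddCommGroup N] [Module S N] [Module R N] [IsScalarTower R S N]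

/-- If `s` is a zero divisor on the fibre module localized at `q`, then it lies in an associated
prime of the fibre module contained in `q`. -/
theorem exists_ass_of_zeroDivisor [IsNoetherianRing (p.Fiber S)]
    (s : S) (y : FlatCA.fiberMod p S N) (hs : s • y = 0) (hy : ∀ t, t ∉ q → t • y ≠ 0) :
    ∃ q₂ ∈ associatedPrimes S (FlatCA.fiberMod p S N), s ∈ q₂ ∧ q₂ ≤ q := by
  have hprime : (FlatCA.fiberIdeal p q).IsPrime := fiberIdeal_isPrime p q
  have hle : (⊥ : Submodule (p.Fiber S) (FlatCA.fiberMod p S N)).colon {y} ≤ FlatCA.fiberIdeal p q := by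
    intro b hb
    rw [Submodule.mem_colon_singleton, Submodule.mem_bot] at hb
    obtain ⟨c, t, hc, h⟩ := exists_smul_eq p b
    have h0 : b = algebraMap p.ResidueField (p.Fiber S) c⁻¹ * ((1 : p.ResidueField) ⊗ₜ[R] t) := by
      rw [← Algebra.smul_def, ← h, smul_smul, inv_mul_cancel₀ hc, one_smul]
    have h1 : t • y = 0 := by
      rw [smul_fiberMod p N t y]
      change ((1 : p.ResidueField) ⊗ₜ[R] t : p.Fiber S) • y = 0
      rw [← h, Algebra.smul_def, mul_smul, hb, smul_zero]
    have h2 : t ∈ q := by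
      by_contra ht
      exact hy t ht h1
    rw [h0]
    exact Ideal.mul_mem_left _ _ ((one_tmul_mem_fiberIdeal_iff p q t).mpr h2)
  obtain ⟨Q, hQ, hQle⟩ := Ideal.exists_minimalPrimes_le hle
  obtain ⟨z, hz⟩ := Submodule.exists_eq_colon_of_mem_minimalPrimes hQ
  have hQp : Q.IsPrime := hQ.1.1
  have hQass : Q ∈ associatedPrimes (p.Fiber S) (FlatCA.fiberMod p S N) := by
    rw [AssociatedPrimes.mem_iff, isAssociatedPrime_iff]
    exact ⟨hQp, z, hz⟩
  refine ⟨Q.comap (toFiber p S), ?_, ?_, ?_⟩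
  · rw [mem_associatedPrimes_fiberMod_iff]
    refine ⟨inferInstance, liesOver_of_comap p Q hQp.ne_top, ?_⟩
    have := fiberIdeal_comap p Q
    rw [this]
    exact hQass
  · rw [Ideal.mem_comap]
    apply hQ.1.2
    rw [Submodule.mem_colon_singleton, Submodule.mem_bot, ← smul_fiberMod p N s y]
    exact hs
  · have h1 := comap_fiberIdeal p q
    conv_rhs => rw [← h1]
    exact Ideal.comap_mono hQle

/-- The prime avoidance argument. -/
theorem exists_ass_of_ann_le [IsNoetherianRing (p.Fiber S)]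
    [Module.Finite (p.Fiber S) (FlatCA.fiberMod p S N)]
    (J : Ideal S)
    (H : ∀ s, (∀ y : FlatCA.fiberMod p S N, s • y = 0 → ∃ t, t ∉ q ∧ t • y = 0) → s ∉ J) :
    ∃ q₂ ∈ associatedPrimes S (FlatCA.fiberMod p S N), J ≤ q₂ ∧ q₂ ≤ q := by
  classical
  let T : Submonoid S :=
    { carrier := {s | ∀ y : FlatCA.fiberMod p S N, s • y = 0 → ∃ t, t ∉ q ∧ t • y = 0}
      one_mem' := by
        intro y hy
        exact ⟨1, fun h => Ideal.IsPrime.ne_top ‹_› ((Ideal.eq_top_iff_one q).mpr h), hy⟩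
      mul_mem' := by
        intro a b ha hb y hy
        rw [mul_smul] at hy
        obtain ⟨t, ht, ht'⟩ := ha _ hy
        rw [smul_comm] at ht'
        obtain ⟨t', ht1, ht2⟩ := hb _ ht'
        refine ⟨t' * t, fun h => (Ideal.IsPrime.mem_or_mem ‹_› h).elim ht1 ht, ?_⟩
        rw [mul_smul]
        exact ht2 }
  have hdisj : Disjoint (J : Set S) (T : Set S) := by
    rw [Set.disjoint_left]
    intro s hs hs'
    exact H s hs' hs
  obtain ⟨q₁, hq₁, hJq₁, hd⟩ := Ideal.exists_le_prime_disjoint J T hdisj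
  have hfin : {q₂ | q₂ ∈ associatedPrimes S (FlatCA.fiberMod p S N) ∧ q₂ ≤ q}.Finite :=
    (associatedPrimes_fiberMod_finite p N).subset fun _ h => h.1
  have hsub : (q₁ : Set S) ⊆ ⋃ q₂ ∈ {q₂ | q₂ ∈ associatedPrimes S (FlatCA.fiberMod p S N) ∧ q₂ ≤ q},
      ((id q₂ : Ideal S) : Set S) := by
    intro s hs
    have h1 : s ∉ T := fun h => Set.disjoint_left.mp hd hs h
    have h2 : ¬ ∀ y : FlatCA.fiberMod p S N, s • y = 0 → ∃ t, t ∉ q ∧ t • y = 0 := h1
    push Not at h2
    obtain ⟨y, hy, hy'⟩ := h2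
    obtain ⟨q₂, hq₂, hs₂, hle₂⟩ := exists_ass_of_zeroDivisor p q N s y hy hy'
    simp only [Set.mem_iUnion]
    exact ⟨q₂, ⟨hq₂, hle₂⟩, hs₂⟩
  obtain ⟨q₂, hq₂, hle⟩ := (Ideal.subset_union_prime_finite hfin (f := id) ⊤ ⊤
    (fun i hi _ _ => hi.1.1)).mp hsub
  exact ⟨q₂, hq₂.1, hJq₁.trans hle, hq₂.2⟩

end

/-- The fibre module as an `S`-module. -/
noncomputable def fiberModEquiv {R S : Type u} [CommRing R] [CommRing S] [Algebra R S] (p : Ideal R) [p.IsPrime]
    (N : Type u) [AddCommGroup N] [Module S N] [Module R N] [IsScalarTower R S N] :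
    FlatCA.fiberMod p S N ≃ₗ[S] N ⊗[R] p.ResidueField :=
  letI : Algebra S (p.Fiber S) := Algebra.TensorProduct.rightAlgebra
  let e₁ : (p.Fiber S) ≃ₗ[S] S ⊗[R] p.ResidueField :=
    { (Algebra.TensorProduct.comm R p.ResidueField S : (p.Fiber S) ≃ₐ[R] S ⊗[R] p.ResidueField).toLinearEquiv with
      map_smul' := by
        intro s x
        have h1 : s • x = (algebraMap S (p.Fiber S) s) * x := Algebra.smul_def s x
        have h2 : ∀ z : S ⊗[R] p.ResidueField, s • z = (s ⊗ₜ[R] (1 : p.ResidueField)) * z := by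
          intro z
          exact Algebra.smul_def s z
        change (Algebra.TensorProduct.comm R p.ResidueField S) (s • x) =
          s • ((Algebra.TensorProduct.comm R p.ResidueField S) x)
        rw [h1, map_mul, h2]
        rfl }
  ((TensorProduct.comm S (p.Fiber S) N : (p.Fiber S) ⊗[S] N ≃ₗ[S] N ⊗[S] (p.Fiber S)) ≪≫ₗ
    (TensorProduct.congr (LinearEquiv.refl S N) e₁)) ≪≫ₗ
    (AlgebraTensorModule.cancelBaseChange R S S N p.ResidueField)

end Groth.Agent.Flat2A.UnivInjAss
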