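import Groth.Prelude.Def_FlatCA
import Mathlib.RingTheory.Flat.Basic
import Mathlib.LinearAlgebra.TensorProduct.Tower

/-!
# Universal injectivity of `N → B' ⊗_B N` from weakly associated primes

`one_tmul_ne_zero`: `B'` flat over `B`, `x : X` and a prime `Q'` of `B'` whose contraction contains the annihilator
of `x`: then `1 ⊗ x ≠ 0` in `B' ⊗_B X`.

`univInj_mk`: if every weakly associated prime of every `N ⊗_A Q` is the contraction of a prime of `B'` then
`N → B' ⊗_B N` is universally injective over `A`.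
-/

set_option autoImplicit false
universe u v w

namespace Groth.Agent.Flat2A.UnivInjCover

open TensorProduct

theorem one_tmul_ne_zero {B : Type u} {B' : Type v} [CommRing B] [CommRing B'] [Algebra B B'] [Module.Flat B B']
    {X : Type w} [AddCommGroup X] [Module B X] (x : X) (Q : Ideal B') (hQ : Q ≠ ⊤)
    (hle : ∀ b : B, b • x = 0 → algebraMap B B' b ∈ Q) : (1 : B') ⊗ₜ[B] x ≠ 0 := by
  intro h
  let I : Ideal B := LinearMap.ker (LinearMap.toSpanSingleton B X x)
  let g : (B ⧸ I) →ₗ[B] X := I.liftQ (LinearMap.toSpanSingleton B X x) le_rfl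
  have hg : Function.Injective g := by
    rw [← LinearMap.ker_eq_bot]
    exact Submodule.ker_liftQ_eq_bot _ _ _ le_rfl
  have h1 : Function.Injective (g.lTensor B') :=
    Module.Flat.lTensor_preserves_injective_linearMap g hg
  have h2 : (1 : B') ⊗ₜ[B] (Ideal.Quotient.mk I 1) = 0 := by
    apply h1
    rw [map_zero, LinearMap.lTensor_tmul]
    have : g (Ideal.Quotient.mk I 1) = x := by
      change (LinearMap.toSpanSingleton B X x) 1 = x
      simp
    rw [this]
    exact h
  let ψ : (B ⧸ I) →ₐ[B] (B' ⧸ Q) := Ideal.Quotient.liftₐ I (Algebra.ofId B (B' ⧸ Q)) (by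
    intro a ha
    have ha' : a • x = 0 := ha
    rw [Algebra.ofId_apply, IsScalarTower.algebraMap_apply B B' (B' ⧸ Q)]
    exact Ideal.Quotient.eq_zero_iff_mem.mpr (hle a ha'))
  let φ : B' ⊗[B] (B ⧸ I) →ₐ[B] (B' ⧸ Q) :=
    Algebra.TensorProduct.productMap (IsScalarTower.toAlgHom B B' (B' ⧸ Q)) ψ
  have h3 : φ ((1 : B') ⊗ₜ[B] (Ideal.Quotient.mk I 1)) = 1 := by
    rw [map_one]
    exact map_one φ
  rw [h2, map_zero] at h3
  exact (Ideal.Quotient.nontrivial_iff.mpr hQ).exists_pair_ne.elim fun a ⟨b, hab⟩ =>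
    hab (by rw [← mul_one a, ← mul_one b, ← h3, mul_zero, mul_zero])

theorem univInj_mk {A B B' : Type u} [CommRing A] [CommRing B] [CommRing B'] [Algebra A B] [Algebra B B']
    [Algebra A B'] [IsScalarTower A B B'] [Module.Flat B B']
    (N : Type u) [AddCommGroup N] [Module B N] [Module A N] [IsScalarTower A B N]
    (h : ∀ (Q : Type u) [AddCommGroup Q] [Module A Q] (q : Ideal B), q ∈ FlatCA.weakAss B (N ⊗[A] Q) →
      ∃ q' : Ideal B', q'.IsPrime ∧ q'.comap (algebraMap B B') = q) :
    FlatCA.UnivInj A ((TensorProduct.mk B B' N 1).restrictScalars A) := by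
  intro Q _ _
  rw [LinearMap.lTensor_inj_iff_rTensor_inj, injective_iff_map_eq_zero]
  intro z hz
  by_contra hz0
  have h1 : ∀ z : N ⊗[A] Q, TensorProduct.AlgebraTensorModule.assoc A B B' B' N Q
      (((TensorProduct.mk B B' N 1).restrictScalars A).rTensor Q z) = (1 : B') ⊗ₜ[B] z := by
    intro z
    induction z with
    | zero => simp
    | add x y hx hy => rw [map_add, map_add, hx, hy, tmul_add]
    | tmul x y => rfl
  have h2 : (1 : B') ⊗ₜ[B] z = 0 := by rw [← h1, hz, map_zero]
  have hne : (Submodule.span B {z}).annihilator ≠ ⊤ := by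
    intro h3
    apply hz0
    have h4 : (1 : B) ∈ (Submodule.span B {z}).annihilator := by rw [h3]; trivial
    rw [Submodule.mem_annihilator_span_singleton] at h4
    simpa using h4
  obtain ⟨M, hM, hle⟩ := Ideal.exists_le_maximal _ hne
  obtain ⟨q, hq, -⟩ := Ideal.exists_minimalPrimes_le hle
  obtain ⟨q', hq', hq'q⟩ := h Q q ⟨z, hq⟩
  refine one_tmul_ne_zero z q' hq'.ne_top ?_ h2
  intro b hb
  have : b ∈ q := hq.1.2 (by rw [Submodule.mem_annihilator_span_singleton]; exact hb)
  rw [← hq'q] at this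
  exact this

end Groth.Agent.Flat2A.UnivInjCover
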